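import Mathlib

set_option autoImplicit false

namespace Groth.Agent.H4

/-- Over a Bézout domain, a finite module embedding into `Fin n → R` is free. -/
theorem H4_bezout_free_of_injective {R : Type*} [CommRing R] [IsDomain R] [IsBezout R] :
    ∀ (n : ℕ) (M : Type*) [AddCommGroup M] [Module R M] [Module.Finite R M]
      (g : M →ₗ[R] (Fin n → R)), Function.Injective g → Module.Free R M := by
  intro n
  induction n with
  | zero =>
    intro M _ _ _ g hg
    haveI : Subsingleton M := hg.subsingleton
    exact Module.Free.of_subsingleton R M
  | succ n ih =>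
    intro M _ _ _ g hg
    let π₀ : M →ₗ[R] R := (LinearMap.proj 0).comp g
    let I : Ideal R := LinearMap.range π₀
    have hIfg : I.FG := by
      change (LinearMap.range π₀).FG
      rw [LinearMap.range_eq_map]
      exact Module.Finite.fg_top.map π₀
    obtain ⟨d, hd⟩ := (IsBezout.isPrincipal_of_FG I hIfg).1
    -- I is free
    haveI hIfree : Module.Free R I := by
      by_cases hd0 : d = 0
      · have : I = ⊥ := by rw [hd, hd0]; exact Submodule.span_zero_singleton R
        haveI : Subsingleton I := by rw [this]; infer_instance
        exact Module.Free.of_subsingleton R I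
      · have e := LinearEquiv.toSpanNonzeroSingleton R R d hd0
        have hI' : I = Submodule.span R {d} := hd
        rw [hI']
        exact Module.Free.of_equiv e
    -- split
    let f : M →ₗ[R] I := π₀.rangeRestrict
    have hf : Function.Surjective f := π₀.surjective_rangeRestrict
    obtain ⟨l, hl⟩ := Module.projective_lifting_property f LinearMap.id hf
    have hex : Function.Exact (LinearMap.ker f).subtype f := LinearMap.exact_subtype_ker_map f
    obtain ⟨e, he1, he2⟩ := ((Function.Exact.split_tfae' hex).out 0 2 rfl rfl).mp
      ⟨Submodule.injective_subtype _, l, hl⟩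
    -- kernel is finite
    haveI : Module.Finite R (LinearMap.ker f) :=
      Module.Finite.of_surjective ((LinearMap.fst R _ _).comp e.toLinearMap)
        (Prod.fst_surjective.comp e.surjective)
    -- kernel embeds in Fin n → R
    let g' : LinearMap.ker f →ₗ[R] (Fin n → R) :=
      (LinearMap.pi fun i : Fin n => LinearMap.proj (Fin.succ i)).comp
        (g.comp (LinearMap.ker f).subtype)
    have hg' : Function.Injective g' := by
      intro x y hxy
      apply Subtype.ext
      apply hg
      funext i
      refine Fin.cases ?_ (fun j => ?_) i
      · have hx : f x.1 = 0 := x.2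
        have hy : f y.1 = 0 := y.2
        have hx' : π₀ x.1 = 0 := congrArg Subtype.val hx
        have hy' : π₀ y.1 = 0 := congrArg Subtype.val hy
        change π₀ x.1 = π₀ y.1
        rw [hx', hy']
      · exact congrFun hxy j
    haveI : Module.Free R (LinearMap.ker f) := ih _ g' hg'
    exact Module.Free.of_equiv e.symm

/-- Over a Bézout domain, a finitely generated submodule of a free module is free. -/
theorem H4_bezout_fg_submodule_free (R : Type*) [CommRing R] [IsDomain R] [IsBezout R]
    (F : Type*) [AddCommGroup F] [Module R F] [Module.Free R F] (N : Submodule R F) (hN : N.FG) :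
    Module.Free R N ∧ Module.Finite R N := by
  classical
  haveI hfin : Module.Finite R N := Module.Finite.iff_fg.mpr hN
  refine ⟨?_, hfin⟩
  let b := Module.Free.chooseBasis R F
  obtain ⟨s, hs⟩ := hN
  let J : Finset (Module.Free.ChooseBasisIndex R F) := s.biUnion fun x => (b.repr x).support
  have hsupp : ∀ x ∈ N, (b.repr x) ∈ Finsupp.supported R R (J : Set _) := by
    intro x hx
    rw [← hs] at hx
    refine Submodule.span_induction (p := fun x _ => b.repr x ∈ Finsupp.supported R R (J : Set _))
      ?_ ?_ ?_ ?_ hx
    · intro y hy
      rw [Finsupp.mem_supported]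
      intro i hi
      exact Finset.mem_biUnion.mpr ⟨y, hy, hi⟩
    · simp
    · intro y z _ _ hy hz
      rw [map_add]; exact Submodule.add_mem _ hy hz
    · intro r y _ hy
      rw [map_smul]; exact Submodule.smul_mem _ _ hy
  let g₀ : N →ₗ[R] (J → R) :=
    (LinearMap.pi fun j : J => (Finsupp.lapply (j : Module.Free.ChooseBasisIndex R F)).comp
      b.repr.toLinearMap).comp N.subtype
  have hg₀ : Function.Injective g₀ := by
    rw [← LinearMap.ker_eq_bot, LinearMap.ker_eq_bot']
    intro x hx
    apply Subtype.ext
    apply b.repr.injective
    rw [Submodule.coe_zero, map_zero]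
    ext i
    by_cases hi : i ∈ J
    · exact congrFun hx ⟨i, hi⟩
    · have := hsupp x.1 x.2
      rw [Finsupp.mem_supported] at this
      by_contra hne
      exact hi (this (Finsupp.mem_support_iff.mpr hne))
  let eJ : (J → R) ≃ₗ[R] (Fin (Fintype.card J) → R) :=
    LinearEquiv.funCongrLeft R R (Fintype.equivFin J).symm
  exact H4_bezout_free_of_injective (Fintype.card J) N (eJ.toLinearMap.comp g₀)
    (eJ.injective.comp hg₀)

end Groth.Agent.H4
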