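import Mathlib

/-!
# Localizations of absolutely integrally closed rings are strictly henselian
-/

set_option autoImplicit false
universe u

open Polynomial IsLocalRing

namespace Groth.Agent.H4

/-- A monic polynomial over a localization becomes, after scaling roots by a denominator, the image
of a monic polynomial over the base. -/
theorem H4_monic_scaled_lift {A : Type u} [CommRing A] (M : Submonoid A) (S : Type u) [CommRing S]
    [Algebra A S] [IsLocalization M S] (f : S[X]) (hf : f.Monic) :
    ∃ (s : M) (G : A[X]), G.Monic ∧ G.natDegree = f.natDegree ∧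
      G.map (algebraMap A S) = scaleRoots f (algebraMap A S s) := by
  classical
  obtain ⟨b, hb⟩ := IsLocalization.exist_integer_multiples_of_finset M
    (Finset.image f.coeff (Finset.range (f.natDegree + 1)))
  have hlifts : scaleRoots f (algebraMap A S b) ∈ lifts (algebraMap A S) := by
    rw [lifts_iff_coeff_lifts]
    intro i
    rw [coeff_scaleRoots]
    rcases lt_trichotomy i f.natDegree with hi | hi | hi
    · have h1 : f.coeff i ∈ Finset.image f.coeff (Finset.range (f.natDegree + 1)) :=
        Finset.mem_image_of_mem _ (Finset.mem_range.2 (by omega))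
      obtain ⟨a, ha⟩ := hb _ h1
      refine ⟨a * (b : A) ^ (f.natDegree - i - 1), ?_⟩
      rw [map_mul, map_pow, ha, Algebra.smul_def]
      have h2 : f.natDegree - i = (f.natDegree - i - 1) + 1 := by omega
      conv_rhs => rw [h2, pow_succ]
      ring
    · subst hi
      refine ⟨1, ?_⟩
      rw [map_one, Nat.sub_self, pow_zero, mul_one]
      exact hf.coeff_natDegree.symm
    · refine ⟨0, ?_⟩
      rw [map_zero, coeff_eq_zero_of_natDegree_lt hi, zero_mul]
  have hmonic : (scaleRoots f (algebraMap A S b)).Monic := (monic_scaleRoots_iff _).2 hf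
  obtain ⟨G, hG1, hG2, hG3⟩ := lifts_and_natDegree_eq_and_monic hlifts hmonic
  exact ⟨b, G, hG3, by rw [hG2, natDegree_scaleRoots], hG1⟩

/-- Over a localization `S` of an absolutely integrally closed ring, for a monic `f` there are a unit
`u` and a multiset `ms` of elements with `u ^ n * f(x) = ∏ (u x - b)`. -/
theorem H4_absIntClosed_eval {A : Type u} [CommRing A]
    (hA : ∀ f : A[X], f.Monic → ∃ s : Multiset A, f = (s.map fun a => X - C a).prod)
    (M : Submonoid A) (S : Type u) [CommRing S] [Algebra A S] [IsLocalization M S]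
    (f : S[X]) (hf : f.Monic) :
    ∃ (u : S) (ms : Multiset S), IsUnit u ∧ Multiset.card ms = f.natDegree ∧
      ∀ x : S, u ^ f.natDegree * f.eval x = (ms.map fun b => u * x - b).prod := by
  rcases subsingleton_or_nontrivial A with hsub | hnt
  · haveI : Subsingleton S := by
      refine ⟨fun a b => ?_⟩
      have h1 : (1 : S) = 0 := by
        rw [← map_one (algebraMap A S), Subsingleton.elim (1 : A) 0, map_zero]
      rw [← mul_one a, ← mul_one b, h1, mul_zero, mul_zero]
    refine ⟨1, 0, isUnit_one, ?_, fun x => Subsingleton.elim _ _⟩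
    rw [Multiset.card_zero, natDegree_of_subsingleton]
  obtain ⟨s, G, hG, hGdeg, hGmap⟩ := H4_monic_scaled_lift M S f hf
  obtain ⟨ms, hms⟩ := hA G hG
  refine ⟨algebraMap A S s, ms.map (algebraMap A S), IsLocalization.map_units S s, ?_, ?_⟩
  · rw [Multiset.card_map, ← hGdeg, hms, natDegree_multiset_prod_X_sub_C_eq_card]
  · intro x
    rw [← scaleRoots_eval_mul, ← hGmap, hms, Polynomial.map_multiset_prod, eval_multiset_prod,
      Multiset.map_map, Multiset.map_map, Multiset.map_map]
    congr 1
    apply Multiset.map_congr rfl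
    intro a _
    simp

theorem H4_absIntClosed_strictlyHenselian (A : Type u) [CommRing A]
    (hA : ∀ f : A[X], f.Monic → ∃ s : Multiset A, f = (s.map fun a => X - C a).prod)
    (p : Ideal A) [p.IsPrime] :
    ∃ _ : HenselianLocalRing (Localization.AtPrime p),
      IsSepClosed (ResidueField (Localization.AtPrime p)) := by
  classical
  have key : ∀ f : (Localization.AtPrime p)[X], f.Monic →
      ∃ (u : Localization.AtPrime p) (ms : Multiset (Localization.AtPrime p)), IsUnit u ∧
        Multiset.card ms = f.natDegree ∧
        ∀ x, u ^ f.natDegree * f.eval x = (ms.map fun b => u * x - b).prod :=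
    fun f hf => H4_absIntClosed_eval hA p.primeCompl (Localization.AtPrime p) f hf
  -- roots from elements of `ms`
  have hroot : ∀ (f : (Localization.AtPrime p)[X]) (u : Localization.AtPrime p)
      (ms : Multiset (Localization.AtPrime p)) (v : (Localization.AtPrime p)ˣ), (v : Localization.AtPrime p) = u →
      (∀ x, u ^ f.natDegree * f.eval x = (ms.map fun b => u * x - b).prod) →
      ∀ b ∈ ms, f.eval ((↑v⁻¹ : Localization.AtPrime p) * b) = 0 := by
    intro f u ms v hv hprod b hb
    have h1 := hprod ((↑v⁻¹ : Localization.AtPrime p) * b)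
    have h2 : (ms.map fun b' => u * ((↑v⁻¹ : Localization.AtPrime p) * b) - b').prod = 0 := by
      apply Multiset.prod_eq_zero
      rw [Multiset.mem_map]
      refine ⟨b, hb, ?_⟩
      rw [← hv, ← mul_assoc, Units.mul_inv, one_mul, sub_self]
    rw [h2] at h1
    have h3 : IsUnit (u ^ f.natDegree) := by rw [← hv]; exact (v.isUnit).pow _
    exact (h3.mul_right_eq_zero).1 h1
  refine ⟨{ (inferInstance : IsLocalRing (Localization.AtPrime p)) with is_henselian := ?_ }, ?_⟩
  · intro f hf a₀ h₁ _
    obtain ⟨u, ms, ⟨v, hv⟩, _, hprod⟩ := key f hf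
    have h2 : (ms.map fun b => u * a₀ - b).prod ∈ maximalIdeal (Localization.AtPrime p) := by
      rw [← hprod]
      exact Ideal.mul_mem_left _ _ h₁
    rw [(maximalIdeal.isMaximal _).isPrime.multiset_prod_mem_iff_exists_mem] at h2
    obtain ⟨c, hc, hcm⟩ := h2
    rw [Multiset.mem_map] at hc
    obtain ⟨b, hb, rfl⟩ := hc
    refine ⟨(↑v⁻¹ : Localization.AtPrime p) * b, hroot f u ms v hv hprod b hb, ?_⟩
    have h3 : (↑v⁻¹ : Localization.AtPrime p) * b - a₀ =
        - ((↑v⁻¹ : Localization.AtPrime p) * (u * a₀ - b)) := by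
      rw [← hv]
      have : (↑v⁻¹ : Localization.AtPrime p) * (v : Localization.AtPrime p) = 1 := Units.inv_mul v
      linear_combination (a₀) * this
    rw [h3]
    exact Ideal.neg_mem_iff _ |>.2 (Ideal.mul_mem_left _ _ hcm)
  · refine IsSepClosed.of_exists_root _ ?_
    intro g hg hirr _
    have hlifts : g ∈ lifts (residue (Localization.AtPrime p)) := by
      rw [lifts_iff_coeff_lifts]
      intro n
      exact residue_surjective _
    obtain ⟨f, hf1, hf2, hf3⟩ := lifts_and_natDegree_eq_and_monic hlifts hg
    obtain ⟨u, ms, ⟨v, hv⟩, hcard, hprod⟩ := key f hf3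
    have hdeg : 0 < g.natDegree := hirr.natDegree_pos
    have hms : ms ≠ 0 := by
      intro h0
      rw [h0, Multiset.card_zero, hf2] at hcard
      omega
    obtain ⟨b, hb⟩ := Multiset.exists_mem_of_ne_zero hms
    refine ⟨residue _ ((↑v⁻¹ : Localization.AtPrime p) * b), ?_⟩
    rw [← hf1, eval_map, eval₂_at_apply]
    have := hroot f u ms v hv hprod b hb
    rw [this, map_zero]

end Groth.Agent.H4
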