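import Mathlib
open IsLocalRing

namespace Groth.Agent.H4

theorem H4_adicCompletion_surj {P R : Type*} [CommRing P] [CommRing R] (φ : P →+* R)
    (hφ : Function.Surjective φ) (J : Ideal P) :
    ∃ Φ : AdicCompletion J P →+* AdicCompletion (J.map φ) R, Function.Surjective Φ := by
  classical
  set I := J.map φ with hI
  have hle : ∀ n, J ^ n ≤ (I ^ n).comap φ := fun n => by
    rw [← Ideal.map_le_iff_le_comap, Ideal.map_pow]
  let f : ∀ n, AdicCompletion J P →+* R ⧸ I ^ n := fun n =>
    (Ideal.quotientMap (I ^ n) φ (hle n)).comp (AdicCompletion.evalₐ J n).toRingHom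
  have hfx : ∀ n (x : AdicCompletion.AdicCauchySequence J P),
      f n (AdicCompletion.mk J P x) = Ideal.Quotient.mk (I ^ n) (φ (x n)) := by
    intro n x
    simp [f, AdicCompletion.evalₐ_mk]
  have hf : ∀ {m n : ℕ} (h : m ≤ n), (Ideal.Quotient.factorPow I h).comp (f n) = f m := by
    intro m n h
    ext x
    obtain ⟨x, rfl⟩ := AdicCompletion.mk_surjective J P x
    rw [RingHom.comp_apply, hfx, hfx]
    simp only [Ideal.Quotient.factor_mk]
    rw [Ideal.Quotient.mk_eq_mk_iff_sub_mem, ← map_sub]
    have := x.property h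
    rw [SModEq.sub_mem] at this
    have h2 : x m - x n ∈ J ^ m := by simpa using this
    have h3 := hle m h2
    rw [Ideal.mem_comap] at h3
    rw [← neg_sub, map_neg]
    exact neg_mem h3
  refine ⟨AdicCompletion.liftRingHom I f hf, ?_⟩
  intro y
  obtain ⟨y, rfl⟩ := AdicCompletion.mk_surjective I R y
  have hd : ∀ n, ∃ d ∈ J ^ n, φ d = y (n + 1) - y n := by
    intro n
    have := y.property (Nat.le_succ n)
    rw [SModEq.sub_mem] at this
    have h2 : y n - y (n + 1) ∈ I ^ n := by simpa using this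
    have h3 : y n - y (n + 1) ∈ (J ^ n).map φ := by rw [Ideal.map_pow]; exact h2
    rw [Ideal.mem_map_iff_of_surjective φ hφ] at h3
    obtain ⟨d, hd, hd'⟩ := h3
    exact ⟨-d, neg_mem hd, by rw [map_neg, hd']; ring⟩
  choose d hdJ hdφ using hd
  obtain ⟨p0, hp0⟩ := hφ (y 0)
  let p : ℕ → P := fun n => p0 + ∑ i ∈ Finset.range n, d i
  have hpφ : ∀ n, φ (p n) = y n := by
    intro n
    simp only [p, map_add, map_sum, hdφ, hp0, Finset.sum_range_sub]
    ring
  let x : AdicCompletion.AdicCauchySequence J P := AdicCompletion.AdicCauchySequence.mk J P p (by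
    intro n
    rw [SModEq.sub_mem]
    simp only [p, Finset.sum_range_succ]
    have : p0 + ∑ i ∈ Finset.range n, d i - (p0 + (∑ i ∈ Finset.range n, d i + d n)) = - d n := by
      ring
    rw [this]
    simpa using neg_mem (hdJ n))
  refine ⟨AdicCompletion.mk J P x, ?_⟩
  refine AdicCompletion.ext_evalₐ fun n => ?_
  rw [AdicCompletion.evalₐ_liftRingHom, hfx, AdicCompletion.evalₐ_mk]
  show Ideal.Quotient.mk (I ^ n) (φ (p n)) = _
  rw [hpφ]

theorem H4_adicCompletion_isNoetherianRing {R : Type*} [CommRing R] [IsNoetherianRing R]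
    (I : Ideal R) : IsNoetherianRing (AdicCompletion I R) := by
  classical
  obtain ⟨s, hs⟩ := (isNoetherianRing_iff_ideal_fg R).mp inferInstance I
  let φ : MvPolynomial s R →+* R := (MvPolynomial.aeval (fun i : s => (i : R))).toRingHom
  have hφ : Function.Surjective φ := fun r => ⟨MvPolynomial.C r, by simp [φ]⟩
  have hJ : (MvPolynomial.idealOfVars s R).map φ = I := by
    rw [MvPolynomial.idealOfVars, Ideal.map_span, ← Set.range_comp, ← hs]
    congr 1
    ext r
    simp [φ]
  obtain ⟨Φ, hΦ⟩ := H4_adicCompletion_surj φ hφ (MvPolynomial.idealOfVars s R)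
  subst hJ
  haveI : IsNoetherianRing (MvPowerSeries s R) := inferInstance
  haveI : IsNoetherianRing (AdicCompletion (MvPolynomial.idealOfVars s R) (MvPolynomial s R)) :=
    isNoetherianRing_of_ringEquiv _ (MvPowerSeries.toAdicCompletionAlgEquiv s R).toRingEquiv
  exact isNoetherianRing_of_surjective _ _ Φ hΦ

end Groth.Agent.H4
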