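import Mathlib

/-! Associated primes of principal ideals in Noetherian normal domains. -/

set_option autoImplicit false
universe u

namespace Groth.Agent.H4

/-- Core criterion: in a Noetherian local normal domain, if the maximal ideal is `(a : y)` for a
nonzero `a`, then the ring is a DVR. -/
theorem H4_dvr_of_colon
    (A : Type u) [CommRing A] [IsDomain A] [IsNoetherianRing A] [IsLocalRing A]
    [IsIntegrallyClosed A] (a : A) (ha : a ≠ 0) (y : A)
    (hmem : ∀ r : A, r ∈ IsLocalRing.maximalIdeal A ↔ a ∣ r * y) :
    IsDiscreteValuationRing A := by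
  classical
  have ham : a ∈ IsLocalRing.maximalIdeal A := by
    rw [hmem]; exact dvd_mul_right a y
  have hy : ¬ a ∣ y := by
    intro h
    have : (1 : A) ∈ IsLocalRing.maximalIdeal A := by
      rw [hmem, one_mul]; exact h
    exact (IsLocalRing.maximalIdeal.isMaximal A).ne_top ((Ideal.eq_top_iff_one _).2 this)
  have hnf : ¬ IsField A := by
    rw [IsLocalRing.isField_iff_maximalIdeal_eq]
    intro h
    rw [h] at ham
    exact ha ham
  suffices hprinc : (IsLocalRing.maximalIdeal A).IsPrincipal from
    ((IsDiscreteValuationRing.TFAE A hnf).out 0 4).2 hprinc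
  by_cases hcase : ∀ t ∈ IsLocalRing.maximalIdeal A, ∀ c, t * y = a * c →
      c ∈ IsLocalRing.maximalIdeal A
  · exfalso
    apply hy
    let K := FractionRing A
    let z : K := algebraMap A K y / algebraMap A K a
    have haK : algebraMap A K a ≠ 0 := by
      simpa using ha
    let N : Submodule A K := Submodule.map (Algebra.linearMap A K) (IsLocalRing.maximalIdeal A)
    have hN : N ≠ ⊥ := by
      intro h
      have : algebraMap A K a ∈ N := ⟨a, ham, rfl⟩
      rw [h, Submodule.mem_bot] at this
      exact haK this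
    have hNfg : N.FG := Submodule.FG.map _ (IsNoetherian.noetherian _)
    have hzN : ∀ n ∈ N, z • n ∈ N := by
      rintro _ ⟨t, ht, rfl⟩
      obtain ⟨c, hc⟩ := (hmem t).1 ht
      refine ⟨c, hcase t ht c hc, ?_⟩
      simp only [Algebra.linearMap_apply, smul_eq_mul, z]
      rw [div_mul_eq_mul_div, eq_div_iff haK, ← map_mul, ← map_mul, mul_comm c a, ← hc, mul_comm]
    have hint : IsIntegral A z := isIntegral_of_smul_mem_submodule N hN hNfg z hzN
    obtain ⟨w, hw⟩ := IsIntegrallyClosed.isIntegral_iff.1 hint
    refine ⟨w, ?_⟩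
    apply IsFractionRing.injective A K
    rw [map_mul, hw]
    exact (mul_div_cancel₀ _ haK).symm
  · push Not at hcase
    obtain ⟨t, ht, c, hc, hcm⟩ := hcase
    have hcu : IsUnit c := by
      by_contra h
      exact hcm ((IsLocalRing.mem_maximalIdeal c).2 h)
    obtain ⟨u, rfl⟩ := hcu
    refine ⟨⟨t, ?_⟩⟩
    apply le_antisymm
    · intro s hs
      obtain ⟨c', hc'⟩ := (hmem s).1 hs
      change s ∈ Ideal.span {t}
      rw [Ideal.mem_span_singleton]
      refine ⟨c' * ↑u⁻¹, ?_⟩
      have h1 : s * (u : A) = t * c' := by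
        apply mul_left_cancel₀ ha
        calc a * (s * u) = s * (a * u) := by ring
          _ = s * (t * y) := by rw [hc]
          _ = t * (s * y) := by ring
          _ = t * (a * c') := by rw [hc']
          _ = a * (t * c') := by ring
      calc s = s * u * ↑u⁻¹ := by rw [mul_assoc, Units.mul_inv, mul_one]
        _ = t * c' * ↑u⁻¹ := by rw [h1]
        _ = t * (c' * ↑u⁻¹) := by ring
    · change Ideal.span {t} ≤ _
      rw [Ideal.span_singleton_le_iff_mem]
      exact ht

/-- Membership in the colon ideal `(a : y)` in terms of divisibility. -/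
theorem H4_mem_colon_quot_iff (A : Type u) [CommRing A] (a y r : A) :
    r ∈ (⊥ : Submodule A (A ⧸ Ideal.span ({a} : Set A))).colon
      {Ideal.Quotient.mk (Ideal.span ({a} : Set A)) y} ↔ a ∣ r * y := by
  rw [Submodule.mem_colon_singleton, Submodule.mem_bot]
  have : r • (Ideal.Quotient.mk (Ideal.span ({a} : Set A))) y =
      (Ideal.Quotient.mk (Ideal.span ({a} : Set A))) (r * y) := by
    rw [map_mul]; rfl
  rw [this, Ideal.Quotient.eq_zero_iff_mem, Ideal.mem_span_singleton]

/-- In a Noetherian normal domain, a prime of the form `(b : y)` with `b ≠ 0` has height one. -/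
theorem H4_height_one_of_colon
    (A : Type u) [CommRing A] [IsDomain A] [IsNoetherianRing A] [IsIntegrallyClosed A]
    (b : A) (hb : b ≠ 0) (y : A) (p : Ideal A) [hp : p.IsPrime]
    (hmem : ∀ r : A, r ∈ p ↔ b ∣ r * y) : p.height = 1 := by
  classical
  let B := Localization.AtPrime p
  have hinj : Function.Injective (algebraMap A B) :=
    IsLocalization.injective B p.primeCompl_le_nonZeroDivisors
  have : IsDomain B := IsLocalization.isDomain_localization p.primeCompl_le_nonZeroDivisors
  have : IsIntegrallyClosed B := isIntegrallyClosed_of_isLocalization B p.primeCompl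
    p.primeCompl_le_nonZeroDivisors
  have hb' : algebraMap A B b ≠ 0 := by
    intro h
    exact hb (hinj (by rw [h, map_zero]))
  have hmemB : ∀ r : B, r ∈ IsLocalRing.maximalIdeal B ↔
      algebraMap A B b ∣ r * algebraMap A B y := by
    intro r
    obtain ⟨r0, s, rfl⟩ := IsLocalization.exists_mk'_eq p.primeCompl r
    rw [IsLocalization.AtPrime.mk'_mem_maximal_iff B p]
    constructor
    · intro h
      obtain ⟨c, hc⟩ := (hmem r0).1 h
      refine ⟨IsLocalization.mk' B c s, ?_⟩
      rw [← IsLocalization.mk'_one (M := p.primeCompl) B b, ← IsLocalization.mk'_one (M := p.primeCompl) B y,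
        ← IsLocalization.mk'_mul, ← IsLocalization.mk'_mul, hc, one_mul, mul_one]
    · rintro ⟨c, hc⟩
      obtain ⟨c0, t, rfl⟩ := IsLocalization.exists_mk'_eq p.primeCompl c
      rw [← IsLocalization.mk'_one (M := p.primeCompl) B b, ← IsLocalization.mk'_one (M := p.primeCompl) B y,
        ← IsLocalization.mk'_mul, ← IsLocalization.mk'_mul, IsLocalization.mk'_eq_iff_eq] at hc
      have hc' := hinj hc
      simp only [mul_one, one_mul] at hc'
      -- t * (r0 * y) = s * (b * c0)
      have h1 : (t : A) * r0 ∈ p := by
        rw [hmem]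
        refine ⟨s * c0, ?_⟩
        rw [mul_assoc, hc']; ring
      rcases hp.mem_or_mem h1 with h | h
      · exact absurd h t.2
      · exact h
  have hdvr : IsDiscreteValuationRing B := H4_dvr_of_colon B _ hb' _ hmemB
  have h1 : ringKrullDim B = 1 := IsDiscreteValuationRing.ringKrullDim_eq_one B
  rw [IsLocalization.AtPrime.ringKrullDim_eq_height p B] at h1
  exact_mod_cast h1

/-- Every associated prime of `A/(b)` (Noetherian normal domain, `b ≠ 0`) has height one. -/
theorem H4_height_one_of_mem_ass
    (A : Type u) [CommRing A] [IsDomain A] [IsNoetherianRing A] [IsIntegrallyClosed A]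
    (b : A) (hb : b ≠ 0) (p : Ideal A) (hp : p ∈ associatedPrimes A (A ⧸ Ideal.span {b})) :
    p.height = 1 := by
  rw [AssociatedPrimes.mem_iff, isAssociatedPrime_iff] at hp
  obtain ⟨hpp, x, hx⟩ := hp
  obtain ⟨y, rfl⟩ := Ideal.Quotient.mk_surjective x
  have := hpp
  refine H4_height_one_of_colon A b hb y p ?_
  intro r
  rw [hx]
  exact H4_mem_colon_quot_iff A b y r

end Groth.Agent.H4
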