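import Mathlib
import Groth.Prelude.Def_Found

set_option autoImplicit false
universe u v

namespace Groth.Agent.H4

/-- abstract order-theoretic form of `CAlg.IsCatenary`. -/
def H4_CatPoset (P : Type u) [PartialOrder P] : Prop :=
  (∀ p q : P, p ≤ q → ∃ n : ℕ, ∀ s : LTSeries P, s.head = p → s.last = q → s.length ≤ n) ∧
  ∀ s t : LTSeries P, s.head = t.head → s.last = t.last →
    (∀ i : Fin s.length, s (Fin.castSucc i) ⋖ s (Fin.succ i)) →
    (∀ i : Fin t.length, t (Fin.castSucc i) ⋖ t (Fin.succ i)) →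
    s.length = t.length

theorem H4_isCatenary_iff (R : Type u) [CommRing R] :
    CAlg.IsCatenary R ↔ H4_CatPoset (PrimeSpectrum R) := Iff.rfl

section
variable {P : Type u} {Q : Type v} [PartialOrder P] [PartialOrder Q]

theorem H4_covBy_map (f : P ↪o Q)
    (hconv : ∀ a b : P, ∀ c : Q, f a ≤ c → c ≤ f b → c ∈ Set.range f) {a b : P} (h : a ⋖ b) :
    f a ⋖ f b := by
  refine ⟨f.lt_iff_lt.2 h.1, fun c hac hcb => ?_⟩
  obtain ⟨c', rfl⟩ := hconv a b c hac.le hcb.le
  exact h.2 (f.lt_iff_lt.1 hac) (f.lt_iff_lt.1 hcb)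

theorem H4_covBy_of_map (f : P ↪o Q) {a b : P} (h : f a ⋖ f b) : a ⋖ b :=
  ⟨f.lt_iff_lt.1 h.1, fun _ hac hcb => h.2 (f.lt_iff_lt.2 hac) (f.lt_iff_lt.2 hcb)⟩

theorem H4_catPoset_of_embedding (f : P ↪o Q)
    (hconv : ∀ a b : P, ∀ c : Q, f a ≤ c → c ≤ f b → c ∈ Set.range f) (hQ : H4_CatPoset Q) :
    H4_CatPoset P := by
  refine ⟨?_, ?_⟩
  · intro p q hpq
    obtain ⟨n, hn⟩ := hQ.1 (f p) (f q) (f.le_iff_le.2 hpq)
    refine ⟨n, fun s hs ht => ?_⟩
    have := hn (s.map f f.strictMono) (by rw [LTSeries.head_map, hs]) (by rw [LTSeries.last_map, ht])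
    exact this
  · intro s t hhead hlast hs ht
    have := hQ.2 (s.map f f.strictMono) (t.map f f.strictMono)
      (by rw [LTSeries.head_map, LTSeries.head_map, hhead])
      (by rw [LTSeries.last_map, LTSeries.last_map, hlast])
      (fun i => H4_covBy_map f hconv (hs i)) (fun i => H4_covBy_map f hconv (ht i))
    exact this

/-- lift a series along an order embedding whose range contains it -/
noncomputable def H4_liftSeries (f : P ↪o Q) (s : LTSeries Q) (h : ∀ i, s i ∈ Set.range f) :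
    LTSeries P :=
  LTSeries.mk s.length (fun i => Classical.choose (h i)) (by
    intro i j hij
    apply f.lt_iff_lt.1
    rw [Classical.choose_spec (h i), Classical.choose_spec (h j)]
    exact s.strictMono hij)

theorem H4_liftSeries_length (f : P ↪o Q) (s : LTSeries Q) (h : ∀ i, s i ∈ Set.range f) :
    (H4_liftSeries f s h).length = s.length := rfl

theorem H4_liftSeries_apply (f : P ↪o Q) (s : LTSeries Q) (h : ∀ i, s i ∈ Set.range f)
    (i : Fin (s.length + 1)) : f ((H4_liftSeries f s h) i) = s i :=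
  Classical.choose_spec (h i)

theorem H4_liftSeries_head (f : P ↪o Q) (s : LTSeries Q) (h : ∀ i, s i ∈ Set.range f) :
    f (H4_liftSeries f s h).head = s.head :=
  H4_liftSeries_apply f s h 0

theorem H4_liftSeries_last (f : P ↪o Q) (s : LTSeries Q) (h : ∀ i, s i ∈ Set.range f) :
    f (H4_liftSeries f s h).last = s.last :=
  H4_liftSeries_apply f s h (Fin.last _)

theorem H4_liftSeries_covBy (f : P ↪o Q) (s : LTSeries Q) (h : ∀ i, s i ∈ Set.range f)
    (hs : ∀ i : Fin s.length, s (Fin.castSucc i) ⋖ s (Fin.succ i)) (i : Fin s.length) :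
    (H4_liftSeries f s h) (Fin.castSucc i) ⋖ (H4_liftSeries f s h) (Fin.succ i) := by
  apply H4_covBy_of_map f
  have e1 := H4_liftSeries_apply f s h (Fin.castSucc i)
  have e2 := H4_liftSeries_apply f s h (Fin.succ i)
  have key : ∀ (a b : P) (a' b' : Q), f a = a' → f b = b' → a' ⋖ b' → f a ⋖ f b := by
    rintro a b _ _ rfl rfl h
    exact h
  exact key _ _ _ _ e1 e2 (hs i)

/-- if every element lies in the range of an order embedding from a catenary poset with
upward-closed range, the poset is catenary. -/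
theorem H4_catPoset_of_cover {ι : Type*} (Pi : ι → Type u) [∀ i, PartialOrder (Pi i)]
    (f : ∀ i, Pi i ↪o Q) (hup : ∀ i (a : Pi i) (c : Q), f i a ≤ c → c ∈ Set.range (f i))
    (hcov : ∀ q : Q, ∃ i, q ∈ Set.range (f i)) (hP : ∀ i, H4_CatPoset (Pi i)) : H4_CatPoset Q := by
  refine ⟨?_, ?_⟩
  · intro p q hpq
    obtain ⟨i, p', rfl⟩ := hcov p
    obtain ⟨q', rfl⟩ := hup i p' q hpq
    obtain ⟨n, hn⟩ := (hP i).1 p' q' ((f i).le_iff_le.1 hpq)
    refine ⟨n, fun s hs ht => ?_⟩
    have hrange : ∀ j, s j ∈ Set.range (f i) := fun j => hup i p' (s j) (hs ▸ s.head_le j)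
    have := hn (H4_liftSeries (f i) s hrange)
      ((f i).injective (by rw [H4_liftSeries_head, hs]))
      ((f i).injective (by rw [H4_liftSeries_last, ht]))
    exact this
  · intro s t hhead hlast hs ht
    obtain ⟨i, p', hp'⟩ := hcov s.head
    have hrs : ∀ j, s j ∈ Set.range (f i) := fun j => hup i p' (s j) (hp' ▸ s.head_le j)
    have hrt : ∀ j, t j ∈ Set.range (f i) := fun j => hup i p' (t j) (hp' ▸ hhead ▸ t.head_le j)
    have := (hP i).2 (H4_liftSeries (f i) s hrs) (H4_liftSeries (f i) t hrt)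
      ((f i).injective (by rw [H4_liftSeries_head, H4_liftSeries_head, hhead]))
      ((f i).injective (by rw [H4_liftSeries_last, H4_liftSeries_last, hlast]))
      (H4_liftSeries_covBy (f i) s hrs hs) (H4_liftSeries_covBy (f i) t hrt ht)
    exact this

end

section Rings

/-- the order embedding `Spec (A ⧸ I) ↪o Spec A`. -/
noncomputable def H4_quotEmb {A : Type u} [CommRing A] (I : Ideal A) :
    PrimeSpectrum (A ⧸ I) ↪o PrimeSpectrum A :=
  (Ideal.primeSpectrumQuotientOrderIsoZeroLocus I).toOrderEmbedding.trans (OrderEmbedding.subtype _)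

theorem H4_quotEmb_range {A : Type u} [CommRing A] (I : Ideal A) (c : PrimeSpectrum A) :
    c ∈ Set.range (H4_quotEmb I) ↔ I ≤ c.asIdeal := by
  constructor
  · rintro ⟨a, rfl⟩
    exact ((Ideal.primeSpectrumQuotientOrderIsoZeroLocus I) a).2
  · intro h
    refine ⟨(Ideal.primeSpectrumQuotientOrderIsoZeroLocus I).symm ⟨c, h⟩, ?_⟩
    show (((Ideal.primeSpectrumQuotientOrderIsoZeroLocus I)
      ((Ideal.primeSpectrumQuotientOrderIsoZeroLocus I).symm ⟨c, h⟩)) : PrimeSpectrum A) = c
    rw [OrderIso.apply_symm_apply]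

theorem H4_quotEmb_up {A : Type u} [CommRing A] (I : Ideal A) (a : PrimeSpectrum (A ⧸ I))
    (c : PrimeSpectrum A) (h : H4_quotEmb I a ≤ c) : c ∈ Set.range (H4_quotEmb I) := by
  rw [H4_quotEmb_range]
  have h1 : I ≤ (H4_quotEmb I a).asIdeal := (H4_quotEmb_range I _).1 ⟨a, rfl⟩
  exact h1.trans h

theorem H4_isCatenary_quotient (A : Type u) [CommRing A] (I : Ideal A) (hA : CAlg.IsCatenary A) :
    CAlg.IsCatenary (A ⧸ I) :=
  H4_catPoset_of_embedding (H4_quotEmb I)
    (fun a _ c hac _ => H4_quotEmb_up I a c hac) hA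

theorem H4_isCatenary_localization (A : Type u) [CommRing A] (S : Submonoid A)
    (B : Type u) [CommRing B] [Algebra A B] [IsLocalization S B]
    (hA : CAlg.IsCatenary A) : CAlg.IsCatenary B := by
  let e := IsLocalization.primeSpectrumOrderIso S B
  let f : PrimeSpectrum B ↪o PrimeSpectrum A := e.toOrderEmbedding.trans (OrderEmbedding.subtype _)
  refine H4_catPoset_of_embedding f ?_ hA
  intro a b c _ hcb
  have hb : Disjoint (S : Set A) (f b).asIdeal := (e b).2
  have hc : Disjoint (S : Set A) c.asIdeal := hb.mono_right hcb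
  refine ⟨e.symm ⟨c, hc⟩, ?_⟩
  show ((e (e.symm ⟨c, hc⟩)) : PrimeSpectrum A) = c
  rw [OrderIso.apply_symm_apply]

theorem H4_isCatenary_of_minimalPrimes (R : Type u) [CommRing R]
    (h : ∀ p ∈ minimalPrimes R, CAlg.IsCatenary (R ⧸ p)) : CAlg.IsCatenary R := by
  refine H4_catPoset_of_cover (ι := ↥(minimalPrimes R)) (fun p => PrimeSpectrum (R ⧸ p.1))
    (fun p => H4_quotEmb p.1) (fun p a c hac => H4_quotEmb_up p.1 a c hac) ?_
    (fun p => h p.1 p.2)
  intro q
  obtain ⟨p, hp, hpq⟩ := Ideal.exists_minimalPrimes_le (I := (⊥ : Ideal R)) (J := q.asIdeal) bot_le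
  exact ⟨⟨p, hp⟩, (H4_quotEmb_range p q).2 hpq⟩

end Rings

end Groth.Agent.H4
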