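import Mathlib
import Groth.Prelude.Def_W4stktopologysheavesDim
import Groth.Agent.Lib.helper4.Catenary

set_option autoImplicit false
universe u v

namespace Groth.Agent.H4

open TopologicalSpace Topology

section Poset
variable {P : Type u} [PartialOrder P]

theorem H4_insertNth_head (r : LTSeries P) (i : Fin r.length) (c : P)
    (h1 : r (Fin.castSucc i) < c) (h2 : c < r i.succ) :
    (r.insertNth i c h1 h2).head = r.head := by
  have h : (0 : Fin (r.length + 1 + 1)) < (Fin.castSucc i.succ) := by simp [Fin.lt_def]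
  show (Fin.castSucc i.succ).insertNth (α := fun _ => P) c r 0 = r 0
  rw [Fin.insertNth_apply_below (h := h)]
  rfl

theorem H4_insertNth_last (r : LTSeries P) (i : Fin r.length) (c : P)
    (h1 : r (Fin.castSucc i) < c) (h2 : c < r i.succ) :
    (r.insertNth i c h1 h2).last = r.last := by
  have h : (Fin.castSucc i.succ) < Fin.last (r.length + 1) := by simp [Fin.lt_def]
  show (Fin.castSucc i.succ).insertNth (α := fun _ => P) c r (Fin.last _) = r (Fin.last _)
  rw [Fin.insertNth_apply_above (h := h)]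
  simp only [eq_rec_constant]
  congr 1

theorem H4_insertNth_length (r : LTSeries P) (i : Fin r.length) (c : P)
    (h1 : r (Fin.castSucc i) < c) (h2 : c < r i.succ) :
    (r.insertNth i c h1 h2).length = r.length + 1 := rfl

/-- in a catenary poset, a saturated chain is at least as long as any chain with the same ends -/
theorem H4_le_saturated (hQ : H4_CatPoset P) (s r : LTSeries P) (hh : r.head = s.head)
    (hl : r.last = s.last) (hs : ∀ i : Fin s.length, s (Fin.castSucc i) ⋖ s (Fin.succ i)) :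
    r.length ≤ s.length := by
  obtain ⟨n, hn⟩ := hQ.1 s.head s.last (LTSeries.head_le_last s)
  have key : ∀ k : ℕ, ∀ r : LTSeries P, r.head = s.head → r.last = s.last → n ≤ r.length + k →
      r.length ≤ s.length := by
    intro k
    induction k with
    | zero =>
      intro r hh hl hk
      by_cases hr : ∀ i : Fin r.length, r (Fin.castSucc i) ⋖ r (Fin.succ i)
      · exact (hQ.2 r s hh hl hr hs).le
      · push Not at hr
        obtain ⟨i, hi⟩ := hr
        have hlt : r (Fin.castSucc i) < r (Fin.succ i) := r.step i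
        rw [not_covBy_iff hlt] at hi
        obtain ⟨c, h1, h2⟩ := hi
        have h3 := hn (r.insertNth i c h1 h2) (by rw [H4_insertNth_head, hh])
          (by rw [H4_insertNth_last, hl])
        rw [H4_insertNth_length] at h3
        omega
    | succ k ih =>
      intro r hh hl hk
      by_cases hr : ∀ i : Fin r.length, r (Fin.castSucc i) ⋖ r (Fin.succ i)
      · exact (hQ.2 r s hh hl hr hs).le
      · push Not at hr
        obtain ⟨i, hi⟩ := hr
        have hlt : r (Fin.castSucc i) < r (Fin.succ i) := r.step i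
        rw [not_covBy_iff hlt] at hi
        obtain ⟨c, h1, h2⟩ := hi
        have h3 := ih (r.insertNth i c h1 h2) (by rw [H4_insertNth_head, hh])
          (by rw [H4_insertNth_last, hl]) (by rw [H4_insertNth_length]; omega)
        rw [H4_insertNth_length] at h3
        omega
  exact key n r hh hl (by omega)

theorem H4_catPoset_of_orderIso {Q : Type v} [PartialOrder Q] (e : P ≃o Q) (hQ : H4_CatPoset Q) :
    H4_CatPoset P :=
  H4_catPoset_of_embedding e.toOrderEmbedding (fun _ _ c _ _ => ⟨e.symm c, e.apply_symm_apply c⟩) hQ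

/-- reverse a series of the dual order -/
def H4_unrev (s : LTSeries Pᵒᵈ) : LTSeries P :=
  LTSeries.mk s.length (fun i => OrderDual.ofDual (s i.rev)) (by
    intro i j hij
    have : s j.rev < s i.rev := s.strictMono (Fin.rev_lt_rev.2 hij)
    exact this)

theorem H4_unrev_length (s : LTSeries Pᵒᵈ) : (H4_unrev s).length = s.length := rfl

theorem H4_unrev_head (s : LTSeries Pᵒᵈ) : (H4_unrev s).head = OrderDual.ofDual s.last := by
  show OrderDual.ofDual (s (Fin.rev 0)) = _
  rw [Fin.rev_zero]; rfl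

theorem H4_unrev_last (s : LTSeries Pᵒᵈ) : (H4_unrev s).last = OrderDual.ofDual s.head := by
  show OrderDual.ofDual (s (Fin.rev (Fin.last _))) = _
  rw [Fin.rev_last]; rfl

theorem H4_unrev_covBy (s : LTSeries Pᵒᵈ)
    (hs : ∀ i : Fin s.length, s (Fin.castSucc i) ⋖ s (Fin.succ i)) (i : Fin (H4_unrev s).length) :
    (H4_unrev s) (Fin.castSucc i) ⋖ (H4_unrev s) (Fin.succ i) := by
  show OrderDual.ofDual (s (Fin.rev (Fin.castSucc i))) ⋖ OrderDual.ofDual (s (Fin.rev (Fin.succ i)))
  rw [Fin.rev_castSucc, Fin.rev_succ]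
  exact (hs i.rev).ofDual

theorem H4_catPoset_dual (hP : H4_CatPoset P) : H4_CatPoset Pᵒᵈ := by
  refine ⟨fun p q hpq => ?_, fun s t hh hl hs ht => ?_⟩
  · obtain ⟨n, hn⟩ := hP.1 (OrderDual.ofDual q) (OrderDual.ofDual p) hpq
    refine ⟨n, fun s hs hl => ?_⟩
    have := hn (H4_unrev s) (by rw [H4_unrev_head, hl]) (by rw [H4_unrev_last, hs])
    exact this
  · have := hP.2 (H4_unrev s) (H4_unrev t) (by rw [H4_unrev_head, H4_unrev_head, hl])
      (by rw [H4_unrev_last, H4_unrev_last, hh]) (H4_unrev_covBy s hs) (H4_unrev_covBy t ht)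
    exact this

theorem H4_catPoset_of_dual (hP : H4_CatPoset Pᵒᵈ) : H4_CatPoset P :=
  H4_catPoset_of_orderIso (OrderIso.dualDual P) (H4_catPoset_dual hP)

/-- dual cover lemma: down-closed ranges. -/
theorem H4_catPoset_of_cover_down {Q : Type v} [PartialOrder Q] {ι : Type*} (Pi : ι → Type u)
    [∀ i, PartialOrder (Pi i)]
    (f : ∀ i, Pi i ↪o Q) (hdown : ∀ i (a : Pi i) (c : Q), c ≤ f i a → c ∈ Set.range (f i))
    (hcov : ∀ q : Q, ∃ i, q ∈ Set.range (f i)) (hP : ∀ i, H4_CatPoset (Pi i)) : H4_CatPoset Q := by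
  apply H4_catPoset_of_dual
  refine H4_catPoset_of_cover (fun i => (Pi i)ᵒᵈ) (fun i => (f i).dual) ?_ ?_
    (fun i => H4_catPoset_dual (hP i))
  · intro i a c hac
    obtain ⟨b, hb⟩ := hdown i (OrderDual.ofDual a) (OrderDual.ofDual c) hac
    exact ⟨OrderDual.toDual b, congrArg OrderDual.toDual hb⟩
  · intro q
    obtain ⟨i, b, hb⟩ := hcov (OrderDual.ofDual q)
    exact ⟨i, OrderDual.toDual b, congrArg OrderDual.toDual hb⟩

end Poset

section Top
variable {X : Type u} [TopologicalSpace X]

theorem H4_isCatenarySpace_iff (X : Type u) [TopologicalSpace X] :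
    PtTop.IsCatenarySpace X ↔ H4_CatPoset (IrreducibleCloseds X) := by
  constructor
  · intro hX
    refine ⟨fun p q hpq => ?_, fun s t hh hl hs ht => ?_⟩
    · obtain ⟨h1, -⟩ := hX p q hpq
      obtain ⟨n, hn⟩ := ENat.ne_top_iff_exists.1 h1
      refine ⟨n, fun s hs hl => ?_⟩
      have : (s.length : ℕ∞) ≤ PtTop.codim p (q : Set X) := by
        unfold PtTop.codim
        exact le_iSup₂_of_le s ⟨hs, by rw [hl]⟩ le_rfl
      rw [← hn] at this
      exact_mod_cast this
    · have h1 := (hX s.head s.last (LTSeries.head_le_last s)).2 s rfl rfl hs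
      have h2 := (hX s.head s.last (LTSeries.head_le_last s)).2 t hh.symm hl.symm ht
      exact_mod_cast h1.trans h2.symm
  · intro hQ T T' hTT'
    obtain ⟨n, hn⟩ := hQ.1 T T' hTT'
    have hbound : ∀ r : LTSeries (IrreducibleCloseds X), r.head = T → (r.last : Set X) ⊆ T' →
        ∃ r' : LTSeries (IrreducibleCloseds X), r'.head = T ∧ r'.last = T' ∧
          r.length ≤ r'.length := by
      intro r hr hl
      have hle : r.last ≤ T' := hl
      rcases hle.eq_or_lt with h | h
      · exact ⟨r, hr, h, le_rfl⟩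
      · exact ⟨r.snoc T' h, by simp [hr], by simp, by simp⟩
    refine ⟨?_, fun s hs hl hsat => ?_⟩
    · apply ne_top_of_le_ne_top (ENat.natCast_ne_top n)
      unfold PtTop.codim
      refine iSup₂_le fun r hr => ?_
      obtain ⟨r', h1, h2, h3⟩ := hbound r hr.1 hr.2
      exact_mod_cast h3.trans (hn r' h1 h2)
    · apply le_antisymm
      · unfold PtTop.codim
        exact le_iSup₂_of_le s ⟨hs, by rw [hl]⟩ le_rfl
      · unfold PtTop.codim
        refine iSup₂_le fun r hr => ?_
        obtain ⟨r', h1, h2, h3⟩ := hbound r hr.1 hr.2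
        have := H4_le_saturated hQ s r' (h1.trans hs.symm) (h2.trans hl.symm) hsat
        exact_mod_cast h3.trans this

variable {Y : Type v} [TopologicalSpace Y]

/-- closure-of-image map on irreducible closeds along an inducing map, as an order embedding -/
noncomputable def H4_icMap {f : Y → X} (hf : IsInducing f) :
    IrreducibleCloseds Y ↪o IrreducibleCloseds X :=
  OrderEmbedding.ofMapLEIff (IrreducibleCloseds.map f hf.continuous) (by
    intro a b
    refine ⟨fun hle => ?_, fun hle => IrreducibleCloseds.map_mono hf.continuous hle⟩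
    have h1 : (a : Set Y) = f ⁻¹' closure (f '' (a : Set Y)) := by
      rw [← hf.closure_eq_preimage_closure_image, a.isClosed.closure_eq]
    have h2 : (b : Set Y) = f ⁻¹' closure (f '' (b : Set Y)) := by
      rw [← hf.closure_eq_preimage_closure_image, b.isClosed.closure_eq]
    show (a : Set Y) ⊆ b
    rw [h1, h2]
    exact Set.preimage_mono hle)

theorem H4_icMap_coe {f : Y → X} (hf : IsInducing f) (a : IrreducibleCloseds Y) :
    ((H4_icMap hf a : IrreducibleCloseds X) : Set X) = closure (f '' (a : Set Y)) := rfl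

theorem H4_isPreirreducible_preimage {f : Y → X} (hf : IsInducing f) (W : Set X)
    (hW : IsPreirreducible (W ∩ Set.range f)) : IsPreirreducible (f ⁻¹' W) := by
  intro u v hu hv ⟨y, hyW, hyu⟩ ⟨z, hzW, hzv⟩
  obtain ⟨u', hu', rfl⟩ := hf.isOpen_iff.1 hu
  obtain ⟨v', hv', rfl⟩ := hf.isOpen_iff.1 hv
  obtain ⟨x, ⟨hxW, w, rfl⟩, hxu, hxv⟩ := hW u' v' hu' hv' ⟨f y, ⟨hyW, y, rfl⟩, hyu⟩
    ⟨f z, ⟨hzW, z, rfl⟩, hzv⟩
  exact ⟨w, hxW, hxu, hxv⟩

theorem H4_icMap_range {f : Y → X} (hf : IsInducing f) (W : IrreducibleCloseds X) :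
    W ∈ Set.range (H4_icMap hf) ↔ (W : Set X) ⊆ closure ((W : Set X) ∩ Set.range f) := by
  constructor
  · rintro ⟨Z, rfl⟩
    rw [H4_icMap_coe]
    apply closure_mono
    rintro _ ⟨y, hy, rfl⟩
    exact ⟨subset_closure ⟨y, hy, rfl⟩, y, rfl⟩
  · intro h
    have hcl : closure ((W : Set X) ∩ Set.range f) = W :=
      le_antisymm (closure_minimal Set.inter_subset_left W.isClosed) h
    have hirr : IsIrreducible ((W : Set X) ∩ Set.range f) := by
      rw [← isIrreducible_iff_closure, hcl]; exact W.isIrreducible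
    have hne : (f ⁻¹' (W : Set X)).Nonempty := by
      obtain ⟨x, hxW, y, rfl⟩ := hirr.nonempty
      exact ⟨y, hxW⟩
    refine ⟨⟨f ⁻¹' (W : Set X), ⟨hne, H4_isPreirreducible_preimage hf _ hirr.isPreirreducible⟩,
      W.isClosed.preimage hf.continuous⟩, ?_⟩
    apply IrreducibleCloseds.ext
    rw [H4_icMap_coe]
    show closure (f '' (f ⁻¹' (W : Set X))) = W
    rw [Set.image_preimage_eq_inter_range, hcl]

/-- `W` meets an open `U` with `W ∩ U ⊆ range f`: then `W` is in the range. -/
theorem H4_icMap_range_of_open {f : Y → X} (hf : IsInducing f) (W : IrreducibleCloseds X)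
    (U : Set X) (hU : IsOpen U) (hne : ((W : Set X) ∩ U).Nonempty)
    (hsub : (W : Set X) ∩ U ⊆ Set.range f) : W ∈ Set.range (H4_icMap hf) := by
  rw [H4_icMap_range]
  refine (subset_closure_inter_of_isPreirreducible_of_isOpen W.isIrreducible.isPreirreducible hU
    hne).trans (closure_mono ?_)
  exact fun x hx => ⟨hx.1, hsub hx⟩

theorem H4_catSpace_of_homeomorph (e : Y ≃ₜ X) (hX : PtTop.IsCatenarySpace X) :
    PtTop.IsCatenarySpace Y := by
  rw [H4_isCatenarySpace_iff] at hX ⊢
  refine H4_catPoset_of_embedding (H4_icMap e.isInducing) (fun _ _ c _ _ => ?_) hX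
  rw [H4_icMap_range, e.surjective.range_eq, Set.inter_univ]
  exact subset_closure

theorem H4_catSpace_of_locallyClosed (hX : PtTop.IsCatenarySpace X) (S : Set X)
    (hS : IsLocallyClosed S) : PtTop.IsCatenarySpace S := by
  rw [H4_isCatenarySpace_iff] at hX ⊢
  refine H4_catPoset_of_embedding (H4_icMap (f := (Subtype.val : S → X)) IsInducing.subtypeVal)
    (fun a b c hac hcb => ?_) hX
  refine H4_icMap_range_of_open _ c (coborder S) hS.isOpen_coborder ?_ ?_
  · obtain ⟨y, hy⟩ := a.isIrreducible.nonempty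
    refine ⟨y.1, hac (subset_closure ⟨y, hy, rfl⟩), subset_coborder y.2⟩
  · rintro x ⟨hxc, hxU⟩
    have h1 : x ∈ closure S := by
      have : x ∈ closure (Subtype.val '' (b : Set S)) := hcb hxc
      exact closure_mono (by rintro _ ⟨y, -, rfl⟩; exact y.2) this
    have h2 : x ∈ S := by
      rw [← closure_inter_coborder (s := S)]; exact ⟨h1, hxU⟩
    rw [Subtype.range_coe]; exact h2

theorem H4_catSpace_of_open_cover
    (h : ∀ x : X, ∃ U : Opens X, x ∈ U ∧ PtTop.IsCatenarySpace U) : PtTop.IsCatenarySpace X := by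
  choose U hxU hU using h
  rw [H4_isCatenarySpace_iff]
  refine H4_catPoset_of_cover (ι := X) (fun x => IrreducibleCloseds (U x))
    (fun x => H4_icMap (f := (Subtype.val : U x → X)) IsInducing.subtypeVal) ?_ ?_
    (fun x => (H4_isCatenarySpace_iff _).1 (hU x))
  · intro x a c hac
    refine H4_icMap_range_of_open _ c (U x) (U x).isOpen ?_ ?_
    · obtain ⟨y, hy⟩ := a.isIrreducible.nonempty
      exact ⟨y.1, hac (subset_closure ⟨y, hy, rfl⟩), y.2⟩
    · rintro z ⟨-, hz⟩
      rw [Subtype.range_coe]; exact hz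
  · intro q
    obtain ⟨x, hx⟩ := q.isIrreducible.nonempty
    refine ⟨x, H4_icMap_range_of_open _ q (U x) (U x).isOpen ⟨x, hx, hxU x⟩ ?_⟩
    rintro z ⟨-, hz⟩
    rw [Subtype.range_coe]; exact hz

end Top

end Groth.Agent.H4
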