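import Mathlib
import Groth.Prelude.Def_W4stktopologysheavesDim
import Groth.Agent.Lib.helper4.CatSpace

set_option autoImplicit false
universe u v

namespace Groth.Agent.H4

open TopologicalSpace Topology AlgebraicGeometry CategoryTheory

theorem H4_isCatenary_iff_spec (R : Type u) [CommRing R] :
    CAlg.IsCatenary R ↔ PtTop.IsCatenarySpace (PrimeSpectrum R) := by
  rw [H4_isCatenarySpace_iff, H4_isCatenary_iff]
  constructor
  · intro h
    exact H4_catPoset_of_dual
      (H4_catPoset_of_orderIso (PrimeSpectrum.pointsEquivIrreducibleCloseds R).symm h)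
  · intro h
    exact H4_catPoset_of_orderIso (PrimeSpectrum.pointsEquivIrreducibleCloseds R)
      (H4_catPoset_dual h)

theorem H4_isCatenary_of_ringEquiv {A : Type u} {B : Type v} [CommRing A] [CommRing B]
    (e : A ≃+* B) (hB : H4_CatPoset (PrimeSpectrum B)) : H4_CatPoset (PrimeSpectrum A) :=
  H4_catPoset_of_orderIso (PrimeSpectrum.comapEquiv e) hB

theorem H4_isCatenary_of_localization_atPrime (R : Type u) [CommRing R]
    (h : ∀ p : PrimeSpectrum R, CAlg.IsCatenary (Localization.AtPrime p.asIdeal)) :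
    CAlg.IsCatenary R := by
  let e := fun p : PrimeSpectrum R =>
    IsLocalization.primeSpectrumOrderIso p.asIdeal.primeCompl (Localization.AtPrime p.asIdeal)
  refine H4_catPoset_of_cover_down (ι := PrimeSpectrum R)
    (fun p => PrimeSpectrum (Localization.AtPrime p.asIdeal))
    (fun p => (e p).toOrderEmbedding.trans (OrderEmbedding.subtype _)) ?_ ?_ h
  · intro p a c hca
    have ha : Disjoint (p.asIdeal.primeCompl : Set R) ((e p a) : PrimeSpectrum R).asIdeal :=
      (e p a).2
    have hc : Disjoint (p.asIdeal.primeCompl : Set R) c.asIdeal := ha.mono_right hca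
    refine ⟨(e p).symm ⟨c, hc⟩, ?_⟩
    show (((e p) ((e p).symm ⟨c, hc⟩)) : PrimeSpectrum R) = c
    rw [OrderIso.apply_symm_apply]
  · intro q
    have hc : Disjoint (q.asIdeal.primeCompl : Set R) q.asIdeal := by
      rw [Set.disjoint_left]
      intro x hx hx'
      exact hx hx'
    refine ⟨q, (e q).symm ⟨q, hc⟩, ?_⟩
    show (((e q) ((e q).symm ⟨q, hc⟩)) : PrimeSpectrum R) = q
    rw [OrderIso.apply_symm_apply]

theorem H4_affine_catSpace_iff (S : Scheme.{u}) (U : S.affineOpens) :
    PtTop.IsCatenarySpace ↥(U : S.Opens) ↔ CAlg.IsCatenary Γ(S, U) := by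
  have e : ↥(U : S.Opens) ≃ₜ PrimeSpectrum Γ(S, U) := Scheme.homeoOfIso U.2.isoSpec
  rw [H4_isCatenary_iff_spec]
  exact ⟨fun h => H4_catSpace_of_homeomorph e.symm h, fun h => H4_catSpace_of_homeomorph e h⟩

end Groth.Agent.H4
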