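import Mathlib

/-! Modules over a finite-dimensional simple algebra: classification by dimension, and the
endomorphism ring. -/

set_option autoImplicit false
set_option linter.style.haveILetI false
universe u v w

namespace Groth.Agent.H4

section

variable (k : Type u) [Field k] {T : Type v} [Ring T] [Algebra k T] [IsSimpleRing T]
  [FiniteDimensional k T]

/-- Over a f.d. simple algebra, a f.d. module `M` all of whose
simple submodules are `≅ S`: `M ≅ S^n` with `n * dim S = dim M`. -/
theorem H4_exists_equiv_fun (M : Type w) [AddCommGroup M] [Module T M] [Module k M]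
    [IsScalarTower k T M] [FiniteDimensional k M]
    (S : Type*) [AddCommGroup S] [Module T S] [Module k S] [IsScalarTower k T S]
    [FiniteDimensional k S]
    (h : IsIsotypicOfType T M S) :
    ∃ n : ℕ, Nonempty (M ≃ₗ[T] (Fin n → S)) ∧ Module.finrank k M = n * Module.finrank k S := by
  haveI : IsArtinianRing T := IsArtinianRing.of_finite k T
  haveI : Module.Finite T M := Module.Finite.of_restrictScalars_finite k T M
  obtain ⟨n, ⟨e⟩⟩ := h.linearEquiv_fun
  refine ⟨n, ⟨e⟩, ?_⟩
  have e' : M ≃ₗ[k] (Fin n → S) := e.restrictScalars k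
  rw [e'.finrank_eq, Module.finrank_pi_fintype]
  simp

/-- Two f.d. modules over a f.d. simple algebra with the same dimension are isomorphic. -/
theorem H4_linearEquiv_of_finrank_eq (M₁ M₂ : Type w) [AddCommGroup M₁] [Module T M₁] [Module k M₁]
    [IsScalarTower k T M₁] [FiniteDimensional k M₁] [AddCommGroup M₂] [Module T M₂] [Module k M₂]
    [IsScalarTower k T M₂] [FiniteDimensional k M₂]
    (hfin : Module.finrank k M₁ = Module.finrank k M₂) : Nonempty (M₁ ≃ₗ[T] M₂) := by
  haveI : IsArtinianRing T := IsArtinianRing.of_finite k T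
  by_cases htriv : Subsingleton M₁
  · have h0 : Module.finrank k M₁ = 0 := Module.finrank_zero_of_subsingleton
    rw [h0] at hfin
    haveI : Subsingleton M₂ := Module.finrank_zero_iff.1 hfin.symm
    exact ⟨LinearEquiv.ofSubsingleton M₁ M₂⟩
  · rw [not_subsingleton_iff_nontrivial] at htriv
    haveI : Nontrivial (M₁ × M₂) := inferInstance
    obtain ⟨S, hS⟩ := IsAtomic.exists_atom (Submodule T (M₁ × M₂))
    rw [← isSimpleModule_iff_isAtom] at hS
    have hiso : IsIsotypicOfType T (M₁ × M₂) S := IsSimpleRing.isIsotypic T (M₁ × M₂) S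
    have h1 : IsIsotypicOfType T M₁ S :=
      hiso.of_injective (LinearMap.inl T M₁ M₂) LinearMap.inl_injective
    have h2 : IsIsotypicOfType T M₂ S :=
      hiso.of_injective (LinearMap.inr T M₁ M₂) LinearMap.inr_injective
    haveI : FiniteDimensional k ↥S :=
      Module.Finite.of_injective (S.subtype.restrictScalars k) S.subtype_injective
    obtain ⟨n₁, ⟨e₁⟩, hn₁⟩ := H4_exists_equiv_fun k M₁ S h1
    obtain ⟨n₂, ⟨e₂⟩, hn₂⟩ := H4_exists_equiv_fun k M₂ S h2
    have hSpos : 0 < Module.finrank k S := by
      haveI : Nontrivial S := IsSimpleModule.nontrivial T S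
      exact Module.finrank_pos
    have hn : n₁ = n₂ := by
      rw [hn₁, hn₂] at hfin
      exact Nat.eq_of_mul_eq_mul_right hSpos hfin
    subst hn
    exact ⟨e₁.trans e₂.symm⟩

/-- The endomorphism ring of a nonzero f.d. module over a f.d. simple algebra is simple, and
`dim T * dim End_T(V) = (dim V)^2`. -/
theorem H4_end_simple (V : Type w) [AddCommGroup V] [Module T V] [Module k V]
    [IsScalarTower k T V] [FiniteDimensional k V] [Nontrivial V] :
    IsSimpleRing (Module.End T V) ∧
      Module.finrank k T * Module.finrank k (Module.End T V) = (Module.finrank k V) ^ 2 := by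
  classical
  haveI : IsArtinianRing T := IsArtinianRing.of_finite k T
  haveI : Nontrivial (T × V) := inferInstance
  obtain ⟨S, hS⟩ := IsAtomic.exists_atom (Submodule T (T × V))
  rw [← isSimpleModule_iff_isAtom] at hS
  haveI : IsSimpleModule T ↥S := hS
  have hiso : IsIsotypicOfType T (T × V) S := IsSimpleRing.isIsotypic T (T × V) S
  have hT : IsIsotypicOfType T T S :=
    hiso.of_injective (LinearMap.inl T T V) LinearMap.inl_injective
  have hV : IsIsotypicOfType T V S :=
    hiso.of_injective (LinearMap.inr T T V) LinearMap.inr_injective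
  haveI : FiniteDimensional k ↥S :=
    Module.Finite.of_injective (S.subtype.restrictScalars k) S.subtype_injective
  obtain ⟨n, ⟨eT⟩, hnT⟩ := H4_exists_equiv_fun k T S hT
  obtain ⟨r, ⟨eV⟩, hrV⟩ := H4_exists_equiv_fun k V S hV
  have hSpos : 0 < Module.finrank k S := by
    haveI : Nontrivial S := IsSimpleModule.nontrivial T S
    exact Module.finrank_pos
  have hr : r ≠ 0 := by
    rintro rfl
    have : 0 < Module.finrank k V := Module.finrank_pos
    rw [hrV] at this
    simp at this
  have hn : n ≠ 0 := by
    rintro rfl
    have : 0 < Module.finrank k T := Module.finrank_pos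
    rw [hnT] at this
    simp at this
  haveI : NeZero r := ⟨hr⟩
  haveI : Module.Free k (Module.End T S) :=
    @Module.Free.of_divisionRing k (Module.End T S) _ LinearMap.addCommGroup _
  haveI : IsSimpleRing (Module.End T S) := @DivisionRing.isSimpleRing _ Module.End.instDivisionRing
  let aV : Module.End T V ≃ₐ[k] Matrix (Fin r) (Fin r) (Module.End T S) :=
    (eV.conjAlgEquiv k).trans (endVecAlgEquivMatrixEnd (Fin r) k T S)
  let aT : Module.End T T ≃ₐ[k] Matrix (Fin n) (Fin n) (Module.End T S) :=
    (eT.conjAlgEquiv k).trans (endVecAlgEquivMatrixEnd (Fin n) k T S)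
  constructor
  · have : IsSimpleRing (Matrix (Fin r) (Fin r) (Module.End T S)) := inferInstance
    exact IsSimpleRing.of_ringEquiv aV.symm.toRingEquiv this
  · have h1 : Module.finrank k (Module.End T V) = r * r * Module.finrank k (Module.End T S) := by
      rw [aV.toLinearEquiv.finrank_eq, Module.finrank_matrix]
      simp
    have h2 : Module.finrank k (Module.End T T) = n * n * Module.finrank k (Module.End T S) := by
      rw [aT.toLinearEquiv.finrank_eq, Module.finrank_matrix]
      simp
    have h3 : Module.finrank k (Module.End T T) = Module.finrank k T := by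
      rw [← (AlgEquiv.moduleEndSelf k (A := T)).toLinearEquiv.finrank_eq]
      exact (MulOpposite.opLinearEquiv k (M := T)).symm.finrank_eq
    -- n * s = n * n * e  ⟹  s = n * e
    have h4 : Module.finrank k S = n * Module.finrank k (Module.End T S) := by
      have : n * Module.finrank k S = n * (n * Module.finrank k (Module.End T S)) := by
        rw [← hnT, ← h3, h2]; ring
      exact Nat.eq_of_mul_eq_mul_left (Nat.pos_of_ne_zero hn) this
    rw [h1, hrV, hnT, h4]
    ring

end

end Groth.Agent.H4
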