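import Mathlib
import Groth.Agent.Lib.helper4.SimpleMod

/-! Representations of a f.d. simple algebra on a fixed vector space are conjugate. -/

set_option autoImplicit false
set_option linter.style.haveILetI false
universe u v w

namespace Groth.Agent.H4

section Rep

variable {k : Type u} [Field k] {T : Type v} [Ring T] [Algebra k T]
  {V : Type w} [AddCommGroup V] [Module k V]

/-- The vector space `V` with the `T`-module structure given by `φ`. -/
@[nolint unusedArguments]
def H4Rep (_φ : T →ₐ[k] Module.End k V) : Type w := V

variable (φ : T →ₐ[k] Module.End k V)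

instance H4Rep.instACG : AddCommGroup (H4Rep φ) := inferInstanceAs (AddCommGroup V)
instance H4Rep.instModk : Module k (H4Rep φ) := inferInstanceAs (Module k V)
instance H4Rep.instModT : Module T (H4Rep φ) := Module.compHom V (φ : T →+* Module.End k V)

theorem H4Rep_smul_def (t : T) (v : H4Rep φ) : t • v = (φ t) (v : V) := rfl

instance H4Rep.instST : IsScalarTower k T (H4Rep φ) where
  smul_assoc c t v := by
    change (φ (c • t)) v = c • (φ t) v
    rw [map_smul]; rfl

instance H4Rep.instFD [FiniteDimensional k V] : FiniteDimensional k (H4Rep φ) :=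
  inferInstanceAs (FiniteDimensional k V)

theorem H4Rep_finrank : Module.finrank k (H4Rep φ) = Module.finrank k V := rfl

/-- The identity, as a `k`-linear equivalence `H4Rep φ ≃ V`. -/
def H4Rep.toV : H4Rep φ ≃ₗ[k] V := LinearEquiv.refl k V

theorem H4Rep.toV_smul (t : T) (v : H4Rep φ) : H4Rep.toV φ (t • v) = (φ t) (H4Rep.toV φ v) := rfl

theorem H4Rep.smul_symm (t : T) (v : V) :
    t • (H4Rep.toV φ).symm v = (H4Rep.toV φ).symm ((φ t) v) := rfl

end Rep

section Conj

variable {k : Type u} [Field k] {T : Type v} [Ring T] [Algebra k T] [IsSimpleRing T]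
  [FiniteDimensional k T] {V : Type w} [AddCommGroup V] [Module k V] [FiniteDimensional k V]

/-- Two representations of a f.d. simple algebra on the same f.d. space are conjugate. -/
theorem H4_rep_conj (φ ψ : T →ₐ[k] Module.End k V) :
    ∃ u : V ≃ₗ[k] V, ∀ (t : T) (v : V), u ((φ t) v) = (ψ t) (u v) := by
  have h := H4_linearEquiv_of_finrank_eq k (T := T) (H4Rep φ) (H4Rep ψ) rfl
  obtain ⟨e⟩ := h
  refine ⟨e.restrictScalars k, fun t v => ?_⟩
  exact e.map_smul t v

end Conj

end Groth.Agent.H4
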