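import Mathlib
import Groth.Agent.Lib.helper4.SimpleRep
import Groth.Agent.S0190

/-! The centralizer theorem for simple subalgebras of central simple algebras. -/

set_option autoImplicit false
set_option linter.style.haveILetI false
universe u v

open scoped TensorProduct

namespace Groth.Agent.H4

section

variable (k : Type u) [Field k] (A : Type v) [Ring A] [Algebra k A]
  (B : Subalgebra k A)

/-- The representation of `B ⊗ Aᵐᵒᵖ` on `A` by `b ⊗ a ↦ (x ↦ b x a)`. -/
noncomputable def H4cent_φ : (↥B ⊗[k] Aᵐᵒᵖ) →ₐ[k] Module.End k A :=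
  (AlgHom.mulLeftRight k A).comp (Algebra.TensorProduct.map B.val (AlgHom.id k Aᵐᵒᵖ))

theorem H4cent_φ_apply (b : ↥B) (a : A) (x : A) :
    H4cent_φ k A B (b ⊗ₜ[k] MulOpposite.op a) x = (b : A) * x * a := by
  simp only [H4cent_φ, AlgHom.comp_apply, Algebra.TensorProduct.map_tmul, AlgHom.id_apply,
    AlgHom.mulLeftRight_apply, MulOpposite.unop_op, Subalgebra.coe_val]

theorem H4cent_comm (c : ↥(Subalgebra.centralizer k (B : Set A))) (t : ↥B ⊗[k] Aᵐᵒᵖ) (x : A) :
    (c : A) * (H4cent_φ k A B t) x = (H4cent_φ k A B t) ((c : A) * x) := by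
  induction t using TensorProduct.induction_on with
  | zero => simp
  | tmul b a =>
    obtain ⟨a, rfl⟩ := MulOpposite.op_surjective a
    rw [H4cent_φ_apply, H4cent_φ_apply]
    have hcb : (b : A) * (c : A) = (c : A) * (b : A) := c.2 b b.2
    calc (c : A) * ((b : A) * x * a) = ((c : A) * (b : A)) * x * a := by
          simp only [mul_assoc]
      _ = ((b : A) * (c : A)) * x * a := by rw [hcb]
      _ = (b : A) * ((c : A) * x) * a := by simp only [mul_assoc]
  | add t₁ t₂ h₁ h₂ =>
    rw [map_add, LinearMap.add_apply, LinearMap.add_apply, mul_add, h₁, h₂]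

/-- Left multiplication by an element of the centralizer, as a `B ⊗ Aᵐᵒᵖ`-linear endomorphism. -/
noncomputable def H4cent_Φ :
    ↥(Subalgebra.centralizer k (B : Set A)) →ₐ[k]
      Module.End (↥B ⊗[k] Aᵐᵒᵖ) (H4Rep (H4cent_φ k A B)) where
  toFun c :=
    { toFun := fun x => (H4Rep.toV (H4cent_φ k A B)).symm
        ((c : A) * (H4Rep.toV (H4cent_φ k A B)) x)
      map_add' := fun x y => by
        rw [map_add, mul_add, map_add]
      map_smul' := by
        intro t x
        rw [H4Rep.toV_smul, RingHom.id_apply, H4Rep.smul_symm, H4cent_comm] }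
  map_one' := by
    ext x
    change (H4Rep.toV (H4cent_φ k A B)).symm ((1 : A) * (H4Rep.toV (H4cent_φ k A B)) x) = x
    rw [one_mul, LinearEquiv.symm_apply_apply]
  map_mul' c d := by
    ext x
    change (H4Rep.toV (H4cent_φ k A B)).symm (((c : A) * (d : A)) * (H4Rep.toV (H4cent_φ k A B)) x) =
      (H4Rep.toV (H4cent_φ k A B)).symm ((c : A) * (H4Rep.toV (H4cent_φ k A B))
        ((H4Rep.toV (H4cent_φ k A B)).symm ((d : A) * (H4Rep.toV (H4cent_φ k A B)) x)))
    rw [LinearEquiv.apply_symm_apply, mul_assoc]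
  map_zero' := by
    ext x
    change (H4Rep.toV (H4cent_φ k A B)).symm ((0 : A) * (H4Rep.toV (H4cent_φ k A B)) x) = 0
    rw [zero_mul, map_zero]
  map_add' c d := by
    ext x
    change (H4Rep.toV (H4cent_φ k A B)).symm (((c : A) + (d : A)) * (H4Rep.toV (H4cent_φ k A B)) x) =
      (H4Rep.toV (H4cent_φ k A B)).symm ((c : A) * (H4Rep.toV (H4cent_φ k A B)) x) +
      (H4Rep.toV (H4cent_φ k A B)).symm ((d : A) * (H4Rep.toV (H4cent_φ k A B)) x)
    rw [add_mul, map_add]
  commutes' r := by
    ext x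
    change (H4Rep.toV (H4cent_φ k A B)).symm ((algebraMap k A r) * (H4Rep.toV (H4cent_φ k A B)) x) =
      r • x
    rw [← Algebra.smul_def, map_smul, LinearEquiv.symm_apply_apply]

theorem H4cent_Φ_apply (c : ↥(Subalgebra.centralizer k (B : Set A)))
    (x : H4Rep (H4cent_φ k A B)) :
    (H4cent_Φ k A B c) x = (H4Rep.toV (H4cent_φ k A B)).symm
        ((c : A) * (H4Rep.toV (H4cent_φ k A B)) x) := rfl

theorem H4cent_Φ_bijective : Function.Bijective (H4cent_Φ k A B) := by
  set τ := H4Rep.toV (H4cent_φ k A B) with hτ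
  constructor
  · rw [injective_iff_map_eq_zero]
    intro c hc
    have := congrArg (fun g => τ (g (τ.symm (1 : A)))) hc
    simp only [H4cent_Φ_apply, LinearEquiv.apply_symm_apply, mul_one, LinearMap.zero_apply,
      map_zero, ← hτ] at this
    exact Subtype.ext this
  · intro g
    have hg : ∀ (t : ↥B ⊗[k] Aᵐᵒᵖ) (x : A),
        τ (g (τ.symm ((H4cent_φ k A B t) x))) = (H4cent_φ k A B t) (τ (g (τ.symm x))) := by
      intro t x
      rw [← H4Rep.smul_symm, g.map_smul, H4Rep.toV_smul]
    have hgx : ∀ x : A, τ (g (τ.symm x)) = τ (g (τ.symm 1)) * x := by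
      intro x
      have := hg ((1 : ↥B) ⊗ₜ[k] MulOpposite.op x) (1 : A)
      rw [H4cent_φ_apply, H4cent_φ_apply] at this
      simpa using this
    have hgb : ∀ b : ↥B, τ (g (τ.symm (b : A))) = (b : A) * τ (g (τ.symm 1)) := by
      intro b
      have := hg (b ⊗ₜ[k] MulOpposite.op (1 : A)) (1 : A)
      rw [H4cent_φ_apply, H4cent_φ_apply] at this
      simpa using this
    refine ⟨⟨τ (g (τ.symm 1)), ?_⟩, ?_⟩
    · intro b hb
      have h1 := hgb ⟨b, hb⟩
      have h2 := hgx b
      simp only at h1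
      rw [← h1, h2]
    · ext x
      rw [H4cent_Φ_apply]
      apply τ.injective
      rw [LinearEquiv.apply_symm_apply]
      have := hgx (τ x)
      rw [LinearEquiv.symm_apply_apply] at this
      exact this.symm

end

section Main

variable (k : Type u) [Field k] (A : Type v) [Ring A] [Algebra k A]
  [Algebra.IsCentral k A] [IsSimpleRing A] [FiniteDimensional k A]
  (B : Subalgebra k A) [IsSimpleRing B]

theorem H4_centralizer_main :
    IsSimpleRing (Subalgebra.centralizer k (B : Set A)) ∧
      Module.finrank k A =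
        Module.finrank k B * Module.finrank k (Subalgebra.centralizer k (B : Set A)) := by
  classical
  haveI : IsSimpleRing (↥B ⊗[k] Aᵐᵒᵖ) := Groth.Agent.S0190.result k (↥B) Aᵐᵒᵖ
  haveI : Nontrivial (H4Rep (H4cent_φ k A B)) := inferInstanceAs (Nontrivial A)
  obtain ⟨hsimple, hdim⟩ := H4_end_simple k (T := ↥B ⊗[k] Aᵐᵒᵖ) (H4Rep (H4cent_φ k A B))
  let e : ↥(Subalgebra.centralizer k (B : Set A)) ≃ₐ[k]
      Module.End (↥B ⊗[k] Aᵐᵒᵖ) (H4Rep (H4cent_φ k A B)) :=
    AlgEquiv.ofBijective (H4cent_Φ k A B) (H4cent_Φ_bijective k A B)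
  constructor
  · exact IsSimpleRing.of_ringEquiv e.symm.toRingEquiv hsimple
  · have h1 : Module.finrank k (↥B ⊗[k] Aᵐᵒᵖ) = Module.finrank k B * Module.finrank k A := by
      rw [Module.finrank_tensorProduct]
      congr 1
      exact (MulOpposite.opLinearEquiv k (M := A)).symm.finrank_eq
    have h2 : Module.finrank k (Module.End (↥B ⊗[k] Aᵐᵒᵖ) (H4Rep (H4cent_φ k A B))) =
        Module.finrank k (Subalgebra.centralizer k (B : Set A)) :=
      e.toLinearEquiv.finrank_eq.symm
    have h3 : Module.finrank k (H4Rep (H4cent_φ k A B)) = Module.finrank k A := rfl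
    rw [h1, h2, h3] at hdim
    have hpos : 0 < Module.finrank k A := Module.finrank_pos
    have : Module.finrank k A * (Module.finrank k B *
        Module.finrank k (Subalgebra.centralizer k (B : Set A))) =
        Module.finrank k A * Module.finrank k A := by
      rw [← sq, ← hdim]; ring
    exact (Nat.eq_of_mul_eq_mul_left hpos this).symm

end Main

end Groth.Agent.H4
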