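import Mathlib
import Groth.Prelude.Def_W4stktopologysheavesDim

set_option autoImplicit false
universe u

open TopologicalSpace

namespace H4

variable {X : Type u} [TopologicalSpace X]

theorem H4_le_codim (Y : IrreducibleCloseds X) (T : Set X) (s : LTSeries (IrreducibleCloseds X))
    (h1 : s.head = Y) (h2 : (s.last : Set X) ⊆ T) : (s.length : ℕ∞) ≤ PtTop.codim Y T := by
  unfold PtTop.codim
  exact le_iSup₂_of_le s ⟨h1, h2⟩ le_rfl

theorem H4_codim_le (Y : IrreducibleCloseds X) (T : Set X) (n : ℕ∞)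
    (h : ∀ s : LTSeries (IrreducibleCloseds X), s.head = Y → (s.last : Set X) ⊆ T →
      (s.length : ℕ∞) ≤ n) : PtTop.codim Y T ≤ n :=
  iSup₂_le (fun s hs => h s hs.1 hs.2)

theorem H4_codim_attained (Y : IrreducibleCloseds X) (T : Set X) (hYT : (Y : Set X) ⊆ T)
    (hfin : PtTop.codim Y T ≠ ⊤) :
    ∃ s : LTSeries (IrreducibleCloseds X), s.head = Y ∧ (s.last : Set X) ⊆ T ∧
      (s.length : ℕ∞) = PtTop.codim Y T := by
  have hne : Nonempty {s : LTSeries (IrreducibleCloseds X) // s.head = Y ∧ (s.last : Set X) ⊆ T} :=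
    ⟨⟨RelSeries.singleton _ Y, by simp, by simpa using hYT⟩⟩
  have heq : PtTop.codim Y T = ⨆ s : {s : LTSeries (IrreducibleCloseds X) //
      s.head = Y ∧ (s.last : Set X) ⊆ T}, (s.1.length : ℕ∞) := by
    unfold PtTop.codim
    rw [iSup_subtype']
  have hlt : (⨆ s : {s : LTSeries (IrreducibleCloseds X) //
      s.head = Y ∧ (s.last : Set X) ⊆ T}, (s.1.length : ℕ∞)) < ⊤ := by
    rw [← heq]; exact lt_top_iff_ne_top.2 hfin
  obtain ⟨s, hs⟩ := ENat.exists_eq_iSup_of_lt_top hlt
  exact ⟨s.1, s.2.1, s.2.2, by rw [heq]; exact hs⟩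

/-- A chain of maximal length ends at the top. -/
theorem H4_max_chain_last (Y Y' : IrreducibleCloseds X) (s : LTSeries (IrreducibleCloseds X))
    (h1 : s.head = Y) (h2 : (s.last : Set X) ⊆ (Y' : Set X))
    (h3 : (s.length : ℕ∞) = PtTop.codim Y (Y' : Set X)) : s.last = Y' := by
  by_contra hne
  have hlt : s.last < Y' := lt_of_le_of_ne (SetLike.coe_subset_coe.1 h2) hne
  have := H4_le_codim Y (Y' : Set X) (s.snoc Y' hlt) (by simp [h1]) (by simp)
  rw [← h3] at this
  simp only [RelSeries.snoc_length, Nat.cast_add, Nat.cast_one] at this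
  exact absurd this (by
    rw [not_le]
    exact_mod_cast Nat.lt_succ_self s.length)

/-- A chain of maximal length is saturated. -/
theorem H4_max_chain_sat (Y : IrreducibleCloseds X) (T : Set X)
    (s : LTSeries (IrreducibleCloseds X))
    (h1 : s.head = Y) (h2 : (s.last : Set X) ⊆ T)
    (h3 : (s.length : ℕ∞) = PtTop.codim Y T) (i : Fin s.length) :
    s (Fin.castSucc i) ⋖ s (Fin.succ i) := by
  by_contra hcov
  have hlt : s (Fin.castSucc i) < s (Fin.succ i) := s.step i
  rw [not_covBy_iff hlt] at hcov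
  obtain ⟨Z, hZ1, hZ2⟩ := hcov
  let s' : LTSeries (IrreducibleCloseds X) := s.insertNth i Z hZ1 hZ2
  have hhead : s'.head = Y := by
    rw [← h1]
    change Fin.insertNth (α := fun _ => IrreducibleCloseds X) (Fin.castSucc i.succ) Z s 0 = s 0
    rw [Fin.insertNth_apply_below (h := by
      rw [Fin.lt_def]; simp)]
    simp
  have hlast : s'.last = s.last := by
    change Fin.insertNth (α := fun _ => IrreducibleCloseds X) (Fin.castSucc i.succ) Z s (Fin.last _) = s (Fin.last _)
    rw [Fin.insertNth_apply_above (h := by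
      rw [Fin.lt_def]; simp)]
    simp only [eq_rec_constant]
    congr 1
  have := H4_le_codim Y T s' hhead (by rw [hlast]; exact h2)
  rw [← h3] at this
  have hlen : s'.length = s.length + 1 := rfl
  rw [hlen] at this
  exact absurd this (by
    rw [not_le]
    exact_mod_cast Nat.lt_succ_self s.length)

theorem H4_exists_sat_chain (Y Y' : IrreducibleCloseds X) (hle : Y ≤ Y')
    (hfin : PtTop.codim Y (Y' : Set X) ≠ ⊤) :
    ∃ s : LTSeries (IrreducibleCloseds X), s.head = Y ∧ s.last = Y' ∧
      (∀ i : Fin s.length, s (Fin.castSucc i) ⋖ s (Fin.succ i)) ∧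
      (s.length : ℕ∞) = PtTop.codim Y (Y' : Set X) := by
  obtain ⟨s, h1, h2, h3⟩ := H4_codim_attained Y (Y' : Set X) (SetLike.coe_subset_coe.2 hle) hfin
  exact ⟨s, h1, H4_max_chain_last Y Y' s h1 h2 h3, H4_max_chain_sat Y _ s h1 h2 h3, h3⟩

theorem H4_codim_self (T : IrreducibleCloseds X) : PtTop.codim T (T : Set X) = 0 := by
  apply le_antisymm _ zero_le
  apply H4_codim_le
  intro s h1 h2
  by_contra hlen
  have hpos : 0 < s.length := by
    by_contra h0
    apply hlen
    have : s.length = 0 := by omega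
    rw [this]; simp
  have h01 : s.head < s.last := s.strictMono (by
    rw [Fin.lt_def]; simpa using hpos)
  have : s.last ≤ s.head := by rw [h1]; exact SetLike.coe_subset_coe.1 h2
  exact absurd h01 (not_lt_of_ge this)

theorem H4_codim_covBy (T T' : IrreducibleCloseds X) (h : T ⋖ T') :
    PtTop.codim T (T' : Set X) = 1 := by
  apply le_antisymm
  · apply H4_codim_le
    intro s h1 h2
    by_contra hlen
    have h2' : 2 ≤ s.length := by
      by_contra h0
      apply hlen
      have : s.length ≤ 1 := by omega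
      exact_mod_cast this
    have hlast : s.last ≤ T' := SetLike.coe_subset_coe.1 h2
    have ha : s.head < s ⟨1, by omega⟩ := s.strictMono (by rw [Fin.lt_def]; simp)
    have hb : s ⟨1, by omega⟩ < s.last := s.strictMono (by
      rw [Fin.lt_def]; simp; omega)
    rw [h1] at ha
    exact h.2 ha (lt_of_lt_of_le hb hlast)
  · have := H4_le_codim T (T' : Set X) ((RelSeries.singleton _ T).snoc T' (by simpa using h.1))
      (by simp) (by simp)
    simpa using this

theorem H4_smash_sat (p q : LTSeries (IrreducibleCloseds X)) (h : p.last = q.head)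
    (hp : ∀ i : Fin p.length, p (Fin.castSucc i) ⋖ p (Fin.succ i))
    (hq : ∀ i : Fin q.length, q (Fin.castSucc i) ⋖ q (Fin.succ i)) :
    ∀ i : Fin (p.smash q h).length,
      (p.smash q h) (Fin.castSucc i) ⋖ (p.smash q h) (Fin.succ i) := by
  show ∀ i : Fin (p.length + q.length),
    (p.smash q h) (Fin.castSucc i) ⋖ (p.smash q h) (Fin.succ i)
  apply Fin.addCases <;> intro i
  · have e1 : (p.smash q h) (Fin.castSucc (Fin.castAdd q.length i)) = p (Fin.castSucc i) :=
      RelSeries.smash_castAdd h i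
    have e2 : (p.smash q h) (Fin.succ (Fin.castAdd q.length i)) = p (Fin.succ i) :=
      RelSeries.smash_succ_castAdd h i
    have := hp i
    rw [← e1, ← e2] at this
    exact this
  · have e1 : (p.smash q h) (Fin.castSucc (Fin.natAdd p.length i)) = q (Fin.castSucc i) :=
      RelSeries.smash_natAdd h i
    have e2 : (p.smash q h) (Fin.succ (Fin.natAdd p.length i)) = q (Fin.succ i) :=
      RelSeries.smash_succ_natAdd h i
    have := hq i
    rw [← e1, ← e2] at this
    exact this

section DimFun

variable [QuasiSober X] [T0Space X]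

/-- generic point of an irreducible closed set -/
noncomputable def H4_gp (T : IrreducibleCloseds X) : X := T.isIrreducible.genericPoint

theorem H4_gp_closure (T : IrreducibleCloseds X) : closure ({H4_gp T} : Set X) = (T : Set X) :=
  T.isIrreducible.closure_genericPoint T.isClosed

theorem H4_gp_specializes {T T' : IrreducibleCloseds X} (h : T ≤ T') : H4_gp T' ⤳ H4_gp T := by
  rw [specializes_iff_closure_subset, H4_gp_closure, H4_gp_closure]
  exact SetLike.coe_subset_coe.2 h

theorem H4_gp_ne {T T' : IrreducibleCloseds X} (h : T < T') : H4_gp T' ≠ H4_gp T := by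
  intro he
  have : (T' : Set X) = (T : Set X) := by rw [← H4_gp_closure, ← H4_gp_closure, he]
  exact h.ne (IrreducibleCloseds.ext this).symm

theorem H4_gp_closure_singleton (x : X) :
    H4_gp (⟨closure {x}, isIrreducible_singleton.closure, isClosed_closure⟩ :
      IrreducibleCloseds X) = x := by
  have h1 : IsGenericPoint (H4_gp (⟨closure {x}, isIrreducible_singleton.closure,
      isClosed_closure⟩ : IrreducibleCloseds X)) (closure ({x} : Set X)) := H4_gp_closure _
  exact h1.eq isGenericPoint_closure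

theorem H4_gp_immediate {T T' : IrreducibleCloseds X} (h : T ⋖ T') :
    PtTop.IsImmediateSpecialization (H4_gp T') (H4_gp T) := by
  refine ⟨H4_gp_specializes h.1.le, H4_gp_ne h.1, ?_⟩
  intro z hz1 hz2
  let Z : IrreducibleCloseds X := ⟨closure {z}, isIrreducible_singleton.closure, isClosed_closure⟩
  have hTZ : T ≤ Z := by
    rw [← SetLike.coe_subset_coe, ← H4_gp_closure T]
    exact specializes_iff_closure_subset.1 hz2
  have hZT' : Z ≤ T' := by
    rw [← SetLike.coe_subset_coe, ← H4_gp_closure T']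
    exact specializes_iff_closure_subset.1 hz1
  have hZgp : H4_gp Z = z := H4_gp_closure_singleton z
  rcases h.eq_or_eq hTZ hZT' with h1 | h1
  · right; rw [← hZgp, h1]
  · left; rw [← hZgp, h1]

variable (δ : X → ℤ) (hδ : PtTop.IsDimensionFunction δ)

include hδ

theorem H4_dimfun_strictMono : StrictMono (fun T : IrreducibleCloseds X => δ (H4_gp T)) := by
  intro T T' h
  exact hδ.1 _ _ (H4_gp_specializes h.le) (H4_gp_ne h)

theorem H4_dimfun_chain_le (s : LTSeries (IrreducibleCloseds X)) :
    δ (H4_gp s.head) + s.length ≤ δ (H4_gp s.last) := by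
  have := LTSeries.head_add_length_le_int (s.map _ (H4_dimfun_strictMono δ hδ))
  simpa using this

theorem H4_dimfun_sat_chain (s : LTSeries (IrreducibleCloseds X))
    (hsat : ∀ i : Fin s.length, s (Fin.castSucc i) ⋖ s (Fin.succ i)) :
    δ (H4_gp s.last) = δ (H4_gp s.head) + s.length := by
  have key : ∀ k : ℕ, ∀ hk : k < s.length + 1, δ (H4_gp (s ⟨k, hk⟩)) = δ (H4_gp (s 0)) + k := by
    intro k
    induction k with
    | zero => intro hk; simp
    | succ k ih =>
      intro hk
      have hk' : k < s.length + 1 := by omega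
      have hcov : s ⟨k, hk'⟩ ⋖ s ⟨k + 1, hk⟩ := hsat ⟨k, by omega⟩
      rw [hδ.2 _ _ (H4_gp_immediate hcov), ih hk']
      push_cast
      ring
  exact key s.length (by omega)

theorem H4_dimfun_codim_le (T T' : IrreducibleCloseds X) :
    PtTop.codim T (T' : Set X) ≤ ((δ (H4_gp T') - δ (H4_gp T)).toNat : ℕ∞) := by
  apply H4_codim_le
  intro s h1 h2
  have hle : s.last ≤ T' := SetLike.coe_subset_coe.1 h2
  have h3 := H4_dimfun_chain_le δ hδ s
  have h4 : δ (H4_gp s.last) ≤ δ (H4_gp T') := (H4_dimfun_strictMono δ hδ).monotone hle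
  rw [h1] at h3
  have : s.length ≤ (δ (H4_gp T') - δ (H4_gp T)).toNat := by omega
  exact_mod_cast this

theorem H4_dimfun_codim_eq (T T' : IrreducibleCloseds X) (h : T ≤ T') :
    PtTop.codim T (T' : Set X) = ((δ (H4_gp T') - δ (H4_gp T)).toNat : ℕ∞) := by
  have hfin : PtTop.codim T (T' : Set X) ≠ ⊤ :=
    ne_top_of_le_ne_top (ENat.natCast_ne_top _) (H4_dimfun_codim_le δ hδ T T')
  obtain ⟨s, h1, h2, h3, h4⟩ := H4_exists_sat_chain T T' h hfin
  have h5 := H4_dimfun_sat_chain δ hδ s h3
  rw [h1, h2] at h5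
  rw [← h4]
  have : s.length = (δ (H4_gp T') - δ (H4_gp T)).toNat := by omega
  exact_mod_cast this

theorem H4_dimfun_catenary : PtTop.IsCatenarySpace X := by
  intro T T' h
  refine ⟨ne_top_of_le_ne_top (ENat.natCast_ne_top _) (H4_dimfun_codim_le δ hδ T T'), ?_⟩
  intro s h1 h2 h3
  rw [H4_dimfun_codim_eq δ hδ T T' h]
  have h5 := H4_dimfun_sat_chain δ hδ s h3
  rw [h1, h2] at h5
  have : s.length = (δ (H4_gp T') - δ (H4_gp T)).toNat := by omega
  exact_mod_cast this

end DimFun

end H4
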