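import Mathlib
import Groth.Prelude.Def_HopfRep
import Groth.Prelude.Def_Hoch

set_option autoImplicit false
set_option linter.unusedSectionVars false
universe u v w w'
open scoped TensorProduct

namespace Groth.Agent.H4

section Comod
variable {k : Type u} {C : Type v} [Field k] [AddCommGroup C] [Module k C] [Coalgebra k C]
variable {V : Type w} [AddCommGroup V] [Module k V]

/-- coefficient extraction of `x : V ⊗ C` with respect to a chosen basis of `C`. -/
noncomputable def H4_coef (x : V ⊗[k] C) : (Module.Basis.ofVectorSpaceIndex k C) →₀ V :=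
  by classical exact TensorProduct.equivFinsuppOfBasisRight (M := V) (Module.Basis.ofVectorSpace k C) x

theorem H4_coef_tmul (m : V) (a : C) (i : Module.Basis.ofVectorSpaceIndex k C) :
    H4_coef (k := k) (m ⊗ₜ[k] a) i = (Module.Basis.ofVectorSpace k C).repr a i • m := by
  classical
  unfold H4_coef
  exact TensorProduct.equivFinsuppOfBasisRight_apply_tmul_apply _ m a i

theorem H4_coef_add (x y : V ⊗[k] C) : H4_coef (k := k) (x + y) = H4_coef x + H4_coef y := by
  classical
  unfold H4_coef
  exact map_add _ x y

theorem H4_coef_zero : H4_coef (k := k) (0 : V ⊗[k] C) = 0 := by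
  classical
  unfold H4_coef
  exact map_zero _

theorem H4_coef_expand (x : V ⊗[k] C) :
    x = (H4_coef x).sum fun i m => m ⊗ₜ[k] (Module.Basis.ofVectorSpace k C i) := by
  classical
  have := TensorProduct.equivFinsuppOfBasisRight_symm_apply (M := V)
    (Module.Basis.ofVectorSpace k C) (H4_coef x)
  rw [← this]
  unfold H4_coef
  exact ((TensorProduct.equivFinsuppOfBasisRight (M := V)
    (Module.Basis.ofVectorSpace k C)).symm_apply_apply x).symm

theorem H4_coef_nat {V' : Type w'} [AddCommGroup V'] [Module k V'] (g : V →ₗ[k] V')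
    (x : V ⊗[k] C) (i : Module.Basis.ofVectorSpaceIndex k C) :
    H4_coef (k := k) (g.rTensor C x) i = g (H4_coef x i) := by
  induction x using TensorProduct.induction_on with
  | zero => simp [H4_coef_zero]
  | tmul m a => rw [LinearMap.rTensor_tmul, H4_coef_tmul, H4_coef_tmul, map_smul]
  | add x y hx hy => simp only [map_add, H4_coef_add, Finsupp.add_apply, hx, hy]

theorem H4_mem_range_rTensor_iff (W : Submodule k V) (x : V ⊗[k] C) :
    x ∈ LinearMap.range (W.subtype.rTensor C) ↔ ∀ i, H4_coef (k := k) x i ∈ W := by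
  constructor
  · rintro ⟨y, rfl⟩ i
    rw [H4_coef_nat]
    exact (H4_coef y i).2
  · intro h
    rw [H4_coef_expand x, Finsupp.sum]
    refine Submodule.sum_mem _ fun i _ => ?_
    exact ⟨(⟨H4_coef x i, h i⟩ : W) ⊗ₜ[k] (Module.Basis.ofVectorSpace k C i), by simp⟩

variable [HopfRep.Comod k C V]

theorem H4_isSubcomod_iff (W : Submodule k V) :
    HopfRep.IsSubcomod (k := k) (A := C) W ↔
      ∀ w ∈ W, ∀ i, H4_coef (k := k) (HopfRep.Comod.coact (k := k) (A := C) w) i ∈ W := by
  unfold HopfRep.IsSubcomod
  simp only [H4_mem_range_rTensor_iff]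

theorem H4_isSubcomod_inf (W₁ W₂ : Submodule k V)
    (h₁ : HopfRep.IsSubcomod (k := k) (A := C) W₁) (h₂ : HopfRep.IsSubcomod (k := k) (A := C) W₂) :
    HopfRep.IsSubcomod (k := k) (A := C) (W₁ ⊓ W₂) := by
  rw [H4_isSubcomod_iff] at *
  intro w hw i
  exact ⟨h₁ w hw.1 i, h₂ w hw.2 i⟩

theorem H4_isSubcomod_bot : HopfRep.IsSubcomod (k := k) (A := C) (⊥ : Submodule k V) := by
  rw [H4_isSubcomod_iff]
  intro w hw i
  rw [(Submodule.mem_bot k).1 hw, map_zero, H4_coef_zero]
  exact Submodule.zero_mem _

theorem H4_isSubcomod_top : HopfRep.IsSubcomod (k := k) (A := C) (⊤ : Submodule k V) := by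
  rw [H4_isSubcomod_iff]
  intro w _ i
  exact Submodule.mem_top

theorem H4_isSubcomod_sSup (s : Set (Submodule k V))
    (h : ∀ W ∈ s, HopfRep.IsSubcomod (k := k) (A := C) W) :
    HopfRep.IsSubcomod (k := k) (A := C) (sSup s) := by
  rw [H4_isSubcomod_iff]
  intro w hw i
  have : sSup s ≤ (sSup s).comap
      ((Finsupp.lapply i).comp ((show (V ⊗[k] C) →ₗ[k] _ from
        { toFun := fun x => H4_coef (k := k) x
          map_add' := H4_coef_add
          map_smul' := by
            classical
            intro c x
            unfold H4_coef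
            exact map_smul _ c x }).comp (HopfRep.Comod.coact (k := k) (A := C)))) := by
    rw [sSup_le_iff]
    intro W hW x hx
    rw [Submodule.mem_comap]
    exact (le_sSup hW : W ≤ sSup s) ((H4_isSubcomod_iff W).1 (h W hW) x hx i)
  exact this hw

theorem H4_isSubcomod_sup (W₁ W₂ : Submodule k V)
    (h₁ : HopfRep.IsSubcomod (k := k) (A := C) W₁) (h₂ : HopfRep.IsSubcomod (k := k) (A := C) W₂) :
    HopfRep.IsSubcomod (k := k) (A := C) (W₁ ⊔ W₂) := by
  rw [← sSup_pair]
  apply H4_isSubcomod_sSup
  rintro W (rfl | rfl)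
  · exact h₁
  · exact h₂

theorem H4_isSubcomod_ker {V' : Type w'} [AddCommGroup V'] [Module k V'] [HopfRep.Comod k C V']
    (α : V →ₗ[k] V') (hα : Hoch.IsComodHom C α) :
    HopfRep.IsSubcomod (k := k) (A := C) (LinearMap.ker α) := by
  rw [H4_isSubcomod_iff]
  intro w hw i
  rw [LinearMap.mem_ker] at hw ⊢
  rw [← H4_coef_nat]
  have := LinearMap.congr_fun hα w
  simp only [LinearMap.comp_apply] at this
  rw [← this, hw, map_zero, H4_coef_zero]
  rfl

end Comod

section LCoef
variable {k : Type u} [Field k] {V : Type w} [AddCommGroup V] [Module k V]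
variable {C : Type v} [AddCommGroup C] [Module k C]

/-- coefficients of `x : V ⊗ C` with respect to a chosen basis of `V` (on the left). -/
noncomputable def H4_lcoef (x : V ⊗[k] C) : (Module.Basis.ofVectorSpaceIndex k V) →₀ C :=
  by classical exact TensorProduct.equivFinsuppOfBasisLeft (N := C) (Module.Basis.ofVectorSpace k V) x

theorem H4_lcoef_tmul (m : V) (a : C) (i : Module.Basis.ofVectorSpaceIndex k V) :
    H4_lcoef (k := k) (m ⊗ₜ[k] a) i = (Module.Basis.ofVectorSpace k V).repr m i • a := by
  classical
  unfold H4_lcoef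
  exact TensorProduct.equivFinsuppOfBasisLeft_apply_tmul_apply _ m a i

theorem H4_lcoef_add (x y : V ⊗[k] C) : H4_lcoef (k := k) (x + y) = H4_lcoef x + H4_lcoef y := by
  classical
  unfold H4_lcoef
  exact map_add _ x y

theorem H4_lcoef_zero : H4_lcoef (k := k) (0 : V ⊗[k] C) = 0 := by
  classical
  unfold H4_lcoef
  exact map_zero _

theorem H4_lcoef_eq_zero (x : V ⊗[k] C) (h : H4_lcoef (k := k) x = 0) : x = 0 := by
  classical
  unfold H4_lcoef at h
  exact (LinearEquiv.map_eq_zero_iff _).1 h

theorem H4_lcoef_nat {C' : Type w'} [AddCommGroup C'] [Module k C'] (g : C →ₗ[k] C')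
    (x : V ⊗[k] C) (i : Module.Basis.ofVectorSpaceIndex k V) :
    H4_lcoef (k := k) (g.lTensor V x) i = g (H4_lcoef x i) := by
  induction x using TensorProduct.induction_on with
  | zero => simp [H4_lcoef_zero]
  | tmul m a => rw [LinearMap.lTensor_tmul, H4_lcoef_tmul, H4_lcoef_tmul, map_smul]
  | add x y hx hy => simp only [map_add, H4_lcoef_add, Finsupp.add_apply, hx, hy]

end LCoef

section Quot
variable {k : Type u} {C : Type v} [Field k] [AddCommGroup C] [Module k C] [Coalgebra k C]
variable {V : Type w} [AddCommGroup V] [Module k V] [HopfRep.Comod k C V]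

/-- coaction on the quotient by a subcomodule -/
noncomputable def H4_quotCoact (W : Submodule k V) (hW : HopfRep.IsSubcomod (k := k) (A := C) W) :
    (V ⧸ W) →ₗ[k] (V ⧸ W) ⊗[k] C :=
  W.liftQ (W.mkQ.rTensor C ∘ₗ HopfRep.Comod.coact (k := k) (A := C)) (by
    intro w hw
    rw [LinearMap.mem_ker, LinearMap.comp_apply]
    obtain ⟨y, hy⟩ := hW w hw
    rw [← hy, ← LinearMap.comp_apply, ← LinearMap.rTensor_comp]
    have : W.mkQ ∘ₗ W.subtype = 0 := by ext; simp
    rw [this, LinearMap.rTensor_zero]; rfl)

theorem H4_quotCoact_mk (W : Submodule k V) (hW : HopfRep.IsSubcomod (k := k) (A := C) W) (v : V) :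
    H4_quotCoact W hW (W.mkQ v) = W.mkQ.rTensor C (HopfRep.Comod.coact (k := k) (A := C) v) := rfl

/-- the quotient comodule -/
@[reducible] noncomputable def H4_quotComod (W : Submodule k V)
    (hW : HopfRep.IsSubcomod (k := k) (A := C) W) : HopfRep.Comod k C (V ⧸ W) where
  coact := H4_quotCoact W hW
  coassoc := by
    apply Submodule.linearMap_qext
    ext v
    simp only [LinearMap.comp_apply, LinearEquiv.coe_coe]
    rw [H4_quotCoact_mk]
    have hco := LinearMap.congr_fun (HopfRep.Comod.coassoc (k := k) (A := C) (V := V)) v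
    simp only [LinearMap.comp_apply, LinearEquiv.coe_coe] at hco
    have e0 : ∀ (u : V ⊗[k] C) (c : C), (TensorProduct.assoc k (V ⧸ W) C C)
        ((W.mkQ.rTensor C u) ⊗ₜ[k] c) = W.mkQ.rTensor (C ⊗[k] C) ((TensorProduct.assoc k V C C) (u ⊗ₜ[k] c)) := by
      intro u c
      induction u using TensorProduct.induction_on with
      | zero => simp
      | tmul m c' => simp
      | add x y hx hy => simp only [TensorProduct.add_tmul, map_add, hx, hy]
    have e1 : ∀ x : V ⊗[k] C, (TensorProduct.assoc k (V ⧸ W) C C)
        ((H4_quotCoact W hW).rTensor C (W.mkQ.rTensor C x))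
        = W.mkQ.rTensor (C ⊗[k] C) ((TensorProduct.assoc k V C C)
          ((HopfRep.Comod.coact (k := k) (A := C)).rTensor C x)) := by
      intro x
      induction x using TensorProduct.induction_on with
      | zero => simp
      | tmul m c =>
        rw [LinearMap.rTensor_tmul, LinearMap.rTensor_tmul, LinearMap.rTensor_tmul, H4_quotCoact_mk, e0]
      | add x y hx hy => simp only [map_add, hx, hy]
    have e2 : ∀ x : V ⊗[k] C, W.mkQ.rTensor (C ⊗[k] C)
        ((CoalgebraStruct.comul (R := k) (A := C)).lTensor V x)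
        = (CoalgebraStruct.comul (R := k) (A := C)).lTensor (V ⧸ W) (W.mkQ.rTensor C x) := by
      intro x
      induction x using TensorProduct.induction_on with
      | zero => simp
      | tmul m c => simp
      | add x y hx hy => simp only [map_add, hx, hy]
    rw [e1, hco, e2]
  counit_comp := by
    apply Submodule.linearMap_qext
    ext v
    simp only [LinearMap.comp_apply, LinearMap.flip_apply, TensorProduct.mk_apply]
    rw [H4_quotCoact_mk]
    have hcu := LinearMap.congr_fun (HopfRep.Comod.counit_comp (k := k) (A := C) (V := V)) v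
    simp only [LinearMap.comp_apply, LinearMap.flip_apply, TensorProduct.mk_apply] at hcu
    have e3 : ∀ x : V ⊗[k] C, (CoalgebraStruct.counit (R := k) (A := C)).lTensor (V ⧸ W)
        (W.mkQ.rTensor C x) = W.mkQ.rTensor k ((CoalgebraStruct.counit (R := k) (A := C)).lTensor V x) := by
      intro x
      induction x using TensorProduct.induction_on with
      | zero => simp
      | tmul m c => simp
      | add x y hx hy => simp only [map_add, hx, hy]
    rw [e3, hcu, LinearMap.rTensor_tmul]

/-- preimage of a subcomodule of the quotient is a subcomodule -/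
theorem H4_isSubcomod_comap_mkQ (W : Submodule k V) (hW : HopfRep.IsSubcomod (k := k) (A := C) W)
    (F : Submodule k (V ⧸ W))
    (hF : @HopfRep.IsSubcomod k C _ _ _ _ (V ⧸ W) _ _ (H4_quotComod W hW) F) :
    HopfRep.IsSubcomod (k := k) (A := C) (F.comap W.mkQ) := by
  rw [H4_isSubcomod_iff]
  intro v hv i
  rw [Submodule.mem_comap] at hv ⊢
  rw [← H4_coef_nat, ← H4_quotCoact_mk W hW]
  letI := H4_quotComod W hW
  exact (H4_isSubcomod_iff F).1 hF _ hv i

end Quot

section Pull
variable {k : Type u} [CommRing k] {A : Type v} {B : Type v} [Ring A] [Ring B] [Bialgebra k A] [Bialgebra k B]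
variable {V : Type w} [AddCommGroup V] [Module k V]

/-- restriction of a `B`-comodule along a bialgebra map `f : B → A` -/
@[reducible] noncomputable def H4_pullComod (f : B →ₐc[k] A) [inst : HopfRep.Comod k B V] :
    HopfRep.Comod k A V where
  coact := f.toLinearMap.lTensor V ∘ₗ HopfRep.Comod.coact (k := k) (A := B)
  coassoc := by
    ext v
    simp only [LinearMap.comp_apply, LinearEquiv.coe_coe]
    have hco := LinearMap.congr_fun (HopfRep.Comod.coassoc (k := k) (A := B) (V := V)) v
    simp only [LinearMap.comp_apply, LinearEquiv.coe_coe] at hco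
    have e0 : ∀ (u : V ⊗[k] B) (b : B), (TensorProduct.assoc k V A A)
        ((f.toLinearMap.lTensor V u) ⊗ₜ[k] f b)
        = (TensorProduct.map f.toLinearMap f.toLinearMap).lTensor V
          ((TensorProduct.assoc k V B B) (u ⊗ₜ[k] b)) := by
      intro u b
      induction u using TensorProduct.induction_on with
      | zero => simp
      | tmul m c' => simp; rfl
      | add x y hx hy => simp only [TensorProduct.add_tmul, map_add, hx, hy]
    have e1 : ∀ x : V ⊗[k] B, (TensorProduct.assoc k V A A)
        ((f.toLinearMap.lTensor V ∘ₗ HopfRep.Comod.coact (k := k) (A := B)).rTensor A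
          (f.toLinearMap.lTensor V x))
        = (TensorProduct.map f.toLinearMap f.toLinearMap).lTensor V
          ((TensorProduct.assoc k V B B) ((HopfRep.Comod.coact (k := k) (A := B)).rTensor B x)) := by
      intro x
      induction x using TensorProduct.induction_on with
      | zero => simp
      | tmul m c =>
        rw [LinearMap.lTensor_tmul, LinearMap.rTensor_tmul, LinearMap.rTensor_tmul, LinearMap.comp_apply]
        exact e0 _ c
      | add x y hx hy => simp only [map_add, hx, hy]
    have e2 : TensorProduct.map f.toLinearMap f.toLinearMap ∘ₗ CoalgebraStruct.comul (R := k) (A := B)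
        = CoalgebraStruct.comul (R := k) (A := A) ∘ₗ f.toLinearMap :=
      CoalgHomClass.map_comp_comul f
    rw [e1, hco, ← LinearMap.comp_apply, ← LinearMap.lTensor_comp, e2, LinearMap.lTensor_comp]
    rfl
  counit_comp := by
    ext v
    simp only [LinearMap.comp_apply, LinearMap.flip_apply, TensorProduct.mk_apply]
    have hcu := LinearMap.congr_fun (HopfRep.Comod.counit_comp (k := k) (A := B) (V := V)) v
    simp only [LinearMap.comp_apply, LinearMap.flip_apply, TensorProduct.mk_apply] at hcu
    have e3 : CoalgebraStruct.counit (R := k) (A := A) ∘ₗ f.toLinearMap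
        = CoalgebraStruct.counit (R := k) (A := B) := CoalgHomClass.counit_comp f
    rw [← LinearMap.comp_apply, ← LinearMap.lTensor_comp, e3, hcu]

end Pull

end Groth.Agent.H4
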