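import Mathlib
import Groth.Prelude.Def_EssEt
import Groth.Agent.S0501

/-! Essentially étale local algebras: rigidity and lifting into Henselian local rings. -/

set_option autoImplicit false
universe u

open TensorProduct

namespace Groth.Agent.H4

/-- Maps out of a formally unramified, essentially finite type algebra into a local ring which agree
modulo the maximal ideal are equal (the diagonal is open and closed). -/
theorem H4_unramified_algHom_ext_of_residue {R B D : Type u} [CommRing R] [CommRing B] [Algebra R B]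
    [Algebra.EssFiniteType R B] [Algebra.FormallyUnramified R B] [CommRing D] [IsLocalRing D]
    [Algebra R D] (u v : B →ₐ[R] D)
    (h : ∀ x, IsLocalRing.residue D (u x) = IsLocalRing.residue D (v x)) : u = v := by
  classical
  obtain ⟨e, he, hsp⟩ : ∃ e, IsIdempotentElem e ∧ KaehlerDifferential.ideal R B = Ideal.span {e} :=
    (Ideal.isIdempotentElem_iff_of_fg _ (KaehlerDifferential.ideal_fg R B)).mp <|
      (Ideal.cotangent_subsingleton_iff _).mp <| inferInstanceAs <| Subsingleton Ω[B⁄R]
  let Φ : B ⊗[R] B →ₐ[R] D := Algebra.TensorProduct.productMap u v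
  have hΦ : ∀ a b, Φ (a ⊗ₜ b) = u a * v b := fun a b => by simp [Φ]
  have hΦe : IsIdempotentElem (Φ e) := he.map Φ
  let resA : D →ₐ[R] IsLocalRing.ResidueField D := IsScalarTower.toAlgHom R D _
  have hresA : ∀ d, resA d = IsLocalRing.residue D d := fun d => rfl
  have hcomp : (resA.comp Φ) = (resA.comp u).comp (Algebra.TensorProduct.lmul' R) := by
    apply Algebra.TensorProduct.ext'
    intro a b
    simp only [AlgHom.comp_apply, hΦ, Algebra.TensorProduct.lmul'_apply_tmul, map_mul, hresA, h]
  have hker : ∀ t ∈ KaehlerDifferential.ideal R B, IsLocalRing.residue D (Φ t) = 0 := by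
    intro t ht
    have h1 : resA (Φ t) = (resA.comp u) (Algebra.TensorProduct.lmul' R t) := by
      rw [← AlgHom.comp_apply, hcomp, AlgHom.comp_apply]
    have h2 : Algebra.TensorProduct.lmul' R t = 0 := ht
    rw [← hresA, h1, h2, map_zero]
  have he_mem : e ∈ KaehlerDifferential.ideal R B := by
    rw [hsp]; exact Ideal.mem_span_singleton_self e
  have hΦe0 : Φ e = 0 := by
    have hm : Φ e ∈ IsLocalRing.maximalIdeal D :=
      (IsLocalRing.residue_eq_zero_iff _).mp (hker e he_mem)
    have h1 : Φ e * (1 - Φ e) = 0 := by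
      rw [mul_sub, mul_one, hΦe.eq, sub_self]
    have hu : IsUnit (1 - Φ e) := by
      by_contra hnu
      have : (1 - Φ e) ∈ IsLocalRing.maximalIdeal D := hnu
      have h1m : (1 : D) ∈ IsLocalRing.maximalIdeal D := by
        have := Ideal.add_mem _ this hm
        simpa using this
      exact (Ideal.ne_top_iff_one _).mp (IsLocalRing.maximalIdeal.isMaximal D).ne_top h1m
    exact (hu.mul_left_eq_zero).mp h1
  ext x
  have hx : (x ⊗ₜ[R] (1 : B) - 1 ⊗ₜ[R] x) ∈ KaehlerDifferential.ideal R B :=
    KaehlerDifferential.one_smul_sub_smul_one_mem_ideal R x |> fun h => by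
      have := (KaehlerDifferential.ideal R B).neg_mem h
      simpa using this
  rw [hsp, Ideal.mem_span_singleton'] at hx
  obtain ⟨t, ht⟩ := hx
  have := congrArg Φ ht
  rw [map_mul, hΦe0, mul_zero, map_sub, hΦ, hΦ, map_one, map_one, mul_one, one_mul] at this
  exact (sub_eq_zero.mp this.symm)


/-- Instances for an essentially étale local algebra. -/
theorem H4_essEt_instances {A B : Type u} [CommRing A] [IsLocalRing A] [CommRing B] [Algebra A B]
    (hB : EGA4loc.IsEssentiallyEtale A B) :
    Algebra.EssFiniteType A B ∧ Algebra.FormallyEtale A B := by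
  obtain ⟨C, _, _, q, _, hC, hq, ⟨e⟩⟩ := hB
  haveI : Algebra.FormallyEtale C (Localization.AtPrime q) :=
    Algebra.FormallyEtale.of_isLocalization q.primeCompl
  haveI : Algebra.FormallyEtale A (Localization.AtPrime q) :=
    Algebra.FormallyEtale.comp A C (Localization.AtPrime q)
  haveI : Algebra.EssFiniteType C (Localization.AtPrime q) :=
    Algebra.EssFiniteType.of_isLocalization _ q.primeCompl
  haveI : Algebra.EssFiniteType A (Localization.AtPrime q) :=
    Algebra.EssFiniteType.comp A C (Localization.AtPrime q)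
  exact ⟨(Algebra.EssFiniteType.iff_of_algEquiv e).mpr inferInstance,
    Algebra.FormallyEtale.of_equiv e.symm⟩

/-- S17978 in lemma form. -/
theorem H4_essEt_algHom_ext {A B C : Type u} [CommRing A] [IsLocalRing A] [CommRing B] [Algebra A B]
    (hB : EGA4loc.IsEssentiallyEtale A B) [CommRing C] [IsLocalRing C] [Algebra A C]
    (u v : B →ₐ[A] C)
    (h : ∀ x, IsLocalRing.residue C (u x) = IsLocalRing.residue C (v x)) : u = v := by
  obtain ⟨h1, h2⟩ := H4_essEt_instances hB
  exact H4_unramified_algHom_ext_of_residue u v h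

/-- The maximal ideal of an essentially étale local algebra lies over the maximal ideal. -/
theorem H4_essEt_under_maximalIdeal {A B : Type u} [CommRing A] [IsLocalRing A] [CommRing B]
    [IsLocalRing B] [Algebra A B] (hB : EGA4loc.IsEssentiallyEtale A B) :
    (IsLocalRing.maximalIdeal B).comap (algebraMap A B) = IsLocalRing.maximalIdeal A := by
  obtain ⟨C, _, _, q, _, hC, hq, ⟨e⟩⟩ := hB
  have h1 : IsLocalRing.maximalIdeal B =
      (IsLocalRing.maximalIdeal (Localization.AtPrime q)).comap (e : B →+* Localization.AtPrime q) := by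
    ext x
    simp only [Ideal.mem_comap, IsLocalRing.mem_maximalIdeal, mem_nonunits_iff]
    rw [not_iff_not]
    exact ⟨fun hx => hx.map e, fun hx => by
      have := hx.map e.symm
      simpa using this⟩
  rw [h1, Ideal.comap_comap]
  have h2 : ((e : B →+* Localization.AtPrime q)).comp (algebraMap A B) =
      (algebraMap C (Localization.AtPrime q)).comp (algebraMap A C) := by
    ext a
    simp [← IsScalarTower.algebraMap_apply]
  rw [h2, ← Ideal.comap_comap]
  have h3 := IsLocalization.AtPrime.comap_maximalIdeal (Localization.AtPrime q) q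
  rw [Ideal.under_def] at h3
  rw [h3, hq]

/-- S17977 in lemma form. -/
theorem H4_essEt_isLocalHom {A B C : Type u} [CommRing A] [IsLocalRing A] [CommRing B]
    [IsLocalRing B] [Algebra A B] (hB : EGA4loc.IsEssentiallyEtale A B) [CommRing C] [IsLocalRing C]
    [Algebra A C] [IsLocalHom (algebraMap A C)] (φ : B →ₐ[A] C) : IsLocalHom φ.toRingHom := by
  obtain ⟨h1, h2⟩ := H4_essEt_instances hB
  haveI : Algebra.FormallyUnramified A B := inferInstance
  let n : Ideal B := (IsLocalRing.maximalIdeal C).comap φ.toRingHom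
  haveI hnp : n.IsPrime := Ideal.comap_isPrime _ _
  have hle : n ≤ IsLocalRing.maximalIdeal B := IsLocalRing.le_maximalIdeal hnp.ne_top
  have hunder : n.under A = (IsLocalRing.maximalIdeal B).under A := by
    rw [Ideal.under_def, Ideal.under_def, H4_essEt_under_maximalIdeal hB]
    show Ideal.comap (algebraMap A B) (Ideal.comap φ.toRingHom _) = _
    rw [Ideal.comap_comap]
    have : φ.toRingHom.comp (algebraMap A B) = algebraMap A C := by
      ext a; simp
    rw [this]
    exact ((IsLocalRing.local_hom_TFAE (algebraMap A C)).out 0 4).mp ‹IsLocalHom (algebraMap A C)›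
  have heq : n = IsLocalRing.maximalIdeal B :=
    Algebra.QuasiFinite.eq_of_le_of_under_eq (R := A) n (IsLocalRing.maximalIdeal B) hle hunder
  constructor
  intro x hx
  by_contra hnu
  have : x ∈ n := by rw [heq]; exact hnu
  exact this hx


/-- If the residue field extension is trivial, a local `A`-algebra hom out of `A₁` is determined
modulo the maximal ideal. -/
theorem H4_residue_eq_of_residue_surjective {A A₁ D : Type u} [CommRing A] [IsLocalRing A]
    [CommRing A₁] [IsLocalRing A₁] [Algebra A A₁] [IsLocalHom (algebraMap A A₁)]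
    (hs : Function.Surjective (IsLocalRing.ResidueField.map (algebraMap A A₁)))
    [CommRing D] [IsLocalRing D] [Algebra A D] (u : A₁ →ₐ[A] D) (hu : IsLocalHom u.toRingHom)
    (x : A₁) : ∃ a : A, IsLocalRing.residue A₁ x = IsLocalRing.residue A₁ (algebraMap A A₁ a) ∧
      IsLocalRing.residue D (u x) = IsLocalRing.residue D (algebraMap A D a) := by
  obtain ⟨y, hy⟩ := hs (IsLocalRing.residue A₁ x)
  obtain ⟨a, rfl⟩ := IsLocalRing.residue_surjective y
  rw [IsLocalRing.ResidueField.map_residue] at hy
  refine ⟨a, hy.symm, ?_⟩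
  have hm : x - algebraMap A A₁ a ∈ IsLocalRing.maximalIdeal A₁ := by
    rw [← IsLocalRing.residue_eq_zero_iff, map_sub, hy, sub_self]
  have hm' : u.toRingHom (x - algebraMap A A₁ a) ∈ IsLocalRing.maximalIdeal D :=
    map_nonunit u.toRingHom _ hm
  rw [← IsLocalRing.residue_eq_zero_iff, map_sub, map_sub, sub_eq_zero] at hm'
  rw [← u.commutes a]
  exact hm'


/-- Lifting: an essentially étale local `A`-algebra maps to a Henselian local `A`-algebra `B`
realising any prescribed compatible residue field map. -/
theorem H4_essEt_exists_lift {A A' B : Type u} [CommRing A] [IsLocalRing A] [CommRing A']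
    [IsLocalRing A'] [Algebra A A'] (hA' : EGA4loc.IsEssentiallyEtale A A')
    [CommRing B] [HenselianLocalRing B] [Algebra A B]
    (α : IsLocalRing.ResidueField A' →+* IsLocalRing.ResidueField B)
    (hα : ∀ a : A, α (IsLocalRing.residue A' (algebraMap A A' a)) =
      IsLocalRing.residue B (algebraMap A B a)) :
    ∃ ψ' : A' →ₐ[A] B, ∀ x, IsLocalRing.residue B (ψ' x) = α (IsLocalRing.residue A' x) := by
  classical
  obtain ⟨C, _, _, q, _, hC, hq, ⟨e⟩⟩ := hA'
  let eq' : IsLocalRing.ResidueField (Localization.AtPrime q) ≃+* IsLocalRing.ResidueField A' :=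
    IsLocalRing.ResidueField.mapEquiv (e.symm : Localization.AtPrime q ≃+* A')
  have heq' : ∀ z : Localization.AtPrime q,
      eq' (IsLocalRing.residue _ z) = IsLocalRing.residue A' (e.symm z) := fun z => rfl
  let τ : q.ResidueField →+* IsLocalRing.ResidueField B := α.comp (eq' : _ →+* _)
  have hτ : τ.comp (algebraMap A q.ResidueField) =
      (IsLocalRing.residue B).comp (algebraMap A B) := by
    ext a
    have h1 : algebraMap A q.ResidueField a =
        IsLocalRing.residue _ (algebraMap A (Localization.AtPrime q) a) := rfl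
    simp only [RingHom.comp_apply, τ]
    rw [h1]
    show α (eq' _) = _
    rw [heq', AlgEquiv.commutes, hα]
  obtain ⟨f, ⟨hf1, hf2⟩, -⟩ := Groth.Agent.S0501.result A B C q τ hτ
  have hunit : ∀ y : q.primeCompl, IsUnit (f y) := by
    intro y
    by_contra hn
    have : (y : C) ∈ Ideal.comap f.toRingHom (IsLocalRing.maximalIdeal B) := hn
    rw [hf1] at this
    exact y.2 this
  let g : Localization.AtPrime q →ₐ[A] B := IsLocalization.liftAlgHom (M := q.primeCompl) hunit
  refine ⟨g.comp e.toAlgHom, ?_⟩
  -- compare two ring homs out of the localization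
  have key : ((IsLocalRing.residue B).comp g.toRingHom) =
      (α.comp (eq' : _ →+* _)).comp (IsLocalRing.residue (Localization.AtPrime q)) := by
    apply IsLocalization.ringHom_ext q.primeCompl
    ext c
    simp only [RingHom.comp_apply]
    have h1 : g.toRingHom (algebraMap C _ c) = f c := by
      show IsLocalization.lift hunit (algebraMap C _ c) = f c
      rw [IsLocalization.lift_eq]; rfl
    rw [h1, hf2]
    rfl
  intro x
  have := RingHom.congr_fun key (e x)
  simp only [RingHom.comp_apply] at this
  show IsLocalRing.residue B (g (e x)) = _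
  rw [show g (e x) = g.toRingHom (e x) from rfl, this]
  show α (eq' _) = _
  rw [heq', AlgEquiv.symm_apply_apply]


/-- Data of a strictly essentially étale local algebra: an étale algebra `C`, a prime `q`, and an
`A`-algebra map `C → k(A)` with kernel `q`. -/
theorem H4_strict_data {A A₁ : Type u} [CommRing A] [IsLocalRing A]
    [CommRing A₁] [IsLocalRing A₁] [Algebra A A₁] [IsLocalHom (algebraMap A A₁)]
    (h₁ : EGA4loc.IsStrictlyEssentiallyEtale A A₁) :
    ∃ (C : Type u) (_ : CommRing C) (_ : Algebra A C) (q : Ideal C) (_ : q.IsPrime),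
      Algebra.Etale A C ∧ Nonempty (A₁ ≃ₐ[A] Localization.AtPrime q) ∧
      ∃ χ : C →ₐ[A] IsLocalRing.ResidueField A, RingHom.ker χ = q := by
  classical
  obtain ⟨⟨C, _, _, q, _, hC, hq, ⟨e⟩⟩, hbij⟩ := h₁
  refine ⟨C, _, _, q, _, hC, ⟨e⟩, ?_⟩
  let σ : IsLocalRing.ResidueField A ≃+* IsLocalRing.ResidueField A₁ :=
    RingEquiv.ofBijective _ hbij
  have hσ : ∀ y, σ y = IsLocalRing.ResidueField.map (algebraMap A A₁) y := fun y => rfl
  let χ₀ : C →+* IsLocalRing.ResidueField A :=
    (σ.symm : _ →+* _).comp ((IsLocalRing.residue A₁).comp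
      ((e.symm : Localization.AtPrime q →+* A₁).comp (algebraMap C (Localization.AtPrime q))))
  have hχ₀ : ∀ c, χ₀ c = σ.symm (IsLocalRing.residue A₁ (e.symm (algebraMap C _ c))) := fun c => rfl
  let χ : C →ₐ[A] IsLocalRing.ResidueField A :=
    { χ₀ with
      commutes' := by
        intro a
        show χ₀ (algebraMap A C a) = _
        rw [hχ₀, ← IsScalarTower.algebraMap_apply, AlgEquiv.commutes,
          ← IsLocalRing.ResidueField.map_residue, ← hσ, RingEquiv.symm_apply_apply]
        rfl }
  refine ⟨χ, ?_⟩
  ext c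
  rw [RingHom.mem_ker]
  show χ₀ c = 0 ↔ _
  rw [hχ₀, map_eq_zero_iff _ σ.symm.injective, IsLocalRing.residue_eq_zero_iff,
    ← IsLocalization.AtPrime.to_map_mem_maximal_iff (Localization.AtPrime q) q c]
  simp only [IsLocalRing.mem_maximalIdeal, mem_nonunits_iff]
  rw [not_iff_not]
  exact ⟨fun hx => by simpa using hx.map e, fun hx => hx.map e.symm⟩

end Groth.Agent.H4
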