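import Mathlib
import Groth.Agent.S0501

set_option autoImplicit false
universe u

namespace Groth.Agent.H4

open Polynomial

/-- Monic coprime factorizations over the residue field of a henselian local ring lift. -/
theorem H4_monic_factor_lift {R : Type u} [CommRing R] [HenselianLocalRing R]
    (f : R[X]) (hf : f.Monic) (g₀ h₀ : (IsLocalRing.ResidueField R)[X]) (hg₀ : g₀.Monic)
    (hh₀ : h₀.Monic) (hc : IsCoprime g₀ h₀)
    (hfac : f.map (IsLocalRing.residue R) = g₀ * h₀) :
    ∃ g h : R[X], g.Monic ∧ h.Monic ∧ f = g * h ∧ IsCoprime g h ∧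
      g.map (IsLocalRing.residue R) = g₀ ∧ h.map (IsLocalRing.residue R) = h₀ := by
  classical
  have hn : f.natDegree = g₀.natDegree + h₀.natDegree := by
    have := congrArg natDegree hfac
    rw [hf.natDegree_map, hg₀.natDegree_mul hh₀] at this
    exact this
  let p : MonicDegreeEq R f.natDegree := .mk f hf rfl
  let φ₀ : UniversalCoprimeFactorizationRing g₀.natDegree h₀.natDegree hn p →ₐ[R]
      IsLocalRing.ResidueField R :=
    (UniversalCoprimeFactorizationRing.homEquiv (IsLocalRing.ResidueField R)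
      g₀.natDegree h₀.natDegree hn p).symm
      ⟨(.mk g₀ hg₀ rfl, .mk h₀ hh₀ rfl), hfac.symm, hc⟩
  let Q : Ideal (UniversalCoprimeFactorizationRing g₀.natDegree h₀.natDegree hn p) :=
    RingHom.ker φ₀.toRingHom
  haveI : Q.IsPrime := RingHom.ker_isPrime _
  let τ : Q.ResidueField →+* IsLocalRing.ResidueField R :=
    Ideal.ResidueField.lift Q φ₀.toRingHom le_rfl (by
      intro a ha
      show IsUnit (φ₀ a)
      rw [isUnit_iff_ne_zero]
      intro h0
      exact ha ((RingHom.mem_ker).mpr h0))
  have hτ : ∀ a, τ (algebraMap _ Q.ResidueField a) = φ₀ a := fun a =>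
    Ideal.ResidueField.lift_algebraMap _ _ _ _ a
  have hcompat : τ.comp (algebraMap R Q.ResidueField) =
      (IsLocalRing.residue R).comp (algebraMap R R) := by
    ext r
    rw [RingHom.comp_apply, IsScalarTower.algebraMap_apply R
      (UniversalCoprimeFactorizationRing g₀.natDegree h₀.natDegree hn p) Q.ResidueField, hτ,
      φ₀.commutes]
    rfl
  obtain ⟨F, ⟨_, hF⟩, _⟩ := Groth.Agent.S0501.result R R _ Q τ hcompat
  let resₐ : R →ₐ[R] IsLocalRing.ResidueField R := IsScalarTower.toAlgHom R R _
  have hcomp : resₐ.comp F = φ₀ := by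
    apply AlgHom.ext
    intro a
    rw [← hτ, ← hF]
    rfl
  let q := UniversalCoprimeFactorizationRing.homEquiv R g₀.natDegree h₀.natDegree hn p F
  have h1 := UniversalCoprimeFactorizationRing.homEquiv_comp_fst R g₀.natDegree h₀.natDegree hn p
    F resₐ
  have h2 := UniversalCoprimeFactorizationRing.homEquiv_comp_snd R g₀.natDegree h₀.natDegree hn p
    F resₐ
  rw [hcomp] at h1 h2
  have h3 : (UniversalCoprimeFactorizationRing.homEquiv (IsLocalRing.ResidueField R)
      g₀.natDegree h₀.natDegree hn p φ₀) = ⟨(.mk g₀ hg₀ rfl, .mk h₀ hh₀ rfl), hfac.symm, hc⟩ :=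
    Equiv.apply_symm_apply _ _
  rw [h3] at h1 h2
  refine ⟨q.1.1.1, q.1.2.1, q.1.1.monic, q.1.2.monic, ?_, q.2.2, ?_, ?_⟩
  · have := q.2.1
    rw [this]
    show f = f.map (RingHom.id R)
    rw [Polynomial.map_id]
  · have := congrArg Subtype.val h1
    exact this.symm
  · have := congrArg Subtype.val h2
    exact this.symm

end Groth.Agent.H4
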