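import Mathlib
import Groth.Agent.Lib.helper4.FactorLift

set_option autoImplicit false
universe u

namespace Groth.Agent.H4

open Polynomial TensorProduct

/-- In a finite algebra over a henselian local ring, two distinct maximal ideals are separated
by an idempotent. -/
theorem H4_exists_idempotent_of_two_maximal {R : Type u} [CommRing R] [HenselianLocalRing R]
    {B : Type u} [CommRing B] [Algebra R B] [Module.Finite R B] (n₁ n₂ : Ideal B)
    [hn₁ : n₁.IsMaximal] [hn₂ : n₂.IsMaximal] (hne : n₁ ≠ n₂) :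
    ∃ e : B, IsIdempotentElem e ∧ e ∈ n₂ ∧ 1 - e ∈ n₁ := by
  classical
  haveI : Algebra.IsIntegral R B := Algebra.IsIntegral.of_finite R B
  obtain ⟨x, hx, y, hy, hxy⟩ := Submodule.mem_sup.mp
    ((Ideal.eq_top_iff_one _).mp (Ideal.IsMaximal.coprime_of_ne hn₁ hn₂ hne))
  obtain ⟨f, hfm, hfy⟩ := Algebra.IsIntegral.isIntegral (R := R) y
  -- evaluation criterion
  have hcomap : ∀ (n : Ideal B), n.IsMaximal →
      Ideal.comap (algebraMap R B) n = IsLocalRing.maximalIdeal R := by
    intro n hn
    haveI := hn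
    exact IsLocalRing.eq_maximalIdeal (Ideal.isMaximal_comap_of_isIntegral_of_isMaximal n)
  have hcrit : ∀ (n : Ideal B), n.IsMaximal → ∀ c : R, y - algebraMap R B c ∈ n →
      ∀ P : R[X], (aeval y P ∈ n ↔ P.eval c ∈ IsLocalRing.maximalIdeal R) := by
    intro n hn c hc P
    have h1 : aeval y P - algebraMap R B (P.eval c) ∈ n := by
      have h0 : algebraMap R B (P.eval c) = aeval (algebraMap R B c) P := by
        rw [Polynomial.aeval_algebraMap_apply, Polynomial.aeval_def]
        rfl
      rw [h0]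
      have := Polynomial.sub_dvd_eval_sub y (algebraMap R B c) (P.map (algebraMap R B))
      rw [Polynomial.eval_map_algebraMap, Polynomial.eval_map_algebraMap] at this
      exact Ideal.mem_of_dvd _ this hc
    rw [← hcomap n hn, Ideal.mem_comap]
    constructor
    · intro h2
      have := Ideal.sub_mem _ h2 h1
      simpa using this
    · intro h2
      have := Ideal.add_mem _ h1 h2
      simpa using this
  have hres : ∀ (P : R[X]) (c : R), (P.map (IsLocalRing.residue R)).eval (IsLocalRing.residue R c) =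
      IsLocalRing.residue R (P.eval c) := by
    intro P c
    rw [Polynomial.eval_map, Polynomial.eval₂_hom]
  have hy1 : y - algebraMap R B 1 ∈ n₁ := by
    have : y - algebraMap R B 1 = -x := by rw [map_one, ← hxy]; ring
    rw [this]; exact Ideal.neg_mem_iff _ |>.mpr hx
  have hy0 : y - algebraMap R B 0 ∈ n₂ := by
    rw [map_zero, sub_zero]; exact hy
  have hfy' : aeval y f = 0 := hfy
  set fb := f.map (IsLocalRing.residue R) with hfb
  have hfb1 : fb.eval 1 = 0 := by
    have := (hcrit n₁ hn₁ 1 hy1 f).mp (by rw [hfy']; exact Ideal.zero_mem _)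
    rw [← map_one (IsLocalRing.residue R), hfb, hres]
    exact (IsLocalRing.residue_eq_zero_iff _).mpr this
  have hfb0 : fb.eval 0 = 0 := by
    have := (hcrit n₂ hn₂ 0 hy0 f).mp (by rw [hfy']; exact Ideal.zero_mem _)
    rw [← map_zero (IsLocalRing.residue R), hfb, hres]
    exact (IsLocalRing.residue_eq_zero_iff _).mpr this
  have hfbm : fb.Monic := hfm.map _
  have hfbne : fb ≠ 0 := hfbm.ne_zero
  have hs : 0 < fb.rootMultiplicity 1 := (Polynomial.rootMultiplicity_pos hfbne).mpr hfb1
  obtain ⟨h₀, hh₀, hnd⟩ := fb.exists_eq_pow_rootMultiplicity_mul_and_not_dvd hfbne 1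
  set s := fb.rootMultiplicity 1 with hsdef
  have hg₀m : ((X - C (1 : IsLocalRing.ResidueField R)) ^ s).Monic := (monic_X_sub_C _).pow s
  have hh₀m : h₀.Monic := by
    rw [hh₀] at hfbm
    exact hg₀m.of_mul_monic_left hfbm
  have hcop : IsCoprime ((X - C (1 : IsLocalRing.ResidueField R)) ^ s) h₀ :=
    IsCoprime.pow_left ((Polynomial.irreducible_X_sub_C _).coprime_iff_not_dvd.mpr hnd)
  have hh₀0 : h₀.eval 0 = 0 := by
    have := hfb0
    rw [hh₀, Polynomial.eval_mul, Polynomial.eval_pow] at this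
    rcases mul_eq_zero.mp this with h | h
    · exfalso
      have := pow_eq_zero_iff (hs.ne') |>.mp h
      simp at this
    · exact h
  obtain ⟨g, h, hgm, hhm, hfgh, ⟨u, v, huv⟩, hg, hh⟩ :=
    H4_monic_factor_lift f hfm _ h₀ hg₀m hh₀m hcop hh₀
  refine ⟨aeval y (v * h), ?_, ?_, ?_⟩
  · have h1 : (1 : B) - aeval y (v * h) = aeval y (u * g) := by
      have := congrArg (aeval y) huv
      rw [map_add, map_one] at this
      rw [← this]; ring
    have h2 : aeval y (v * h) * (1 - aeval y (v * h)) = 0 := by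
      rw [h1, ← map_mul]
      have : v * h * (u * g) = u * v * f := by rw [hfgh]; ring
      rw [this, map_mul, hfy', mul_zero]
    show aeval y (v * h) * aeval y (v * h) = aeval y (v * h)
    have h3 : aeval y (v * h) * (1 - aeval y (v * h)) =
      aeval y (v * h) - aeval y (v * h) * aeval y (v * h) := by ring
    rw [h3, sub_eq_zero] at h2
    exact h2.symm
  · rw [hcrit n₂ hn₂ 0 hy0, ← IsLocalRing.residue_eq_zero_iff, ← hres, map_zero,
      Polynomial.map_mul, hh, Polynomial.eval_mul, hh₀0, mul_zero]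
  · have h1 : (1 : B) - aeval y (v * h) = aeval y (u * g) := by
      have := congrArg (aeval y) huv
      rw [map_add, map_one] at this
      rw [← this]; ring
    rw [h1, hcrit n₁ hn₁ 1 hy1, ← IsLocalRing.residue_eq_zero_iff, ← hres, map_one,
      Polynomial.map_mul, hg, Polynomial.eval_mul, Polynomial.eval_pow]
    simp [hs.ne']


/-- Combining product decompositions. -/
theorem H4_pi_local_prod {B B₁ B₂ : Type u} [CommRing B] [CommRing B₁] [CommRing B₂]
    (φ : B ≃+* B₁ × B₂)
    (h₁ : ∃ (ι : Type u) (_ : Fintype ι) (A : ι → Type u) (_ : ∀ i, CommRing (A i)),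
      (∀ i, IsLocalRing (A i)) ∧ Nonempty (B₁ ≃+* (∀ i, A i)))
    (h₂ : ∃ (ι : Type u) (_ : Fintype ι) (A : ι → Type u) (_ : ∀ i, CommRing (A i)),
      (∀ i, IsLocalRing (A i)) ∧ Nonempty (B₂ ≃+* (∀ i, A i))) :
    ∃ (ι : Type u) (_ : Fintype ι) (A : ι → Type u) (_ : ∀ i, CommRing (A i)),
      (∀ i, IsLocalRing (A i)) ∧ Nonempty (B ≃+* (∀ i, A i)) := by
  obtain ⟨ι₁, _, A₁, _, hA₁, ⟨e₁⟩⟩ := h₁
  obtain ⟨ι₂, _, A₂, _, hA₂, ⟨e₂⟩⟩ := h₂
  letI inst : ∀ s : ι₁ ⊕ ι₂, CommRing (Sum.elim A₁ A₂ s) := fun i => by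
    cases i with
    | inl i => exact inferInstanceAs (CommRing (A₁ i))
    | inr i => exact inferInstanceAs (CommRing (A₂ i))
  refine ⟨ι₁ ⊕ ι₂, inferInstance, Sum.elim A₁ A₂, inst, ?_, ?_⟩
  · intro i
    cases i with
    | inl i => exact hA₁ i
    | inr i => exact hA₂ i
  · let ψ : ((∀ i, A₁ i) × (∀ i, A₂ i)) ≃+* (∀ s : ι₁ ⊕ ι₂, Sum.elim A₁ A₂ s) :=
      { toFun := fun p s => match s with
          | Sum.inl i => p.1 i
          | Sum.inr i => p.2 i
        invFun := fun q => (fun i => q (Sum.inl i), fun i => q (Sum.inr i))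
        left_inv := fun p => rfl
        right_inv := fun q => by
          funext s
          cases s <;> rfl
        map_mul' := fun p p' => by
          funext s
          cases s <;> rfl
        map_add' := fun p p' => by
          funext s
          cases s <;> rfl }
    exact ⟨(φ.trans (RingEquiv.prodCongr e₁ e₂)).trans ψ⟩


theorem H4_finite_henselian_pi_aux (R : Type u) [CommRing R] [HenselianLocalRing R] :
    ∀ (d : ℕ) (B : Type u) [CommRing B] [Algebra R B] [Module.Finite R B],
      Module.finrank (IsLocalRing.ResidueField R) (IsLocalRing.ResidueField R ⊗[R] B) = d →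
      ∃ (ι : Type u) (_ : Fintype ι) (A : ι → Type u) (_ : ∀ i, CommRing (A i)),
        (∀ i, IsLocalRing (A i)) ∧ Nonempty (B ≃+* (∀ i, A i)) := by
  intro d
  induction d using Nat.strong_induction_on with
  | _ d ih =>
  intro B _ _ _ hd
  rcases subsingleton_or_nontrivial B with hB | hB
  · refine ⟨PEmpty, inferInstance, fun _ => PUnit, fun _ => inferInstance, fun i => i.elim, ⟨?_⟩⟩
    exact
      { toFun := fun _ => 0
        invFun := fun _ => 0
        left_inv := fun _ => Subsingleton.elim _ _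
        right_inv := fun _ => Subsingleton.elim _ _
        map_mul' := fun _ _ => Subsingleton.elim _ _
        map_add' := fun _ _ => Subsingleton.elim _ _ }
  by_cases hloc : IsLocalRing B
  · exact ⟨PUnit, inferInstance, fun _ => B, fun _ => inferInstance, fun _ => hloc,
      ⟨(RingEquiv.piUnique (fun _ : PUnit => B)).symm⟩⟩
  obtain ⟨n₁, hn₁⟩ := Ideal.exists_maximal B
  have hex : ∃ n₂ : Ideal B, n₂.IsMaximal ∧ n₁ ≠ n₂ := by
    by_contra hcon
    push Not at hcon
    exact hloc (IsLocalRing.of_unique_max_ideal ⟨n₁, hn₁, fun n hn => (hcon n hn).symm⟩)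
  obtain ⟨n₂, hn₂, hne⟩ := hex
  obtain ⟨e, he, he2, he1⟩ := H4_exists_idempotent_of_two_maximal (R := R) n₁ n₂ hne
  have hbij := RingHom.prod_bijective_of_isIdempotentElem he he.one_sub
    (by ring) (by rw [mul_sub, mul_one, he.eq, sub_self])
  let φa : B →ₐ[R] (B ⧸ Ideal.span {e}) × (B ⧸ Ideal.span {1 - e}) :=
    (Ideal.Quotient.mkₐ R _).prod (Ideal.Quotient.mkₐ R _)
  have hφa : Function.Bijective φa := hbij
  let Φ : B ≃ₐ[R] (B ⧸ Ideal.span {e}) × (B ⧸ Ideal.span {1 - e}) := AlgEquiv.ofBijective φa hφa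
  haveI : Nontrivial (B ⧸ Ideal.span {e}) := Ideal.Quotient.nontrivial_iff.mpr (by
    intro h
    rw [Ideal.span_singleton_eq_top] at h
    exact hn₂.ne_top (Ideal.eq_top_of_isUnit_mem _ he2 h))
  haveI : Nontrivial (B ⧸ Ideal.span {1 - e}) := Ideal.Quotient.nontrivial_iff.mpr (by
    intro h
    rw [Ideal.span_singleton_eq_top] at h
    exact hn₁.ne_top (Ideal.eq_top_of_isUnit_mem _ he1 h))
  have hfr : Module.finrank (IsLocalRing.ResidueField R) (IsLocalRing.ResidueField R ⊗[R] B) =
      Module.finrank (IsLocalRing.ResidueField R)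
        (IsLocalRing.ResidueField R ⊗[R] (B ⧸ Ideal.span {e})) +
      Module.finrank (IsLocalRing.ResidueField R)
        (IsLocalRing.ResidueField R ⊗[R] (B ⧸ Ideal.span {1 - e})) := by
    rw [← Module.finrank_prod]
    exact LinearEquiv.finrank_eq ((LinearEquiv.baseChange R (IsLocalRing.ResidueField R) _ _
      Φ.toLinearEquiv).trans
      (TensorProduct.prodRight R (IsLocalRing.ResidueField R) (IsLocalRing.ResidueField R) _ _))
  have hpos : ∀ (C : Type u) [CommRing C] [Algebra R C] [Module.Finite R C] [Nontrivial C],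
      0 < Module.finrank (IsLocalRing.ResidueField R) (IsLocalRing.ResidueField R ⊗[R] C) := by
    intro C _ _ _ _
    haveI : Nontrivial (IsLocalRing.ResidueField R ⊗[R] C) := by
      rw [← not_subsingleton_iff_nontrivial, IsLocalRing.subsingleton_tensorProduct]
      exact not_subsingleton _
    exact Module.finrank_pos
  have hp₁ := hpos (B ⧸ Ideal.span {e})
  have hp₂ := hpos (B ⧸ Ideal.span {1 - e})
  have h₁ := ih _ (by omega) (B ⧸ Ideal.span {e}) rfl
  have h₂ := ih _ (by omega) (B ⧸ Ideal.span {1 - e}) rfl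
  exact H4_pi_local_prod Φ.toRingEquiv h₁ h₂

theorem H4_finite_henselian_pi (R : Type u) [CommRing R] [HenselianLocalRing R]
    (B : Type u) [CommRing B] [Algebra R B] [Module.Finite R B] :
    ∃ (ι : Type u) (_ : Fintype ι) (A : ι → Type u) (_ : ∀ i, CommRing (A i)),
      (∀ i, IsLocalRing (A i)) ∧ Nonempty (B ≃+* (∀ i, A i)) :=
  H4_finite_henselian_pi_aux R _ B rfl

end Groth.Agent.H4

namespace Groth.Agent.H4

/-- A henselian pair at the maximal ideal of a local ring is a henselian local ring. -/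
theorem H4_henselianLocalRing_of_henselianRing (R : Type*) [CommRing R] [IsLocalRing R]
    [h : HenselianRing R (IsLocalRing.maximalIdeal R)] : HenselianLocalRing R :=
  { ‹IsLocalRing R› with
    is_henselian := fun f hf a₀ h₁ h₂ => h.is_henselian f hf a₀ h₁ (h₂.map _) }

/-- A domain finite over a henselian local ring has at most one maximal ideal. -/
theorem H4_maximal_unique_of_finite_of_isDomain {R : Type u} [CommRing R] [HenselianLocalRing R]
    {B : Type u} [CommRing B] [IsDomain B] [Algebra R B] [Module.Finite R B] (n₁ n₂ : Ideal B)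
    (hn₁ : n₁.IsMaximal) (hn₂ : n₂.IsMaximal) : n₁ = n₂ := by
  by_contra hne
  obtain ⟨e, he, he2, he1⟩ := H4_exists_idempotent_of_two_maximal (R := R) n₁ n₂ hne
  have h0 : e * (1 - e) = 0 := by rw [mul_sub, mul_one, he.eq, sub_self]
  rcases mul_eq_zero.mp h0 with h | h
  · rw [h, sub_zero] at he1
    exact hn₁.ne_top ((Ideal.eq_top_iff_one _).mpr he1)
  · have : e = 1 := (sub_eq_zero.mp h).symm
    rw [this] at he2
    exact hn₂.ne_top ((Ideal.eq_top_iff_one _).mpr he2)

/-- A domain finite over a henselian local ring is local. -/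
theorem H4_isLocalRing_of_finite_of_isDomain (R : Type u) [CommRing R] [HenselianLocalRing R]
    (B : Type u) [CommRing B] [IsDomain B] [Algebra R B] [Module.Finite R B] : IsLocalRing B := by
  obtain ⟨n, hn⟩ := Ideal.exists_maximal B
  exact IsLocalRing.of_unique_max_ideal
    ⟨n, hn, fun n' hn' => H4_maximal_unique_of_finite_of_isDomain (R := R) n' n hn' hn⟩

end Groth.Agent.H4
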