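import Mathlib

set_option autoImplicit false
universe u v w

namespace Groth.Agent.H4

open TensorProduct

/-- If `B → C` is surjective with kernel `J` and `1 ⊗ ω = 0` in `C ⊗[B] M` then `ω ∈ J • M`. -/
theorem H4_mem_smul_top_of_one_tmul_eq_zero {B : Type u} {C : Type v} {M : Type w}
    [CommRing B] [CommRing C] [Algebra B C] [AddCommGroup M] [Module B M]
    (hs : Function.Surjective (algebraMap B C)) (ω : M) (h : (1 : C) ⊗ₜ[B] ω = 0) :
    ω ∈ (RingHom.ker (algebraMap B C)) • (⊤ : Submodule B M) := by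
  let I : Ideal B := LinearMap.ker (Algebra.linearMap B C)
  have hI : I = RingHom.ker (algebraMap B C) := by
    ext x
    simp [I, RingHom.mem_ker]
  let e : (B ⧸ I) ≃ₗ[B] C := (Algebra.linearMap B C).quotKerEquivOfSurjective hs
  have he1 : e.symm 1 = Submodule.Quotient.mk 1 := by
    rw [LinearEquiv.symm_apply_eq]
    change (1 : C) = (Algebra.linearMap B C) 1
    simp
  have h1 := congrArg (TensorProduct.congr e.symm (LinearEquiv.refl B M)) h
  rw [TensorProduct.congr_tmul, map_zero, he1] at h1
  have h2 := congrArg (TensorProduct.quotTensorEquivQuotSMul M I) h1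
  rw [map_zero] at h2
  have h3 : TensorProduct.quotTensorEquivQuotSMul M I ((Ideal.Quotient.mk I 1) ⊗ₜ[B] ω) =
      Submodule.Quotient.mk ((1 : B) • ω) := TensorProduct.quotTensorEquivQuotSMul_mk_tmul I 1 ω
  have h4 : (Submodule.Quotient.mk ((1 : B) • ω) : M ⧸ (I • (⊤ : Submodule B M))) = 0 := by
    rw [← h3]
    exact h2
  rw [Submodule.Quotient.mk_eq_zero, one_smul] at h4
  rw [← hI]
  exact h4

end Groth.Agent.H4
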