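import Mathlib
import Groth.Agent.Lib.helper4.FiniteHenselian
set_option autoImplicit false
universe u

namespace Groth.Agent.H4

open Polynomial

/-- Root lifting from a local quotient of `R[X]/(F)` cut out by an idempotent-like element. -/
theorem H4_root_of_local_factor {R : Type u} [CommRing R] [IsLocalRing R] (F : R[X]) (hF : F.Monic)
    {A : Type u} [CommRing A] [IsLocalRing A] (π : AdjoinRoot F →+* A)
    (hπ : Function.Surjective π) (e : AdjoinRoot F) (hE : ∀ c, π c = 0 ↔ c * e = 0)
    (a₀ : R) (h₁ : F.eval a₀ ∈ IsLocalRing.maximalIdeal R) (h₂ : IsUnit (F.derivative.eval a₀))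
    (ψ : AdjoinRoot F →+* IsLocalRing.ResidueField R)
    (hψ : ∀ P : R[X], ψ (AdjoinRoot.mk F P) = IsLocalRing.residue R (P.eval a₀))
    (hψe : ψ e = 1) :
    ∃ a : R, F.IsRoot a ∧ a - a₀ ∈ IsLocalRing.maximalIdeal R := by
  classical
  -- ψ factors through π
  have hker : RingHom.ker π ≤ RingHom.ker ψ := by
    intro c hc
    rw [RingHom.mem_ker] at hc ⊢
    have := (hE c).mp hc
    have h3 := congrArg ψ this
    rw [map_mul, hψe, mul_one, map_zero] at h3
    exact h3
  let θ : A →+* IsLocalRing.ResidueField R := RingHom.liftOfSurjective π hπ ⟨ψ, hker⟩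
  have hθ : ∀ c, θ (π c) = ψ c := fun c => RingHom.liftOfSurjective_comp_apply π hπ ⟨ψ, hker⟩ c
  have hψsurj : Function.Surjective ψ := by
    intro z
    obtain ⟨r, rfl⟩ := IsLocalRing.residue_surjective z
    refine ⟨AdjoinRoot.mk F (C r), ?_⟩
    rw [hψ, Polynomial.eval_C]
  have hθsurj : Function.Surjective θ := by
    intro z
    obtain ⟨c, rfl⟩ := hψsurj z
    exact ⟨π c, hθ c⟩
  have hθunit : ∀ z : A, θ z = 0 → ¬ IsUnit z := by
    intro z hz hu
    have := hu.map θ
    rw [hz] at this
    exact not_isUnit_zero this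
  -- algebra structure
  letI : Algebra R A := (π.comp (algebraMap R (AdjoinRoot F))).toAlgebra
  have halgA : ∀ r : R, algebraMap R A r = π (algebraMap R (AdjoinRoot F) r) := fun r => rfl
  let πₐ : AdjoinRoot F →ₐ[R] A := { π with commutes' := fun r => rfl }
  have hπₐ : ∀ c, πₐ c = π c := fun c => rfl
  haveI : Module.Finite R (AdjoinRoot F) := hF.finite_adjoinRoot
  haveI : Module.Finite R A := Module.Finite.of_surjective πₐ.toLinearMap hπ
  set ξ : A := π (AdjoinRoot.root F) with hξ
  have hπmk : ∀ P : R[X], π (AdjoinRoot.mk F P) = aeval ξ P := by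
    intro P
    rw [← hπₐ, ← AdjoinRoot.aeval_eq, ← Polynomial.aeval_algHom_apply]
    rfl
  have haevalalg : ∀ (P : R[X]) (c : R), aeval (algebraMap R A c) P = algebraMap R A (P.eval c) := by
    intro P c
    rw [Polynomial.aeval_algebraMap_apply, Polynomial.aeval_def]
    rfl
  have hθalg : ∀ r : R, θ (algebraMap R A r) = IsLocalRing.residue R r := by
    intro r
    rw [halgA, hθ]
    have := hψ (C r)
    rw [Polynomial.eval_C] at this
    rw [← this]
    rfl
  -- t = ξ - a₀ is a nonunit
  set t : A := ξ - algebraMap R A a₀ with ht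
  have htθ : θ t = 0 := by
    rw [ht, map_sub, hθalg, hξ, hθ]
    have := hψ X
    rw [Polynomial.eval_X, AdjoinRoot.mk_X] at this
    rw [this, sub_self]
  have htnu : ¬ IsUnit t := hθunit t htθ
  -- Taylor
  have hFξ : aeval ξ F = 0 := by
    rw [← hπmk, AdjoinRoot.mk_self, map_zero]
  obtain ⟨k, hk⟩ := Polynomial.binomExpansion (F.map (algebraMap R A)) (algebraMap R A a₀) t
  have hsum : algebraMap R A a₀ + t = ξ := by rw [ht]; ring
  rw [hsum, Polynomial.eval_map_algebraMap, hFξ, Polynomial.eval_map_algebraMap, haevalalg,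
    Polynomial.derivative_map, Polynomial.eval_map_algebraMap, haevalalg] at hk
  -- unit
  have hu : IsUnit (algebraMap R A (F.derivative.eval a₀) + k * t) := by
    have hu1 : IsUnit (algebraMap R A (F.derivative.eval a₀)) := h₂.map _
    by_contra hnu
    have h3 : algebraMap R A (F.derivative.eval a₀) + k * t ∈ IsLocalRing.maximalIdeal A :=
      (IsLocalRing.mem_maximalIdeal _).mpr hnu
    have h4 : k * t ∈ IsLocalRing.maximalIdeal A :=
      Ideal.mul_mem_left _ k ((IsLocalRing.mem_maximalIdeal _).mpr htnu)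
    have h5 := Ideal.sub_mem _ h3 h4
    rw [add_sub_cancel_right] at h5
    exact (IsLocalRing.mem_maximalIdeal _).mp h5 hu1
  obtain ⟨ω, hω⟩ := hu.exists_right_inv
  have htμ : t = algebraMap R A (-(F.eval a₀)) * ω := by
    have h6 : (algebraMap R A (F.derivative.eval a₀) + k * t) * t =
        algebraMap R A (-(F.eval a₀)) := by
      rw [map_neg]
      linear_combination (-1 : A) * hk
    calc t = ((algebraMap R A (F.derivative.eval a₀) + k * t) * ω) * t := by rw [hω, one_mul]
      _ = ((algebraMap R A (F.derivative.eval a₀) + k * t) * t) * ω := by ring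
      _ = _ := by rw [h6]
  -- Nakayama
  have hjac : IsLocalRing.maximalIdeal R ≤ Ideal.jacobson ⊥ :=
    IsLocalRing.maximalIdeal_le_jacobson ⊥
  have hNak : (⊤ : Submodule R A) ≤ Submodule.span R {(1 : A)} := by
    apply Submodule.le_of_le_smul_of_le_jacobson_bot (Module.Finite.fg_top) hjac
    intro α _
    obtain ⟨c, rfl⟩ := hπ α
    obtain ⟨P, rfl⟩ := AdjoinRoot.mk_surjective c
    rw [hπmk]
    have hdvd := Polynomial.sub_dvd_eval_sub ξ (algebraMap R A a₀) (P.map (algebraMap R A))
    rw [Polynomial.eval_map_algebraMap, Polynomial.eval_map_algebraMap, haevalalg] at hdvd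
    obtain ⟨β, hβ⟩ := hdvd
    have hdec : aeval ξ P = (P.eval a₀) • (1 : A) + (-(F.eval a₀)) • (ω * β) := by
      rw [Algebra.smul_def, Algebra.smul_def, mul_one]
      have : aeval ξ P = algebraMap R A (P.eval a₀) + t * β := by
        rw [ht, ← hβ]; ring
      rw [this, htμ]; ring
    rw [hdec]
    refine Submodule.add_mem _ (Submodule.mem_sup_left ?_) (Submodule.mem_sup_right ?_)
    · exact Submodule.smul_mem _ _ (Submodule.subset_span rfl)
    · exact Submodule.smul_mem_smul (Ideal.neg_mem_iff _ |>.mpr h₁) Submodule.mem_top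
  obtain ⟨a, ha⟩ := Submodule.mem_span_singleton.mp (hNak (Submodule.mem_top (x := ξ)))
  rw [Algebra.smul_def, mul_one] at ha
  -- (x - a) e = 0
  have hxa : (AdjoinRoot.root F - algebraMap R (AdjoinRoot F) a) * e = 0 := by
    rw [← hE, map_sub, ← halgA, ha, sub_self]
  -- residue
  have haa₀ : IsLocalRing.residue R a = IsLocalRing.residue R a₀ := by
    have h7 := congrArg ψ hxa
    rw [map_mul, hψe, mul_one, map_zero, map_sub] at h7
    have h8 := hψ X
    rw [Polynomial.eval_X, AdjoinRoot.mk_X] at h8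
    have h9 := hψ (C a)
    rw [Polynomial.eval_C] at h9
    have h10 : algebraMap R (AdjoinRoot F) a = AdjoinRoot.mk F (C a) := rfl
    rw [h8, h10, h9, sub_eq_zero] at h7
    exact h7.symm
  -- F(a) e = 0
  have hFae : algebraMap R (AdjoinRoot F) (F.eval a) * e = 0 := by
    obtain ⟨q, hq⟩ := Polynomial.sub_dvd_eval_sub (AdjoinRoot.root F)
      (algebraMap R (AdjoinRoot F) a) (F.map (algebraMap R (AdjoinRoot F)))
    rw [Polynomial.eval_map_algebraMap, Polynomial.eval_map_algebraMap, AdjoinRoot.aeval_eq,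
      AdjoinRoot.mk_self, zero_sub, Polynomial.aeval_algebraMap_apply] at hq
    have h11 : aeval a F = F.eval a := by
      rw [Polynomial.aeval_def]; rfl
    rw [h11] at hq
    have : algebraMap R (AdjoinRoot F) (F.eval a) * e =
        -((AdjoinRoot.root F - algebraMap R (AdjoinRoot F) a) * e * q) := by
      linear_combination (-e) * hq
    rw [this, hxa, zero_mul, neg_zero]
  -- faithfulness
  obtain ⟨P, hP⟩ := AdjoinRoot.mk_surjective e
  have hP' : AdjoinRoot.mk F (P %ₘ F) = e := by
    rw [← hP, AdjoinRoot.mk_eq_mk]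
    exact Polynomial.dvd_modByMonic_sub P F
  have hzero : C (F.eval a) * (P %ₘ F) = 0 := by
    by_contra hne
    have hdvd : F ∣ C (F.eval a) * (P %ₘ F) := by
      rw [← AdjoinRoot.mk_eq_zero, map_mul, hP']
      exact hFae
    refine hF.not_dvd_of_degree_lt hne ?_ hdvd
    calc (C (F.eval a) * (P %ₘ F)).degree ≤ (C (F.eval a)).degree + (P %ₘ F).degree :=
          Polynomial.degree_mul_le _ _
      _ ≤ 0 + (P %ₘ F).degree := by gcongr; exact Polynomial.degree_C_le
      _ = (P %ₘ F).degree := zero_add _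
      _ < F.degree := Polynomial.degree_modByMonic_lt _ hF
  have hcoef : ∃ i, IsUnit ((P %ₘ F).coeff i) := by
    by_contra hcon
    push Not at hcon
    have h12 : (P %ₘ F).map (IsLocalRing.residue R) = 0 := by
      ext i
      rw [Polynomial.coeff_map, Polynomial.coeff_zero, IsLocalRing.residue_eq_zero_iff]
      exact (IsLocalRing.mem_maximalIdeal _).mpr (hcon i)
    have h13 := hψ (P %ₘ F)
    rw [hP', hψe, ← Polynomial.eval₂_hom, ← Polynomial.eval_map, h12, Polynomial.eval_zero] at h13
    exact one_ne_zero h13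
  obtain ⟨i, hi⟩ := hcoef
  have hFa : F.eval a = 0 := by
    have := congrArg (fun p => Polynomial.coeff p i) hzero
    simp only [Polynomial.coeff_C_mul, Polynomial.coeff_zero] at this
    exact (hi.mul_left_eq_zero).mp this
  refine ⟨a, hFa, ?_⟩
  rw [← IsLocalRing.residue_eq_zero_iff, map_sub, haa₀, sub_self]


/-- If `R[X]/(F)` is a finite product of local rings then simple roots of `F` mod `m` lift. -/
theorem H4_root_of_pi_local {R : Type u} [CommRing R] [IsLocalRing R] (F : R[X]) (hF : F.Monic)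
    {ι : Type u} [Fintype ι] {A : ι → Type u} [∀ i, CommRing (A i)] [∀ i, IsLocalRing (A i)]
    (Φ : AdjoinRoot F ≃+* (∀ i, A i)) (a₀ : R)
    (h₁ : F.eval a₀ ∈ IsLocalRing.maximalIdeal R) (h₂ : IsUnit (F.derivative.eval a₀)) :
    ∃ a : R, F.IsRoot a ∧ a - a₀ ∈ IsLocalRing.maximalIdeal R := by
  classical
  have h0 : eval₂ (IsLocalRing.residue R) (IsLocalRing.residue R a₀) F = 0 := by
    rw [Polynomial.eval₂_hom]
    exact (IsLocalRing.residue_eq_zero_iff _).mpr h₁
  let ψ : AdjoinRoot F →+* IsLocalRing.ResidueField R :=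
    AdjoinRoot.lift (IsLocalRing.residue R) (IsLocalRing.residue R a₀) h0
  have hψ : ∀ P : R[X], ψ (AdjoinRoot.mk F P) = IsLocalRing.residue R (P.eval a₀) := by
    intro P
    rw [AdjoinRoot.lift_mk, Polynomial.eval₂_hom]
  let E : ι → AdjoinRoot F := fun i => Φ.symm (Pi.single i 1)
  have hsum : ∑ i, E i = 1 := by
    have h1 : ∑ i, (Pi.single i ((1 : ∀ i, A i) i) : ∀ i, A i) = 1 := Finset.univ_sum_single _
    have h2 := congrArg Φ.symm h1
    rw [map_sum, map_one] at h2
    exact h2
  have hex : ∃ i, ψ (E i) ≠ 0 := by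
    by_contra hcon
    push Not at hcon
    have := congrArg ψ hsum
    rw [map_sum, Finset.sum_eq_zero (fun i _ => hcon i), map_one] at this
    exact zero_ne_one this
  obtain ⟨i₀, hi₀⟩ := hex
  have hidem : E i₀ * E i₀ = E i₀ := by
    show Φ.symm _ * Φ.symm _ = Φ.symm _
    rw [← map_mul, ← Pi.single_mul, mul_one]
  have hψe : ψ (E i₀) = 1 := by
    have := congrArg ψ hidem
    rw [map_mul] at this
    have h3 : ψ (E i₀) * ψ (E i₀) = ψ (E i₀) * 1 := by rw [mul_one]; exact this
    exact mul_left_cancel₀ hi₀ h3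
  let π : AdjoinRoot F →+* A i₀ := (Pi.evalRingHom A i₀).comp Φ.toRingHom
  have hπ : ∀ c, π c = Φ c i₀ := fun c => rfl
  have hπsurj : Function.Surjective π := by
    intro z
    refine ⟨Φ.symm (Pi.single i₀ z), ?_⟩
    rw [hπ, Φ.apply_symm_apply, Pi.single_eq_same]
  have hE : ∀ c, π c = 0 ↔ c * E i₀ = 0 := by
    intro c
    have key : Φ (c * E i₀) = Pi.single i₀ (π c) := by
      rw [map_mul, Φ.apply_symm_apply]
      funext j
      by_cases hj : j = i₀
      · subst hj
        simp [hπ]
      · simp [Pi.single_eq_of_ne hj]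
    constructor
    · intro h
      apply Φ.injective
      rw [key, h, Pi.single_zero, map_zero]
    · intro h
      rw [h, map_zero] at key
      have := congrFun key i₀
      rw [Pi.single_eq_same] at this
      exact this.symm
  exact H4_root_of_local_factor F hF π hπsurj (E i₀) hE a₀ h₁ h₂ ψ hψ hψe

end Groth.Agent.H4
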