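import Mathlib
import Groth.Agent.S0501
import Groth.Agent.S0505
import Groth.Agent.Lib.helper4.TensorKer
import Groth.Agent.Lib.helper4.FiniteHenselian
import Groth.Agent.Lib.helper4.EssEtale

/-! Helper lemmas for maps between finite étale algebras over a Henselian local ring. -/

set_option autoImplicit false
universe u

open TensorProduct

namespace Groth.Agent.H4

/-- Étale lifting: a map to the residue field of a Henselian local algebra lifts. -/
theorem H4_etale_exists_lift_of_residue {R S A : Type u} [CommRing R] [CommRing S]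
    [HenselianLocalRing S] [Algebra R S] [CommRing A] [Algebra R A] [Algebra.Etale R A]
    (g : A →ₐ[R] IsLocalRing.ResidueField S) :
    ∃ f : A →ₐ[R] S, ∀ a, IsLocalRing.residue S (f a) = g a := by
  classical
  let q : Ideal A := RingHom.ker g
  haveI : q.IsPrime := RingHom.ker_isPrime g
  let τ : q.ResidueField →+* IsLocalRing.ResidueField S :=
    Ideal.ResidueField.lift q g.toRingHom le_rfl (by
      intro a ha
      show IsUnit (g a)
      rw [isUnit_iff_ne_zero]
      intro h0
      exact ha ((RingHom.mem_ker).mpr h0))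
  have hτ : ∀ a, τ (algebraMap A q.ResidueField a) = g a := fun a =>
    Ideal.ResidueField.lift_algebraMap _ _ _ _ a
  have hcompat : τ.comp (algebraMap R q.ResidueField) =
      (IsLocalRing.residue S).comp (algebraMap R S) := by
    ext r
    rw [RingHom.comp_apply, IsScalarTower.algebraMap_apply R A q.ResidueField, hτ,
      g.commutes]
    rfl
  obtain ⟨F, ⟨-, hF⟩, -⟩ := Groth.Agent.S0501.result R S A q τ hcompat
  exact ⟨F, fun a => by rw [hF, hτ]⟩

variable {R : Type u} [CommRing R] [IsLocalRing R]

/-- Every element of `k ⊗ M` is of the form `1 ⊗ y`. -/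
theorem H4_exists_one_tmul {M : Type u} [AddCommGroup M] [Module R M]
    (t : IsLocalRing.ResidueField R ⊗[R] M) : ∃ y : M, (1 : IsLocalRing.ResidueField R) ⊗ₜ[R] y = t := by
  induction t using TensorProduct.induction_on with
  | zero => exact ⟨0, by simp⟩
  | tmul x e =>
    obtain ⟨r, rfl⟩ := IsLocalRing.residue_surjective x
    refine ⟨r • e, ?_⟩
    rw [TensorProduct.tmul_smul, TensorProduct.smul_tmul']
    congr 1
    rw [Algebra.smul_def, mul_one]
    rfl
  | add a b ha hb =>
    obtain ⟨e₁, rfl⟩ := ha
    obtain ⟨e₂, rfl⟩ := hb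
    exact ⟨e₁ + e₂, by rw [TensorProduct.tmul_add]⟩

theorem H4_one_tmul_eq_zero_iff {M : Type u} [AddCommGroup M] [Module R M] (y : M) :
    (1 : IsLocalRing.ResidueField R) ⊗ₜ[R] y = 0 ↔
      y ∈ (IsLocalRing.maximalIdeal R) • (⊤ : Submodule R M) := by
  constructor
  · intro h
    have := H4_mem_smul_top_of_one_tmul_eq_zero (B := R) (C := IsLocalRing.ResidueField R)
      (M := M) IsLocalRing.residue_surjective y h
    rwa [show RingHom.ker (algebraMap R (IsLocalRing.ResidueField R)) =
      IsLocalRing.maximalIdeal R from IsLocalRing.ker_residue] at this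
  · intro h
    refine Submodule.smul_induction_on h ?_ ?_
    · intro r hr n _
      rw [TensorProduct.tmul_smul, TensorProduct.smul_tmul']
      have : r • (1 : IsLocalRing.ResidueField R) = 0 := by
        rw [Algebra.smul_def, mul_one]
        exact (IsLocalRing.residue_eq_zero_iff r).mpr hr
      rw [this, TensorProduct.zero_tmul]
    · intro x y hx hy
      rw [TensorProduct.tmul_add, hx, hy, add_zero]


/-- A finite algebra over a Henselian local ring is a finite product of local `R`-algebras. -/
theorem H4_finite_henselian_pi_alg (R : Type u) [CommRing R] [HenselianLocalRing R]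
    (B : Type u) [CommRing B] [Algebra R B] [Module.Finite R B] :
    ∃ (ι : Type u) (_ : Fintype ι) (A : ι → Type u) (_ : ∀ i, CommRing (A i))
      (_ : ∀ i, Algebra R (A i)), (∀ i, IsLocalRing (A i)) ∧ Nonempty (B ≃ₐ[R] (∀ i, A i)) := by
  obtain ⟨ι, hι, A, hA, hloc, ⟨Φ⟩⟩ := H4_finite_henselian_pi R B
  letI algA : ∀ i, Algebra R (A i) := fun i =>
    ((Pi.evalRingHom A i).comp ((Φ : B →+* (∀ i, A i)).comp (algebraMap R B))).toAlgebra
  refine ⟨ι, hι, A, hA, algA, hloc, ⟨AlgEquiv.ofRingEquiv (f := Φ) ?_⟩⟩
  intro r
  funext i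
  rfl

end Groth.Agent.H4
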