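import Mathlib

/-! Finite algebras over a local ring: decomposing as a product of local rings
versus lifting idempotents modulo `𝔪B`. -/

set_option autoImplicit false
universe u

namespace Groth.Agent.H4

theorem H4_idem_eq_zero_of_mem_jacobson {B : Type*} [CommRing B] {e : B}
    (he : IsIdempotentElem e) (hj : e ∈ Ideal.jacobson (⊥ : Ideal B)) : e = 0 := by
  have h1 : IsUnit (e * (-1) + 1) := Ideal.mem_jacobson_bot.mp hj (-1)
  have h2 : (e * (-1) + 1) * e = 0 := by
    have h : e * e = e := he
    linear_combination -h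
  exact (h1.mul_right_eq_zero).mp h2

theorem H4_exists_idem_of_equiv_pi_local {B : Type u} [CommRing B] {ι : Type u} (C : ι → Type u)
    [∀ j, CommRing (C j)] [∀ j, IsLocalRing (C j)] (σ : B ≃+* (Π j, C j)) (x : B) :
    ∃ e : B, IsIdempotentElem e ∧ ∃ w : B, e - x = w * (x * x - x) := by
  classical
  let y : Π j, C j := σ x
  let e' : Π j, C j := fun j => if IsUnit (y j) then 1 else 0
  let w' : Π j, C j := fun j =>
    if IsUnit (y j) then - Ring.inverse (y j) else Ring.inverse (1 - y j)
  have he' : IsIdempotentElem e' := by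
    funext j
    show e' j * e' j = e' j
    by_cases h : IsUnit (y j) <;> simp [e', h]
  have hw' : e' - y = w' * (y * y - y) := by
    funext j
    show e' j - y j = w' j * (y j * y j - y j)
    by_cases h : IsUnit (y j)
    · simp only [e', w', h, if_true]
      have := Ring.inverse_mul_cancel (y j) h
      linear_combination (y j - 1) * this
    · have h' : IsUnit (1 - y j) :=
        (IsLocalRing.isUnit_or_isUnit_one_sub_self (y j)).resolve_left h
      simp only [e', w', h, if_false]
      have := Ring.inverse_mul_cancel (1 - y j) h'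
      linear_combination (y j) * this
  refine ⟨σ.symm e', ?_, σ.symm w', ?_⟩
  · exact he'.map σ.symm
  · apply σ.injective
    simp only [map_sub, map_mul, RingEquiv.apply_symm_apply]
    exact hw'

theorem H4_map_maximalIdeal_le_jacobson (A : Type*) [CommRing A] [IsLocalRing A] (B : Type*)
    [CommRing B] [Algebra A B] [Algebra.IsIntegral A B] :
    Ideal.map (algebraMap A B) (IsLocalRing.maximalIdeal A) ≤ Ideal.jacobson ⊥ := by
  rw [Ideal.jacobson]
  refine le_sInf fun M hM => ?_
  haveI := hM.2
  rw [Ideal.map_le_iff_le_comap]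
  have : (M.comap (algebraMap A B)).IsMaximal :=
    Ideal.isMaximal_comap_of_isIntegral_of_isMaximal (R := A) M
  rw [IsLocalRing.eq_maximalIdeal this]

theorem H4_exists_equiv_pi_local_of_idem_lift {B : Type u} [CommRing B] (I : Ideal B)
    (hI : I ≤ Ideal.jacobson ⊥) [IsArtinianRing (B ⧸ I)]
    (hs : Set.SurjOn (Ideal.Quotient.mk I) {e : B | IsIdempotentElem e}
      {e | IsIdempotentElem e}) :
    ∃ (ι : Type u) (_ : Fintype ι) (C : ι → Type u) (_ : ∀ j, CommRing (C j)),
        (∀ j, IsLocalRing (C j)) ∧ Nonempty (B ≃+* (∀ j, C j)) := by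
  classical
  set π := Ideal.Quotient.mk I with hπ
  have hzero : ∀ e : B, IsIdempotentElem e → π e = 0 → e = 0 := fun e he h =>
    H4_idem_eq_zero_of_mem_jacobson he (hI (Ideal.Quotient.eq_zero_iff_mem.mp h))
  have hunit : ∀ t : B, IsUnit (π t) → IsUnit t := fun t ht =>
    (isLocalHom_of_le_jacobson_bot I hI).map_nonunit t ht
  haveI : Finite (PrimeSpectrum (B ⧸ I)) := inferInstance
  letI : Fintype (PrimeSpectrum (B ⧸ I)) := Fintype.ofFinite _
  have hr : ∀ P : PrimeSpectrum (B ⧸ I), ∃ r : B ⧸ I, r ∉ P.asIdeal ∧ IsIdempotentElem r ∧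
      ∀ q : Ideal (B ⧸ I), q.IsPrime → q ≠ P.asIdeal → r ∈ q := fun P =>
    IsArtinianRing.exists_not_mem_forall_mem_of_ne P.asIdeal
  choose r hrP hridem hrQ using hr
  have he : ∀ P, ∃ e : B, IsIdempotentElem e ∧ π e = r P := fun P => hs (hridem P)
  choose e heidem hπe using he
  have hkey : ∀ f : B, IsIdempotentElem f →
      (∀ Q : PrimeSpectrum (B ⧸ I), π f ∈ Q.asIdeal) → f = 0 := by
    intro f hf hQ
    apply hzero f hf
    apply (hf.map π).eq_zero_of_isNilpotent
    rw [nilpotent_iff_mem_prime]
    intro J hJ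
    exact hQ ⟨J, hJ⟩
  have h1r : ∀ P, 1 - r P ∈ P.asIdeal := by
    intro P
    have h : r P * (1 - r P) = 0 := by
      rw [mul_sub, mul_one, (hridem P).eq, sub_self]
    have h0 : r P * (1 - r P) ∈ P.asIdeal := by rw [h]; exact zero_mem _
    exact (P.isPrime.mem_or_mem h0).resolve_left (hrP P)
  have horth : OrthogonalIdempotents e := by
    refine ⟨heidem, ?_⟩
    intro P Q hPQ
    apply hkey _ ((heidem P).mul (heidem Q))
    intro Q'
    rw [map_mul, hπe, hπe]
    by_cases h : Q' = P
    · refine Ideal.mul_mem_left _ _ (hrQ Q Q'.asIdeal Q'.isPrime fun h' => hPQ ?_)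
      rw [← h]
      exact (PrimeSpectrum.ext h')
    · exact Ideal.mul_mem_right _ _ (hrQ P Q'.asIdeal Q'.isPrime fun h' => h (PrimeSpectrum.ext h'))
  have hcomp : CompleteOrthogonalIdempotents e := by
    refine ⟨horth, ?_⟩
    have hsum : IsIdempotentElem (∑ P, e P) := horth.isIdempotentElem_sum
    have h1 : 1 - ∑ P, e P = 0 := by
      apply hkey _ hsum.one_sub
      intro Q
      rw [map_sub, map_one, map_sum]
      simp only [hπe]
      rw [← Finset.add_sum_erase Finset.univ _ (Finset.mem_univ Q), ← sub_sub]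
      refine Ideal.sub_mem _ (h1r Q) (Ideal.sum_mem _ fun P hP => ?_)
      exact hrQ P Q.asIdeal Q.isPrime fun h' =>
        (Finset.ne_of_mem_erase hP) (PrimeSpectrum.ext h').symm
    exact (sub_eq_zero.mp h1).symm
  have hbij := hcomp.bijective_pi
  refine ⟨PrimeSpectrum (B ⧸ I), inferInstance, fun P => B ⧸ Ideal.span {1 - e P}, inferInstance,
    ?_, ⟨RingEquiv.ofBijective _ hbij⟩⟩
  intro P
  haveI : Nontrivial (B ⧸ Ideal.span {1 - e P}) := by
    rw [Ideal.Quotient.nontrivial_iff]
    intro htop
    have h1 : (1 : B) ∈ Ideal.span {1 - e P} := by rw [htop]; trivial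
    obtain ⟨c, hc⟩ := Ideal.mem_span_singleton'.mp h1
    have h2 : e P = 0 := by
      calc e P = (c * (1 - e P)) * e P := by rw [hc, one_mul]
        _ = c * (e P - e P * e P) := by ring
        _ = 0 := by rw [(heidem P).eq, sub_self, mul_zero]
    apply hrP P
    rw [← hπe P, h2, map_zero]; exact zero_mem _
  have claim : ∀ x : B, π x ∉ P.asIdeal →
      IsUnit (Ideal.Quotient.mk (Ideal.span {1 - e P}) x) := by
    intro x hx
    have ht : IsUnit (x * e P + (1 - e P)) := by
      apply hunit
      by_contra hnu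
      obtain ⟨M, hM, hmem⟩ := exists_max_ideal_of_mem_nonunits hnu
      by_cases hMP : M = P.asIdeal
      · rw [hMP] at hmem
        apply hx
        have h : π x = π (x * e P + (1 - e P)) + (π x - 1) * (1 - r P) := by
          rw [map_add, map_mul, map_sub, map_one, hπe]; ring
        rw [h]
        exact Ideal.add_mem _ hmem (Ideal.mul_mem_left _ _ (h1r P))
      · have hrM : r P ∈ M := hrQ P M hM.isPrime hMP
        have h : (1 : B ⧸ I) = π (x * e P + (1 - e P)) + (1 - π x) * r P := by
          rw [map_add, map_mul, map_sub, map_one, hπe]; ring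
        exact hM.ne_top ((Ideal.eq_top_iff_one _).mpr
          (h ▸ Ideal.add_mem _ hmem (Ideal.mul_mem_left _ _ hrM)))
    have himg : Ideal.Quotient.mk (Ideal.span {1 - e P}) (x * e P + (1 - e P)) =
        Ideal.Quotient.mk (Ideal.span {1 - e P}) x := by
      rw [Ideal.Quotient.eq, Ideal.mem_span_singleton']
      exact ⟨1 - x, by ring⟩
    rw [← himg]
    exact ht.map _
  refine IsLocalRing.of_isUnit_or_isUnit_one_sub_self fun a => ?_
  obtain ⟨x, rfl⟩ := Ideal.Quotient.mk_surjective a
  by_cases hx : π x ∈ P.asIdeal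
  · right
    rw [← map_one (Ideal.Quotient.mk (Ideal.span {1 - e P})), ← map_sub]
    apply claim
    rw [map_sub, map_one]
    intro h
    refine P.isPrime.ne_top ((Ideal.eq_top_iff_one _).mpr ?_)
    have := Ideal.add_mem _ h hx
    rwa [sub_add_cancel] at this
  · left; exact claim x hx

theorem H4_finite_local_artinian_quotient (A : Type u) [CommRing A] [IsLocalRing A] (B : Type u)
    [CommRing B] [Algebra A B] [Module.Finite A B] :
    IsArtinianRing (B ⧸ Ideal.map (algebraMap A B) (IsLocalRing.maximalIdeal A)) := by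
  letI := Ideal.Quotient.field (IsLocalRing.maximalIdeal A)
  haveI : Module.Finite (A ⧸ IsLocalRing.maximalIdeal A)
      (B ⧸ Ideal.map (algebraMap A B) (IsLocalRing.maximalIdeal A)) :=
    Module.Finite.of_restrictScalars_finite A _ _
  exact IsArtinianRing.of_finite (A ⧸ IsLocalRing.maximalIdeal A) _

end Groth.Agent.H4
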