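import Mathlib
import Groth.Agent.S0498

set_option autoImplicit false
universe u

namespace Groth.Agent.H4

open Polynomial

/-- A proper quotient of a henselian local ring is henselian. -/
theorem H4_henselian_quotient {R : Type*} [CommRing R] [HenselianLocalRing R] (I : Ideal R)
    (hI : I ≠ ⊤) : HenselianLocalRing (R ⧸ I) := by
  classical
  haveI : Nontrivial (R ⧸ I) := Ideal.Quotient.nontrivial_iff.mpr hI
  haveI hloc : IsLocalRing (R ⧸ I) :=
    IsLocalRing.of_surjective' (Ideal.Quotient.mk I) Ideal.Quotient.mk_surjective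
  have hjac : I ≤ Ideal.jacobson ⊥ := by
    rw [IsLocalRing.jacobson_eq_maximalIdeal ⊥ bot_ne_top]
    exact IsLocalRing.le_maximalIdeal hI
  haveI : IsLocalHom (Ideal.Quotient.mk I) := isLocalHom_of_le_jacobson_bot I hjac
  have hmem : ∀ b : R, b ∈ IsLocalRing.maximalIdeal R ↔
      Ideal.Quotient.mk I b ∈ IsLocalRing.maximalIdeal (R ⧸ I) := by
    intro b
    rw [IsLocalRing.mem_maximalIdeal, IsLocalRing.mem_maximalIdeal, mem_nonunits_iff,
      mem_nonunits_iff]
    constructor
    · intro h h'
      exact h (IsUnit.of_map (Ideal.Quotient.mk I) b h')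
    · intro h h'
      exact h (h'.map _)
  refine { hloc with is_henselian := ?_ }
  intro f hf a₀ h₁ h₂
  have hlift : f ∈ Polynomial.lifts (Ideal.Quotient.mk I) := by
    rw [Polynomial.lifts_iff_coeff_lifts]
    intro n
    exact Ideal.Quotient.mk_surjective _
  obtain ⟨F, hF1, hF2, hFm⟩ := Polynomial.lifts_and_natDegree_eq_and_monic hlift hf
  obtain ⟨A₀, rfl⟩ := Ideal.Quotient.mk_surjective a₀
  have hev : ∀ (P : R[X]) (x : R), (P.map (Ideal.Quotient.mk I)).eval (Ideal.Quotient.mk I x) =
      Ideal.Quotient.mk I (P.eval x) := by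
    intro P x
    rw [Polynomial.eval_map, Polynomial.eval₂_hom]
  have h₁' : F.eval A₀ ∈ IsLocalRing.maximalIdeal R := by
    rw [hmem, ← hev, hF1]; exact h₁
  have h₂' : IsUnit ((derivative F).eval A₀) := by
    apply IsUnit.of_map (Ideal.Quotient.mk I)
    rw [← hev, ← Polynomial.derivative_map, hF1]; exact h₂
  obtain ⟨A, hA, hA'⟩ := HenselianLocalRing.is_henselian F hFm A₀ h₁' h₂'
  refine ⟨Ideal.Quotient.mk I A, ?_, ?_⟩
  · rw [Polynomial.IsRoot, ← hF1, hev, hA, map_zero]
  · rw [← map_sub, ← hmem]; exact hA'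

/-- Localizations of henselian valuation rings at primes are henselian. -/
theorem H4_henselian_localization_valuationRing {V : Type u} [CommRing V] [IsDomain V]
    [ValuationRing V] [HenselianLocalRing V] (p : Ideal V) [p.IsPrime] :
    HenselianLocalRing (Localization.AtPrime p) := by
  classical
  refine { (inferInstance : IsLocalRing (Localization.AtPrime p)) with is_henselian := ?_ }
  intro f hfm a₀ h₁ h₂
  -- shift
  set f₁ : (Localization.AtPrime p)[X] := f.comp (X + C a₀) with hf₁
  have hf₁ev : ∀ x, f₁.eval x = f.eval (x + a₀) := by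
    intro x; simp [hf₁, Polynomial.eval_comp]
  have hf₁der : (derivative f₁).eval 0 = (derivative f).eval a₀ := by
    simp [hf₁, Polynomial.derivative_comp, Polynomial.eval_comp]
  obtain ⟨s, hs⟩ := IsLocalization.integerNormalization_map_to_map p.primeCompl f₁
  set F : V[X] := IsLocalization.integerNormalization p.primeCompl f₁ with hF
  have hcoeff : ∀ i, algebraMap V (Localization.AtPrime p) (F.coeff i) =
      algebraMap V (Localization.AtPrime p) s * f₁.coeff i := by
    intro i
    have := congrArg (fun q => Polynomial.coeff q i) hs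
    simp only [Polynomial.coeff_map, Polynomial.coeff_smul] at this
    rw [this, Algebra.smul_def]
  have hsu : IsUnit (algebraMap V (Localization.AtPrime p) s) :=
    IsLocalization.map_units _ s
  -- c₀ ∈ p
  have hc0 : F.coeff 0 ∈ p := by
    rw [← IsLocalization.AtPrime.to_map_mem_maximal_iff (Localization.AtPrime p) p, hcoeff,
      Polynomial.coeff_zero_eq_eval_zero, hf₁ev, zero_add]
    exact Ideal.mul_mem_left _ _ h₁
  -- d ∉ p
  have hd : F.coeff 1 ∈ p.primeCompl := by
    rw [← IsLocalization.AtPrime.isUnit_to_map_iff (Localization.AtPrime p) p, hcoeff]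
    refine hsu.mul ?_
    have : f₁.coeff 1 = (derivative f₁).eval 0 := by
      rw [← Polynomial.coeff_zero_eq_eval_zero, Polynomial.coeff_derivative]
      simp
    rw [this, hf₁der]
    exact h₂
  set d := F.coeff 1 with hddef
  -- d² ∣ c₀
  obtain ⟨e, he⟩ : d ^ 2 ∣ F.coeff 0 := by
    rcases ValuationRing.dvd_total (d ^ 2) (F.coeff 0) with h | h
    · exact h
    · exfalso
      have : d ^ 2 ∈ p := Ideal.mem_of_dvd _ h hc0
      exact hd (Ideal.IsPrime.mem_of_pow_mem ‹p.IsPrime› 2 this)
  have hep : e ∈ p := by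
    rw [he] at hc0
    rcases Ideal.IsPrime.mem_or_mem ‹p.IsPrime› hc0 with h | h
    · exact absurd (Ideal.IsPrime.mem_of_pow_mem ‹p.IsPrime› 2 h) hd
    · exact h
  have hpm : p ≤ IsLocalRing.maximalIdeal V := IsLocalRing.le_maximalIdeal (Ideal.IsPrime.ne_top ‹_›)
  -- decomposition of F
  set Q : V[X] := F.divX.divX with hQ
  have hFdec : F = Q * X ^ 2 + C d * X + C (F.coeff 0) := by
    have h1 := Polynomial.divX_mul_X_add F
    have h2 := Polynomial.divX_mul_X_add F.divX
    have h3 : F.divX.coeff 0 = d := by rw [Polynomial.coeff_divX]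
    rw [h3] at h2
    calc F = F.divX * X + C (F.coeff 0) := h1.symm
      _ = (F.divX.divX * X + C d) * X + C (F.coeff 0) := by rw [h2]
      _ = _ := by rw [hQ]; ring
  have hFev : ∀ z : V, F.eval (d * z) = d ^ 2 * (Q.eval (d * z) * z ^ 2 + z + e) := by
    intro z
    conv_lhs => rw [hFdec]
    simp only [Polynomial.eval_add, Polynomial.eval_mul, Polynomial.eval_pow, Polynomial.eval_X,
      Polynomial.eval_C]
    rw [he]; ring
  let G : V[X] := (Q.comp (C d * X)) * X ^ 2 + X + C e
  have hGev : ∀ z : V, G.eval z = Q.eval (d * z) * z ^ 2 + z + e := by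
    intro z
    simp [G, Polynomial.eval_comp]
  have hG0 : Polynomial.eval₂ (IsLocalRing.residue V) (0 : IsLocalRing.ResidueField V) G = 0 := by
    rw [← map_zero (IsLocalRing.residue V), Polynomial.eval₂_hom, hGev]
    simp only [mul_zero, ne_eq, OfNat.ofNat_ne_zero, not_false_eq_true, zero_pow, zero_add]
    exact (IsLocalRing.residue_eq_zero_iff _).mpr (hpm hep)
  have hG1 : Polynomial.eval₂ (IsLocalRing.residue V) (0 : IsLocalRing.ResidueField V)
      (derivative G) ≠ 0 := by
    rw [← map_zero (IsLocalRing.residue V), Polynomial.eval₂_hom]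
    have : (derivative G).eval 0 = 1 := by
      simp [G, Polynomial.derivative_mul, Polynomial.derivative_comp]
    rw [this, map_one]
    exact one_ne_zero
  obtain ⟨z, hz, hz0⟩ := Groth.Agent.S0498.result V G 0 hG0 hG1
  have hzm : z ∈ IsLocalRing.maximalIdeal V := (IsLocalRing.residue_eq_zero_iff _).mp hz0
  have hzp : z ∈ p := by
    rw [Polynomial.IsRoot, hGev] at hz
    have hu : IsUnit (1 + Q.eval (d * z) * z) := by
      by_contra hnu
      have h3 := (IsLocalRing.mem_maximalIdeal _).mpr hnu
      have h4 : Q.eval (d * z) * z ∈ IsLocalRing.maximalIdeal V := Ideal.mul_mem_left _ _ hzm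
      have h5 := Ideal.sub_mem _ h3 h4
      rw [add_sub_cancel_right] at h5
      exact (IsLocalRing.mem_maximalIdeal _).mp h5 isUnit_one
    have h6 : (1 + Q.eval (d * z) * z) * z = -e := by linear_combination hz
    obtain ⟨w, hw⟩ := hu.exists_left_inv
    have h7 : z = w * (-e) := by
      rw [← h6, ← mul_assoc, hw, one_mul]
    rw [h7]
    exact Ideal.mul_mem_left _ _ ((Ideal.neg_mem_iff _).mpr hep)
  have hFz : F.eval (d * z) = 0 := by
    rw [hFev]
    rw [Polynomial.IsRoot, hGev] at hz
    rw [hz, mul_zero]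
  set x : Localization.AtPrime p := algebraMap V _ (d * z) with hx
  have hf₁x : f₁.eval x = 0 := by
    have h8 := congrArg (Polynomial.eval x) hs
    rw [hx, Polynomial.eval_map, Polynomial.eval₂_hom, hFz, map_zero, Polynomial.eval_smul,
      Algebra.smul_def] at h8
    exact (hsu.mul_right_eq_zero).mp h8.symm
  refine ⟨x + a₀, ?_, ?_⟩
  · rw [Polynomial.IsRoot, ← hf₁ev]; exact hf₁x
  · rw [add_sub_cancel_right, hx,
      IsLocalization.AtPrime.to_map_mem_maximal_iff (Localization.AtPrime p) p]
    exact Ideal.mul_mem_left _ _ hzp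

end Groth.Agent.H4
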