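import Mathlib
import Groth.Prelude.Def_Hensel
import Groth.Agent.S13598
import Groth.Agent.Lib.helper4.FiniteHenselian

/-! Basic consequences of the universal property of the henselization. -/

set_option autoImplicit false
universe u

namespace Groth.Agent.H4

/-- A ring is adically complete with respect to a nilpotent ideal. -/
theorem H4_isAdicComplete_of_pow_eq_bot {R : Type*} [CommRing R] (I : Ideal R) (n : ℕ)
    (h : I ^ n = ⊥) : IsAdicComplete I R := by
  have hle : ∀ k, n ≤ k → (I ^ k • ⊤ : Submodule R R) = ⊥ := by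
    intro k hk
    have : I ^ k ≤ I ^ n := Ideal.pow_le_pow_right hk
    rw [h, le_bot_iff] at this
    rw [this]
    simp
  refine { haus' := ?_, prec' := ?_ }
  · intro x hx
    have := hx n
    rw [hle n le_rfl, SModEq.bot] at this
    exact this
  · intro f hf
    refine ⟨f n, fun k => ?_⟩
    rcases le_total k n with hk | hk
    · exact hf hk
    · have := hf hk
      rw [hle n le_rfl, SModEq.bot] at this
      rw [this]

/-- A local ring with nilpotent maximal ideal is Henselian. -/
theorem H4_henselian_of_nilpotent_maximalIdeal {R : Type*} [CommRing R] [IsLocalRing R] (n : ℕ)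
    (h : IsLocalRing.maximalIdeal R ^ n = ⊥) : HenselianLocalRing R := by
  haveI := H4_isAdicComplete_of_pow_eq_bot _ n h
  haveI : HenselianRing R (IsLocalRing.maximalIdeal R) := inferInstance
  exact H4_henselianLocalRing_of_henselianRing R

/-- The henselization of a Henselian local ring is the ring itself. -/
theorem H4_henselization_bijective_of_henselian {R S : Type u} [CommRing R] [HenselianLocalRing R]
    [CommRing S] [IsLocalRing S] [Algebra R S] [IsLocalHom (algebraMap R S)]
    [hS : Hensel.IsHenselization R S] : Function.Bijective (algebraMap R S) := by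
  haveI : HenselianLocalRing S := hS.henselian
  obtain ⟨g, hg, -⟩ := hS.universal R (RingHom.id R) ⟨fun a ha => ha⟩
  obtain ⟨h, -, hh⟩ := hS.universal S (algebraMap R S) inferInstance
  have h1 : (algebraMap R S).comp g = h := hh _ (by
    show ((algebraMap R S).comp g).comp (algebraMap R S) = algebraMap R S
    rw [RingHom.comp_assoc, hg, RingHom.comp_id])
  have h2 : RingHom.id S = h := hh _ (by
    show (RingHom.id S).comp (algebraMap R S) = algebraMap R S
    rw [RingHom.id_comp])
  have h3 : ∀ s, algebraMap R S (g s) = s := fun s => by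
    have := RingHom.congr_fun (h1.trans h2.symm) s
    simpa using this
  have h4 : ∀ r, g (algebraMap R S r) = r := fun r => RingHom.congr_fun hg r
  exact ⟨fun a b hab => by rw [← h4 a, ← h4 b, hab], fun s => ⟨g s, h3 s⟩⟩

/-- Local-ring instances for the quotients by an ideal inside the maximal ideal. -/
theorem H4_quotient_local_instances {R S : Type u} [CommRing R] [IsLocalRing R]
    [CommRing S] [IsLocalRing S] [Algebra R S] [IsLocalHom (algebraMap R S)]
    (I : Ideal R) (hI : I ≤ IsLocalRing.maximalIdeal R) :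
    IsLocalRing (R ⧸ I) ∧ I.map (algebraMap R S) ≤ IsLocalRing.maximalIdeal S ∧
      IsLocalRing (S ⧸ I.map (algebraMap R S)) ∧
      IsLocalHom (algebraMap (R ⧸ I) (S ⧸ I.map (algebraMap R S))) := by
  have hI' : I ≠ ⊤ := fun h => (IsLocalRing.maximalIdeal.isMaximal R).ne_top (top_le_iff.mp (h ▸ hI))
  haveI : Nontrivial (R ⧸ I) := Ideal.Quotient.nontrivial_iff.mpr hI'
  have h1 : IsLocalRing (R ⧸ I) :=
    IsLocalRing.of_surjective' (Ideal.Quotient.mk I) Ideal.Quotient.mk_surjective
  have h2 : I.map (algebraMap R S) ≤ IsLocalRing.maximalIdeal S := by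
    rw [Ideal.map_le_iff_le_comap]
    intro a ha
    exact map_nonunit (algebraMap R S) a (hI ha)
  have h2' : I.map (algebraMap R S) ≠ ⊤ := fun h =>
    (IsLocalRing.maximalIdeal.isMaximal S).ne_top (top_le_iff.mp (h ▸ h2))
  haveI : Nontrivial (S ⧸ I.map (algebraMap R S)) := Ideal.Quotient.nontrivial_iff.mpr h2'
  have h3 : IsLocalRing (S ⧸ I.map (algebraMap R S)) :=
    IsLocalRing.of_surjective' (Ideal.Quotient.mk _) Ideal.Quotient.mk_surjective
  refine ⟨h1, h2, h3, ?_⟩
  have hjac : I.map (algebraMap R S) ≤ Ideal.jacobson ⊥ := by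
    rw [IsLocalRing.jacobson_eq_maximalIdeal ⊥ bot_ne_top]
    exact h2
  haveI : IsLocalHom (Ideal.Quotient.mk (I.map (algebraMap R S))) :=
    isLocalHom_of_le_jacobson_bot _ hjac
  constructor
  intro x hx
  obtain ⟨a, rfl⟩ := Ideal.Quotient.mk_surjective x
  have h4 : algebraMap (R ⧸ I) (S ⧸ I.map (algebraMap R S)) (Ideal.Quotient.mk I a) =
      Ideal.Quotient.mk _ (algebraMap R S a) := rfl
  rw [h4] at hx
  have h5 : IsUnit (algebraMap R S a) := isUnit_of_map_unit (Ideal.Quotient.mk _) _ hx
  have h6 : IsUnit a := isUnit_of_map_unit (algebraMap R S) _ h5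
  exact h6.map _

/-- If `R ⧸ I` is Henselian then `R ⧸ I → S ⧸ IS` is bijective for a henselization `S`. -/
theorem H4_henselization_quotient_bijective {R S : Type u} [CommRing R] [IsLocalRing R]
    [CommRing S] [IsLocalRing S] [Algebra R S] [IsLocalHom (algebraMap R S)]
    [Hensel.IsHenselization R S] (I : Ideal R) (hI : I ≤ IsLocalRing.maximalIdeal R)
    (hH : ∀ [IsLocalRing (R ⧸ I)], HenselianLocalRing (R ⧸ I)) :
    Function.Bijective (algebraMap (R ⧸ I) (S ⧸ I.map (algebraMap R S))) := by
  obtain ⟨h1, h2, h3, h4⟩ := H4_quotient_local_instances (S := S) I hI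
  haveI := h1
  haveI := h3
  haveI := h4
  haveI : Hensel.IsHenselization (R ⧸ I) (S ⧸ I.map (algebraMap R S)) :=
    Groth.Agent.S13598.result I hI
  haveI : HenselianLocalRing (R ⧸ I) := hH
  exact H4_henselization_bijective_of_henselian


/-- `R ⧸ m ^ n` is Henselian. -/
theorem H4_henselian_quotient_pow {R : Type u} [CommRing R] [IsLocalRing R] (n : ℕ)
    [IsLocalRing (R ⧸ IsLocalRing.maximalIdeal R ^ n)] :
    HenselianLocalRing (R ⧸ IsLocalRing.maximalIdeal R ^ n) := by
  apply H4_henselian_of_nilpotent_maximalIdeal n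
  rw [eq_bot_iff]
  have h1 : IsLocalRing.maximalIdeal (R ⧸ IsLocalRing.maximalIdeal R ^ n) ≤
      (IsLocalRing.maximalIdeal R).map (Ideal.Quotient.mk (IsLocalRing.maximalIdeal R ^ n)) := by
    intro x hx
    obtain ⟨a, rfl⟩ := Ideal.Quotient.mk_surjective x
    apply Ideal.mem_map_of_mem
    by_contra ha
    have hu : IsUnit a := by
      by_contra h'; exact ha h'
    exact hx (hu.map _)
  calc IsLocalRing.maximalIdeal (R ⧸ IsLocalRing.maximalIdeal R ^ n) ^ n
      ≤ ((IsLocalRing.maximalIdeal R).map
          (Ideal.Quotient.mk (IsLocalRing.maximalIdeal R ^ n))) ^ n := Ideal.pow_right_mono h1 n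
    _ = ⊥ := by rw [← Ideal.map_pow, Ideal.map_quotient_self]

/-- S0510 in lemma form (for `n ≠ 0`). -/
theorem H4_henselization_quotient_pow_bijective {R S : Type u} [CommRing R] [IsLocalRing R]
    [CommRing S] [IsLocalRing S] [Algebra R S] [IsLocalHom (algebraMap R S)]
    [Hensel.IsHenselization R S] (n : ℕ) (hn : n ≠ 0) :
    Function.Bijective (algebraMap (R ⧸ IsLocalRing.maximalIdeal R ^ n)
      (S ⧸ (IsLocalRing.maximalIdeal R ^ n).map (algebraMap R S))) := by
  apply H4_henselization_quotient_bijective (S := S) _ (Ideal.pow_le_self hn)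
  intro _
  exact H4_henselian_quotient_pow n

/-- S0507 in lemma form. -/
theorem H4_henselization_map_maximalIdeal {R S : Type u} [CommRing R] [IsLocalRing R]
    [CommRing S] [IsLocalRing S] [Algebra R S] [IsLocalHom (algebraMap R S)]
    [Hensel.IsHenselization R S] :
    (IsLocalRing.maximalIdeal R).map (algebraMap R S) = IsLocalRing.maximalIdeal S ∧
    Function.Bijective (algebraMap (R ⧸ IsLocalRing.maximalIdeal R)
      (S ⧸ (IsLocalRing.maximalIdeal R).map (algebraMap R S))) := by
  have hbij := H4_henselization_quotient_pow_bijective (R := R) (S := S) 1 one_ne_zero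
  rw [pow_one] at hbij
  refine ⟨?_, hbij⟩
  have hfield : IsField (S ⧸ (IsLocalRing.maximalIdeal R).map (algebraMap R S)) :=
    (RingEquiv.ofBijective _ hbij).symm.toMulEquiv.isField
      ((Ideal.Quotient.maximal_ideal_iff_isField_quotient _).mp
        (IsLocalRing.maximalIdeal.isMaximal R))
  have hmax : ((IsLocalRing.maximalIdeal R).map (algebraMap R S)).IsMaximal :=
    Ideal.Quotient.maximal_of_isField _ hfield
  exact IsLocalRing.eq_maximalIdeal hmax

end Groth.Agent.H4
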