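import Mathlib

/-! Direct limits of local rings along local homomorphisms. -/

set_option autoImplicit false
universe u v

namespace Groth.Agent.H4

open Polynomial

section

variable {ι : Type v} [Preorder ι] [Nonempty ι] [IsDirected ι (· ≤ ·)]
  (G : ι → Type u) [∀ i, CommRing (G i)]
  (f : ∀ i j, i ≤ j → G i →+* G j) [DirectedSystem G (fun i j h => f i j h)]

local notation "L" => Ring.DirectLimit G (fun i j h => f i j h)
local notation "ofL" => Ring.DirectLimit.of G (fun i j h => f i j h)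

theorem H4_dl_map_map {i j k : ι} (hij : i ≤ j) (hjk : j ≤ k) (x : G i) :
    f j k hjk (f i j hij x) = f i k (hij.trans hjk) x :=
  DirectedSystem.map_map (f := fun i j h => f i j h) hij hjk x

theorem H4_dl_eq_zero {i : ι} {x : G i} (h : ofL i x = 0) : ∃ (j : ι) (hij : i ≤ j), f i j hij x = 0 :=
  Ring.DirectLimit.of.zero_exact h

theorem H4_dl_eq {i : ι} {x y : G i} (h : ofL i x = ofL i y) :
    ∃ (j : ι) (hij : i ≤ j), f i j hij x = f i j hij y := by
  have h0 : ofL i (x - y) = 0 := by rw [map_sub, h, sub_self]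
  obtain ⟨j, hij, hj⟩ := H4_dl_eq_zero G f h0
  exact ⟨j, hij, by rwa [map_sub, sub_eq_zero] at hj⟩

theorem H4_dl_exists_pair (a b : L) : ∃ (k : ι) (x y : G k), ofL k x = a ∧ ofL k y = b := by
  obtain ⟨i, x, rfl⟩ := Ring.DirectLimit.exists_of a
  obtain ⟨j, y, rfl⟩ := Ring.DirectLimit.exists_of b
  obtain ⟨k, hik, hjk⟩ := exists_ge_ge i j
  exact ⟨k, f i k hik x, f j k hjk y, Ring.DirectLimit.of_f _ _, Ring.DirectLimit.of_f _ _⟩

variable [∀ i, IsLocalRing (G i)] (hf : ∀ i j (h : i ≤ j), IsLocalHom (f i j h))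

include hf in
theorem H4_dl_isUnit {i : ι} {x : G i} (h : IsUnit (ofL i x)) : IsUnit x := by
  obtain ⟨z, hz⟩ := h.exists_right_inv
  obtain ⟨j, y, rfl⟩ := Ring.DirectLimit.exists_of z
  obtain ⟨k, hik, hjk⟩ := exists_ge_ge i j
  have h1 : ofL k (f i k hik x * f j k hjk y) = ofL k 1 := by
    rw [map_mul, Ring.DirectLimit.of_f, Ring.DirectLimit.of_f, hz, map_one]
  obtain ⟨k', hkk', h2⟩ := H4_dl_eq G f h1
  rw [map_mul, map_one, H4_dl_map_map G f, H4_dl_map_map G f] at h2
  have h3 : IsUnit (f i k' (hik.trans hkk') x) := IsUnit.of_mul_eq_one _ h2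
  haveI := hf i k' (hik.trans hkk')
  exact isUnit_of_map_unit (f i k' (hik.trans hkk')) x h3

include hf in
theorem H4_dl_isLocalRing : IsLocalRing L := by
  haveI : Nontrivial L := by
    refine ⟨⟨0, 1, ?_⟩⟩
    intro h01
    obtain ⟨i⟩ := ‹Nonempty ι›
    have h1 : ofL i 0 = ofL i 1 := by rw [map_zero, map_one, h01]
    obtain ⟨j, hij, h2⟩ := H4_dl_eq G f h1
    rw [map_zero, map_one] at h2
    exact zero_ne_one h2
  apply IsLocalRing.of_isUnit_or_isUnit_of_isUnit_add
  intro a b hab
  obtain ⟨k, x, y, rfl, rfl⟩ := H4_dl_exists_pair G f a b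
  rw [← map_add] at hab
  have := H4_dl_isUnit G f hf hab
  rcases IsLocalRing.isUnit_or_isUnit_of_isUnit_add this with h | h
  · exact Or.inl (h.map _)
  · exact Or.inr (h.map _)

include hf in
theorem H4_dl_isLocalHom_of (i : ι) : IsLocalHom (ofL i) :=
  ⟨fun _ h => H4_dl_isUnit G f hf h⟩


include hf in
/-- A monic polynomial over the limit and an element come from a common stage. -/
theorem H4_dl_exists_monic (F : L[X]) (hF : F.Monic) (a : L) :
    ∃ (k : ι) (p : (G k)[X]) (y : G k), p.Monic ∧ p.map (ofL k) = F ∧ ofL k y = a := by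
  obtain ⟨i, p₀, hp₀⟩ := Ring.DirectLimit.Polynomial.exists_of F
  have hlift : F ∈ Polynomial.lifts (ofL i) := ⟨p₀, hp₀⟩
  obtain ⟨p, hp1, hp2, hp3⟩ := Polynomial.lifts_and_natDegree_eq_and_monic hlift hF
  obtain ⟨j, y, rfl⟩ := Ring.DirectLimit.exists_of a
  obtain ⟨k, hik, hjk⟩ := exists_ge_ge i j
  refine ⟨k, p.map (f i k hik), f j k hjk y, hp3.map _, ?_, Ring.DirectLimit.of_f _ _⟩
  rw [Polynomial.map_map, ← hp1]
  congr 1
  ext x
  simp

include hf in
theorem H4_dl_henselian [∀ i, HenselianLocalRing (G i)] :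
    @HenselianLocalRing L _ := by
  haveI hloc : IsLocalRing L := H4_dl_isLocalRing G f hf
  refine { hloc with is_henselian := ?_ }
  intro F hF a₀ h₁ h₂
  obtain ⟨k, p, y, hp, rfl, rfl⟩ := H4_dl_exists_monic G f hf F hF a₀
  rw [Polynomial.eval_map, Polynomial.eval₂_hom] at h₁
  rw [Polynomial.derivative_map, Polynomial.eval_map, Polynomial.eval₂_hom] at h₂
  have h₁' : p.eval y ∈ IsLocalRing.maximalIdeal (G k) := by
    intro hu
    exact h₁ (hu.map _)
  have h₂' : IsUnit (p.derivative.eval y) := H4_dl_isUnit G f hf h₂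
  obtain ⟨r, hr1, hr2⟩ := HenselianLocalRing.is_henselian p hp y h₁' h₂'
  refine ⟨ofL k r, ?_, ?_⟩
  · rw [Polynomial.IsRoot, Polynomial.eval_map, Polynomial.eval₂_hom, hr1, map_zero]
  · rw [← map_sub]
    intro hu
    exact hr2 (H4_dl_isUnit G f hf hu)

include hf in
theorem H4_dl_isSepClosed [∀ i, IsSepClosed (IsLocalRing.ResidueField (G i))] :
    haveI : IsLocalRing L := H4_dl_isLocalRing G f hf
    IsSepClosed (IsLocalRing.ResidueField L) := by
  haveI hloc : IsLocalRing L := H4_dl_isLocalRing G f hf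
  show IsSepClosed (IsLocalRing.ResidueField L)
  apply IsSepClosed.of_exists_root
  intro P hPm hPirr hPsep
  have hlift : P ∈ Polynomial.lifts (IsLocalRing.residue L) := by
    rw [Polynomial.lifts_iff_coeff_lifts]
    intro n
    exact IsLocalRing.residue_surjective _
  obtain ⟨Q, hQ1, hQ2, hQ3⟩ := Polynomial.lifts_and_natDegree_eq_and_monic hlift hPm
  obtain ⟨k, p, y, hp, hpQ, -⟩ := H4_dl_exists_monic G f hf Q hQ3 0
  haveI : IsLocalHom (ofL k) := H4_dl_isLocalHom_of G f hf k
  let φ : IsLocalRing.ResidueField (G k) →+* IsLocalRing.ResidueField L :=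
    IsLocalRing.ResidueField.map (ofL k)
  have hP : P = (p.map (IsLocalRing.residue (G k))).map φ := by
    rw [← hQ1, ← hpQ, Polynomial.map_map, Polynomial.map_map]
    congr 1
  have hsep : (p.map (IsLocalRing.residue (G k))).Separable := by
    rw [hP] at hPsep
    exact (Polynomial.separable_map φ).mp hPsep
  have hdeg : (p.map (IsLocalRing.residue (G k))).degree ≠ 0 := by
    have h1 : ((p.map (IsLocalRing.residue (G k))).map φ).degree =
        (p.map (IsLocalRing.residue (G k))).degree :=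
      Polynomial.degree_map_eq_of_injective φ.injective _
    rw [← h1, ← hP]
    exact (Polynomial.degree_pos_of_irreducible hPirr).ne'
  obtain ⟨x, hx⟩ := IsSepClosed.exists_root _ hdeg hsep
  refine ⟨φ x, ?_⟩
  rw [hP, Polynomial.eval_map, Polynomial.eval₂_hom, hx, map_zero]

end


section Flat

variable {R : Type*} [CommRing R] {ι : Type v} [Preorder ι] [Nonempty ι] [IsDirected ι (· ≤ ·)]
  (G : ι → Type u) [∀ i, CommRing (G i)] [∀ i, Algebra R (G i)]
  (f : ∀ i j, i ≤ j → G i →+* G j) [DirectedSystem G (fun i j h => f i j h)]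

local notation "L" => Ring.DirectLimit G (fun i j h => f i j h)
local notation "ofL" => Ring.DirectLimit.of G (fun i j h => f i j h)

/-- A finite family of elements of the limit comes from a common stage. -/
theorem H4_dl_exists_fin {l : ℕ} (x : Fin l → L) :
    ∃ (k : ι) (y : Fin l → G k), ∀ i, ofL k (y i) = x i := by
  classical
  choose ki yi hyi using fun i => Ring.DirectLimit.exists_of (x i)
  obtain ⟨M, hM⟩ := Finset.exists_le (Finset.univ.image ki)
  have hle : ∀ i, ki i ≤ M := fun i => hM _ (Finset.mem_image_of_mem _ (Finset.mem_univ i))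
  refine ⟨M, fun i => f (ki i) M (hle i) (yi i), fun i => ?_⟩
  rw [Ring.DirectLimit.of_f, hyi]

/-- A direct limit of flat algebras is flat. -/
theorem H4_dl_flat [Algebra R L]
    (hfR : ∀ i j (h : i ≤ j) (r : R) (x : G i), f i j h (r • x) = r • f i j h x)
    (hofR : ∀ i (r : R) (x : G i), ofL i (r • x) = r • ofL i x)
    (hflat : ∀ i, Module.Flat R (G i)) : Module.Flat R L := by
  classical
  apply Module.Flat.of_forall_isTrivialRelation
  intro l c x hx
  obtain ⟨k, y, hy⟩ := H4_dl_exists_fin G f x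
  have h0 : ofL k (∑ i, c i • y i) = 0 := by
    rw [map_sum, ← hx]
    apply Finset.sum_congr rfl
    intro i _
    rw [hofR, hy]
  obtain ⟨j, hkj, hj⟩ := H4_dl_eq_zero G f h0
  rw [map_sum] at hj
  have hj' : ∑ i, c i • f k j hkj (y i) = 0 := by
    rw [← hj]
    apply Finset.sum_congr rfl
    intro i _
    rw [hfR]
  haveI := hflat j
  obtain ⟨n, a, z, hz1, hz2⟩ := Module.Flat.isTrivialRelation_of_sum_smul_eq_zero
    (R := R) (M := G j) (f := c) (x := fun i => f k j hkj (y i)) hj'
  refine ⟨n, a, fun t => ofL j (z t), ?_, hz2⟩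
  intro i
  have hz1' : f k j hkj (y i) = ∑ t, a i t • z t := hz1 i
  rw [← hy i, ← Ring.DirectLimit.of_f hkj, hz1', map_sum]
  apply Finset.sum_congr rfl
  intro t _
  rw [hofR]

end Flat

end Groth.Agent.H4
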