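import Mathlib
import Groth.Prelude.Def_EssEt
import Groth.Agent.Lib.helper4.EssEtale

/-! Pointed étale algebras `(C, χ : C → k)` over a local ring `R` and their localizations. -/

set_option autoImplicit false
universe u

open TensorProduct

namespace Groth.Agent.H4

variable {R : Type u} [CommRing R] [IsLocalRing R]

section Pair

variable {C : Type u} [CommRing C] [Algebra R C]
  (χ : C →ₐ[R] IsLocalRing.ResidueField R) (q : Ideal C) [q.IsPrime] (hq : RingHom.ker χ = q)
  (L : Type u) [CommRing L] [Algebra C L] [Algebra R L] [IsScalarTower R C L]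
  [IsLocalization.AtPrime L q]

include hq in
theorem H4_pair_mem (c : C) : c ∈ q ↔ χ c = 0 := by
  rw [← hq]; exact RingHom.mem_ker

include hq in
theorem H4_pair_comap : q.comap (algebraMap R C) = IsLocalRing.maximalIdeal R := by
  ext a
  rw [Ideal.mem_comap, H4_pair_mem χ q hq, AlgHom.commutes]
  exact IsLocalRing.residue_eq_zero_iff a

include χ hq in
theorem H4_pair_isLocalHom : IsLocalHom (algebraMap R L) := by
  constructor
  intro a ha
  rw [IsScalarTower.algebraMap_apply R C L,
    IsLocalization.AtPrime.isUnit_to_map_iff L q] at ha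
  have h1 : a ∉ IsLocalRing.maximalIdeal R := by
    rw [← H4_pair_comap χ q hq]; exact ha
  by_contra hn
  exact h1 hn

/-- The character extended to the localization. -/
noncomputable def H4_pair_locChar : L →ₐ[R] IsLocalRing.ResidueField R :=
  IsLocalization.liftAlgHom (M := q.primeCompl) (f := χ) (fun y => by
    rw [isUnit_iff_ne_zero]
    intro h0
    exact y.2 ((H4_pair_mem χ q hq _).mpr h0))

theorem H4_pair_locChar_algebraMap (c : C) :
    H4_pair_locChar χ q hq L (algebraMap C L c) = χ c := by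
  show IsLocalization.lift _ (algebraMap C L c) = χ c
  rw [IsLocalization.lift_eq]; rfl

theorem H4_pair_locChar_eq_zero [IsLocalRing L] (z : L) :
    H4_pair_locChar χ q hq L z = 0 ↔ z ∈ IsLocalRing.maximalIdeal L := by
  obtain ⟨c, s, rfl⟩ := IsLocalization.exists_mk'_eq q.primeCompl z
  have hs : H4_pair_locChar χ q hq L (algebraMap C L (s : C)) ≠ 0 := by
    rw [H4_pair_locChar_algebraMap]
    intro h0
    exact s.2 ((H4_pair_mem χ q hq _).mpr h0)
  have hsu : IsUnit (algebraMap C L s) := IsLocalization.map_units _ s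
  have h1 : IsLocalization.mk' L c s * algebraMap C L (s : C) =
      algebraMap C L c := IsLocalization.mk'_spec _ c s
  constructor
  · intro h
    have h2 : χ c = 0 := by
      rw [← H4_pair_locChar_algebraMap χ q hq L, ← h1, map_mul, h, zero_mul]
    have h3 : algebraMap C L c ∈ IsLocalRing.maximalIdeal L :=
      (IsLocalization.AtPrime.to_map_mem_maximal_iff L q c).mpr ((H4_pair_mem χ q hq _).mpr h2)
    rw [← h1] at h3
    rcases (IsLocalRing.maximalIdeal.isMaximal _).isPrime.mem_or_mem h3 with h | h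
    · exact h
    · exact absurd hsu h
  · intro h
    have h3 : algebraMap C L c ∈ IsLocalRing.maximalIdeal L := by
      rw [← h1]; exact Ideal.mul_mem_right _ _ h
    have h2 : χ c = 0 := (H4_pair_mem χ q hq _).mp
      ((IsLocalization.AtPrime.to_map_mem_maximal_iff L q c).mp h3)
    have h4 : H4_pair_locChar χ q hq L (IsLocalization.mk' L c s) *
        H4_pair_locChar χ q hq L (algebraMap C L (s : C)) = 0 := by
      rw [← map_mul, h1, H4_pair_locChar_algebraMap, h2]
    exact (mul_eq_zero.mp h4).resolve_right hs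

include χ hq in
theorem H4_pair_residue_surjective [IsLocalRing L] [IsLocalHom (algebraMap R L)] :
    Function.Bijective (IsLocalRing.ResidueField.map (algebraMap R L)) := by
  refine ⟨RingHom.injective _, ?_⟩
  intro y
  obtain ⟨z, rfl⟩ := IsLocalRing.residue_surjective y
  obtain ⟨a, ha⟩ := IsLocalRing.residue_surjective (H4_pair_locChar χ q hq L z)
  refine ⟨IsLocalRing.residue R a, ?_⟩
  rw [IsLocalRing.ResidueField.map_residue]
  symm
  rw [← sub_eq_zero, ← map_sub, IsLocalRing.residue_eq_zero_iff,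
    ← H4_pair_locChar_eq_zero χ q hq L, map_sub, AlgHom.commutes, sub_eq_zero]
  exact ha.symm

include χ hq in
theorem H4_pair_strict [Algebra.Etale R C] [IsLocalRing L] [IsLocalHom (algebraMap R L)] :
    EGA4loc.IsStrictlyEssentiallyEtale R L :=
  ⟨⟨C, _, _, q, inferInstance, inferInstance, H4_pair_comap χ q hq,
    ⟨(IsLocalization.algEquiv q.primeCompl L (Localization.AtPrime q)).restrictScalars R⟩⟩,
    H4_pair_residue_surjective χ q hq L⟩

end Pair

/-- Uniqueness of maps out of a strictly essentially étale local algebra into a local algebra. -/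
theorem H4_strict_algHom_subsingleton {A A₁ D : Type u} [CommRing A] [IsLocalRing A]
    [CommRing A₁] [IsLocalRing A₁] [Algebra A A₁] [IsLocalHom (algebraMap A A₁)]
    (h₁ : EGA4loc.IsStrictlyEssentiallyEtale A A₁)
    [CommRing D] [IsLocalRing D] [Algebra A D] [IsLocalHom (algebraMap A D)] :
    Subsingleton (A₁ →ₐ[A] D) := by
  constructor
  intro u v
  have hu : IsLocalHom u.toRingHom := H4_essEt_isLocalHom h₁.1 u
  have hv : IsLocalHom v.toRingHom := H4_essEt_isLocalHom h₁.1 v
  apply H4_essEt_algHom_ext h₁.1 u v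
  intro x
  obtain ⟨a, ha, hua⟩ := H4_residue_eq_of_residue_surjective h₁.2.surjective u hu x
  obtain ⟨b, hb, hvb⟩ := H4_residue_eq_of_residue_surjective h₁.2.surjective v hv x
  rw [hua, hvb]
  have hab : IsLocalRing.residue A₁ (algebraMap A A₁ a) =
      IsLocalRing.residue A₁ (algebraMap A A₁ b) := by rw [← ha, ← hb]
  have hab' : algebraMap A A₁ (a - b) ∈ IsLocalRing.maximalIdeal A₁ := by
    rw [← IsLocalRing.residue_eq_zero_iff, map_sub, map_sub, hab, sub_self]
  have hab'' : a - b ∈ IsLocalRing.maximalIdeal A := by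
    by_contra hn
    have hunit : IsUnit (a - b) := by
      by_contra h'; exact hn h'
    exact hab' (hunit.map (algebraMap A A₁))
  have : algebraMap A D (a - b) ∈ IsLocalRing.maximalIdeal D :=
    map_nonunit (algebraMap A D) _ hab''
  rw [← IsLocalRing.residue_eq_zero_iff, map_sub, map_sub, sub_eq_zero] at this
  exact this

/-- Existence of a map from a strictly essentially étale local algebra into a Henselian local
algebra. -/
theorem H4_strict_exists_algHom {A A' B : Type u} [CommRing A] [IsLocalRing A]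
    [CommRing A'] [IsLocalRing A'] [Algebra A A'] [IsLocalHom (algebraMap A A')]
    (hA' : EGA4loc.IsStrictlyEssentiallyEtale A A')
    [CommRing B] [HenselianLocalRing B] [Algebra A B] [IsLocalHom (algebraMap A B)] :
    Nonempty (A' →ₐ[A] B) := by
  classical
  obtain ⟨hE, hbij⟩ := hA'
  let σ : IsLocalRing.ResidueField A ≃+* IsLocalRing.ResidueField A' :=
    RingEquiv.ofBijective _ hbij
  have hσ : ∀ y, σ y = IsLocalRing.ResidueField.map (algebraMap A A') y := fun y => rfl
  let α : IsLocalRing.ResidueField A' →+* IsLocalRing.ResidueField B :=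
    (IsLocalRing.ResidueField.map (algebraMap A B)).comp (σ.symm : _ →+* _)
  have hα' : ∀ a : A, α (IsLocalRing.residue A' (algebraMap A A' a)) =
      IsLocalRing.residue B (algebraMap A B a) := by
    intro a
    have h1 : IsLocalRing.residue A' (algebraMap A A' a) = σ (IsLocalRing.residue A a) := by
      rw [hσ, IsLocalRing.ResidueField.map_residue]
    show (IsLocalRing.ResidueField.map (algebraMap A B)) (σ.symm _) = _
    rw [h1, RingEquiv.symm_apply_apply, IsLocalRing.ResidueField.map_residue]
  obtain ⟨g, -⟩ := H4_essEt_exists_lift hE α hα'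
  exact ⟨g⟩

section PairMap

variable {C₁ C₂ : Type u} [CommRing C₁] [Algebra R C₁] [CommRing C₂] [Algebra R C₂]
  (χ₁ : C₁ →ₐ[R] IsLocalRing.ResidueField R) (q₁ : Ideal C₁) [q₁.IsPrime]
  (hq₁ : RingHom.ker χ₁ = q₁)
  (L₁ : Type u) [CommRing L₁] [Algebra C₁ L₁] [Algebra R L₁] [IsScalarTower R C₁ L₁]
  [IsLocalization.AtPrime L₁ q₁]
  (χ₂ : C₂ →ₐ[R] IsLocalRing.ResidueField R) (q₂ : Ideal C₂) [q₂.IsPrime]
  (hq₂ : RingHom.ker χ₂ = q₂)
  (L₂ : Type u) [CommRing L₂] [Algebra C₂ L₂] [Algebra R L₂] [IsScalarTower R C₂ L₂]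
  [IsLocalization.AtPrime L₂ q₂]
  (g : C₁ →ₐ[R] C₂) (hg : ∀ c, χ₂ (g c) = χ₁ c)

/-- A morphism of pointed algebras induces a map of localizations. -/
noncomputable def H4_pair_map : L₁ →ₐ[R] L₂ :=
  IsLocalization.liftAlgHom (M := q₁.primeCompl)
    (f := (IsScalarTower.toAlgHom R C₂ L₂).comp g) (fun y => by
      show IsUnit (algebraMap C₂ L₂ (g y))
      rw [IsLocalization.AtPrime.isUnit_to_map_iff L₂ q₂]
      show ¬ _ ∈ q₂
      rw [H4_pair_mem χ₂ q₂ hq₂, hg]
      intro h0
      exact y.2 ((H4_pair_mem χ₁ q₁ hq₁ _).mpr h0))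

theorem H4_pair_map_algebraMap (c : C₁) :
    H4_pair_map χ₁ q₁ hq₁ L₁ χ₂ q₂ hq₂ L₂ g hg (algebraMap C₁ L₁ c) = algebraMap C₂ L₂ (g c) := by
  show IsLocalization.lift _ (algebraMap C₁ L₁ c) = _
  rw [IsLocalization.lift_eq]; rfl

end PairMap

end Groth.Agent.H4
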