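import Mathlib
import Groth.Agent.Lib.helper4.HensPairs

/-! The small directed system of local-étale neighbourhoods of a local ring with trivial residue
field extension. -/

set_option autoImplicit false
universe u

open TensorProduct

namespace Groth.Agent.H4

/-- A presented pointed étale algebra over the local ring `R`. -/
structure H4_Nbhd (R : Type u) [CommRing R] [IsLocalRing R] : Type u where
  n : ℕ
  I : Ideal (MvPolynomial (Fin n) R)
  etale : Algebra.Etale R (MvPolynomial (Fin n) R ⧸ I)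
  χ : (MvPolynomial (Fin n) R ⧸ I) →ₐ[R] IsLocalRing.ResidueField R

namespace H4_Nbhd

variable {R : Type u} [CommRing R] [IsLocalRing R] (i : H4_Nbhd R)

/-- The étale algebra. -/
def C : Type u := MvPolynomial (Fin i.n) R ⧸ i.I

noncomputable instance : CommRing i.C :=
  inferInstanceAs (CommRing (MvPolynomial (Fin i.n) R ⧸ i.I))

noncomputable instance : Algebra R i.C :=
  inferInstanceAs (Algebra R (MvPolynomial (Fin i.n) R ⧸ i.I))

instance : Algebra.Etale R i.C := i.etale

/-- The character. -/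
noncomputable def chi : i.C →ₐ[R] IsLocalRing.ResidueField R := i.χ

/-- The prime. -/
noncomputable def q : Ideal i.C := RingHom.ker i.chi

theorem hq : RingHom.ker i.chi = i.q := rfl

instance : i.q.IsPrime := RingHom.ker_isPrime i.chi

/-- The local ring. -/
def G : Type u := Localization.AtPrime i.q

noncomputable instance : CommRing i.G := inferInstanceAs (CommRing (Localization.AtPrime i.q))

instance : IsLocalRing i.G := inferInstanceAs (IsLocalRing (Localization.AtPrime i.q))

noncomputable instance : Algebra i.C i.G :=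
  inferInstanceAs (Algebra i.C (Localization.AtPrime i.q))

noncomputable instance : Algebra R i.G :=
  inferInstanceAs (Algebra R (Localization.AtPrime i.q))

instance : IsScalarTower R i.C i.G :=
  inferInstanceAs (IsScalarTower R i.C (Localization.AtPrime i.q))

instance : IsLocalization.AtPrime i.G i.q :=
  inferInstanceAs (IsLocalization.AtPrime (Localization.AtPrime i.q) i.q)

instance : IsLocalHom (algebraMap R i.G) := H4_pair_isLocalHom i.chi i.q i.hq i.G

theorem strict : EGA4loc.IsStrictlyEssentiallyEtale R i.G := H4_pair_strict i.chi i.q i.hq i.G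

end H4_Nbhd

variable {R : Type u} [CommRing R] [IsLocalRing R]

instance (i j : H4_Nbhd R) : Subsingleton (i.G →ₐ[R] j.G) :=
  H4_strict_algHom_subsingleton i.strict

/-- Every pointed étale algebra maps to (indeed is isomorphic to) a presented one. -/
theorem H4_exists_nbhd {C : Type u} [CommRing C] [Algebra R C] [Algebra.Etale R C]
    (χ : C →ₐ[R] IsLocalRing.ResidueField R) :
    ∃ (i : H4_Nbhd R) (e : C →ₐ[R] i.C), ∀ c, i.chi (e c) = χ c := by
  obtain ⟨n, f, hf, -⟩ := Algebra.FinitePresentation.out (R := R) (A := C)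
  let e₀ : (MvPolynomial (Fin n) R ⧸ RingHom.ker f) ≃ₐ[R] C :=
    Ideal.quotientKerAlgEquivOfSurjective hf
  refine ⟨⟨n, RingHom.ker f, Algebra.Etale.of_equiv e₀.symm, χ.comp e₀.toAlgHom⟩,
    e₀.symm.toAlgHom, ?_⟩
  intro c
  show χ (e₀ (e₀.symm c)) = χ c
  rw [AlgEquiv.apply_symm_apply]

/-- Every pointed étale algebra has its localization mapping to some `G i`. -/
theorem H4_exists_nbhd_map {C : Type u} [CommRing C] [Algebra R C] [Algebra.Etale R C]
    (χ : C →ₐ[R] IsLocalRing.ResidueField R) (q : Ideal C) [q.IsPrime] (hq : RingHom.ker χ = q)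
    (L : Type u) [CommRing L] [Algebra C L] [Algebra R L] [IsScalarTower R C L]
    [IsLocalization.AtPrime L q] :
    ∃ (i : H4_Nbhd R) (φ : L →ₐ[R] i.G) (e : C →ₐ[R] i.C),
      (∀ c, i.chi (e c) = χ c) ∧ ∀ c, φ (algebraMap C L c) = algebraMap i.C i.G (e c) := by
  obtain ⟨i, e, he⟩ := H4_exists_nbhd χ
  exact ⟨i, H4_pair_map χ q hq L i.chi i.q i.hq i.G e he, e, he,
    fun c => H4_pair_map_algebraMap χ q hq L i.chi i.q i.hq i.G e he c⟩

instance : Preorder (H4_Nbhd R) where
  le i j := Nonempty (i.G →ₐ[R] j.G)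
  le_refl i := ⟨AlgHom.id R i.G⟩
  le_trans i j k := fun ⟨a⟩ ⟨b⟩ => ⟨b.comp a⟩

instance : Nonempty (H4_Nbhd R) := by
  obtain ⟨i, -⟩ := H4_exists_nbhd (C := R) (Algebra.ofId R (IsLocalRing.ResidueField R))
  exact ⟨i⟩

instance : IsDirected (H4_Nbhd R) (· ≤ ·) := by
  constructor
  intro i j
  haveI : Algebra.Etale R (i.C ⊗[R] j.C) := Algebra.Etale.comp R i.C (i.C ⊗[R] j.C)
  let χ : i.C ⊗[R] j.C →ₐ[R] IsLocalRing.ResidueField R :=
    Algebra.TensorProduct.productMap i.chi j.chi
  have hχ : ∀ a b, χ (a ⊗ₜ b) = i.chi a * j.chi b := fun a b => by simp [χ]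
  let q₃ : Ideal (i.C ⊗[R] j.C) := RingHom.ker χ
  haveI : q₃.IsPrime := RingHom.ker_isPrime χ
  have hq₃ : RingHom.ker χ = q₃ := rfl
  obtain ⟨k, φ, -, -, -⟩ := H4_exists_nbhd_map (C := i.C ⊗[R] j.C) χ q₃ hq₃
    (Localization.AtPrime q₃)
  refine ⟨k, ⟨φ.comp (H4_pair_map i.chi i.q i.hq i.G χ q₃ hq₃ (Localization.AtPrime q₃)
    Algebra.TensorProduct.includeLeft ?_)⟩, ⟨φ.comp (H4_pair_map j.chi j.q j.hq j.G χ q₃ hq₃
    (Localization.AtPrime q₃) Algebra.TensorProduct.includeRight ?_)⟩⟩
  · intro c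
    show χ (c ⊗ₜ 1) = _
    rw [hχ, map_one, mul_one]
  · intro c
    show χ (1 ⊗ₜ c) = _
    rw [hχ, map_one, one_mul]

/-- The transition maps. -/
noncomputable def H4_trans (i j : H4_Nbhd R) (h : i ≤ j) : i.G →ₐ[R] j.G := Classical.choice h

instance : DirectedSystem (fun i : H4_Nbhd R => i.G) (fun i j h => (H4_trans i j h).toRingHom) where
  map_self i x := by
    have : H4_trans i i le_rfl = AlgHom.id R i.G := Subsingleton.elim _ _
    show H4_trans i i le_rfl x = x
    rw [this]; rfl
  map_map k j i hij hjk x := by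
    have : (H4_trans j k hjk).comp (H4_trans i j hij) = H4_trans i k (hij.trans hjk) :=
      Subsingleton.elim _ _
    exact AlgHom.congr_fun this x

theorem H4_trans_isLocalHom (i j : H4_Nbhd R) (h : i ≤ j) :
    IsLocalHom (H4_trans i j h).toRingHom :=
  H4_essEt_isLocalHom i.strict.1 (H4_trans i j h)

end Groth.Agent.H4
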