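import Mathlib
import Groth.Prelude.Def_Hensel
import Groth.Agent.Lib.helper4.HensStep
import Groth.Agent.Lib.helper4.DirectLimitLocal

/-! Construction of the henselization of a local ring as the direct limit of its local-étale
neighbourhoods with trivial residue field extension. -/

set_option autoImplicit false
universe u

open Polynomial

namespace Groth.Agent.H4

variable (R : Type u) [CommRing R] [IsLocalRing R]

/-- The transition ring homomorphisms. -/
noncomputable def H4_f (i j : H4_Nbhd R) (h : i ≤ j) : i.G →+* j.G := (H4_trans i j h).toRingHom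

instance H4_f_directedSystem :
    DirectedSystem (fun i : H4_Nbhd R => i.G) (fun i j h => H4_f R i j h) :=
  inferInstanceAs (DirectedSystem (fun i : H4_Nbhd R => i.G)
    (fun i j h => (H4_trans i j h).toRingHom))

theorem H4_f_isLocalHom (i j : H4_Nbhd R) (h : i ≤ j) : IsLocalHom (H4_f R i j h) :=
  H4_trans_isLocalHom i j h

/-- The henselization of `R`. -/
def H4_Hens : Type u :=
  Ring.DirectLimit (fun i : H4_Nbhd R => i.G) (fun i j h => H4_f R i j h)

noncomputable instance : CommRing (H4_Hens R) :=
  inferInstanceAs (CommRing (Ring.DirectLimit (fun i : H4_Nbhd R => i.G)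
    (fun i j h => H4_f R i j h)))

/-- The canonical maps. -/
noncomputable def H4_of (i : H4_Nbhd R) : i.G →+* H4_Hens R :=
  Ring.DirectLimit.of (fun i : H4_Nbhd R => i.G) (fun i j h => H4_f R i j h) i

theorem H4_of_f {i j : H4_Nbhd R} (h : i ≤ j) (x : i.G) :
    H4_of R j (H4_f R i j h x) = H4_of R i x :=
  Ring.DirectLimit.of_f h x

instance H4_Hens_isLocalRing : IsLocalRing (H4_Hens R) :=
  H4_dl_isLocalRing (fun i : H4_Nbhd R => i.G) (H4_f R) (H4_f_isLocalHom R)

instance H4_of_isLocalHom (i : H4_Nbhd R) : IsLocalHom (H4_of R i) :=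
  H4_dl_isLocalHom_of (fun i : H4_Nbhd R => i.G) (H4_f R) (H4_f_isLocalHom R) i

noncomputable instance H4_Hens_algebra : Algebra R (H4_Hens R) :=
  ((H4_of R (Classical.arbitrary _)).comp (algebraMap R (Classical.arbitrary (H4_Nbhd R)).G)).toAlgebra

theorem H4_of_algebraMap (i : H4_Nbhd R) (r : R) :
    H4_of R i (algebraMap R i.G r) = algebraMap R (H4_Hens R) r := by
  obtain ⟨k, hik, h0k⟩ := exists_ge_ge i (Classical.arbitrary (H4_Nbhd R))
  show _ = H4_of R (Classical.arbitrary _) (algebraMap R _ r)
  rw [← H4_of_f R hik, ← H4_of_f R h0k]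
  congr 1
  show H4_trans i k hik (algebraMap R i.G r) = H4_trans _ k h0k (algebraMap R _ r)
  rw [AlgHom.commutes, AlgHom.commutes]

/-- The canonical maps as algebra homs. -/
noncomputable def H4_ofₐ (i : H4_Nbhd R) : i.G →ₐ[R] H4_Hens R :=
  { H4_of R i with commutes' := H4_of_algebraMap R i }

instance H4_Hens_isLocalHom : IsLocalHom (algebraMap R (H4_Hens R)) := by
  constructor
  intro r hr
  rw [← H4_of_algebraMap R (Classical.arbitrary _)] at hr
  have h1 := isUnit_of_map_unit (H4_of R (Classical.arbitrary _)) _ hr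
  exact isUnit_of_map_unit (algebraMap R (Classical.arbitrary (H4_Nbhd R)).G) _ h1

instance H4_Hens_henselian : HenselianLocalRing (H4_Hens R) := by
  refine { H4_Hens_isLocalRing R with is_henselian := ?_ }
  intro F hF a₀ h₁ h₂
  obtain ⟨k, p, y, hp, hpF, hy⟩ := H4_dl_exists_monic (fun i : H4_Nbhd R => i.G) (H4_f R)
    (H4_f_isLocalHom R) F hF a₀
  change p.map (H4_of R k) = F at hpF
  change H4_of R k y = a₀ at hy
  subst hpF hy
  rw [Polynomial.eval_map, Polynomial.eval₂_hom] at h₁
  rw [Polynomial.derivative_map, Polynomial.eval_map, Polynomial.eval₂_hom] at h₂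
  have h₁' : p.eval y ∈ IsLocalRing.maximalIdeal k.G := by
    intro hu
    exact h₁ (hu.map _)
  have h₂' : IsUnit (p.derivative.eval y) := isUnit_of_map_unit (H4_of R k) _ h₂
  obtain ⟨j, ι, a, hroot, hmem⟩ := H4_hensel_step k.chi k.q k.hq k.G p hp y h₁' h₂'
  have hkj : k ≤ j := ⟨ι⟩
  have hι : ι = H4_trans k j hkj := Subsingleton.elim _ _
  have hof : ∀ x, H4_of R j (ι x) = H4_of R k x := by
    intro x
    rw [hι]
    exact H4_of_f R hkj x
  refine ⟨H4_of R j a, ?_, ?_⟩
  · have h1 : p.map (H4_of R k) = (p.map ι.toRingHom).map (H4_of R j) := by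
      rw [Polynomial.map_map]
      congr 1
      ext x
      exact (hof x).symm
    rw [Polynomial.IsRoot, h1, Polynomial.eval_map, Polynomial.eval₂_hom, hroot, map_zero]
  · rw [← hof y, ← map_sub]
    intro hu
    exact hmem (isUnit_of_map_unit (H4_of R j) _ hu)

theorem H4_Hens_universal (T : Type u) [CommRing T] [HenselianLocalRing T] (f : R →+* T)
    (hf : IsLocalHom f) : ∃! g : H4_Hens R →+* T, g.comp (algebraMap R (H4_Hens R)) = f := by
  letI : Algebra R T := f.toAlgebra
  haveI : IsLocalHom (algebraMap R T) := hf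
  have hex : ∀ i : H4_Nbhd R, Nonempty (i.G →ₐ[R] T) := fun i => H4_strict_exists_algHom i.strict
  have hsub : ∀ i : H4_Nbhd R, Subsingleton (i.G →ₐ[R] T) := fun i =>
    H4_strict_algHom_subsingleton i.strict
  let ψ : ∀ i : H4_Nbhd R, i.G →ₐ[R] T := fun i => Classical.choice (hex i)
  have hcompat : ∀ (i j : H4_Nbhd R) (hij : i ≤ j) (x : i.G),
      (ψ j).toRingHom (H4_f R i j hij x) = (ψ i).toRingHom x := by
    intro i j hij x
    have : (ψ j).comp (H4_trans i j hij) = ψ i := (hsub i).elim _ _
    exact AlgHom.congr_fun this x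
  let g : H4_Hens R →+* T :=
    Ring.DirectLimit.lift (fun i : H4_Nbhd R => i.G) (fun i j h => H4_f R i j h) T
      (fun i => (ψ i).toRingHom) hcompat
  have hg : ∀ i x, g (H4_of R i x) = ψ i x := fun i x =>
    Ring.DirectLimit.lift_of _ _ _ _ _
  refine ⟨g, ?_, ?_⟩
  · ext r
    show g (algebraMap R (H4_Hens R) r) = f r
    rw [← H4_of_algebraMap R (Classical.arbitrary _), hg, AlgHom.commutes]
    rfl
  · intro g' hg'
    apply Ring.DirectLimit.hom_ext
    intro i
    let θ : i.G →ₐ[R] T :=
      { g'.comp (H4_of R i) with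
        commutes' := fun r => by
          show g' (H4_of R i (algebraMap R i.G r)) = f r
          rw [H4_of_algebraMap]
          exact RingHom.congr_fun hg' r }
    have : θ = ψ i := (hsub i).elim _ _
    ext x
    show g' (H4_of R i x) = g (H4_of R i x)
    rw [hg]
    exact AlgHom.congr_fun this x

instance H4_Hens_isHenselization : Hensel.IsHenselization R (H4_Hens R) where
  henselian := H4_Hens_henselian R
  universal := fun T _ _ f hf => H4_Hens_universal R T f hf

end Groth.Agent.H4
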