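import Mathlib
import Groth.Agent.Lib.helper4.Henselization

/-! Properties of the henselization and transfer to any henselization. -/

set_option autoImplicit false
universe u

namespace Groth.Agent.H4

variable (R : Type u) [CommRing R] [IsLocalRing R]

instance H4_G_flat (i : H4_Nbhd R) : Module.Flat R i.G := by
  haveI : Module.Flat i.C i.G := IsLocalization.flat i.G i.q.primeCompl
  exact Module.Flat.trans R i.C i.G

instance H4_Hens_flat : Module.Flat R (H4_Hens R) := by
  letI : Algebra R (Ring.DirectLimit (fun i : H4_Nbhd R => i.G) (fun i j h => H4_f R i j h)) :=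
    H4_Hens_algebra R
  show Module.Flat R (Ring.DirectLimit (fun i : H4_Nbhd R => i.G) (fun i j h => H4_f R i j h))
  apply H4_dl_flat (R := R) (fun i : H4_Nbhd R => i.G) (H4_f R)
  · intro i j h r x
    exact map_smul (H4_trans i j h) r x
  · intro i r x
    exact map_smul (H4_ofₐ R i) r x
  · intro i
    infer_instance

instance H4_Hens_faithfullyFlat : Module.FaithfullyFlat R (H4_Hens R) :=
  Module.FaithfullyFlat.of_flat_of_isLocalHom

variable {R}

/-- Any two henselizations are isomorphic. -/
theorem H4_henselization_unique {S S' : Type u} [CommRing S] [IsLocalRing S] [Algebra R S]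
    [IsLocalHom (algebraMap R S)] [hS : Hensel.IsHenselization R S]
    [CommRing S'] [IsLocalRing S'] [Algebra R S']
    [IsLocalHom (algebraMap R S')] [hS' : Hensel.IsHenselization R S'] :
    Nonempty (S ≃ₐ[R] S') := by
  haveI : HenselianLocalRing S := hS.henselian
  haveI : HenselianLocalRing S' := hS'.henselian
  obtain ⟨g, hg, -⟩ := hS.universal S' (algebraMap R S') inferInstance
  obtain ⟨g', hg', -⟩ := hS'.universal S (algebraMap R S) inferInstance
  obtain ⟨h, -, hh⟩ := hS.universal S (algebraMap R S) inferInstance
  obtain ⟨h', -, hh'⟩ := hS'.universal S' (algebraMap R S') inferInstance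
  have h1 : g'.comp g = RingHom.id S := by
    rw [hh (g'.comp g) (by
      show (g'.comp g).comp (algebraMap R S) = algebraMap R S
      rw [RingHom.comp_assoc, hg, hg']), ← hh (RingHom.id S) (by
      show (RingHom.id S).comp (algebraMap R S) = algebraMap R S
      rw [RingHom.id_comp])]
  have h2 : g.comp g' = RingHom.id S' := by
    rw [hh' (g.comp g') (by
      show (g.comp g').comp (algebraMap R S') = algebraMap R S'
      rw [RingHom.comp_assoc, hg', hg]), ← hh' (RingHom.id S') (by
      show (RingHom.id S').comp (algebraMap R S') = algebraMap R S'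
      rw [RingHom.id_comp])]
  exact ⟨{ toFun := g, invFun := g', left_inv := fun x => RingHom.congr_fun h1 x,
           right_inv := fun x => RingHom.congr_fun h2 x, map_mul' := map_mul g,
           map_add' := map_add g, commutes' := fun r => RingHom.congr_fun hg r }⟩

/-- Any henselization is isomorphic to the constructed one. -/
theorem H4_henselization_equiv (S : Type u) [CommRing S] [IsLocalRing S] [Algebra R S]
    [IsLocalHom (algebraMap R S)] [Hensel.IsHenselization R S] :
    Nonempty (S ≃ₐ[R] H4_Hens R) :=
  H4_henselization_unique

end Groth.Agent.H4
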