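import Mathlib
import Groth.Prelude.Def_PBC

/-! `EtPBC.IsIndEtale` in terms of Mathlib's `ObjectProperty.ind`. -/

set_option autoImplicit false
universe u
open CategoryTheory CategoryTheory.Limits

namespace Groth.Agent.H4

/-- Étale objects of `Under (CommRingCat.of A)`. -/
def H4_etaleObj (A : Type u) [CommRing A] : ObjectProperty (Under (CommRingCat.of A)) :=
  fun X => letI := X.hom.hom.toAlgebra; Algebra.Etale A X.right

theorem H4_etaleObj_le_fp (A : Type u) [CommRing A] :
    H4_etaleObj A ≤ ObjectProperty.isFinitelyPresentable.{u} (Under (CommRingCat.of A)) := by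
  intro X hX
  apply CommRingCat.isFinitelyPresentable_under
  letI := X.hom.hom.toAlgebra
  haveI : Algebra.Etale A X.right := hX
  show Algebra.FinitePresentation A X.right
  infer_instance

theorem H4_ind_of_cocone {A : Type u} [CommRing A] (P : ObjectProperty (Under (CommRingCat.of A)))
    {J : Type u} [SmallCategory J] [IsFiltered J] (D : J ⥤ Under (CommRingCat.of A))
    (c : Cocone D) (hc : IsColimit c) (hP : ∀ j, P (D.obj j))
    {X : Under (CommRingCat.of A)} (e : c.pt ≅ X) : ObjectProperty.ind.{u} P X := by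
  let pres : ColimitPresentation J c.pt := ⟨D, c.ι, hc⟩
  exact ⟨J, inferInstance, inferInstance, pres.ofIso e, hP⟩

theorem H4_isIndEtale_iff_ind (A B : Type u) [CommRing A] [CommRing B] [Algebra A B] :
    EtPBC.IsIndEtale A B ↔
      ObjectProperty.ind.{u} (H4_etaleObj A) (Under.mk (CommRingCat.ofHom (algebraMap A B))) := by
  constructor
  · rintro ⟨J, _, _, D, c, hc, het, ⟨e⟩⟩
    exact H4_ind_of_cocone _ D c hc het e
  · rintro ⟨J, _, _, pres, h⟩
    exact ⟨J, inferInstance, inferInstance, pres.diag, Cocone.mk _ pres.ι, pres.isColimit, h,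
      ⟨Iso.refl _⟩⟩

theorem H4_isIndEtale_of_colimit (A B : Type u) [CommRing A] [CommRing B] [Algebra A B]
    {J : Type u} [SmallCategory J] [IsFiltered J] (D : J ⥤ Under (CommRingCat.of A))
    (hD : ∀ j, letI := (D.obj j).hom.hom.toAlgebra; EtPBC.IsIndEtale A ↥(D.obj j).right)
    (c : Cocone D) (hc : IsColimit c)
    (e : c.pt ≅ Under.mk (CommRingCat.ofHom (algebraMap A B))) :
    EtPBC.IsIndEtale A B := by
  rw [H4_isIndEtale_iff_ind]
  have h1 : ∀ j, ObjectProperty.ind.{u} (H4_etaleObj A) (D.obj j) := by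
    intro j
    letI := (D.obj j).hom.hom.toAlgebra
    have h2 := (H4_isIndEtale_iff_ind A (D.obj j).right).mp (hD j)
    exact h2
  have h3 : ObjectProperty.ind.{u} (ObjectProperty.ind.{u} (H4_etaleObj A))
      (Under.mk (CommRingCat.ofHom (algebraMap A B))) :=
    H4_ind_of_cocone _ D c hc h1 e
  rw [ObjectProperty.ind_ind (H4_etaleObj_le_fp A)] at h3
  exact h3

end Groth.Agent.H4
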