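import Mathlib
import Groth.Agent.Lib.helper4.IndEtaleObj

/-! Base change of ind-étale algebras. -/

set_option autoImplicit false
universe u
open CategoryTheory CategoryTheory.Limits TensorProduct

namespace Groth.Agent.H4

theorem H4_isIndEtale_baseChange (A B A' : Type u) [CommRing A] [CommRing B] [CommRing A']
    [Algebra A B] [Algebra A A'] (h : EtPBC.IsIndEtale A B) :
    EtPBC.IsIndEtale A' (A' ⊗[A] B) := by
  rw [H4_isIndEtale_iff_ind] at h ⊢
  let F : Under (CommRingCat.of A) ⥤ Under (CommRingCat.of A') :=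
    CommRingCat.tensorProd (CommRingCat.of A) (CommRingCat.of A')
  haveI : PreservesColimitsOfSize.{u, u} F :=
    preservesColimits_of_natIso
      (CommRingCat.tensorProdIsoPushout (CommRingCat.of A) (CommRingCat.of A')).symm
  have h1 : H4_etaleObj A ≤ (H4_etaleObj A').inverseImage F := by
    intro Y hY
    show (F.obj Y).hom.hom.Etale
    letI algY : Algebra A Y.right := Y.hom.hom.toAlgebra
    have hY' : Algebra.Etale A Y.right := hY
    have h4 : (algebraMap A' (A' ⊗[A] Y.right)).Etale :=
      RingHom.etale_algebraMap.mpr inferInstance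
    exact h4
  obtain ⟨J, _, _, pres, hp⟩ := h
  have h3 : ObjectProperty.ind.{u} (H4_etaleObj A')
      (F.obj (Under.mk (CommRingCat.ofHom (algebraMap A B)))) :=
    ⟨J, inferInstance, inferInstance, pres.map F, fun j => h1 _ (hp j)⟩
  -- identify with the target
  let X : Under (CommRingCat.of A) := Under.mk (CommRingCat.ofHom (algebraMap A B))
  letI algX : Algebra A X.right := X.hom.hom.toAlgebra
  let ψ : X.right ≃ₐ[A] B := AlgEquiv.ofRingEquiv (f := RingEquiv.refl B) (fun _ => rfl)
  let Ψ : (A' ⊗[A] X.right) ≃ₐ[A'] (A' ⊗[A] B) :=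
    Algebra.TensorProduct.congr AlgEquiv.refl ψ
  let iso : F.obj X ≅ Under.mk (CommRingCat.ofHom (algebraMap A' (A' ⊗[A] B))) :=
    Under.isoMk (Ψ.toRingEquiv.toCommRingCatIso) (by
      ext a
      show Ψ (algebraMap A' (A' ⊗[A] X.right) a) = algebraMap A' (A' ⊗[A] B) a
      exact Ψ.commutes a)
  exact (ObjectProperty.ind.{u} (H4_etaleObj A')).prop_of_iso iso h3

end Groth.Agent.H4
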