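import Mathlib

set_option autoImplicit false
universe u
open CategoryTheory CategoryTheory.Limits TensorProduct

namespace Groth.Agent.H4

/-- A finitely generated `ℤ`-subalgebra of a filtered colimit of rings lifts to a stage. -/
theorem H4_subalgebra_fg_lift {J : Type u} [SmallCategory J] [IsFiltered J]
    {F : J ⥤ CommRingCat.{u}} {c : Cocone F} (hc : IsColimit c)
    (B₀ : Subalgebra ℤ c.pt) (hfg : B₀.FG) :
    ∃ (j : J) (g' : CommRingCat.of B₀ ⟶ F.obj j),
      g' ≫ c.ι.app j = CommRingCat.ofHom B₀.val.toRingHom := by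
  let R : CommRingCat.{u} := CommRingCat.of (ULift.{u} ℤ)
  let α : (Functor.const J).obj R ⟶ F :=
    { app := fun i => CommRingCat.isInitial.to (F.obj i)
      naturality := fun i j a => CommRingCat.isInitial.hom_ext _ _ }
  let f : R ⟶ CommRingCat.of B₀ := CommRingCat.isInitial.to _
  have hf : f.hom.FinitePresentation := by
    haveI : IsNoetherianRing (ULift.{u} ℤ) :=
      isNoetherianRing_of_ringEquiv ℤ ULift.ringEquiv.symm
    rw [← RingHom.FinitePresentation.of_finiteType]
    have h1 : f.hom = (algebraMap ℤ B₀).comp (ULift.ringEquiv : ULift.{u} ℤ ≃+* ℤ).toRingHom := by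
      have := CommRingCat.isInitial.hom_ext f
        (CommRingCat.ofHom ((algebraMap ℤ B₀).comp (ULift.ringEquiv : ULift.{u} ℤ ≃+* ℤ).toRingHom))
      rw [this]
      rfl
    rw [h1]
    apply RingHom.FiniteType.comp
    · rw [RingHom.finiteType_algebraMap]
      exact (Subalgebra.fg_iff_finiteType B₀).mp hfg
    · exact RingHom.FiniteType.of_surjective _ (ULift.ringEquiv : ULift.{u} ℤ ≃+* ℤ).surjective
  obtain ⟨j, g', -, hg'⟩ := RingHom.EssFiniteType.exists_eq_comp_ι_app_of_isColimit R F α f c hc hf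
    (CommRingCat.ofHom B₀.val.toRingHom) (fun i => CommRingCat.isInitial.hom_ext _ _)
  exact ⟨j, g', hg'.symm⟩

/-- Étale maps out of a filtered colimit of rings descend to a stage. -/
theorem H4_etale_spread {J : Type u} [SmallCategory J] [IsFiltered J]
    {F : J ⥤ CommRingCat.{u}} {c : Cocone F} (hc : IsColimit c) {T : CommRingCat.{u}}
    (e : c.pt ⟶ T) (he : e.hom.Etale) :
    ∃ (j : J) (T' : CommRingCat.{u}) (f' : F.obj j ⟶ T') (g : T' ⟶ T),
      IsPushout (c.ι.app j) f' e g ∧ f'.hom.Etale := by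
  letI algT : Algebra c.pt T := e.hom.toAlgebra
  haveI : Algebra.Etale c.pt T := he
  obtain ⟨B₀, E₀, _, _, hfg, hE₀, ⟨φ⟩⟩ := Algebra.Etale.exists_subalgebra_fg ℤ c.pt T
  obtain ⟨j, g', hg'⟩ := H4_subalgebra_fg_lift hc B₀ hfg
  letI algj : Algebra B₀ (F.obj j) := g'.hom.toAlgebra
  have sq1 := CommRingCat.isPushout_tensorProduct B₀ (F.obj j) E₀
  have sq0 := CommRingCat.isPushout_tensorProduct B₀ c.pt E₀
  let e₄ : CommRingCat.of (c.pt ⊗[B₀] E₀) ≅ T := φ.symm.toRingEquiv.toCommRingCatIso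
  have h11 : CommRingCat.ofHom (algebraMap B₀ (F.obj j)) ≫ c.ι.app j =
      CommRingCat.ofHom (algebraMap B₀ c.pt) := hg'
  have big : IsPushout (CommRingCat.ofHom (algebraMap B₀ (F.obj j)) ≫ c.ι.app j)
      (CommRingCat.ofHom (algebraMap B₀ E₀)) e
      (CommRingCat.ofHom (S := c.pt ⊗[B₀] E₀)
        (Algebra.TensorProduct.includeRight (R := B₀) (A := c.pt) (B := E₀)).toRingHom ≫
        e₄.hom) := by
    rw [h11]
    refine sq0.of_iso (Iso.refl _) (Iso.refl _) (Iso.refl _) e₄ (by simp) (by simp) ?_ (by simp)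
    ext b
    exact φ.symm.commutes b
  refine ⟨j, CommRingCat.of ((F.obj j) ⊗[B₀] E₀),
    CommRingCat.ofHom (Algebra.TensorProduct.includeLeftRingHom), _, big.of_left' sq1, ?_⟩
  show (algebraMap (F.obj j) ((F.obj j) ⊗[B₀] E₀)).Etale
  exact RingHom.etale_algebraMap.mpr inferInstance

end Groth.Agent.H4
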