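import Mathlib
import Groth.Agent.Lib.helper4.EtaleSpread
import Groth.Agent.Lib.helper4.IndEtaleObj

set_option autoImplicit false
universe u
open CategoryTheory CategoryTheory.Limits TensorProduct

namespace Groth.Agent.H4

set_option backward.defeqAttrib.useBackward true in
set_option backward.isDefEq.respectTransparency false in
attribute [local instance] IsFiltered.isConnected in
/-- Ind-étale followed by étale is ind-étale. -/
theorem H4_ind_etale_comp_etale {A : Type u} [CommRing A] {X : Under (CommRingCat.of A)}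
    (hX : ObjectProperty.ind.{u} (H4_etaleObj A) X) {T : CommRingCat.{u}}
    (e : X.right ⟶ T) (he : e.hom.Etale) :
    ObjectProperty.ind.{u} (H4_etaleObj A) (Under.mk (X.hom ≫ e)) := by
  obtain ⟨J, _, _, pres, hp⟩ := hX
  let F : J ⥤ CommRingCat.{u} := pres.diag ⋙ Under.forget _
  let c₁ : Cocone F := (Under.forget _).mapCocone pres.cocone
  have hc₁ : IsColimit c₁ := isColimitOfPreserves (Under.forget _) pres.isColimit
  obtain ⟨j, T', f', g, hpo, hf'⟩ := H4_etale_spread hc₁ e he
  let D' : Under j ⥤ CommRingCat.{u} :=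
    (Under.post F ⋙ Under.pushout f') ⋙ CategoryTheory.Under.forget _
  let c' : Cocone D' :=
    (Under.pushout f' ⋙ CategoryTheory.Under.forget _).mapCocone
      (c₁.underPost j) |>.extend hpo.isoPushout.inv
  haveI : IsIso hpo.isoPushout.inv := Iso.isIso_inv _
  let hc' : IsColimit c' :=
    IsColimit.extendIso _ <| isColimitOfPreserves _ (hc₁.underPost j)
  let s' : (Functor.const (Under j)).obj (CommRingCat.of A) ⟶ D' :=
    { app k := (pres.diag.obj k.right).hom ≫ pushout.inl _ _
      naturality k l a := by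
        have h2 : (pres.diag.obj k.right).hom ≫ F.map a.right = (pres.diag.obj l.right).hom :=
          Under.w (pres.diag.map a.right)
        simp [← h2, D'] }
  have hp' : ∀ k, s'.app k ≫ c'.ι.app k = X.hom ≫ e := by
    intro k
    have h3 : (pres.diag.obj k.right).hom ≫ c₁.ι.app k.right = X.hom :=
      Under.w (pres.ι.app k.right)
    simp [c', s', ← h3]
  refine ⟨Under j, inferInstance, inferInstance,
    ⟨Under.lift D' s', (Under.liftCocone D' s' c' _ hp').ι,
      Under.isColimitLiftCocone D' s' c' _ hp' hc'⟩, ?_⟩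
  intro k
  show ((pres.diag.obj k.right).hom ≫ pushout.inl (F.map k.hom) f').hom.Etale
  rw [CommRingCat.hom_comp]
  refine RingHom.Etale.stableUnderComposition _ _ (hp k.right) ?_
  exact RingHom.Etale.isStableUnderBaseChange.pushout_inl RingHom.Etale.respectsIso _ _ hf'

end Groth.Agent.H4

namespace Groth.Agent.H4

attribute [local instance] IsFiltered.isConnected in
/-- Transitivity of ind-étale algebras. -/
theorem H4_isIndEtale_trans (A B C : Type u) [CommRing A] [CommRing B] [CommRing C]
    [Algebra A B] [Algebra B C] [Algebra A C] [IsScalarTower A B C]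
    (hAB : EtPBC.IsIndEtale A B) (hBC : EtPBC.IsIndEtale B C) : EtPBC.IsIndEtale A C := by
  rw [H4_isIndEtale_iff_ind] at hAB ⊢
  obtain ⟨K, _, _, D, c, hc, het, ⟨iso⟩⟩ := hBC
  let M : Under (CommRingCat.of B) ⥤ Under (CommRingCat.of A) :=
    Under.map (CommRingCat.ofHom (algebraMap A B))
  let c₂ : Cocone (D ⋙ M) := M.mapCocone c
  have hc₂ : IsColimit c₂ := by
    refine isColimitOfReflects (Under.forget (CommRingCat.of A)) ?_
    have h0 : IsColimit ((Under.forget (CommRingCat.of B)).mapCocone c) :=
      isColimitOfPreserves (Under.forget (CommRingCat.of B)) hc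
    exact h0
  have h1 : ∀ k, ObjectProperty.ind.{u} (H4_etaleObj A) ((D ⋙ M).obj k) := by
    intro k
    exact H4_ind_etale_comp_etale hAB (D.obj k).hom (het k)
  let iso₂ : c₂.pt ≅ Under.mk (CommRingCat.ofHom (algebraMap A C)) :=
    M.mapIso iso ≪≫ Under.isoMk (Iso.refl _) (by
      ext a
      exact (IsScalarTower.algebraMap_apply A B C a).symm)
  have h3 : ObjectProperty.ind.{u} (ObjectProperty.ind.{u} (H4_etaleObj A))
      (Under.mk (CommRingCat.ofHom (algebraMap A C))) :=
    H4_ind_of_cocone _ (D ⋙ M) c₂ hc₂ h1 iso₂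
  rw [ObjectProperty.ind_ind (H4_etaleObj_le_fp A)] at h3
  exact h3

end Groth.Agent.H4
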