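import Mathlib
import Groth.Agent.Lib.helper4.IndEtaleObj

set_option autoImplicit false
universe u
open CategoryTheory CategoryTheory.Limits

namespace Groth.Agent.H4

attribute [local instance] IsFiltered.isConnected in
/-- Recognising filtered colimits in `Under (CommRingCat.of A)` elementwise. -/
theorem H4_under_isColimit_of_concrete {A : Type u} [CommRing A]
    {J : Type u} [SmallCategory J] [IsFiltered J] (D : J ⥤ Under (CommRingCat.of A))
    (c : Cocone D)
    (hrep : ∀ b : c.pt.right, ∃ (j : J) (x : (D.obj j).right), (c.ι.app j).right.hom x = b)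
    (heq : ∀ (j : J) (x y : (D.obj j).right),
      (c.ι.app j).right.hom x = (c.ι.app j).right.hom y →
        ∃ (k : J) (g : j ⟶ k), (D.map g).right.hom x = (D.map g).right.hom y) :
    Nonempty (IsColimit c) := by
  have : ReflectsColimitsOfShape J (forget CommRingCat.{u}) :=
    reflectsColimitsOfShape_of_reflectsIsomorphisms
  refine ⟨isColimitOfReflects (Under.forget _) ?_⟩
  refine isColimitOfReflects (forget CommRingCat.{u}) ?_
  refine Types.FilteredColimit.isColimitOf' _ _ ?_ ?_
  · intro b
    obtain ⟨j, x, hx⟩ := hrep b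
    exact ⟨j, x, hx.symm⟩
  · intro j x y hxy
    exact heq j x y hxy

/-- A directed union/colimit of ind-étale algebras is ind-étale. -/
theorem H4_isIndEtale_of_directed (A B : Type u) [CommRing A] [CommRing B] [Algebra A B]
    {ι : Type u} [Preorder ι] [IsDirected ι (· ≤ ·)] [Nonempty ι]
    (G : ι → Type u) [∀ i, CommRing (G i)] [∀ i, Algebra A (G i)]
    (f : ∀ i j, i ≤ j → G i →ₐ[A] G j)
    (hf_id : ∀ i x, f i i le_rfl x = x)
    (hf_comp : ∀ i j k (hij : i ≤ j) (hjk : j ≤ k) x,
      f j k hjk (f i j hij x) = f i k (hij.trans hjk) x)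
    (φ : ∀ i, G i →ₐ[A] B)
    (hφ : ∀ i j (h : i ≤ j) x, φ j (f i j h x) = φ i x)
    (hrep : ∀ b, ∃ i x, φ i x = b)
    (heq : ∀ i x y, φ i x = φ i y → ∃ j, ∃ h : i ≤ j, f i j h x = f i j h y)
    (hG : ∀ i, EtPBC.IsIndEtale A (G i)) : EtPBC.IsIndEtale A B := by
  rw [H4_isIndEtale_iff_ind]
  let D : ι ⥤ Under (CommRingCat.of A) :=
    { obj := fun i => Under.mk (CommRingCat.ofHom (algebraMap A (G i)))
      map := fun {i j} h => Under.homMk (CommRingCat.ofHom (f i j (leOfHom h)).toRingHom) (by
        ext a
        exact (f i j (leOfHom h)).commutes a)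
      map_id := fun i => by
        ext x
        exact hf_id i x
      map_comp := fun {i j k} g h => by
        ext x
        exact (hf_comp i j k (leOfHom g) (leOfHom h) x).symm }
  let c : Cocone D :=
    { pt := Under.mk (CommRingCat.ofHom (algebraMap A B))
      ι := { app := fun i => Under.homMk (CommRingCat.ofHom (φ i).toRingHom) (by
               ext a
               exact (φ i).commutes a)
             naturality := fun i j h => by
               ext x
               exact hφ i j (leOfHom h) x } }
  obtain ⟨hc⟩ := H4_under_isColimit_of_concrete D c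
    (by
      intro b
      obtain ⟨i, x, hx⟩ := hrep b
      exact ⟨i, x, hx⟩)
    (by
      intro i x y hxy
      obtain ⟨j, h, hj⟩ := heq i x y hxy
      exact ⟨j, homOfLE h, hj⟩)
  have h1 : ∀ i, ObjectProperty.ind.{u} (H4_etaleObj A) (D.obj i) := fun i =>
    (H4_isIndEtale_iff_ind A (G i)).mp (hG i)
  have h3 : ObjectProperty.ind.{u} (ObjectProperty.ind.{u} (H4_etaleObj A))
      (Under.mk (CommRingCat.ofHom (algebraMap A B))) :=
    H4_ind_of_cocone _ D c hc h1 (Iso.refl _)
  rw [ObjectProperty.ind_ind (H4_etaleObj_le_fp A)] at h3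
  exact h3

end Groth.Agent.H4
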