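import Mathlib
import Groth.Agent.Lib.helper4.IndEtaleObj
import Groth.Agent.Lib.helper4.IndEtaleDirected

set_option autoImplicit false
universe u
open CategoryTheory CategoryTheory.Limits

namespace Groth.Agent.H4

theorem H4_isIndEtale_of_etale (A B : Type u) [CommRing A] [CommRing B] [inst : Algebra A B]
    [h : Algebra.Etale A B] : EtPBC.IsIndEtale A B := by
  rw [H4_isIndEtale_iff_ind]
  apply ObjectProperty.le_ind
  show @Algebra.Etale A B _ _ (algebraMap A B).toAlgebra
  have h1 : (algebraMap A B).toAlgebra = inst := Algebra.algebra_ext _ _ (fun r => rfl)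
  rw [h1]
  exact h

/-- Index type: elements of a submonoid ordered by divisibility. -/
structure H4_DivIdx {C : Type u} [CommRing C] (M : Submonoid C) : Type u where
  val : M

namespace H4_DivIdx

variable {C : Type u} [CommRing C] {M : Submonoid C}

instance : Preorder (H4_DivIdx M) where
  le a b := (a.val : C) ∣ (b.val : C)
  le_refl a := dvd_refl _
  le_trans a b c := dvd_trans

theorem le_def (a b : H4_DivIdx M) : a ≤ b ↔ (a.val : C) ∣ (b.val : C) := Iff.rfl

instance : Nonempty (H4_DivIdx M) := ⟨⟨1⟩⟩

instance : IsDirected (H4_DivIdx M) (· ≤ ·) :=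
  ⟨fun a b => ⟨⟨a.val * b.val⟩, ⟨(b.val : C), by simp⟩, ⟨(a.val : C), by simp [mul_comm]⟩⟩⟩

end H4_DivIdx

section

variable (R : Type u) {C : Type u} [CommRing R] [CommRing C] [Algebra R C]

theorem H4_away_isUnit_of_dvd {a b : C} (h : a ∣ b) (n : Submonoid.powers a) :
    IsUnit (IsScalarTower.toAlgHom R C (Localization.Away b) (n : C)) := by
  obtain ⟨n, k, rfl⟩ := n
  show IsUnit (algebraMap C (Localization.Away b) (a ^ k))
  rw [map_pow]
  apply IsUnit.pow
  obtain ⟨c, rfl⟩ := h
  have h1 : IsUnit (algebraMap C (Localization.Away (a * c)) (a * c)) :=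
    IsLocalization.Away.algebraMap_isUnit _
  rw [map_mul] at h1
  exact isUnit_of_mul_isUnit_left h1

/-- Transition maps between localizations away from elements. -/
noncomputable def H4_awayTrans {a b : C} (h : a ∣ b) :
    Localization.Away a →ₐ[R] Localization.Away b :=
  IsLocalization.liftAlgHom (M := Submonoid.powers a)
    (f := IsScalarTower.toAlgHom R C (Localization.Away b)) (H4_away_isUnit_of_dvd R h)

theorem H4_awayTrans_algebraMap {a b : C} (h : a ∣ b) (c : C) :
    H4_awayTrans R h (algebraMap C (Localization.Away a) c) =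
      algebraMap C (Localization.Away b) c := by
  rw [H4_awayTrans, IsLocalization.liftAlgHom_apply, IsLocalization.lift_eq]
  rfl

theorem H4_away_ext {a : C} {X : Type*} [Semiring X] (g1 g2 : Localization.Away a →+* X)
    (h : ∀ c, g1 (algebraMap C _ c) = g2 (algebraMap C _ c)) (x : Localization.Away a) :
    g1 x = g2 x := by
  have : g1 = g2 := IsLocalization.ringHom_ext (Submonoid.powers a) (by
    ext c
    exact h c)
  rw [this]

end

/-- A localization of an étale algebra is ind-étale. -/
theorem H4_isIndEtale_localization (R C : Type u) [CommRing R] [CommRing C] [Algebra R C]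
    [Algebra.Etale R C] (M : Submonoid C) (L : Type u) [CommRing L] [Algebra C L] [Algebra R L]
    [IsScalarTower R C L] [IsLocalization M L] : EtPBC.IsIndEtale R L := by
  have hunit : ∀ (a : H4_DivIdx M) (n : Submonoid.powers (a.val : C)),
      IsUnit (IsScalarTower.toAlgHom R C L (n : C)) := by
    rintro a ⟨n, k, rfl⟩
    show IsUnit (algebraMap C L ((a.val : C) ^ k))
    rw [map_pow]
    exact (IsLocalization.map_units L a.val).pow k
  let φ : ∀ a : H4_DivIdx M, Localization.Away (a.val : C) →ₐ[R] L := fun a =>
    IsLocalization.liftAlgHom (M := Submonoid.powers (a.val : C))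
      (f := IsScalarTower.toAlgHom R C L) (hunit a)
  have hφ : ∀ (a : H4_DivIdx M) (c : C), φ a (algebraMap C _ c) = algebraMap C L c := by
    intro a c
    show IsLocalization.liftAlgHom _ _ = _
    rw [IsLocalization.liftAlgHom_apply, IsLocalization.lift_eq]
    rfl
  refine H4_isIndEtale_of_directed R L (ι := H4_DivIdx M)
    (fun a => Localization.Away (a.val : C))
    (fun a b h => H4_awayTrans R h) ?_ ?_ φ ?_ ?_ ?_ ?_
  · intro a x
    exact H4_away_ext (H4_awayTrans R (dvd_refl (a.val : C))).toRingHom (RingHom.id _)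
      (fun c => H4_awayTrans_algebraMap R _ c) x
  · intro a b c hab hbc x
    exact H4_away_ext ((H4_awayTrans R hbc).toRingHom.comp (H4_awayTrans R hab).toRingHom)
      (H4_awayTrans R (hab.trans hbc)).toRingHom
      (fun c => by
        show H4_awayTrans R hbc (H4_awayTrans R hab _) = H4_awayTrans R _ _
        rw [H4_awayTrans_algebraMap, H4_awayTrans_algebraMap, H4_awayTrans_algebraMap]) x
  · intro a b h x
    exact H4_away_ext ((φ b).toRingHom.comp (H4_awayTrans R h).toRingHom) (φ a).toRingHom
      (fun c => by
        show φ b (H4_awayTrans R h _) = φ a _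
        rw [H4_awayTrans_algebraMap, hφ, hφ]) x
  · intro z
    obtain ⟨⟨c, m⟩, hz⟩ := IsLocalization.surj M z
    refine ⟨⟨m⟩, IsLocalization.mk' _ c ⟨(m : C), Submonoid.mem_powers _⟩, ?_⟩
    have hm : IsUnit (algebraMap C L m) := IsLocalization.map_units L m
    apply hm.mul_left_injective
    show φ ⟨m⟩ _ * algebraMap C L m = z * algebraMap C L m
    rw [hz, ← hφ ⟨m⟩ (m : C), ← map_mul]
    have : IsLocalization.mk' (Localization.Away (m : C)) c
        (⟨(m : C), Submonoid.mem_powers _⟩ : Submonoid.powers (m : C)) *
        algebraMap C (Localization.Away (m : C)) (m : C) = algebraMap C _ c :=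
      IsLocalization.mk'_spec _ c ⟨(m : C), Submonoid.mem_powers _⟩
    rw [this, hφ]
  · -- equality
    have key : ∀ (a : H4_DivIdx M) (z : Localization.Away (a.val : C)), φ a z = 0 →
        ∃ b, ∃ h : a ≤ b, H4_awayTrans R h z = 0 := by
      intro a z hz
      obtain ⟨⟨c, n⟩, hzc⟩ := IsLocalization.surj (Submonoid.powers (a.val : C)) z
      have h1 : algebraMap C L c = 0 := by
        rw [← hφ a c, ← hzc, map_mul, hz, zero_mul]
      obtain ⟨m, hm⟩ := (IsLocalization.map_eq_zero_iff M L c).mp h1
      refine ⟨⟨a.val * m⟩, ⟨(m : C), by simp⟩, ?_⟩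
      have hab : (a.val : C) ∣ ((a.val * m : M) : C) := ⟨(m : C), by simp⟩
      have h2 : H4_awayTrans R hab z * H4_awayTrans R hab (algebraMap C _ (n : C)) = 0 := by
        rw [← map_mul, hzc, H4_awayTrans_algebraMap]
        have h3 : IsUnit (algebraMap C (Localization.Away ((a.val * m : M) : C))
            ((a.val * m : M) : C)) := IsLocalization.Away.algebraMap_isUnit _
        apply h3.mul_left_cancel
        rw [← map_mul, mul_zero]
        have : ((a.val * m : M) : C) * c = (a.val : C) * ((m : C) * c) := by
          push_cast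
          ring
        rw [this, hm, mul_zero, map_zero]
      have h4 : IsUnit (H4_awayTrans R hab (algebraMap C _ (n : C))) := by
        apply IsUnit.map
        exact IsLocalization.map_units _ n
      exact (h4.mul_left_eq_zero).mp h2
    intro a x y hxy
    obtain ⟨b, h, hb⟩ := key a (x - y) (by rw [map_sub, hxy, sub_self])
    exact ⟨b, h, by rwa [map_sub, sub_eq_zero] at hb⟩
  · intro a
    exact H4_isIndEtale_of_etale R _

end Groth.Agent.H4
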