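import Mathlib
import Groth.Agent.Lib.helper4.IndEtaleLoc

set_option autoImplicit false
universe u
open CategoryTheory CategoryTheory.Limits TensorProduct

namespace Groth.Agent.H4

/-- The quotient by an ideal generated by an idempotent is étale. -/
theorem H4_etale_quotient_idempotent {S : Type u} [CommRing S] {ε : S} (hε : IsIdempotentElem ε) :
    Algebra.Etale S (S ⧸ Ideal.span {ε}) := by
  have h1 : IsIdempotentElem (1 - ε) := hε.one_sub
  have h2 := IsLocalization.Away.quotient_of_isIdempotentElem h1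
  rw [sub_sub_cancel] at h2
  exact Algebra.Etale.of_isLocalizationAway (1 - ε)

/-- A quotient by a directed union of idempotent-generated ideals is ind-étale. -/
theorem H4_isIndEtale_quotient_directed (S C : Type u) [CommRing S] [CommRing C] [Algebra S C]
    (hsurj : Function.Surjective (algebraMap S C))
    (𝓘 : Set (Ideal S)) (hne : 𝓘.Nonempty) (hdir : DirectedOn (· ≤ ·) 𝓘)
    (hidem : ∀ I ∈ 𝓘, ∃ ε, IsIdempotentElem ε ∧ I = Ideal.span {ε})
    (hle : ∀ I ∈ 𝓘, I ≤ RingHom.ker (algebraMap S C))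
    (hker : ∀ x, algebraMap S C x = 0 → ∃ I ∈ 𝓘, x ∈ I) : EtPBC.IsIndEtale S C := by
  haveI : Nonempty 𝓘 := hne.to_subtype
  haveI : IsDirected 𝓘 (· ≤ ·) := directedOn_iff_isDirectedOrder.mp hdir
  have hle' : ∀ (I : 𝓘) (a : S), a ∈ I.val → (Algebra.ofId S C) a = 0 := fun I a ha =>
    hle I.val I.property ha
  refine H4_isIndEtale_of_directed S C (ι := 𝓘) (fun I => S ⧸ I.val)
    (fun I I' h => Ideal.Quotient.factorₐ S h) ?_ ?_
    (fun I => Ideal.Quotient.liftₐ I.val (Algebra.ofId S C) (hle' I)) ?_ ?_ ?_ ?_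
  · intro I x
    obtain ⟨s, rfl⟩ := Ideal.Quotient.mk_surjective x
    rfl
  · intro I I' I'' h h' x
    obtain ⟨s, rfl⟩ := Ideal.Quotient.mk_surjective x
    rfl
  · intro I I' h x
    obtain ⟨s, rfl⟩ := Ideal.Quotient.mk_surjective x
    rfl
  · intro c
    obtain ⟨s, rfl⟩ := hsurj c
    obtain ⟨I⟩ := (inferInstance : Nonempty 𝓘)
    exact ⟨I, Ideal.Quotient.mk _ s, rfl⟩
  · intro I x y hxy
    obtain ⟨s, rfl⟩ := Ideal.Quotient.mk_surjective x
    obtain ⟨t, rfl⟩ := Ideal.Quotient.mk_surjective y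
    have h0 : algebraMap S C (s - t) = 0 := by
      rw [map_sub]
      exact sub_eq_zero.mpr hxy
    obtain ⟨I', hI', hmem⟩ := hker _ h0
    obtain ⟨I'', h1, h2⟩ := directed_of (· ≤ ·) I ⟨I', hI'⟩
    refine ⟨I'', h1, ?_⟩
    show Ideal.Quotient.mk _ s = Ideal.Quotient.mk _ t
    rw [Ideal.Quotient.eq]
    exact h2 hmem
  · intro I
    obtain ⟨ε, hε, hI⟩ := hidem I.val I.property
    haveI : Algebra.Etale S (S ⧸ I.val) := by
      rw [hI]
      exact H4_etale_quotient_idempotent hε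
    exact H4_isIndEtale_of_etale S _

end Groth.Agent.H4
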