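import Mathlib
import Groth.Agent.Lib.helper4.IndEtaleObj

set_option autoImplicit false
universe u
open CategoryTheory CategoryTheory.Limits TensorProduct

namespace Groth.Agent.H4

/-- Concrete data extracted from an ind-étale presentation. -/
theorem H4_isIndEtale_exists_system (A B : Type u) [CommRing A] [CommRing B] [Algebra A B]
    (h : EtPBC.IsIndEtale A B) :
    ∃ (J : Type u) (_ : SmallCategory J) (_ : IsFiltered J) (G : J → Type u)
      (_ : ∀ j, CommRing (G j)) (_ : ∀ j, Algebra A (G j)) (φ : ∀ j, G j →ₐ[A] B)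
      (tr : ∀ {i j : J}, (i ⟶ j) → (G i →ₐ[A] G j)),
      (∀ j, Algebra.Etale A (G j)) ∧ (∀ (i j : J) (a : i ⟶ j) (x : G i), φ j (tr a x) = φ i x) ∧
      (∀ b : B, ∃ (j : J) (x : G j), φ j x = b) ∧
      (∀ (i : J) (x y : G i), φ i x = φ i y → ∃ (j : J) (a : i ⟶ j), tr a x = tr a y) := by
  classical
  obtain ⟨J, _, _, D, c, hc, het, ⟨e⟩⟩ := h
  letI alg : ∀ j, Algebra A (D.obj j).right := fun j => (D.obj j).hom.hom.toAlgebra
  let F : J ⥤ CommRingCat := D ⋙ Under.forget _
  let c' : Cocone F := (Under.forget _).mapCocone c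
  have hc' : IsColimit c' := isColimitOfPreserves (Under.forget _) hc
  let ε : c.pt.right →+* B := e.hom.right.hom
  have hε : Function.Bijective ε :=
    ((Under.forget _).mapIso e).commRingCatIsoToRingEquiv.bijective
  let ψ : ∀ j, (D.obj j).right →+* B := fun j => ε.comp (c.ι.app j).right.hom
  have hψ : ∀ j (a : A), ψ j (algebraMap A (D.obj j).right a) = algebraMap A B a := by
    intro j a
    have h1 : (D.obj j).hom ≫ (c.ι.app j).right = c.pt.hom := Under.w (c.ι.app j)
    have h2 : c.pt.hom ≫ e.hom.right = CommRingCat.ofHom (algebraMap A B) := Under.w e.hom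
    have h3 : ((D.obj j).hom ≫ (c.ι.app j).right) ≫ e.hom.right =
        CommRingCat.ofHom (algebraMap A B) := by rw [h1, h2]
    have h4 := congrArg (fun f => f.hom a) h3
    exact h4
  let φ : ∀ j, (D.obj j).right →ₐ[A] B := fun j => { ψ j with commutes' := hψ j }
  have hφ : ∀ j y, φ j y = ε ((c.ι.app j).right.hom y) := fun j y => rfl
  let tr : ∀ {i j : J} (_ : i ⟶ j), (D.obj i).right →ₐ[A] (D.obj j).right := fun {i j} a =>
    { (D.map a).right.hom with
      commutes' := fun r => by
        have h1 : (D.obj i).hom ≫ (D.map a).right = (D.obj j).hom := Under.w (D.map a)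
        exact congrArg (fun f => f.hom r) h1 }
  have htr : ∀ {i j : J} (a : i ⟶ j) y, φ j (tr a y) = φ i y := by
    intro i j a y
    show ε ((c.ι.app j).right.hom ((D.map a).right.hom y)) = ε ((c.ι.app i).right.hom y)
    have h1 : D.map a ≫ c.ι.app j = c.ι.app i := c.w a
    have h2 : (D.map a).right ≫ (c.ι.app j).right = (c.ι.app i).right := by
      rw [← Under.comp_right, h1]
    have h3 := congrArg (fun f => f.hom y) h2
    exact congrArg ε h3
  refine ⟨J, inferInstance, inferInstance, fun j => (D.obj j).right, inferInstance, alg, φ,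
    fun {i j} a => tr a, het, fun i j a x => htr a x, ?_, ?_⟩
  · intro b
    obtain ⟨x, rfl⟩ := hε.2 b
    obtain ⟨j₀⟩ := IsFiltered.nonempty (C := J)
    obtain ⟨j, _, y, hy⟩ := Concrete.exists_hom_ι_eq_of_isColimit F hc' x j₀
    exact ⟨j, y, congrArg ε hy⟩
  · intro i x y hxy
    have h1 : (c'.ι.app i).hom x = (c'.ι.app i).hom y := hε.1 hxy
    obtain ⟨j, a, h2⟩ := (IsColimit.eq_iff' hc' x y).mp h1
    exact ⟨j, a, h2⟩

end Groth.Agent.H4
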