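import Mathlib
import Groth.Agent.Lib.helper4.IndEtaleSys
import Groth.Agent.Lib.helper4.IndEtaleQuot
import Groth.Agent.Lib.helper4.IndEtaleComp
import Groth.Agent.Lib.helper4.IndEtaleBC

set_option autoImplicit false
universe u
open CategoryTheory CategoryTheory.Limits TensorProduct

namespace Groth.Agent.H4

theorem H4_etale_diag_idempotent (A E : Type u) [CommRing A] [CommRing E] [Algebra A E]
    [Algebra.Etale A E] :
    ∃ e : E ⊗[A] E, IsIdempotentElem e ∧
      Ideal.span (Set.range fun s : E => (1 : E) ⊗ₜ[A] s - s ⊗ₜ[A] (1 : E)) = Ideal.span {e} := by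
  rw [KaehlerDifferential.span_range_eq_ideal]
  apply (Ideal.isIdempotentElem_iff_of_fg _ (KaehlerDifferential.ideal_fg A E)).mp
  apply (Ideal.cotangent_subsingleton_iff _).mp
  exact inferInstanceAs <| Subsingleton Ω[E⁄A]

/-- For `A → B` ind-étale and any `B`-algebra `C`, the map `B ⊗[A] C → C` is ind-étale. -/
theorem H4_isIndEtale_mul (A B C : Type u) [CommRing A] [CommRing B] [CommRing C]
    [Algebra A B] [Algebra B C] [Algebra A C] [IsScalarTower A B C]
    (hB : EtPBC.IsIndEtale A B) (m : B ⊗[A] C →ₐ[A] C)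
    (hm : ∀ b c, m (b ⊗ₜ c) = algebraMap B C b * c) [Algebra (B ⊗[A] C) C]
    (halg : ∀ s, algebraMap (B ⊗[A] C) C s = m s) : EtPBC.IsIndEtale (B ⊗[A] C) C := by
  obtain ⟨J, _, _, G, _, _, φ, tr, het, htr, hrep, -⟩ := H4_isIndEtale_exists_system A B hB
  obtain ⟨j₀⟩ := IsFiltered.nonempty (C := J)
  let f : B →ₐ[A] C := IsScalarTower.toAlgHom A B C
  let gen : ∀ j, G j → B ⊗[A] C := fun j x =>
    (1 : B) ⊗ₜ[A] (algebraMap B C (φ j x)) - (φ j x) ⊗ₜ[A] (1 : C)
  let I : J → Ideal (B ⊗[A] C) := fun j => Ideal.span (Set.range (gen j))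
  have hmono : ∀ {i j : J} (a : i ⟶ j), I i ≤ I j := by
    intro i j a
    apply Ideal.span_le.mpr
    rintro _ ⟨x, rfl⟩
    apply Ideal.subset_span
    exact ⟨tr a x, by simp only [gen, htr]⟩
  refine H4_isIndEtale_quotient_directed (B ⊗[A] C) C ?_ (Set.range I) ?_ ?_ ?_ ?_ ?_
  · intro c
    exact ⟨1 ⊗ₜ c, by rw [halg, hm, map_one, one_mul]⟩
  · exact ⟨I j₀, j₀, rfl⟩
  · rintro _ ⟨i, rfl⟩ _ ⟨j, rfl⟩
    exact ⟨I (IsFiltered.max i j), ⟨_, rfl⟩, hmono (IsFiltered.leftToMax i j),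
      hmono (IsFiltered.rightToMax i j)⟩
  · rintro _ ⟨j, rfl⟩
    haveI := het j
    obtain ⟨e, he, hspan⟩ := H4_etale_diag_idempotent A (G j)
    let h : G j ⊗[A] G j →ₐ[A] B ⊗[A] C := Algebra.TensorProduct.map (φ j) (f.comp (φ j))
    refine ⟨h e, he.map h, ?_⟩
    have h0 : Set.range (gen j) =
        h '' (Set.range fun s : G j => (1 : G j) ⊗ₜ[A] s - s ⊗ₜ[A] (1 : G j)) := by
      ext z
      constructor
      · rintro ⟨x, rfl⟩
        exact ⟨_, ⟨x, rfl⟩, by simp [h, gen, f]⟩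
      · rintro ⟨_, ⟨x, rfl⟩, rfl⟩
        exact ⟨x, by simp [h, gen, f]⟩
    have h1 : I j = Ideal.map h (Ideal.span
        (Set.range fun s : G j => (1 : G j) ⊗ₜ[A] s - s ⊗ₜ[A] (1 : G j))) := by
      rw [Ideal.map_span, ← h0]
    rw [h1, hspan, Ideal.map_span, Set.image_singleton]
  · rintro _ ⟨j, rfl⟩
    apply Ideal.span_le.mpr
    rintro _ ⟨x, rfl⟩
    show algebraMap _ _ (gen j x) = 0
    rw [halg]
    simp [gen, hm]
  · intro x hx
    rw [halg] at hx
    have key : ∀ x : B ⊗[A] C, ∃ j, x - 1 ⊗ₜ m x ∈ I j := by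
      intro x
      induction x using TensorProduct.induction_on with
      | zero => exact ⟨j₀, by simp⟩
      | tmul b c =>
        obtain ⟨j, y, rfl⟩ := hrep b
        refine ⟨j, ?_⟩
        have h2 : (φ j y) ⊗ₜ[A] c - 1 ⊗ₜ m ((φ j y) ⊗ₜ c) = - (gen j y * (1 ⊗ₜ c)) := by
          rw [hm]
          simp [gen, sub_mul, Algebra.TensorProduct.tmul_mul_tmul]
        rw [h2]
        exact (I j).neg_mem (Ideal.mul_mem_right _ _ (Ideal.subset_span ⟨y, rfl⟩))
      | add x y hx hy =>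
        obtain ⟨i, hi⟩ := hx
        obtain ⟨j, hj⟩ := hy
        refine ⟨IsFiltered.max i j, ?_⟩
        have h3 : x + y - 1 ⊗ₜ m (x + y) = (x - 1 ⊗ₜ m x) + (y - 1 ⊗ₜ m y) := by
          rw [map_add, TensorProduct.tmul_add]
          ring
        rw [h3]
        exact add_mem (hmono (IsFiltered.leftToMax i j) hi) (hmono (IsFiltered.rightToMax i j) hj)
    obtain ⟨j, hj⟩ := key x
    rw [hx, TensorProduct.tmul_zero, sub_zero] at hj
    exact ⟨I j, ⟨j, rfl⟩, hj⟩

/-- Cancellation for ind-étale algebras. -/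
theorem H4_isIndEtale_cancel (A B C : Type u) [CommRing A] [CommRing B] [CommRing C]
    [Algebra A B] [Algebra B C] [Algebra A C] [IsScalarTower A B C]
    (hB : EtPBC.IsIndEtale A B) (hC : EtPBC.IsIndEtale A C) : EtPBC.IsIndEtale B C := by
  let f : B →ₐ[A] C := IsScalarTower.toAlgHom A B C
  let m : B ⊗[A] C →ₐ[A] C := Algebra.TensorProduct.productMap f (AlgHom.id A C)
  have hm : ∀ b c, m (b ⊗ₜ c) = algebraMap B C b * c := fun b c => by simp [m, f]
  letI algSC : Algebra (B ⊗[A] C) C := m.toRingHom.toAlgebra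
  have halg : ∀ s, algebraMap (B ⊗[A] C) C s = m s := fun s => rfl
  haveI : IsScalarTower B (B ⊗[A] C) C := IsScalarTower.of_algebraMap_eq (fun b => by
    rw [halg, Algebra.TensorProduct.algebraMap_apply, hm]
    simp)
  have h1 : EtPBC.IsIndEtale B (B ⊗[A] C) := H4_isIndEtale_baseChange A C B hC
  have h2 : EtPBC.IsIndEtale (B ⊗[A] C) C := H4_isIndEtale_mul A B C hB m hm halg
  exact H4_isIndEtale_trans B (B ⊗[A] C) C h1 h2

end Groth.Agent.H4
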