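import Mathlib

set_option autoImplicit false

namespace Groth.Agent.H4

open Polynomial

/-- If `A[X]/(f)` is formally unramified over `A`, then `f'` is a unit in `A[X]/(f)`. -/
theorem H4_isUnit_derivative_of_formallyUnramified {A : Type*} [CommRing A] (f : A[X])
    [Algebra.FormallyUnramified A (AdjoinRoot f)] :
    IsUnit (AdjoinRoot.mk f (derivative f)) := by
  by_contra hd
  have hne : Ideal.span {AdjoinRoot.mk f (derivative f)} ≠ ⊤ := by
    rwa [Ne, Ideal.span_singleton_eq_top]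
  haveI : Nontrivial (AdjoinRoot f ⧸ Ideal.span {AdjoinRoot.mk f (derivative f)}) :=
    Ideal.Quotient.nontrivial_iff.mpr hne
  let π : AdjoinRoot f →ₐ[A] (AdjoinRoot f ⧸ Ideal.span {AdjoinRoot.mk f (derivative f)}) :=
    Ideal.Quotient.mkₐ A _
  let g₁ : AdjoinRoot f →ₐ[A] TrivSqZeroExt
      (AdjoinRoot f ⧸ Ideal.span {AdjoinRoot.mk f (derivative f)})
      (AdjoinRoot f ⧸ Ideal.span {AdjoinRoot.mk f (derivative f)}) :=
    (TrivSqZeroExt.inlAlgHom A _ _).comp π
  have hπf : ∀ p : A[X], aeval (π (AdjoinRoot.root f)) p = π (AdjoinRoot.mk f p) := by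
    intro p
    rw [Polynomial.aeval_algHom_apply, AdjoinRoot.aeval_eq]
  have h1 : aeval (TrivSqZeroExt.inlAlgHom A _
      (AdjoinRoot f ⧸ Ideal.span {AdjoinRoot.mk f (derivative f)}) (π (AdjoinRoot.root f))) f = 0 := by
    rw [Polynomial.aeval_algHom_apply, hπf, AdjoinRoot.mk_self, map_zero, map_zero]
  have h2 : aeval (TrivSqZeroExt.inlAlgHom A _
      (AdjoinRoot f ⧸ Ideal.span {AdjoinRoot.mk f (derivative f)}) (π (AdjoinRoot.root f)))
      (derivative f) = 0 := by
    rw [Polynomial.aeval_algHom_apply, hπf]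
    have : π (AdjoinRoot.mk f (derivative f)) = 0 :=
      Ideal.Quotient.eq_zero_iff_mem.mpr (Ideal.mem_span_singleton_self _)
    rw [this, map_zero]
  have hy : aeval (TrivSqZeroExt.inlAlgHom A _
      (AdjoinRoot f ⧸ Ideal.span {AdjoinRoot.mk f (derivative f)}) (π (AdjoinRoot.root f)) +
      TrivSqZeroExt.inr 1) f = 0 := by
    rw [Polynomial.aeval_add_of_sq_eq_zero _ _ _ (by rw [pow_two, TrivSqZeroExt.inr_mul_inr]),
      h1, h2, zero_mul, add_zero]
  let g₂ : AdjoinRoot f →ₐ[A] TrivSqZeroExt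
      (AdjoinRoot f ⧸ Ideal.span {AdjoinRoot.mk f (derivative f)})
      (AdjoinRoot f ⧸ Ideal.span {AdjoinRoot.mk f (derivative f)}) :=
    AdjoinRoot.liftAlgHom f (Algebra.ofId A _) _ hy
  have hg : g₁ = g₂ := by
    apply Algebra.FormallyUnramified.ext' (TrivSqZeroExt.fstHom
      (AdjoinRoot f ⧸ Ideal.span {AdjoinRoot.mk f (derivative f)})
      (AdjoinRoot f ⧸ Ideal.span {AdjoinRoot.mk f (derivative f)})
      (AdjoinRoot f ⧸ Ideal.span {AdjoinRoot.mk f (derivative f)})).toRingHom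
    · exact ⟨2, TrivSqZeroExt.kerIdeal_sq _ _⟩
    · intro x
      have : (TrivSqZeroExt.fstHom A (AdjoinRoot f ⧸ Ideal.span {AdjoinRoot.mk f (derivative f)})
          (AdjoinRoot f ⧸ Ideal.span {AdjoinRoot.mk f (derivative f)})).comp g₁ =
          (TrivSqZeroExt.fstHom A _ _).comp g₂ := by
        apply AdjoinRoot.algHom_ext
        simp only [AlgHom.comp_apply, g₁, g₂, AdjoinRoot.liftAlgHom_root]
        simp
      exact DFunLike.congr_fun this x
  have h3 := DFunLike.congr_fun hg (AdjoinRoot.root f)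
  simp only [g₁, g₂, AdjoinRoot.liftAlgHom_root, AlgHom.comp_apply] at h3
  have h4 := congrArg TrivSqZeroExt.snd h3
  simp at h4

/-- If `f` is monic and `f'` is a unit in `A[X]/(f)` then `A[X]/(f)` is étale over `A`. -/
theorem H4_etale_adjoinRoot {A : Type*} [CommRing A] (f : A[X]) (hf : f.Monic)
    (h : IsUnit (AdjoinRoot.mk f (derivative f))) : Algebra.Etale A (AdjoinRoot f) := by
  obtain ⟨b, hb⟩ := h.exists_right_inv
  obtain ⟨p₁, rfl⟩ := AdjoinRoot.mk_surjective b
  rw [← map_mul, ← map_one (AdjoinRoot.mk f), AdjoinRoot.mk_eq_mk] at hb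
  obtain ⟨c, hc⟩ := hb
  let P : StandardEtalePair A := ⟨f, hf, 1, ⟨p₁, -c, 1, by rw [pow_one]; linear_combination hc⟩⟩
  let e1 : P.Ring ≃ₐ[A] Localization.Away (AdjoinRoot.mk f (1 : A[X])) := P.equivAwayAdjoinRoot
  have hu : IsUnit (AdjoinRoot.mk f (1 : A[X])) := by rw [map_one]; exact isUnit_one
  let e2 : AdjoinRoot f ≃ₐ[AdjoinRoot f] Localization.Away (AdjoinRoot.mk f (1 : A[X])) :=
    IsLocalization.atUnit _ _ _ hu
  exact Algebra.Etale.of_equiv (e1.trans (e2.restrictScalars A).symm)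

end Groth.Agent.H4
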