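import Mathlib
import Groth.Agent.Lib.helper4.UnramAdjoinRoot

set_option autoImplicit false

namespace Groth.Agent.H4

open Polynomial TensorProduct

/-- Over a local ring `R`, if the reduction of a monic `G` is separable over the residue field,
then `G'` is a unit in `R[X]/(G)`. -/
theorem H4_isUnit_mk_derivative_of_separable_residue {R : Type*} [CommRing R] [IsLocalRing R]
    (G : R[X]) (hG : G.Monic) (hsep : (G.map (IsLocalRing.residue R)).Separable) :
    IsUnit (AdjoinRoot.mk G (derivative G)) := by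
  classical
  by_contra hnu
  obtain ⟨M, hM, hbM⟩ := exists_max_ideal_of_mem_nonunits (mem_nonunits_iff.mpr hnu)
  haveI : Module.Finite R (AdjoinRoot G) := hG.finite_adjoinRoot
  haveI : Algebra.IsIntegral R (AdjoinRoot G) := Algebra.IsIntegral.of_finite R _
  haveI hcm : (Ideal.comap (algebraMap R (AdjoinRoot G)) M).IsMaximal :=
    Ideal.isMaximal_comap_of_isIntegral_of_isMaximal M
  have hcm' : Ideal.comap (algebraMap R (AdjoinRoot G)) M = IsLocalRing.maximalIdeal R :=
    IsLocalRing.eq_maximalIdeal hcm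
  letI : Field (AdjoinRoot G ⧸ M) := Ideal.Quotient.field M
  let f : R →+* (AdjoinRoot G ⧸ M) := (Ideal.Quotient.mk M).comp (algebraMap R (AdjoinRoot G))
  have hf0 : ∀ a ∈ IsLocalRing.maximalIdeal R, f a = 0 := by
    intro a ha
    rw [← hcm'] at ha
    exact Ideal.Quotient.eq_zero_iff_mem.mpr ha
  let ψ : IsLocalRing.ResidueField R →+* (AdjoinRoot G ⧸ M) :=
    Ideal.Quotient.lift (IsLocalRing.maximalIdeal R) f hf0
  have hψ : ψ.comp (IsLocalRing.residue R) = f := by
    ext a; rfl
  let θ : AdjoinRoot G ⧸ M := Ideal.Quotient.mk M (AdjoinRoot.root G)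
  have hsep' : ((G.map (IsLocalRing.residue R)).map ψ).Separable := hsep.map
  rw [Polynomial.map_map, hψ] at hsep'
  obtain ⟨u, v, huv⟩ := hsep'
  have h1 : (G.map f).eval θ = 0 := by
    rw [Polynomial.eval_map, ← Polynomial.hom_eval₂]
    rw [← Polynomial.aeval_def, AdjoinRoot.aeval_eq, AdjoinRoot.mk_self, map_zero]
  have h2 : (derivative (G.map f)).eval θ = 0 := by
    rw [Polynomial.derivative_map, Polynomial.eval_map, ← Polynomial.hom_eval₂]
    rw [← Polynomial.aeval_def, AdjoinRoot.aeval_eq]
    exact Ideal.Quotient.eq_zero_iff_mem.mpr hbM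
  have h3 := congrArg (Polynomial.eval θ) huv
  rw [Polynomial.eval_add, Polynomial.eval_mul, Polynomial.eval_mul, h1, h2, mul_zero, mul_zero,
    add_zero, Polynomial.eval_one] at h3
  exact zero_ne_one h3

/-- Base change of `R[X]/(G)` to the residue field is the simple extension generated by a root
of the reduction. -/
theorem H4_tensor_adjoinRoot_equiv {R : Type*} [CommRing R] [IsLocalRing R]
    (G : R[X]) {L : Type*} [Field L] [Algebra (IsLocalRing.ResidueField R) L]
    (α : L) (hα : IsIntegral (IsLocalRing.ResidueField R) α)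
    (htop : IntermediateField.adjoin (IsLocalRing.ResidueField R) {α} = ⊤)
    (hmin : minpoly (IsLocalRing.ResidueField R) α = G.map (IsLocalRing.residue R)) :
    Nonempty ((IsLocalRing.ResidueField R) ⊗[R] AdjoinRoot G ≃ₐ[IsLocalRing.ResidueField R] L) := by
  classical
  let κ := IsLocalRing.ResidueField R
  let q : (κ ⊗[R] R)[X] := G.map (Algebra.TensorProduct.includeRight (R := R) (A := κ) (B := R)).toRingHom
  let e1 : κ ⊗[R] AdjoinRoot G ≃ₐ[κ] AdjoinRoot q := AdjoinRoot.tensorAlgEquiv G q rfl
  have hq : q.map (Algebra.TensorProduct.rid R κ κ) = minpoly κ α := by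
    rw [hmin]
    change (G.map _).map _ = _
    rw [Polynomial.map_map]
    congr 1
    ext r
    simp [Algebra.TensorProduct.rid_tmul, Algebra.smul_def]
    rfl
  let e2 : AdjoinRoot q ≃ₐ[κ] AdjoinRoot (minpoly κ α) :=
    AdjoinRoot.mapAlgEquiv (Algebra.TensorProduct.rid R κ κ) q (minpoly κ α) (by rw [hq])
  let e3 : AdjoinRoot (minpoly κ α) ≃ₐ[κ] IntermediateField.adjoin κ {α} :=
    IntermediateField.adjoinRootEquivAdjoin κ hα
  let e4 : IntermediateField.adjoin κ {α} ≃ₐ[κ] (⊤ : IntermediateField κ L) :=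
    IntermediateField.equivOfEq htop
  exact ⟨((e1.trans e2).trans e3).trans (e4.trans IntermediateField.topEquiv)⟩

end Groth.Agent.H4
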