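import Mathlib
import Groth.Prelude.Def_EssEt
import Groth.Agent.Lib.helper4.EssEtale

/-! Pointed étale algebras `(C, χ : C → K)` over a local ring `R`, `K` a field over the residue
field, and their localizations (the version for strict henselizations). -/

set_option autoImplicit false
universe u

open TensorProduct

namespace Groth.Agent.H4

variable {R : Type u} [CommRing R] [IsLocalRing R] {K : Type u} [Field K] [Algebra R K]
  (hK : RingHom.ker (algebraMap R K) = IsLocalRing.maximalIdeal R)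

section Pair

variable {C : Type u} [CommRing C] [Algebra R C]
  (χ : C →ₐ[R] K) (q : Ideal C) [q.IsPrime] (hq : RingHom.ker χ = q)
  (L : Type u) [CommRing L] [Algebra C L] [Algebra R L] [IsScalarTower R C L]
  [IsLocalization.AtPrime L q]

include hq in
theorem H4K_pair_mem (c : C) : c ∈ q ↔ χ c = 0 := by
  rw [← hq]; exact RingHom.mem_ker

include hK hq in
theorem H4K_pair_comap : q.comap (algebraMap R C) = IsLocalRing.maximalIdeal R := by
  ext a
  rw [Ideal.mem_comap, H4K_pair_mem χ q hq, AlgHom.commutes, ← hK, RingHom.mem_ker]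

include hK χ hq in
theorem H4K_pair_isLocalHom : IsLocalHom (algebraMap R L) := by
  constructor
  intro a ha
  rw [IsScalarTower.algebraMap_apply R C L,
    IsLocalization.AtPrime.isUnit_to_map_iff L q] at ha
  have h1 : a ∉ IsLocalRing.maximalIdeal R := by
    rw [← H4K_pair_comap hK χ q hq]; exact ha
  by_contra hn
  exact h1 hn

/-- The character extended to the localization. -/
noncomputable def H4K_pair_locChar : L →ₐ[R] K :=
  IsLocalization.liftAlgHom (M := q.primeCompl) (f := χ) (fun y => by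
    rw [isUnit_iff_ne_zero]
    intro h0
    exact y.2 ((H4K_pair_mem χ q hq _).mpr h0))

theorem H4K_pair_locChar_algebraMap (c : C) :
    H4K_pair_locChar χ q hq L (algebraMap C L c) = χ c := by
  show IsLocalization.lift _ (algebraMap C L c) = χ c
  rw [IsLocalization.lift_eq]; rfl

theorem H4K_pair_locChar_eq_zero [IsLocalRing L] (z : L) :
    H4K_pair_locChar χ q hq L z = 0 ↔ z ∈ IsLocalRing.maximalIdeal L := by
  obtain ⟨c, s, rfl⟩ := IsLocalization.exists_mk'_eq q.primeCompl z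
  have hs : H4K_pair_locChar χ q hq L (algebraMap C L (s : C)) ≠ 0 := by
    rw [H4K_pair_locChar_algebraMap]
    intro h0
    exact s.2 ((H4K_pair_mem χ q hq _).mpr h0)
  have hsu : IsUnit (algebraMap C L s) := IsLocalization.map_units _ s
  have h1 : IsLocalization.mk' L c s * algebraMap C L (s : C) =
      algebraMap C L c := IsLocalization.mk'_spec _ c s
  constructor
  · intro h
    have h2 : χ c = 0 := by
      rw [← H4K_pair_locChar_algebraMap χ q hq L, ← h1, map_mul, h, zero_mul]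
    have h3 : algebraMap C L c ∈ IsLocalRing.maximalIdeal L :=
      (IsLocalization.AtPrime.to_map_mem_maximal_iff L q c).mpr ((H4K_pair_mem χ q hq _).mpr h2)
    rw [← h1] at h3
    rcases (IsLocalRing.maximalIdeal.isMaximal _).isPrime.mem_or_mem h3 with h | h
    · exact h
    · exact absurd hsu h
  · intro h
    have h3 : algebraMap C L c ∈ IsLocalRing.maximalIdeal L := by
      rw [← h1]; exact Ideal.mul_mem_right _ _ h
    have h2 : χ c = 0 := (H4K_pair_mem χ q hq _).mp
      ((IsLocalization.AtPrime.to_map_mem_maximal_iff L q c).mp h3)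
    have h4 : H4K_pair_locChar χ q hq L (IsLocalization.mk' L c s) *
        H4K_pair_locChar χ q hq L (algebraMap C L (s : C)) = 0 := by
      rw [← map_mul, h1, H4K_pair_locChar_algebraMap, h2]
    exact (mul_eq_zero.mp h4).resolve_right hs

include hK χ hq in
theorem H4K_pair_essEt [Algebra.Etale R C] : EGA4loc.IsEssentiallyEtale R L :=
  ⟨C, _, _, q, inferInstance, inferInstance, H4K_pair_comap hK χ q hq,
    ⟨(IsLocalization.algEquiv q.primeCompl L (Localization.AtPrime q)).restrictScalars R⟩⟩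

end Pair

section PairMap

variable {C₁ C₂ : Type u} [CommRing C₁] [Algebra R C₁] [CommRing C₂] [Algebra R C₂]
  (χ₁ : C₁ →ₐ[R] K) (q₁ : Ideal C₁) [q₁.IsPrime]
  (hq₁ : RingHom.ker χ₁ = q₁)
  (L₁ : Type u) [CommRing L₁] [Algebra C₁ L₁] [Algebra R L₁] [IsScalarTower R C₁ L₁]
  [IsLocalization.AtPrime L₁ q₁]
  (χ₂ : C₂ →ₐ[R] K) (q₂ : Ideal C₂) [q₂.IsPrime]
  (hq₂ : RingHom.ker χ₂ = q₂)
  (L₂ : Type u) [CommRing L₂] [Algebra C₂ L₂] [Algebra R L₂] [IsScalarTower R C₂ L₂]
  [IsLocalization.AtPrime L₂ q₂]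
  (g : C₁ →ₐ[R] C₂) (hg : ∀ c, χ₂ (g c) = χ₁ c)

/-- A morphism of pointed algebras induces a map of localizations. -/
noncomputable def H4K_pair_map : L₁ →ₐ[R] L₂ :=
  IsLocalization.liftAlgHom (M := q₁.primeCompl)
    (f := (IsScalarTower.toAlgHom R C₂ L₂).comp g) (fun y => by
      show IsUnit (algebraMap C₂ L₂ (g y))
      rw [IsLocalization.AtPrime.isUnit_to_map_iff L₂ q₂]
      show ¬ _ ∈ q₂
      rw [H4K_pair_mem χ₂ q₂ hq₂, hg]
      intro h0
      exact y.2 ((H4K_pair_mem χ₁ q₁ hq₁ _).mpr h0))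

theorem H4K_pair_map_algebraMap (c : C₁) :
    H4K_pair_map χ₁ q₁ hq₁ L₁ χ₂ q₂ hq₂ L₂ g hg (algebraMap C₁ L₁ c) = algebraMap C₂ L₂ (g c) := by
  show IsLocalization.lift _ (algebraMap C₁ L₁ c) = _
  rw [IsLocalization.lift_eq]; rfl

theorem H4K_pair_map_locChar (z : L₁) :
    H4K_pair_locChar χ₂ q₂ hq₂ L₂ (H4K_pair_map χ₁ q₁ hq₁ L₁ χ₂ q₂ hq₂ L₂ g hg z) =
      H4K_pair_locChar χ₁ q₁ hq₁ L₁ z := by
  have : (H4K_pair_locChar χ₂ q₂ hq₂ L₂).toRingHom.comp
      (H4K_pair_map χ₁ q₁ hq₁ L₁ χ₂ q₂ hq₂ L₂ g hg).toRingHom =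
      (H4K_pair_locChar χ₁ q₁ hq₁ L₁).toRingHom := by
    apply IsLocalization.ringHom_ext q₁.primeCompl
    ext c
    show H4K_pair_locChar χ₂ q₂ hq₂ L₂ (H4K_pair_map χ₁ q₁ hq₁ L₁ χ₂ q₂ hq₂ L₂ g hg
      (algebraMap C₁ L₁ c)) = H4K_pair_locChar χ₁ q₁ hq₁ L₁ (algebraMap C₁ L₁ c)
    rw [H4K_pair_map_algebraMap, H4K_pair_locChar_algebraMap, H4K_pair_locChar_algebraMap, hg]
  exact RingHom.congr_fun this z

end PairMap

/-- Maps of essentially étale local algebras compatible with characters with kernel the maximal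
ideal are unique. -/
theorem H4K_algHom_ext {L₁ L₂ : Type u} [CommRing L₁] [Algebra R L₁]
    (h₁ : EGA4loc.IsEssentiallyEtale R L₁) [CommRing L₂] [IsLocalRing L₂] [Algebra R L₂]
    (χ₂ : L₂ →+* K) (hχ₂ : ∀ z, χ₂ z = 0 ↔ z ∈ IsLocalRing.maximalIdeal L₂)
    (u v : L₁ →ₐ[R] L₂) (h : ∀ x, χ₂ (u x) = χ₂ (v x)) : u = v := by
  apply H4_essEt_algHom_ext h₁ u v
  intro x
  rw [← sub_eq_zero, ← map_sub, IsLocalRing.residue_eq_zero_iff, ← hχ₂, map_sub, h, sub_self]

end Groth.Agent.H4
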