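import Mathlib
import Groth.Agent.Lib.helper4.SHensPairs

/-! The small directed system of pointed local-étale neighbourhoods `(C, χ : C → K)`. -/

set_option autoImplicit false
universe u

open TensorProduct

namespace Groth.Agent.H4

/-- A presented pointed étale algebra over the local ring `R` with a point in `K`. -/
structure H4K_Nbhd (R K : Type u) [CommRing R] [IsLocalRing R] [Field K] [Algebra R K] :
    Type u where
  n : ℕ
  I : Ideal (MvPolynomial (Fin n) R)
  etale : Algebra.Etale R (MvPolynomial (Fin n) R ⧸ I)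
  χ : (MvPolynomial (Fin n) R ⧸ I) →ₐ[R] K

namespace H4K_Nbhd

variable {R K : Type u} [CommRing R] [IsLocalRing R] [Field K] [Algebra R K]
  (i : H4K_Nbhd R K)

/-- The étale algebra. -/
def C : Type u := MvPolynomial (Fin i.n) R ⧸ i.I

noncomputable instance : CommRing i.C :=
  inferInstanceAs (CommRing (MvPolynomial (Fin i.n) R ⧸ i.I))

noncomputable instance : Algebra R i.C :=
  inferInstanceAs (Algebra R (MvPolynomial (Fin i.n) R ⧸ i.I))

instance : Algebra.Etale R i.C := i.etale

/-- The character. -/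
noncomputable def chi : i.C →ₐ[R] K := i.χ

/-- The prime. -/
noncomputable def q : Ideal i.C := RingHom.ker i.chi

theorem hq : RingHom.ker i.chi = i.q := rfl

instance : i.q.IsPrime := RingHom.ker_isPrime i.chi

/-- The local ring. -/
def G : Type u := Localization.AtPrime i.q

noncomputable instance : CommRing i.G := inferInstanceAs (CommRing (Localization.AtPrime i.q))

instance : IsLocalRing i.G := inferInstanceAs (IsLocalRing (Localization.AtPrime i.q))

noncomputable instance : Algebra i.C i.G :=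
  inferInstanceAs (Algebra i.C (Localization.AtPrime i.q))

noncomputable instance : Algebra R i.G :=
  inferInstanceAs (Algebra R (Localization.AtPrime i.q))

instance : IsScalarTower R i.C i.G :=
  inferInstanceAs (IsScalarTower R i.C (Localization.AtPrime i.q))

instance : IsLocalization.AtPrime i.G i.q :=
  inferInstanceAs (IsLocalization.AtPrime (Localization.AtPrime i.q) i.q)

/-- The character on the local ring. -/
noncomputable def locChar : i.G →ₐ[R] K := H4K_pair_locChar i.chi i.q i.hq i.G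

theorem locChar_eq_zero (z : i.G) : i.locChar z = 0 ↔ z ∈ IsLocalRing.maximalIdeal i.G :=
  H4K_pair_locChar_eq_zero i.chi i.q i.hq i.G z

theorem locChar_algebraMap (c : i.C) : i.locChar (algebraMap i.C i.G c) = i.chi c :=
  H4K_pair_locChar_algebraMap i.chi i.q i.hq i.G c

variable [hK : Fact (RingHom.ker (algebraMap R K) = IsLocalRing.maximalIdeal R)]

instance : IsLocalHom (algebraMap R i.G) := H4K_pair_isLocalHom hK.out i.chi i.q i.hq i.G

theorem essEt : EGA4loc.IsEssentiallyEtale R i.G := H4K_pair_essEt hK.out i.chi i.q i.hq i.G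

end H4K_Nbhd

variable {R K : Type u} [CommRing R] [IsLocalRing R] [Field K] [Algebra R K]

/-- Every pointed étale algebra maps to (indeed is isomorphic to) a presented one. -/
theorem H4K_exists_nbhd {C : Type u} [CommRing C] [Algebra R C] [Algebra.Etale R C]
    (χ : C →ₐ[R] K) :
    ∃ (i : H4K_Nbhd R K) (e : C →ₐ[R] i.C), ∀ c, i.chi (e c) = χ c := by
  obtain ⟨n, f, hf, -⟩ := Algebra.FinitePresentation.out (R := R) (A := C)
  let e₀ : (MvPolynomial (Fin n) R ⧸ RingHom.ker f) ≃ₐ[R] C :=
    Ideal.quotientKerAlgEquivOfSurjective hf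
  refine ⟨⟨n, RingHom.ker f, Algebra.Etale.of_equiv e₀.symm, χ.comp e₀.toAlgHom⟩,
    e₀.symm.toAlgHom, ?_⟩
  intro c
  show χ (e₀ (e₀.symm c)) = χ c
  rw [AlgEquiv.apply_symm_apply]

/-- Every pointed étale algebra has its localization mapping to some `G i`, compatibly with the
characters. -/
theorem H4K_exists_nbhd_map {C : Type u} [CommRing C] [Algebra R C] [Algebra.Etale R C]
    (χ : C →ₐ[R] K) (q : Ideal C) [q.IsPrime] (hq : RingHom.ker χ = q)
    (L : Type u) [CommRing L] [Algebra C L] [Algebra R L] [IsScalarTower R C L]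
    [IsLocalization.AtPrime L q] :
    ∃ (i : H4K_Nbhd R K) (φ : L →ₐ[R] i.G) (e : C →ₐ[R] i.C),
      (∀ c, i.chi (e c) = χ c) ∧ (∀ c, φ (algebraMap C L c) = algebraMap i.C i.G (e c)) ∧
      ∀ z, i.locChar (φ z) = H4K_pair_locChar χ q hq L z := by
  obtain ⟨i, e, he⟩ := H4K_exists_nbhd χ
  exact ⟨i, H4K_pair_map χ q hq L i.chi i.q i.hq i.G e he, e, he,
    fun c => H4K_pair_map_algebraMap χ q hq L i.chi i.q i.hq i.G e he c,
    fun z => H4K_pair_map_locChar χ q hq L i.chi i.q i.hq i.G e he z⟩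

instance : Preorder (H4K_Nbhd R K) where
  le i j := ∃ φ : i.G →ₐ[R] j.G, ∀ z, j.locChar (φ z) = i.locChar z
  le_refl i := ⟨AlgHom.id R i.G, fun _ => rfl⟩
  le_trans i j k := fun ⟨a, ha⟩ ⟨b, hb⟩ => ⟨b.comp a, fun z => by
    rw [AlgHom.comp_apply, hb, ha]⟩

instance : Nonempty (H4K_Nbhd R K) := by
  obtain ⟨i, -⟩ := H4K_exists_nbhd (C := R) (Algebra.ofId R K)
  exact ⟨i⟩

instance : IsDirected (H4K_Nbhd R K) (· ≤ ·) := by
  constructor
  intro i j
  haveI : Algebra.Etale R (i.C ⊗[R] j.C) := Algebra.Etale.comp R i.C (i.C ⊗[R] j.C)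
  let χ : i.C ⊗[R] j.C →ₐ[R] K :=
    Algebra.TensorProduct.productMap i.chi j.chi
  have hχ : ∀ a b, χ (a ⊗ₜ b) = i.chi a * j.chi b := fun a b => by simp [χ]
  let q₃ : Ideal (i.C ⊗[R] j.C) := RingHom.ker χ
  haveI : q₃.IsPrime := RingHom.ker_isPrime χ
  have hq₃ : RingHom.ker χ = q₃ := rfl
  obtain ⟨k, φ, -, -, -, hφ⟩ := H4K_exists_nbhd_map (C := i.C ⊗[R] j.C) χ q₃ hq₃
    (Localization.AtPrime q₃)
  have h1 : ∀ c, χ ((Algebra.TensorProduct.includeLeft : i.C →ₐ[R] i.C ⊗[R] j.C) c) = i.chi c := by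
    intro c
    show χ (c ⊗ₜ 1) = _
    rw [hχ, map_one, mul_one]
  have h2 : ∀ c, χ ((Algebra.TensorProduct.includeRight : j.C →ₐ[R] i.C ⊗[R] j.C) c) = j.chi c := by
    intro c
    show χ (1 ⊗ₜ c) = _
    rw [hχ, map_one, one_mul]
  refine ⟨k, ⟨φ.comp (H4K_pair_map i.chi i.q i.hq i.G χ q₃ hq₃ (Localization.AtPrime q₃)
    Algebra.TensorProduct.includeLeft h1), ?_⟩, ⟨φ.comp (H4K_pair_map j.chi j.q j.hq j.G χ q₃ hq₃
    (Localization.AtPrime q₃) Algebra.TensorProduct.includeRight h2), ?_⟩⟩
  · intro z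
    rw [AlgHom.comp_apply, hφ, H4K_pair_map_locChar]
    rfl
  · intro z
    rw [AlgHom.comp_apply, hφ, H4K_pair_map_locChar]
    rfl

/-- The transition maps. -/
noncomputable def H4K_trans (i j : H4K_Nbhd R K) (h : i ≤ j) : i.G →ₐ[R] j.G :=
  Classical.choose h

theorem H4K_trans_locChar (i j : H4K_Nbhd R K) (h : i ≤ j) (z : i.G) :
    j.locChar (H4K_trans i j h z) = i.locChar z := Classical.choose_spec h z

variable [hK : Fact (RingHom.ker (algebraMap R K) = IsLocalRing.maximalIdeal R)]

theorem H4K_compat_unique (i j : H4K_Nbhd R K) (u v : i.G →ₐ[R] j.G)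
    (hu : ∀ z, j.locChar (u z) = i.locChar z) (hv : ∀ z, j.locChar (v z) = i.locChar z) :
    u = v :=
  H4K_algHom_ext i.essEt j.locChar.toRingHom j.locChar_eq_zero u v
    (fun x => (hu x).trans (hv x).symm)

instance : DirectedSystem (fun i : H4K_Nbhd R K => i.G)
    (fun i j h => (H4K_trans i j h).toRingHom) where
  map_self i x := by
    have : H4K_trans i i le_rfl = AlgHom.id R i.G :=
      H4K_compat_unique i i _ _ (H4K_trans_locChar i i le_rfl) (fun _ => rfl)
    show H4K_trans i i le_rfl x = x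
    rw [this]; rfl
  map_map k j i hij hjk x := by
    have : (H4K_trans j k hjk).comp (H4K_trans i j hij) = H4K_trans i k (hij.trans hjk) :=
      H4K_compat_unique i k _ _ (fun z => by
        rw [AlgHom.comp_apply, H4K_trans_locChar, H4K_trans_locChar])
        (H4K_trans_locChar i k _)
    exact AlgHom.congr_fun this x

theorem H4K_trans_isLocalHom (i j : H4K_Nbhd R K) (h : i ≤ j) :
    IsLocalHom (H4K_trans i j h).toRingHom :=
  H4_essEt_isLocalHom i.essEt (H4K_trans i j h)

end Groth.Agent.H4
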