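import Mathlib
import Groth.Agent.Lib.helper4.SHensIndex
import Groth.Agent.Lib.helper4.HensStep

/-! The Hensel step for pointed neighbourhoods with values in `K`. -/

set_option autoImplicit false
universe u

open TensorProduct Polynomial

namespace Groth.Agent.H4

variable {R K : Type u} [CommRing R] [IsLocalRing R] [Field K] [Algebra R K]

set_option maxHeartbeats 1000000 in
/-- The Hensel step, `K`-pointed version. -/
theorem H4K_hensel_step {C : Type u} [CommRing C] [Algebra R C] [Algebra.Etale R C]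
    (χ : C →ₐ[R] K) (q : Ideal C) [q.IsPrime] (hq : RingHom.ker χ = q)
    (L : Type u) [CommRing L] [IsLocalRing L] [Algebra C L] [Algebra R L] [IsScalarTower R C L]
    [IsLocalization.AtPrime L q]
    (F : L[X]) (hF : F.Monic) (a₀ : L) (h₁ : F.eval a₀ ∈ IsLocalRing.maximalIdeal L)
    (h₂ : IsUnit (F.derivative.eval a₀)) :
    ∃ (j : H4K_Nbhd R K) (ι : L →ₐ[R] j.G) (a : j.G),
      (∀ z, j.locChar (ι z) = H4K_pair_locChar χ q hq L z) ∧
      (F.map ι.toRingHom).IsRoot a ∧ a - ι a₀ ∈ IsLocalRing.maximalIdeal j.G := by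
  classical
  obtain ⟨s, hs, hsu, F₁, y₁, hF₁, hF₁F, hy₁⟩ := H4_exists_away_lifts q F hF a₀
  let C₁ := Localization.Away s
  let φ : C₁ →+* L := IsLocalization.Away.lift (S := Localization.Away s) s hsu
  have hφ : ∀ c, φ (algebraMap C C₁ c) = algebraMap C L c := fun c =>
    IsLocalization.Away.lift_eq _ hsu c
  -- the characters
  let χL : L →ₐ[R] K := H4K_pair_locChar χ q hq L
  have hχL : ∀ c, χL (algebraMap C L c) = χ c := H4K_pair_locChar_algebraMap χ q hq L
  have hχs : IsUnit (χ s) := by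
    rw [isUnit_iff_ne_zero]
    intro h0
    exact hs ((H4K_pair_mem χ q hq s).mpr h0)
  let χ₁ : C₁ →ₐ[R] K :=
    IsLocalization.Away.liftAlgHom (S := Localization.Away s) s (f := χ) hχs
  have hχ₁ : ∀ c, χ₁ (algebraMap C C₁ c) = χ c := fun c =>
    IsLocalization.Away.lift_eq _ hχs c
  have hχ₁φ : ∀ z, χ₁ z = χL (φ z) := by
    have : χ₁.toRingHom = χL.toRingHom.comp φ := by
      apply IsLocalization.ringHom_ext (Submonoid.powers s)
      ext c
      show χ₁ (algebraMap C C₁ c) = χL (φ (algebraMap C C₁ c))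
      rw [hχ₁, hφ, hχL]
    intro z
    exact RingHom.congr_fun this z
  -- the standard étale algebra
  let P : StandardEtalePair C₁ := ⟨F₁, hF₁, derivative F₁, ⟨1, 0, 1, by simp⟩⟩
  letI : Algebra R P.Ring := ((algebraMap C₁ P.Ring).comp (algebraMap R C₁)).toAlgebra
  haveI : IsScalarTower R C₁ P.Ring := IsScalarTower.of_algebraMap_eq (fun _ => rfl)
  haveI : Algebra.Etale R C₁ := Algebra.Etale.comp R C C₁
  haveI : Algebra.Etale R P.Ring := Algebra.Etale.comp R C₁ P.Ring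
  letI : Algebra C₁ K := χ₁.toRingHom.toAlgebra
  have halgk : ∀ z : C₁, algebraMap C₁ K z = χ₁ z := fun z => rfl
  haveI : IsScalarTower R C₁ K :=
    IsScalarTower.of_algebraMap_eq (fun r => (χ₁.commutes r).symm)
  have hevalF : ∀ G₁ : C₁[X], aeval (χ₁ y₁) G₁ = χL ((G₁.map φ).eval a₀) := by
    intro G₁
    rw [Polynomial.aeval_def, Polynomial.eval_map, ← hy₁]
    have : (algebraMap C₁ K) = χL.toRingHom.comp φ := by
      ext z
      rw [halgk, hχ₁φ]; rfl
    rw [this, hχ₁φ]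
    have h := Polynomial.hom_eval₂ G₁ φ χL.toRingHom (φ y₁)
    exact h.symm
  have hmap : P.HasMap (χ₁ y₁) := by
    constructor
    · show aeval (χ₁ y₁) F₁ = 0
      rw [hevalF, hF₁F]
      exact (H4K_pair_locChar_eq_zero χ q hq L _).mpr h₁
    · show IsUnit (aeval (χ₁ y₁) (derivative F₁))
      rw [hevalF, ← Polynomial.derivative_map, hF₁F, isUnit_iff_ne_zero]
      intro h0
      exact ((H4K_pair_locChar_eq_zero χ q hq L _).mp h0) h₂
  let χ' : P.Ring →ₐ[R] K := (P.lift (χ₁ y₁) hmap).restrictScalars R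
  have hχ'X : χ' P.X = χ₁ y₁ := P.lift_X _ hmap
  have hχ'alg : ∀ z : C₁, χ' (algebraMap C₁ P.Ring z) = χ₁ z := fun z =>
    (P.lift (χ₁ y₁) hmap).commutes z
  let q' : Ideal P.Ring := RingHom.ker χ'
  haveI : q'.IsPrime := RingHom.ker_isPrime χ'
  have hq' : RingHom.ker χ' = q' := rfl
  let g : C →ₐ[R] P.Ring :=
    (IsScalarTower.toAlgHom R C₁ P.Ring).comp (IsScalarTower.toAlgHom R C C₁)
  have hg : ∀ c, χ' (g c) = χ c := fun c => by
    show χ' (algebraMap C₁ P.Ring (algebraMap C C₁ c)) = χ c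
    rw [hχ'alg, hχ₁]
  let ι₀ : L →ₐ[R] Localization.AtPrime q' :=
    H4K_pair_map χ q hq L χ' q' hq' (Localization.AtPrime q') g hg
  have hι₀ : ∀ c, ι₀ (algebraMap C L c) = algebraMap P.Ring (Localization.AtPrime q') (g c) :=
    H4K_pair_map_algebraMap χ q hq L χ' q' hq' (Localization.AtPrime q') g hg
  have hι₀χ : ∀ z, H4K_pair_locChar χ' q' hq' (Localization.AtPrime q') (ι₀ z) = χL z :=
    H4K_pair_map_locChar χ q hq L χ' q' hq' (Localization.AtPrime q') g hg
  obtain ⟨j, φj, e, he, hφj, hφjχ⟩ := H4K_exists_nbhd_map χ' q' hq' (Localization.AtPrime q')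
  let θ : P.Ring →+* j.G := φj.toRingHom.comp
    (algebraMap P.Ring (Localization.AtPrime q'))
  have hθ : ∀ c', θ c' = algebraMap j.C j.G (e c') := fun c' => hφj c'
  have hθmem : ∀ c', χ' c' = 0 → θ c' ∈ IsLocalRing.maximalIdeal j.G := by
    intro c' h0
    rw [hθ, IsLocalization.AtPrime.to_map_mem_maximal_iff j.G j.q, ← j.hq, RingHom.mem_ker, he]
    exact h0
  let ι : L →ₐ[R] j.G := φj.comp ι₀
  let ψ : C₁ →+* j.G := θ.comp (algebraMap C₁ P.Ring)
  have hιφ : ι.toRingHom.comp φ = ψ := by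
    apply IsLocalization.ringHom_ext (Submonoid.powers s)
    ext c
    show ι (φ (algebraMap C C₁ c)) = ψ (algebraMap C C₁ c)
    rw [hφ]
    show φj (ι₀ (algebraMap C L c)) = _
    rw [hι₀]
    rfl
  refine ⟨j, ι, θ P.X, ?_, ?_, ?_⟩
  · intro z
    show j.locChar (φj (ι₀ z)) = _
    rw [hφjχ, hι₀χ]
  · have h1 : F.map ι.toRingHom = F₁.map ψ := by
      rw [← hF₁F, Polynomial.map_map]
      congr 1
    rw [Polynomial.IsRoot, h1, Polynomial.eval_map]
    have h2 : Polynomial.eval₂ ψ (θ P.X) F₁ = θ (Polynomial.eval₂ (algebraMap C₁ P.Ring) P.X F₁) :=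
      (Polynomial.hom_eval₂ F₁ (algebraMap C₁ P.Ring) θ P.X).symm
    rw [h2]
    have h3 : Polynomial.eval₂ (algebraMap C₁ P.Ring) P.X F₁ = 0 := P.hasMap_X.1
    rw [h3, map_zero]
  · have h1 : ι a₀ = θ (algebraMap C₁ P.Ring y₁) := by
      rw [← hy₁]
      exact RingHom.congr_fun hιφ y₁
    rw [h1, ← map_sub]
    apply hθmem
    rw [map_sub, hχ'X, hχ'alg, sub_self]

end Groth.Agent.H4
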