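import Mathlib
import Groth.Prelude.Def_Hensel
import Groth.Agent.Lib.helper4.SHensStep
import Groth.Agent.Lib.helper4.DirectLimitLocal

/-! Construction of the `K`-pointed henselization of a local ring as the direct limit of its
pointed local-étale neighbourhoods. For `K` a separable closure of the residue field this is the
strict henselization. -/

set_option autoImplicit false
universe u

open Polynomial

namespace Groth.Agent.H4

variable (R K : Type u) [CommRing R] [IsLocalRing R] [Field K] [Algebra R K]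
  [hK : Fact (RingHom.ker (algebraMap R K) = IsLocalRing.maximalIdeal R)]

/-- The transition ring homomorphisms. -/
noncomputable def H4K_f (i j : H4K_Nbhd R K) (h : i ≤ j) : i.G →+* j.G :=
  (H4K_trans i j h).toRingHom

instance H4K_f_directedSystem :
    DirectedSystem (fun i : H4K_Nbhd R K => i.G) (fun i j h => H4K_f R K i j h) :=
  inferInstanceAs (DirectedSystem (fun i : H4K_Nbhd R K => i.G)
    (fun i j h => (H4K_trans i j h).toRingHom))

theorem H4K_f_isLocalHom (i j : H4K_Nbhd R K) (h : i ≤ j) : IsLocalHom (H4K_f R K i j h) :=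
  H4K_trans_isLocalHom i j h

/-- The `K`-pointed henselization of `R`. -/
def H4K_Hens : Type u :=
  Ring.DirectLimit (fun i : H4K_Nbhd R K => i.G) (fun i j h => H4K_f R K i j h)

noncomputable instance : CommRing (H4K_Hens R K) :=
  inferInstanceAs (CommRing (Ring.DirectLimit (fun i : H4K_Nbhd R K => i.G)
    (fun i j h => H4K_f R K i j h)))

/-- The canonical maps. -/
noncomputable def H4K_of (i : H4K_Nbhd R K) : i.G →+* H4K_Hens R K :=
  Ring.DirectLimit.of (fun i : H4K_Nbhd R K => i.G) (fun i j h => H4K_f R K i j h) i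

theorem H4K_of_f {i j : H4K_Nbhd R K} (h : i ≤ j) (x : i.G) :
    H4K_of R K j (H4K_f R K i j h x) = H4K_of R K i x :=
  Ring.DirectLimit.of_f h x

theorem H4K_exists_of (z : H4K_Hens R K) : ∃ i x, H4K_of R K i x = z :=
  Ring.DirectLimit.exists_of z

instance H4K_Hens_isLocalRing : IsLocalRing (H4K_Hens R K) :=
  H4_dl_isLocalRing (fun i : H4K_Nbhd R K => i.G) (H4K_f R K) (H4K_f_isLocalHom R K)

instance H4K_of_isLocalHom (i : H4K_Nbhd R K) : IsLocalHom (H4K_of R K i) :=
  H4_dl_isLocalHom_of (fun i : H4K_Nbhd R K => i.G) (H4K_f R K) (H4K_f_isLocalHom R K) i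

noncomputable instance H4K_Hens_algebra : Algebra R (H4K_Hens R K) :=
  ((H4K_of R K (Classical.arbitrary _)).comp
    (algebraMap R (Classical.arbitrary (H4K_Nbhd R K)).G)).toAlgebra

theorem H4K_of_algebraMap (i : H4K_Nbhd R K) (r : R) :
    H4K_of R K i (algebraMap R i.G r) = algebraMap R (H4K_Hens R K) r := by
  obtain ⟨k, hik, h0k⟩ := exists_ge_ge i (Classical.arbitrary (H4K_Nbhd R K))
  show _ = H4K_of R K (Classical.arbitrary _) (algebraMap R _ r)
  rw [← H4K_of_f R K hik, ← H4K_of_f R K h0k]
  congr 1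
  show H4K_trans i k hik (algebraMap R i.G r) = H4K_trans _ k h0k (algebraMap R _ r)
  rw [AlgHom.commutes, AlgHom.commutes]

/-- The canonical maps as algebra homs. -/
noncomputable def H4K_ofₐ (i : H4K_Nbhd R K) : i.G →ₐ[R] H4K_Hens R K :=
  { H4K_of R K i with commutes' := H4K_of_algebraMap R K i }

instance H4K_Hens_isLocalHom : IsLocalHom (algebraMap R (H4K_Hens R K)) := by
  constructor
  intro r hr
  rw [← H4K_of_algebraMap R K (Classical.arbitrary _)] at hr
  have h1 := isUnit_of_map_unit (H4K_of R K (Classical.arbitrary _)) _ hr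
  exact isUnit_of_map_unit (algebraMap R (Classical.arbitrary (H4K_Nbhd R K)).G) _ h1

instance H4K_Hens_henselian : HenselianLocalRing (H4K_Hens R K) := by
  refine { H4K_Hens_isLocalRing R K with is_henselian := ?_ }
  intro F hF a₀ h₁ h₂
  obtain ⟨k, p, y, hp, hpF, hy⟩ := H4_dl_exists_monic (fun i : H4K_Nbhd R K => i.G) (H4K_f R K)
    (H4K_f_isLocalHom R K) F hF a₀
  change p.map (H4K_of R K k) = F at hpF
  change H4K_of R K k y = a₀ at hy
  subst hpF hy
  rw [Polynomial.eval_map, Polynomial.eval₂_hom] at h₁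
  rw [Polynomial.derivative_map, Polynomial.eval_map, Polynomial.eval₂_hom] at h₂
  have h₁' : p.eval y ∈ IsLocalRing.maximalIdeal k.G := by
    intro hu
    exact h₁ (hu.map _)
  have h₂' : IsUnit (p.derivative.eval y) := isUnit_of_map_unit (H4K_of R K k) _ h₂
  obtain ⟨j, ι, a, hcompat, hroot, hmem⟩ :=
    H4K_hensel_step k.chi k.q k.hq k.G p hp y h₁' h₂'
  have hkj : k ≤ j := ⟨ι, hcompat⟩
  have hι : ι = H4K_trans k j hkj :=
    H4K_compat_unique k j _ _ hcompat (H4K_trans_locChar k j hkj)
  have hof : ∀ x, H4K_of R K j (ι x) = H4K_of R K k x := by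
    intro x
    rw [hι]
    exact H4K_of_f R K hkj x
  refine ⟨H4K_of R K j a, ?_, ?_⟩
  · have h1 : p.map (H4K_of R K k) = (p.map ι.toRingHom).map (H4K_of R K j) := by
      rw [Polynomial.map_map]
      congr 1
      ext x
      exact (hof x).symm
    rw [Polynomial.IsRoot, h1, Polynomial.eval_map, Polynomial.eval₂_hom, hroot, map_zero]
  · rw [← hof y, ← map_sub]
    intro hu
    exact hmem (isUnit_of_map_unit (H4K_of R K j) _ hu)

/-- The character of the limit. -/
noncomputable def H4K_char : H4K_Hens R K →+* K :=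
  Ring.DirectLimit.lift (fun i : H4K_Nbhd R K => i.G) (fun i j h => H4K_f R K i j h) K
    (fun i => i.locChar.toRingHom) (fun i j hij x => H4K_trans_locChar i j hij x)

theorem H4K_char_of (i : H4K_Nbhd R K) (x : i.G) :
    H4K_char R K (H4K_of R K i x) = i.locChar x :=
  Ring.DirectLimit.lift_of _ _ _ _ _

theorem H4K_char_algebraMap (r : R) :
    H4K_char R K (algebraMap R (H4K_Hens R K) r) = algebraMap R K r := by
  rw [← H4K_of_algebraMap R K (Classical.arbitrary _), H4K_char_of, AlgHom.commutes]

theorem H4K_char_eq_zero (z : H4K_Hens R K) :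
    H4K_char R K z = 0 ↔ z ∈ IsLocalRing.maximalIdeal (H4K_Hens R K) := by
  obtain ⟨i, x, rfl⟩ := H4K_exists_of R K z
  rw [H4K_char_of, i.locChar_eq_zero]
  constructor
  · intro hx hu
    exact hx (isUnit_of_map_unit (H4K_of R K i) _ hu)
  · intro hx hu
    exact hx (hu.map _)

instance H4K_char_isLocalHom : IsLocalHom (H4K_char R K) := by
  constructor
  intro z hz
  by_contra hn
  have : z ∈ IsLocalRing.maximalIdeal (H4K_Hens R K) := hn
  rw [← H4K_char_eq_zero] at this
  rw [this] at hz
  exact not_isUnit_zero hz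

instance H4K_G_flat (i : H4K_Nbhd R K) : Module.Flat R i.G := by
  haveI : Module.Flat i.C i.G := IsLocalization.flat i.G i.q.primeCompl
  exact Module.Flat.trans R i.C i.G

instance H4K_Hens_flat : Module.Flat R (H4K_Hens R K) := by
  letI : Algebra R (Ring.DirectLimit (fun i : H4K_Nbhd R K => i.G)
    (fun i j h => H4K_f R K i j h)) := H4K_Hens_algebra R K
  show Module.Flat R (Ring.DirectLimit (fun i : H4K_Nbhd R K => i.G)
    (fun i j h => H4K_f R K i j h))
  apply H4_dl_flat (R := R) (fun i : H4K_Nbhd R K => i.G) (H4K_f R K)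
  · intro i j h r x
    exact map_smul (H4K_trans i j h) r x
  · intro i r x
    exact map_smul (H4K_ofₐ R K i) r x
  · intro i
    infer_instance

instance H4K_Hens_faithfullyFlat : Module.FaithfullyFlat R (H4K_Hens R K) :=
  Module.FaithfullyFlat.of_flat_of_isLocalHom

theorem H4K_Hens_map_maximalIdeal :
    (IsLocalRing.maximalIdeal R).map (algebraMap R (H4K_Hens R K)) =
      IsLocalRing.maximalIdeal (H4K_Hens R K) := by
  apply le_antisymm
  · rw [Ideal.map_le_iff_le_comap]
    intro a ha
    exact map_nonunit (algebraMap R (H4K_Hens R K)) a ha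
  · intro z hz
    obtain ⟨i, x, rfl⟩ := H4K_exists_of R K z
    have hx : x ∈ IsLocalRing.maximalIdeal i.G := by
      intro hu
      exact hz (hu.map _)
    obtain ⟨h1, h2⟩ := H4_essEt_instances i.essEt
    haveI := h1
    haveI : Algebra.FormallyUnramified R i.G := inferInstance
    rw [← Algebra.FormallyUnramified.map_maximalIdeal (R := R) (S := i.G)] at hx
    have h3 : H4K_of R K i x ∈ ((IsLocalRing.maximalIdeal R).map (algebraMap R i.G)).map
        (H4K_of R K i) := Ideal.mem_map_of_mem _ hx
    rw [Ideal.map_map] at h3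
    have h4 : (H4K_of R K i).comp (algebraMap R i.G) = algebraMap R (H4K_Hens R K) := by
      ext r
      exact H4K_of_algebraMap R K i r
    rwa [h4] at h3

end Groth.Agent.H4
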