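import Mathlib
import Groth.Agent.Lib.helper4.SHenselization

/-! Universal property of the `K`-pointed henselization. -/

set_option autoImplicit false
universe u

open Polynomial

namespace Groth.Agent.H4

variable (R K : Type u) [CommRing R] [IsLocalRing R] [Field K] [Algebra R K]
  [hK : Fact (RingHom.ker (algebraMap R K) = IsLocalRing.maximalIdeal R)]

theorem H4K_Hens_universal (T : Type u) [CommRing T] [HenselianLocalRing T] (f : R →+* T)
    [hf : IsLocalHom f]
    (τ : IsLocalRing.ResidueField (H4K_Hens R K) →+* IsLocalRing.ResidueField T)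
    (hτ : τ.comp (IsLocalRing.ResidueField.map (algebraMap R (H4K_Hens R K))) =
      IsLocalRing.ResidueField.map f) :
    ∃! g : H4K_Hens R K →+* T, g.comp (algebraMap R (H4K_Hens R K)) = f ∧
      ∀ x, IsLocalRing.residue T (g x) = τ (IsLocalRing.residue _ x) := by
  letI : Algebra R T := f.toAlgebra
  haveI : IsLocalHom (algebraMap R T) := hf
  let α : ∀ i : H4K_Nbhd R K, IsLocalRing.ResidueField i.G →+* IsLocalRing.ResidueField T :=
    fun i => τ.comp (IsLocalRing.ResidueField.map (H4K_of R K i))
  have hα : ∀ (i : H4K_Nbhd R K) (x : i.G), α i (IsLocalRing.residue i.G x) =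
      τ (IsLocalRing.residue _ (H4K_of R K i x)) := fun i x => rfl
  have hα' : ∀ (i : H4K_Nbhd R K) (a : R), α i (IsLocalRing.residue i.G (algebraMap R i.G a)) =
      IsLocalRing.residue T (algebraMap R T a) := by
    intro i a
    rw [hα, H4K_of_algebraMap]
    have := RingHom.congr_fun hτ (IsLocalRing.residue R a)
    rw [RingHom.comp_apply, IsLocalRing.ResidueField.map_residue,
      IsLocalRing.ResidueField.map_residue] at this
    exact this
  have hex : ∀ i : H4K_Nbhd R K, ∃ ψ : i.G →ₐ[R] T,
      ∀ x, IsLocalRing.residue T (ψ x) = α i (IsLocalRing.residue i.G x) :=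
    fun i => H4_essEt_exists_lift i.essEt (α i) (hα' i)
  choose ψ hψ using hex
  have huniq : ∀ (i : H4K_Nbhd R K) (θ : i.G →ₐ[R] T),
      (∀ x, IsLocalRing.residue T (θ x) = α i (IsLocalRing.residue i.G x)) → θ = ψ i := by
    intro i θ hθ
    exact H4_essEt_algHom_ext i.essEt θ (ψ i) (fun x => by rw [hθ, hψ])
  have hcompat : ∀ (i j : H4K_Nbhd R K) (hij : i ≤ j) (x : i.G),
      (ψ j).toRingHom (H4K_f R K i j hij x) = (ψ i).toRingHom x := by
    intro i j hij x
    have : (ψ j).comp (H4K_trans i j hij) = ψ i := by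
      apply huniq
      intro y
      rw [AlgHom.comp_apply, hψ, hα, hα]
      congr 2
      exact H4K_of_f R K hij y
    exact AlgHom.congr_fun this x
  let g : H4K_Hens R K →+* T :=
    Ring.DirectLimit.lift (fun i : H4K_Nbhd R K => i.G) (fun i j h => H4K_f R K i j h) T
      (fun i => (ψ i).toRingHom) hcompat
  have hg : ∀ i x, g (H4K_of R K i x) = ψ i x := fun i x =>
    Ring.DirectLimit.lift_of _ _ _ _ _
  refine ⟨g, ⟨?_, ?_⟩, ?_⟩
  · ext r
    show g (algebraMap R (H4K_Hens R K) r) = f r
    rw [← H4K_of_algebraMap R K (Classical.arbitrary _), hg, AlgHom.commutes]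
    rfl
  · intro z
    obtain ⟨i, x, rfl⟩ := H4K_exists_of R K z
    rw [hg, hψ, hα]
  · rintro g' ⟨hg'1, hg'2⟩
    apply Ring.DirectLimit.hom_ext
    intro i
    let θ : i.G →ₐ[R] T :=
      { g'.comp (H4K_of R K i) with
        commutes' := fun r => by
          show g' (H4K_of R K i (algebraMap R i.G r)) = f r
          rw [H4K_of_algebraMap]
          exact RingHom.congr_fun hg'1 r }
    have : θ = ψ i := huniq i θ (fun x => by
      show IsLocalRing.residue T (g' (H4K_of R K i x)) = _
      rw [hg'2, hα])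
    ext x
    show g' (H4K_of R K i x) = g (H4K_of R K i x)
    rw [hg]
    exact AlgHom.congr_fun this x

end Groth.Agent.H4
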