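import Mathlib
import Groth.Prelude.Def_Hensel
import Groth.Agent.Lib.helper4.SHensUniversal
import Groth.Agent.Lib.helper4.FiniteEtaleLift
import Groth.Agent.Lib.helper4.UnramAdjoinRoot

/-! The strict henselization of a local ring. -/

set_option autoImplicit false
universe u

open Polynomial

namespace Groth.Agent.H4

variable (R : Type u) [CommRing R] [IsLocalRing R]

/-- A separable closure of the residue field. -/
abbrev H4_ksep : Type u := SeparableClosure (IsLocalRing.ResidueField R)

/-- The `R`-algebra structure on the separable closure of the residue field. -/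
noncomputable def H4_ksep_algebra : Algebra R (H4_ksep R) :=
  ((algebraMap (IsLocalRing.ResidueField R) (H4_ksep R)).comp (IsLocalRing.residue R)).toAlgebra

attribute [local instance] H4_ksep_algebra

instance H4_ksep_tower : IsScalarTower R (IsLocalRing.ResidueField R) (H4_ksep R) :=
  IsScalarTower.of_algebraMap_eq (fun _ => rfl)

instance H4_ksep_fact :
    Fact (RingHom.ker (algebraMap R (H4_ksep R)) = IsLocalRing.maximalIdeal R) := by
  constructor
  ext a
  rw [RingHom.mem_ker]
  show algebraMap (IsLocalRing.ResidueField R) (H4_ksep R) (IsLocalRing.residue R a) = 0 ↔ _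
  rw [map_eq_zero_iff _ (algebraMap (IsLocalRing.ResidueField R) (H4_ksep R)).injective]
  exact IsLocalRing.residue_eq_zero_iff a

/-- The strict henselization. -/
abbrev H4_SHens : Type u := H4K_Hens R (H4_ksep R)

/-- The residue field map to the separable closure. -/
noncomputable def H4_SHens_rho :
    IsLocalRing.ResidueField (H4_SHens R) →ₐ[IsLocalRing.ResidueField R] H4_ksep R :=
  { IsLocalRing.ResidueField.lift (H4K_char R (H4_ksep R)) with
    commutes' := by
      intro x
      obtain ⟨a, rfl⟩ := IsLocalRing.residue_surjective x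
      show IsLocalRing.ResidueField.lift (H4K_char R (H4_ksep R))
        (IsLocalRing.residue _ (algebraMap R (H4_SHens R) a)) = _
      rw [IsLocalRing.ResidueField.lift_residue_apply, H4K_char_algebraMap]
      rfl }

theorem H4_SHens_rho_residue (z : H4_SHens R) :
    H4_SHens_rho R (IsLocalRing.residue _ z) = H4K_char R (H4_ksep R) z := rfl

theorem H4_SHens_rho_surjective : Function.Surjective (H4_SHens_rho R) := by
  classical
  intro α
  have hint : IsIntegral (IsLocalRing.ResidueField R) α := Algebra.IsIntegral.isIntegral α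
  have hlift : minpoly (IsLocalRing.ResidueField R) α ∈
      Polynomial.lifts (IsLocalRing.residue R) := by
    rw [Polynomial.lifts_iff_coeff_lifts]
    intro n
    exact IsLocalRing.residue_surjective _
  obtain ⟨G, hG1, -, hG3⟩ := Polynomial.lifts_and_natDegree_eq_and_monic hlift (minpoly.monic hint)
  have hGu : IsUnit (AdjoinRoot.mk G (Polynomial.derivative G)) := by
    apply H4_isUnit_mk_derivative_of_separable_residue G hG3
    rw [hG1]
    exact Algebra.IsSeparable.isSeparable _ α
  haveI : Algebra.Etale R (AdjoinRoot G) := H4_etale_adjoinRoot G hG3 hGu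
  have h0 : G.eval₂ (Algebra.ofId R (H4_ksep R)) α = 0 := by
    have h1 : (Algebra.ofId R (H4_ksep R) : R →+* H4_ksep R) =
        (algebraMap (IsLocalRing.ResidueField R) (H4_ksep R)).comp (IsLocalRing.residue R) := rfl
    show G.eval₂ (Algebra.ofId R (H4_ksep R) : R →+* H4_ksep R) α = 0
    rw [h1, ← Polynomial.eval₂_map, hG1]
    exact minpoly.aeval _ α
  let χE : AdjoinRoot G →ₐ[R] H4_ksep R :=
    AdjoinRoot.liftAlgHom G (Algebra.ofId R (H4_ksep R)) α h0
  have hχE : χE (AdjoinRoot.root G) = α := AdjoinRoot.liftAlgHom_root _ _ _ _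
  obtain ⟨i, e, he⟩ := H4K_exists_nbhd χE
  refine ⟨IsLocalRing.residue _ (H4K_of R (H4_ksep R) i (algebraMap i.C i.G (e (AdjoinRoot.root G)))), ?_⟩
  rw [H4_SHens_rho_residue, H4K_char_of, i.locChar_algebraMap, he, hχE]

theorem H4_SHens_rho_bijective : Function.Bijective (H4_SHens_rho R) :=
  ⟨(H4_SHens_rho R).toRingHom.injective, H4_SHens_rho_surjective R⟩

instance H4_SHens_isSepClosure :
    IsSepClosure (IsLocalRing.ResidueField R) (IsLocalRing.ResidueField (H4_SHens R)) := by
  refine ⟨?_, Algebra.IsSeparable.of_algHom _ _ (H4_SHens_rho R)⟩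
  apply IsSepClosed.of_exists_root
  intro p hpm hpirr hpsep
  have hdeg : (p.map (H4_SHens_rho R).toRingHom).degree ≠ 0 := by
    rw [Polynomial.degree_map_eq_of_injective (H4_SHens_rho R).toRingHom.injective]
    exact (Polynomial.degree_pos_of_irreducible hpirr).ne'
  obtain ⟨y, hy⟩ := IsSepClosed.exists_root _ hdeg (hpsep.map (f := (H4_SHens_rho R).toRingHom))
  obtain ⟨x, rfl⟩ := H4_SHens_rho_surjective R y
  refine ⟨x, ?_⟩
  apply (H4_SHens_rho R).toRingHom.injective
  rw [map_zero, ← hy, Polynomial.eval_map]
  exact (Polynomial.hom_eval₂ p (RingHom.id _) (H4_SHens_rho R).toRingHom x).trans (by simp)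

instance H4_SHens_isStrictHenselization : Hensel.IsStrictHenselization R (H4_SHens R) where
  henselian := H4K_Hens_henselian R (H4_ksep R)
  isSepClosure := H4_SHens_isSepClosure R
  universal := fun T _ _ f _ τ hτ => H4K_Hens_universal R (H4_ksep R) T f τ hτ

end Groth.Agent.H4
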