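import Mathlib
import Groth.Agent.Lib.helper4.StrictHenselization

/-! Uniqueness of the strict henselization and transfer of properties. -/

set_option autoImplicit false
universe u

namespace Groth.Agent.H4

variable {R : Type u} [CommRing R] [IsLocalRing R]

/-- Any two strict henselizations are isomorphic. -/
theorem H4_strictHenselization_unique {S S' : Type u} [CommRing S] [IsLocalRing S] [Algebra R S]
    [IsLocalHom (algebraMap R S)] [hS : Hensel.IsStrictHenselization R S]
    [CommRing S'] [IsLocalRing S'] [Algebra R S']
    [IsLocalHom (algebraMap R S')] [hS' : Hensel.IsStrictHenselization R S'] :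
    Nonempty (S ≃ₐ[R] S') := by
  haveI : HenselianLocalRing S := hS.henselian
  haveI : HenselianLocalRing S' := hS'.henselian
  haveI := hS.isSepClosure
  haveI := hS'.isSepClosure
  let σ : IsLocalRing.ResidueField S ≃ₐ[IsLocalRing.ResidueField R] IsLocalRing.ResidueField S' :=
    IsSepClosure.equiv (IsLocalRing.ResidueField R) (IsLocalRing.ResidueField S)
      (IsLocalRing.ResidueField S')
  have hσ : (σ : IsLocalRing.ResidueField S →+* IsLocalRing.ResidueField S').comp
      (IsLocalRing.ResidueField.map (algebraMap R S)) =
      IsLocalRing.ResidueField.map (algebraMap R S') := by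
    ext x
    exact σ.commutes x
  have hσ' : (σ.symm : IsLocalRing.ResidueField S' →+* IsLocalRing.ResidueField S).comp
      (IsLocalRing.ResidueField.map (algebraMap R S')) =
      IsLocalRing.ResidueField.map (algebraMap R S) := by
    ext x
    exact σ.symm.commutes x
  obtain ⟨g, ⟨hg1, hg2⟩, -⟩ := hS.universal S' (algebraMap R S') _ hσ
  obtain ⟨g', ⟨hg'1, hg'2⟩, -⟩ := hS'.universal S (algebraMap R S) _ hσ'
  obtain ⟨h, -, hh⟩ := hS.universal S (algebraMap R S) (RingHom.id _) (by rw [RingHom.id_comp])
  obtain ⟨h', -, hh'⟩ := hS'.universal S' (algebraMap R S') (RingHom.id _)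
    (by rw [RingHom.id_comp])
  have h1 : g'.comp g = RingHom.id S := by
    rw [hh (g'.comp g) ⟨by rw [RingHom.comp_assoc, hg1, hg'1], fun x => by
      rw [RingHom.comp_apply, hg'2, hg2]
      simp⟩, ← hh (RingHom.id S) ⟨by rw [RingHom.id_comp], fun x => rfl⟩]
  have h2 : g.comp g' = RingHom.id S' := by
    rw [hh' (g.comp g') ⟨by rw [RingHom.comp_assoc, hg'1, hg1], fun x => by
      rw [RingHom.comp_apply, hg2, hg'2]
      simp⟩, ← hh' (RingHom.id S') ⟨by rw [RingHom.id_comp], fun x => rfl⟩]
  exact ⟨{ toFun := g, invFun := g', left_inv := fun x => RingHom.congr_fun h1 x,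
           right_inv := fun x => RingHom.congr_fun h2 x, map_mul' := map_mul g,
           map_add' := map_add g, commutes' := fun r => RingHom.congr_fun hg1 r }⟩

/-- Any strict henselization is isomorphic to the constructed one. -/
theorem H4_strictHenselization_equiv (S : Type u) [CommRing S] [IsLocalRing S] [Algebra R S]
    [IsLocalHom (algebraMap R S)] [Hensel.IsStrictHenselization R S] :
    Nonempty (S ≃ₐ[R] H4_SHens R) :=
  H4_strictHenselization_unique


attribute [local instance] H4_ksep_algebra in
theorem H4_SHens_map_maximalIdeal (R : Type u) [CommRing R] [IsLocalRing R] :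
    (IsLocalRing.maximalIdeal R).map (algebraMap R (H4_SHens R)) =
      IsLocalRing.maximalIdeal (H4_SHens R) :=
  H4K_Hens_map_maximalIdeal R (H4_ksep R)

/-- S0538 in lemma form. -/
theorem H4_strictHenselization_map_maximalIdeal (S : Type u) [CommRing S] [IsLocalRing S]
    [Algebra R S] [IsLocalHom (algebraMap R S)] [Hensel.IsStrictHenselization R S] :
    (IsLocalRing.maximalIdeal R).map (algebraMap R S) = IsLocalRing.maximalIdeal S := by
  obtain ⟨e⟩ := H4_strictHenselization_equiv (R := R) S
  have hS' := H4_SHens_map_maximalIdeal R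
  apply le_antisymm
  · rw [Ideal.map_le_iff_le_comap]
    intro a ha
    exact map_nonunit (algebraMap R S) a ha
  · intro z hz
    have hez : e z ∈ IsLocalRing.maximalIdeal (H4_SHens R) := by
      intro hu
      apply hz
      have := hu.map e.symm
      simpa using this
    rw [← hS'] at hez
    have h3 : e.symm (e z) ∈ ((IsLocalRing.maximalIdeal R).map
        (algebraMap R (H4_SHens R))).map (e.symm : _ →+* S) :=
      Ideal.mem_map_of_mem _ hez
    rw [Ideal.map_map, AlgEquiv.symm_apply_apply] at h3
    have h4 : (e.symm : _ →+* S).comp (algebraMap R (H4_SHens R)) = algebraMap R S := by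
      ext r
      exact e.symm.commutes r
    rwa [h4] at h3

end Groth.Agent.H4
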