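import Mathlib
import Groth.Agent.Lib.helper4.IndEtaleLoc
import Groth.Agent.Lib.helper4.HenselizationProps
import Groth.Agent.Lib.helper4.StrictHenselizationProps

set_option autoImplicit false
universe u
open CategoryTheory CategoryTheory.Limits

namespace Groth.Agent.H4

theorem H4_isIndEtale_of_algEquiv {A B B' : Type u} [CommRing A] [CommRing B] [CommRing B']
    [Algebra A B] [Algebra A B'] (e : B ≃ₐ[A] B') (h : EtPBC.IsIndEtale A B) :
    EtPBC.IsIndEtale A B' := by
  rw [H4_isIndEtale_iff_ind] at h ⊢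
  let iso : Under.mk (CommRingCat.ofHom (algebraMap A B)) ≅
      Under.mk (CommRingCat.ofHom (algebraMap A B')) :=
    Under.isoMk (e.toRingEquiv.toCommRingCatIso) (by
      ext a
      exact e.commutes a)
  exact (ObjectProperty.ind.{u} (H4_etaleObj A)).prop_of_iso iso h

variable (R : Type u) [CommRing R] [IsLocalRing R]

theorem H4_Hens_isIndEtale : EtPBC.IsIndEtale R (H4_Hens R) := by
  refine H4_isIndEtale_of_directed R (H4_Hens R) (ι := H4_Nbhd R) (fun i => i.G)
    (fun i j h => H4_trans i j h) ?_ ?_ (H4_ofₐ R) ?_ ?_ ?_ ?_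
  · intro i x
    have := Subsingleton.elim (H4_trans i i le_rfl) (AlgHom.id R i.G)
    rw [this]
    rfl
  · intro i j k hij hjk x
    have := Subsingleton.elim ((H4_trans j k hjk).comp (H4_trans i j hij))
      (H4_trans i k (hij.trans hjk))
    rw [← this]
    rfl
  · intro i j h x
    exact H4_of_f R h x
  · intro z
    exact Ring.DirectLimit.exists_of z
  · intro i x y hxy
    have h0 : H4_of R i (x - y) = 0 := by
      rw [map_sub]
      exact sub_eq_zero.mpr hxy
    obtain ⟨j, hij, hj⟩ := Ring.DirectLimit.of.zero_exact h0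
    refine ⟨j, hij, ?_⟩
    have hj' : H4_trans i j hij (x - y) = 0 := hj
    rwa [map_sub, sub_eq_zero] at hj'
  · intro i
    exact H4_isIndEtale_localization R i.C i.q.primeCompl i.G

theorem H4_henselization_isIndEtale (Rh : Type u) [CommRing Rh] [IsLocalRing Rh] [Algebra R Rh]
    [IsLocalHom (algebraMap R Rh)] [Hensel.IsHenselization R Rh] : EtPBC.IsIndEtale R Rh := by
  obtain ⟨e⟩ := H4_henselization_equiv (R := R) Rh
  exact H4_isIndEtale_of_algEquiv e.symm (H4_Hens_isIndEtale R)

end Groth.Agent.H4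

namespace Groth.Agent.H4

theorem H4K_Hens_isIndEtale (R K : Type u) [CommRing R] [IsLocalRing R] [Field K] [Algebra R K]
    [hK : Fact (RingHom.ker (algebraMap R K) = IsLocalRing.maximalIdeal R)] :
    EtPBC.IsIndEtale R (H4K_Hens R K) := by
  refine H4_isIndEtale_of_directed R (H4K_Hens R K) (ι := H4K_Nbhd R K) (fun i => i.G)
    (fun i j h => H4K_trans i j h) ?_ ?_ (H4K_ofₐ R K) ?_ ?_ ?_ ?_
  · intro i x
    exact DirectedSystem.map_self (f := fun i j h => (H4K_trans i j h).toRingHom) x
  · intro i j k hij hjk x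
    exact DirectedSystem.map_map (f := fun i j h => (H4K_trans i j h).toRingHom) hij hjk x
  · intro i j h x
    exact H4K_of_f R K h x
  · intro z
    exact Ring.DirectLimit.exists_of z
  · intro i x y hxy
    have h0 : H4K_of R K i (x - y) = 0 := by
      rw [map_sub]
      exact sub_eq_zero.mpr hxy
    obtain ⟨j, hij, hj⟩ := Ring.DirectLimit.of.zero_exact h0
    refine ⟨j, hij, ?_⟩
    have hj' : H4K_trans i j hij (x - y) = 0 := hj
    rwa [map_sub, sub_eq_zero] at hj'
  · intro i
    exact H4_isIndEtale_localization R i.C i.q.primeCompl i.G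

attribute [local instance] H4_ksep_algebra in
theorem H4_strictHenselization_isIndEtale (R : Type u) [CommRing R] [IsLocalRing R]
    (Rsh : Type u) [CommRing Rsh] [IsLocalRing Rsh] [Algebra R Rsh]
    [IsLocalHom (algebraMap R Rsh)] [Hensel.IsStrictHenselization R Rsh] :
    EtPBC.IsIndEtale R Rsh := by
  obtain ⟨e⟩ := H4_strictHenselization_equiv (R := R) Rsh
  exact H4_isIndEtale_of_algEquiv e.symm (H4K_Hens_isIndEtale R (H4_ksep R))

end Groth.Agent.H4
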