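import Mathlib

/-! Filtered systems of weakly étale algebras have weakly étale colimits (element-wise form). -/

set_option autoImplicit false
universe u
open TensorProduct

namespace Groth.Agent.H4

theorem H4_fin_lift {ι : Type*} {X' : Type*} (X : ι → Type*) (Ψ : ∀ i, X i → X')
    (hne : Nonempty ι)
    (hdir : ∀ i i', ∃ (k : ι) (s : X i → X k) (s' : X i' → X k),
      (∀ a, Ψ k (s a) = Ψ i a) ∧ ∀ a, Ψ k (s' a) = Ψ i' a)
    (hrep : ∀ b : X', ∃ i a, Ψ i a = b) :
    ∀ (l : ℕ) (x : Fin l → X'), ∃ (i : ι) (y : Fin l → X i), ∀ m, Ψ i (y m) = x m := by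
  intro l
  induction l with
  | zero =>
    intro x
    obtain ⟨i⟩ := hne
    exact ⟨i, Fin.elim0, fun m => Fin.elim0 m⟩
  | succ l ih =>
    intro x
    obtain ⟨i, y, hy⟩ := ih (fun m => x m.succ)
    obtain ⟨i', y0, hy0⟩ := hrep (x 0)
    obtain ⟨k, s, s', hs, hs'⟩ := hdir i i'
    refine ⟨k, Fin.cons (s' y0) (fun m => s (y m)), ?_⟩
    intro m
    refine Fin.cases ?_ (fun m => ?_) m
    · rw [Fin.cons_zero, hs', hy0]
    · rw [Fin.cons_succ, hs, hy]

theorem H4_ringHom_flat_of_system {R' M' : Type u} [CommRing R'] [CommRing M'] (g : R' →+* M')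
    {ι : Type u} (R : ι → Type u) (M : ι → Type u) [∀ i, CommRing (R i)] [∀ i, CommRing (M i)]
    (gi : ∀ i, R i →+* M i) (hgi : ∀ i, (gi i).Flat)
    (Φ : ∀ i, R i →+* R') (φ : ∀ i, M i →+* M')
    (hcomm : ∀ i, g.comp (Φ i) = (φ i).comp (gi i))
    (hlift : ∀ (l : ℕ) (F : Fin l → R') (x : Fin l → M'), ∃ (i : ι) (G : Fin l → R i)
      (y : Fin l → M i), (∀ m, Φ i (G m) = F m) ∧ ∀ m, φ i (y m) = x m)
    (heq : ∀ i (u v : M i), φ i u = φ i v → ∃ (k : ι) (T : R i →+* R k) (t : M i →+* M k),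
      (gi k).comp T = t.comp (gi i) ∧ (Φ k).comp T = Φ i ∧ (φ k).comp t = φ i ∧ t u = t v) :
    g.Flat := by
  algebraize [g]
  show Module.Flat R' M'
  rw [Module.Flat.iff_forall_isTrivialRelation]
  intro l F x hFx
  obtain ⟨i, G, y, hG, hy⟩ := hlift l F x
  have hgF : ∀ m, φ i (gi i (G m)) = g (F m) := fun m => by
    rw [← hG m]; exact (RingHom.congr_fun (hcomm i) (G m)).symm
  have h0 : φ i (∑ m, gi i (G m) * y m) = φ i 0 := by
    rw [map_sum, map_zero]
    simp only [map_mul, hgF, hy]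
    simpa [Algebra.smul_def, RingHom.algebraMap_toAlgebra] using hFx
  obtain ⟨k, T, t, h1, h2, h3, h4⟩ := heq i _ _ h0
  rw [map_sum, map_zero] at h4
  simp only [map_mul] at h4
  letI := (gi k).toAlgebra
  haveI : Module.Flat (R k) (M k) := hgi k
  have h5 : ∑ m, (T (G m)) • (t (y m)) = 0 := by
    rw [← h4]
    refine Finset.sum_congr rfl fun m _ => ?_
    rw [Algebra.smul_def, RingHom.algebraMap_toAlgebra]
    congr 1
    exact RingHom.congr_fun h1 (G m)
  obtain ⟨n, a, z, hz1, hz2⟩ := Module.Flat.isTrivialRelation_of_sum_smul_eq_zero (R := R k) (M := M k)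
    (f := fun m => T (G m)) (x := fun m => t (y m)) h5
  have hz1' : ∀ m, t (y m) = ∑ j, a m j • z j := hz1
  have hz2' : ∀ j, ∑ m, T (G m) * a m j = 0 := hz2
  refine ⟨n, fun m j => Φ k (a m j), fun j => φ k (z j), ?_, ?_⟩
  · intro m
    show x m = ∑ j, Φ k (a m j) • φ k (z j)
    have h6 : x m = φ k (t (y m)) := by
      rw [← hy m]; exact (RingHom.congr_fun h3 (y m)).symm
    rw [h6, hz1' m, map_sum]
    refine Finset.sum_congr rfl fun j _ => ?_
    rw [Algebra.smul_def, Algebra.smul_def, RingHom.algebraMap_toAlgebra,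
      RingHom.algebraMap_toAlgebra, map_mul]
    congr 1
    exact (RingHom.congr_fun (hcomm k) (a m j)).symm
  · intro j
    show ∑ m, F m * Φ k (a m j) = 0
    have h7 : ∀ m, F m = Φ k (T (G m)) := fun m => by
      rw [← hG m]; exact (RingHom.congr_fun h2 (G m)).symm
    simp only [h7, ← map_mul, ← map_sum, hz2' j, map_zero]

theorem H4_weaklyEtale_of_filtered_system {A B : Type u} [CommRing A] [CommRing B] [Algebra A B]
    {ι : Type u} (G : ι → Type u) [∀ i, CommRing (G i)] [∀ i, Algebra A (G i)]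
    [∀ i, Algebra.WeaklyEtale A (G i)] (φ : ∀ i, G i →ₐ[A] B)
    (hne : Nonempty ι)
    (hdir : ∀ i i', ∃ (k : ι) (t : G i →ₐ[A] G k) (t' : G i' →ₐ[A] G k),
      (φ k).comp t = φ i ∧ (φ k).comp t' = φ i')
    (hrep : ∀ b : B, ∃ (i : ι) (y : G i), φ i y = b)
    (heq : ∀ i (x y : G i), φ i x = φ i y → ∃ (k : ι) (t : G i →ₐ[A] G k),
      (φ k).comp t = φ i ∧ t x = t y) :
    Algebra.WeaklyEtale A B := by
  classical
  have hfin := H4_fin_lift (X' := B) G (fun i => φ i) hne
    (fun i i' => by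
      obtain ⟨k, t, t', h1, h2⟩ := hdir i i'
      exact ⟨k, t, t', fun a => AlgHom.congr_fun h1 a, fun a => AlgHom.congr_fun h2 a⟩) hrep
  have hflat : Module.Flat A B := by
    rw [Module.Flat.iff_forall_isTrivialRelation]
    intro l f x hfx
    obtain ⟨i, y, hy⟩ := hfin l x
    have h0 : φ i (∑ m, f m • y m) = φ i 0 := by
      rw [map_sum, map_zero]
      simp only [map_smul, hy]
      exact hfx
    obtain ⟨k, t, htk, ht⟩ := heq i _ _ h0
    rw [map_sum, map_zero] at ht
    simp only [map_smul] at ht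
    obtain ⟨n, a, z, hz1, hz2⟩ := Module.Flat.isTrivialRelation_of_sum_smul_eq_zero
      (R := A) (M := G k) (f := f) (x := fun m => t (y m)) ht
    have hz1' : ∀ m, t (y m) = ∑ j, a m j • z j := hz1
    refine ⟨n, a, fun j => φ k (z j), ?_, hz2⟩
    intro m
    show x m = ∑ j, a m j • φ k (z j)
    rw [← hy m, ← htk, AlgHom.comp_apply, hz1' m, map_sum]
    simp only [map_smul]
  refine ⟨hflat, ?_⟩
  let Φ : ∀ i, G i ⊗[A] G i →ₐ[A] B ⊗[A] B := fun i => Algebra.TensorProduct.map (φ i) (φ i)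
  have hΦcomp : ∀ {i k : ι} (t : G i →ₐ[A] G k), (φ k).comp t = φ i →
      ∀ z, Φ k (Algebra.TensorProduct.map t t z) = Φ i z := by
    intro i k t ht z
    have h1 : (Φ k).comp (Algebra.TensorProduct.map t t) = Φ i := by
      simp only [Φ]
      rw [← Algebra.TensorProduct.map_comp, ht]
    exact AlgHom.congr_fun h1 z
  have hliftT : ∀ F : B ⊗[A] B, ∃ (i : ι) (G' : G i ⊗[A] G i), Φ i G' = F := by
    intro F
    induction F using TensorProduct.induction_on with
    | zero =>
      obtain ⟨i⟩ := hne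
      exact ⟨i, 0, map_zero _⟩
    | tmul b b' =>
      obtain ⟨i, y, hy⟩ := hfin 2 ![b, b']
      refine ⟨i, y 0 ⊗ₜ y 1, ?_⟩
      simp only [Φ, Algebra.TensorProduct.map_tmul]
      rw [hy 0, hy 1]
      rfl
    | add F F' hF hF' =>
      obtain ⟨i, G1, rfl⟩ := hF
      obtain ⟨i', G2, rfl⟩ := hF'
      obtain ⟨k, t, t', h1, h2⟩ := hdir i i'
      exact ⟨k, Algebra.TensorProduct.map t t G1 + Algebra.TensorProduct.map t' t' G2, by
        rw [map_add, hΦcomp t h1, hΦcomp t' h2]⟩
  have hjoint := H4_fin_lift (X' := (B ⊗[A] B) × B) (fun i => (G i ⊗[A] G i) × G i)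
    (fun i p => (Φ i p.1, φ i p.2)) hne
    (fun i i' => by
      obtain ⟨k, t, t', h1, h2⟩ := hdir i i'
      refine ⟨k, fun p => (Algebra.TensorProduct.map t t p.1, t p.2),
        fun p => (Algebra.TensorProduct.map t' t' p.1, t' p.2), ?_, ?_⟩
      · intro p
        exact Prod.ext (hΦcomp t h1 p.1) (AlgHom.congr_fun h1 p.2)
      · intro p
        exact Prod.ext (hΦcomp t' h2 p.1) (AlgHom.congr_fun h2 p.2))
    (fun p => by
      obtain ⟨i, G1, hG1⟩ := hliftT p.1
      obtain ⟨i', y, hy⟩ := hrep p.2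
      obtain ⟨k, t, t', h1, h2⟩ := hdir i i'
      refine ⟨k, (Algebra.TensorProduct.map t t G1, t' y), Prod.ext ?_ ?_⟩
      · show Φ k _ = p.1
        rw [hΦcomp t h1, hG1]
      · show φ k (t' y) = p.2
        rw [← hy]
        exact AlgHom.congr_fun h2 y)
  apply H4_ringHom_flat_of_system (Algebra.TensorProduct.lmul' A (S := B)).toRingHom
    (fun i => G i ⊗[A] G i) G (fun i => (Algebra.TensorProduct.lmul' A (S := G i)).toRingHom)
    (fun i => Algebra.WeaklyEtale.flat_lmul' A (G i))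
    (fun i => (Φ i).toRingHom) (fun i => (φ i).toRingHom)
  · intro i
    apply RingHom.ext
    intro z
    induction z using TensorProduct.induction_on with
    | zero => simp
    | tmul a b => simp [Φ]
    | add x y hx hy => simp only [map_add, hx, hy]
  · intro l F x
    obtain ⟨i, y, hy⟩ := hjoint l (fun m => (F m, x m))
    exact ⟨i, fun m => (y m).1, fun m => (y m).2, fun m => congrArg Prod.fst (hy m),
      fun m => congrArg Prod.snd (hy m)⟩
  · intro i u v huv
    obtain ⟨k, t, htk, ht⟩ := heq i u v huv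
    refine ⟨k, (Algebra.TensorProduct.map t t).toRingHom, t.toRingHom, ?_, ?_, ?_, ht⟩
    · apply RingHom.ext
      intro z
      induction z using TensorProduct.induction_on with
      | zero => simp
      | tmul a b => simp
      | add x y hx hy => simp only [map_add, hx, hy]
    · apply RingHom.ext
      intro z
      exact hΦcomp t htk z
    · apply RingHom.ext
      intro z
      exact AlgHom.congr_fun htk z

end Groth.Agent.H4
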