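import Mathlib
import Groth.Agent.Lib.helper4.IndEtaleWeakly

/-! A filtered colimit (in `Under (CommRingCat.of A)`) of weakly étale algebras is weakly étale. -/

set_option autoImplicit false
universe u
open CategoryTheory CategoryTheory.Limits

namespace Groth.Agent.H4

theorem H4_weaklyEtale_of_under_colimit (A B : Type u) [CommRing A] [CommRing B] [Algebra A B]
    (J : Type u) [SmallCategory J] [IsFiltered J] (D : J ⥤ Under (CommRingCat.of A))
    (c : Cocone D) (hc : IsColimit c)
    (het : ∀ j, letI := (D.obj j).hom.hom.toAlgebra; Algebra.WeaklyEtale A (D.obj j).right)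
    (e : c.pt ≅ Under.mk (CommRingCat.ofHom (algebraMap A B))) : Algebra.WeaklyEtale A B := by
  classical
  letI alg : ∀ j, Algebra A (D.obj j).right := fun j => (D.obj j).hom.hom.toAlgebra
  haveI : ∀ j, Algebra.WeaklyEtale A (D.obj j).right := het
  let F : J ⥤ CommRingCat := D ⋙ Under.forget _
  let c' : Cocone F := (Under.forget _).mapCocone c
  have hc' : IsColimit c' := isColimitOfPreserves (Under.forget _) hc
  let ε : c.pt.right →+* B := e.hom.right.hom
  have hε : Function.Bijective ε :=
    ((Under.forget _).mapIso e).commRingCatIsoToRingEquiv.bijective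
  let ψ : ∀ j, (D.obj j).right →+* B := fun j => ε.comp (c.ι.app j).right.hom
  have hψ : ∀ j (a : A), ψ j (algebraMap A (D.obj j).right a) = algebraMap A B a := by
    intro j a
    have h1 : (D.obj j).hom ≫ (c.ι.app j).right = c.pt.hom := Under.w (c.ι.app j)
    have h2 : c.pt.hom ≫ e.hom.right = CommRingCat.ofHom (algebraMap A B) := Under.w e.hom
    have h3 : ((D.obj j).hom ≫ (c.ι.app j).right) ≫ e.hom.right =
        CommRingCat.ofHom (algebraMap A B) := by rw [h1, h2]
    have h4 := congrArg (fun f => f.hom a) h3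
    exact h4
  let φ : ∀ j, (D.obj j).right →ₐ[A] B := fun j => { ψ j with commutes' := hψ j }
  have hφ : ∀ j y, φ j y = ε ((c.ι.app j).right.hom y) := fun j y => rfl
  let tr : ∀ {i j : J} (_ : i ⟶ j), (D.obj i).right →ₐ[A] (D.obj j).right := fun {i j} a =>
    { (D.map a).right.hom with
      commutes' := fun r => by
        have h1 : (D.obj i).hom ≫ (D.map a).right = (D.obj j).hom := Under.w (D.map a)
        exact congrArg (fun f => f.hom r) h1 }
  have htr : ∀ {i j : J} (a : i ⟶ j), (φ j).comp (tr a) = φ i := by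
    intro i j a
    ext y
    show ε ((c.ι.app j).right.hom ((D.map a).right.hom y)) = ε ((c.ι.app i).right.hom y)
    have h1 : D.map a ≫ c.ι.app j = c.ι.app i := c.w a
    have h2 : (D.map a).right ≫ (c.ι.app j).right = (c.ι.app i).right := by
      rw [← Under.comp_right, h1]
    have h3 := congrArg (fun f => f.hom y) h2
    exact congrArg ε h3
  apply H4_weaklyEtale_of_filtered_system (fun j => (D.obj j).right) φ
  · exact IsFiltered.nonempty
  · intro i i'
    exact ⟨IsFiltered.max i i', tr (IsFiltered.leftToMax i i'), tr (IsFiltered.rightToMax i i'),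
      htr _, htr _⟩
  · intro b
    obtain ⟨x, rfl⟩ := hε.2 b
    obtain ⟨j₀⟩ := IsFiltered.nonempty (C := J)
    obtain ⟨j, _, y, hy⟩ := Concrete.exists_hom_ι_eq_of_isColimit F hc' x j₀
    exact ⟨j, y, congrArg ε hy⟩
  · intro i x y hxy
    have h1 : (c'.ι.app i).hom x = (c'.ι.app i).hom y := hε.1 hxy
    obtain ⟨j, a, h2⟩ := (IsColimit.eq_iff' hc' x y).mp h1
    exact ⟨j, tr a, htr a, h2⟩

end Groth.Agent.H4
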