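import Mathlib
import Groth.Prelude.Def_Hens2
import Groth.Prelude.Def_Hensel
import Groth.Agent.Lib.helper4.IndEtaleHens
import Groth.Agent.Lib.helper4.IndEtaleWeakly2

set_option autoImplicit false
universe u
open CategoryTheory CategoryTheory.Limits AlgebraicGeometry TensorProduct

namespace Groth.Agent.H4

theorem H4_flat_fromSpecStalk (X : Scheme.{u}) (x : X) : Flat (X.fromSpecStalk x) := by
  obtain ⟨U, hU, hxU, -⟩ := exists_isAffineOpen_mem_and_subset (X := X) (x := x) (U := ⊤) trivial
  rw [← hU.fromSpecStalk_eq_fromSpecStalk hxU, IsAffineOpen.fromSpecStalk]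
  haveI : Flat (Spec.map (X.presheaf.germ U x hxU)) := by
    rw [Flat.SpecMap_iff]
    letI : Algebra Γ(X, U) (X.presheaf.stalk x) := (X.presheaf.germ U x hxU).hom.toAlgebra
    haveI := hU.isLocalization_stalk ⟨x, hxU⟩
    show (algebraMap Γ(X, U) (X.presheaf.stalk x)).Flat
    rw [RingHom.flat_algebraMap_iff]
    exact IsLocalization.flat _ (hU.primeIdealOf ⟨x, hxU⟩).asIdeal.primeCompl
  infer_instance

theorem H4_weaklyEtale_fromSpecStalk (X : Scheme.{u}) (x : X) :
    WeaklyEtale (X.fromSpecStalk x) :=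
  { flat := H4_flat_fromSpecStalk X x
    flat_diagonal := inferInstance }

theorem H4_weaklyEtale_SpecMap {A B : Type u} [CommRing A] [CommRing B] [Algebra A B]
    [Algebra.WeaklyEtale A B] :
    WeaklyEtale (Spec.map (CommRingCat.ofHom (algebraMap A B))) := by
  refine { flat := ?_, flat_diagonal := ?_ }
  · rw [Flat.SpecMap_iff]
    show (algebraMap A B).Flat
    rw [RingHom.flat_algebraMap_iff]
    infer_instance
  · rw [diagonal_SpecMap]
    haveI : Flat (Spec.map (CommRingCat.ofHom
        (Algebra.TensorProduct.lmul' A : B ⊗[A] B →ₐ[A] B).toRingHom)) := by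
      rw [Flat.SpecMap_iff]
      exact Algebra.WeaklyEtale.flat_lmul' A B
    infer_instance

end Groth.Agent.H4

namespace Groth.Agent.H4

theorem H4_weaklyEtale_of_isIndEtale (A B : Type u) [CommRing A] [CommRing B] [Algebra A B]
    (h : EtPBC.IsIndEtale A B) : Algebra.WeaklyEtale A B := by
  obtain ⟨J, _, _, D, c, hc, het, ⟨e⟩⟩ := h
  refine H4_weaklyEtale_of_under_colimit A B J D c hc ?_ e
  intro j
  letI := (D.obj j).hom.hom.toAlgebra
  haveI : Algebra.Etale A (D.obj j).right := het j
  infer_instance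

theorem H4_weaklyEtale_specOf_strictHenselization (X : Scheme.{u}) (x : ↥X) (R : Type u)
    [CommRing R] [IsLocalRing R] [Algebra (X.presheaf.stalk x) R]
    [IsLocalHom (algebraMap (X.presheaf.stalk x) R)]
    [Hensel.IsStrictHenselization (X.presheaf.stalk x) R] :
    WeaklyEtale (Hens2.specOf X x R) := by
  haveI : Algebra.WeaklyEtale (X.presheaf.stalk x) R :=
    H4_weaklyEtale_of_isIndEtale _ _ (H4_strictHenselization_isIndEtale (X.presheaf.stalk x) R)
  haveI := H4_weaklyEtale_SpecMap (A := X.presheaf.stalk x) (B := R)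
  haveI := H4_weaklyEtale_fromSpecStalk X x
  show WeaklyEtale (Spec.map (CommRingCat.ofHom (algebraMap (X.presheaf.stalk x) R)) ≫
    X.fromSpecStalk x)
  infer_instance

end Groth.Agent.H4
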