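import Mathlib
import Groth.Agent.Lib.helper4.AdicNoeth
import Groth.Agent.Lib.helper4.IndEtaleCancel
import Groth.Agent.Lib.helper4.IndEtaleHens
import Groth.Agent.Lib.helper4.WeaklyEtaleSpec
import Groth.Agent.Lib.helper4.HenselizationBasic
import Groth.Agent.Lib.helper4.HenselizationProps

set_option autoImplicit false
universe u
open TensorProduct

namespace Groth.Agent.H4

/-- Noetherianity descends along faithfully flat maps. -/
theorem H4_isNoetherianRing_of_faithfullyFlat (A B : Type*) [CommRing A] [CommRing B] [Algebra A B]
    [Module.FaithfullyFlat A B] [IsNoetherianRing B] : IsNoetherianRing A := by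
  rw [isNoetherianRing_iff, isNoetherian_iff']
  let e : Ideal A ↪o Ideal B :=
    { toFun := Ideal.map (algebraMap A B)
      inj' := Ideal.map_injective_of_faithfullyFlat
      map_rel_iff' := by
        intro I J
        refine ⟨fun h => ?_, fun h => Ideal.map_mono h⟩
        have h' : I.map (algebraMap A B) ≤ J.map (algebraMap A B) := h
        have := Ideal.comap_mono (f := algebraMap A B) h'
        rwa [Ideal.comap_map_eq_self_of_faithfullyFlat,
          Ideal.comap_map_eq_self_of_faithfullyFlat] at this }
  haveI : WellFoundedGT (Ideal B) := (isNoetherian_iff' (R := B) (M := B)).mp inferInstance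
  exact OrderEmbedding.wellFoundedGT e

/-- A map from an ind-étale algebra to a flat algebra is flat. -/
theorem H4_flat_of_indEtale_of_flat {R S T : Type u} [CommRing R] [CommRing S] [CommRing T]
    [Algebra R S] [Algebra R T] (hS : EtPBC.IsIndEtale R S) [Module.Flat R T] (f : S →ₐ[R] T) :
    f.toRingHom.Flat := by
  let m : T ⊗[R] S →ₐ[T] T :=
    Algebra.TensorProduct.lift (AlgHom.id T T) f (fun _ _ => Commute.all _ _)
  have hm : m.toRingHom.Flat := by
    algebraize [m.toRingHom]
    haveI : IsScalarTower T (T ⊗[R] S) T :=
      IsScalarTower.of_algebraMap_eq (fun t => (m.commutes t).symm)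
    have h1 : EtPBC.IsIndEtale T (T ⊗[R] S) := H4_isIndEtale_baseChange R S T hS
    have h2 : EtPBC.IsIndEtale T T := H4_isIndEtale_of_etale T T
    have h3 : EtPBC.IsIndEtale (T ⊗[R] S) T := H4_isIndEtale_cancel T (T ⊗[R] S) T h1 h2
    haveI := H4_weaklyEtale_of_isIndEtale _ _ h3
    show Module.Flat (T ⊗[R] S) T
    exact Algebra.WeaklyEtale.flat
  have hi : (Algebra.TensorProduct.includeRight : S →ₐ[R] T ⊗[R] S).toRingHom.Flat := by
    have h1 : (algebraMap S (S ⊗[R] T)).Flat := RingHom.flat_algebraMap_iff.mpr inferInstance
    have h2 : ((Algebra.TensorProduct.comm R S T).toAlgHom.toRingHom).Flat :=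
      RingHom.Flat.of_bijective (Algebra.TensorProduct.comm R S T).bijective
    have h3 := h1.comp h2
    convert h3 using 1
    refine RingHom.ext fun s => ?_
    simp
  have h4 := hi.comp hm
  convert h4 using 1
  refine RingHom.ext fun s => ?_
  simp [m]

/-- A local ring complete w.r.t. its maximal ideal is a henselian local ring. -/
theorem H4_henselianLocalRing_of_isAdicComplete (A : Type*) [CommRing A] [IsLocalRing A]
    [IsAdicComplete (IsLocalRing.maximalIdeal A) A] : HenselianLocalRing A where
  is_henselian := by
    intro f hf a₀ h₁ h₂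
    refine HenselianRing.is_henselian (I := IsLocalRing.maximalIdeal A) f hf a₀ h₁ ?_
    exact h₂.map _

theorem H4_henselization_isNoetherianRing_iff (R : Type u) [CommRing R] [IsLocalRing R]
    (S : Type u) [CommRing S] [IsLocalRing S] [Algebra R S] [IsLocalHom (algebraMap R S)]
    [hS : Hensel.IsHenselization R S] : IsNoetherianRing R ↔ IsNoetherianRing S := by
  constructor
  · intro hR
    let Rh := AdicCompletion (IsLocalRing.maximalIdeal R) R
    haveI : IsNoetherianRing Rh := H4_adicCompletion_isNoetherianRing _
    haveI : HenselianLocalRing Rh := H4_henselianLocalRing_of_isAdicComplete Rh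
    obtain ⟨g, hg, -⟩ := hS.universal Rh (algebraMap R Rh) inferInstance
    let gA : S →ₐ[R] Rh := { g with commutes' := fun r => RingHom.congr_fun hg r }
    have hflat : gA.toRingHom.Flat :=
      H4_flat_of_indEtale_of_flat (H4_henselization_isIndEtale R S) gA
    algebraize [gA.toRingHom]
    haveI : IsLocalHom (algebraMap S Rh) := by
      constructor
      intro x hx
      by_contra hx'
      have h1 : x ∈ IsLocalRing.maximalIdeal S := hx'
      rw [← (H4_henselization_map_maximalIdeal (R := R) (S := S)).1] at h1
      have h2 : algebraMap S Rh x ∈ ((IsLocalRing.maximalIdeal R).map (algebraMap R S)).map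
          (algebraMap S Rh) := Ideal.mem_map_of_mem _ h1
      rw [Ideal.map_map] at h2
      have h3 : (algebraMap S Rh).comp (algebraMap R S) = algebraMap R Rh := hg
      rw [h3] at h2
      have h4 := IsLocalRing.map_maximalIdeal_le (algebraMap R Rh) h2
      exact h4 hx
    haveI : Module.Flat S Rh := hflat
    haveI : Module.FaithfullyFlat S Rh := Module.FaithfullyFlat.of_flat_of_isLocalHom
    exact H4_isNoetherianRing_of_faithfullyFlat S Rh
  · intro hS'
    obtain ⟨e⟩ := H4_henselization_equiv (R := R) S
    haveI : Module.FaithfullyFlat R S :=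
      Module.FaithfullyFlat.of_linearEquiv R (H4_Hens R) e.toLinearEquiv
    exact H4_isNoetherianRing_of_faithfullyFlat R S

end Groth.Agent.H4
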