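import Mathlib
import Groth.Agent.Lib.helper4.FiniteEtaleHom
import Groth.Agent.Lib.helper4.HensNoeth
import Groth.Agent.Lib.helper4.FiniteLocalProd

set_option autoImplicit false
universe u
open IsLocalRing

namespace Groth.Agent.H4

/-- A finite module over a ring which is `I`-adically precomplete is `I`-adically precomplete. -/
theorem H4_isPrecomplete_of_finite (R : Type*) [CommRing R] (I : Ideal R) [IsPrecomplete I R]
    (N : Type*) [AddCommGroup N] [Module R N] [Module.Finite R N] : IsPrecomplete I N := by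
  classical
  obtain ⟨n, x, hx⟩ := Module.Finite.exists_fin (R := R) (M := N)
  refine ⟨fun f hf => ?_⟩
  have hstep : ∀ k, ∃ a : Fin n →₀ R, (∀ j, a j ∈ I ^ k) ∧
      (a.sum fun j c => c • x j) = f (k + 1) - f k := by
    intro k
    have h1 := hf (Nat.le_succ k)
    rw [SModEq.sub_mem] at h1
    have h2 : f (k + 1) - f k ∈ I ^ k • (⊤ : Submodule R N) := by
      have := neg_mem h1
      rwa [neg_sub] at this
    rw [← hx] at h2
    obtain ⟨a, ha, ha'⟩ := (Submodule.mem_ideal_smul_span_iff_exists_sum _ _ _).mp h2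
    exact ⟨a, ha, ha'⟩
  choose a ha hsum using hstep
  let s : Fin n → ℕ → R := fun j K => ∑ k ∈ Finset.range K, a k j
  have hs : ∀ j, ∃ C : R, ∀ K, s j K ≡ C [SMOD (I ^ K • ⊤ : Submodule R R)] := by
    intro j
    refine IsPrecomplete.prec ‹IsPrecomplete I R› ?_
    intro m K hmK
    refine (AdicCompletion.isAdicCauchy_iff I R (s j)).mpr ?_ hmK
    intro K
    rw [SModEq.sub_mem]
    have : s j K - s j (K + 1) = - a K j := by
      simp only [s, Finset.sum_range_succ]; ring
    rw [this]
    refine neg_mem ?_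
    simpa using ha K j
  choose C hC using hs
  refine ⟨f 0 + ∑ j, C j • x j, fun K => ?_⟩
  have hfK : f K = f 0 + ∑ j, s j K • x j := by
    induction K with
    | zero => simp [s]
    | succ K ih =>
      have h3 : f (K + 1) = f K + (f (K + 1) - f K) := by abel
      have h4 : f (K + 1) - f K = ∑ j, a K j • x j := by
        rw [← hsum K, Finsupp.sum_fintype _ _ (fun j => by simp)]
      rw [h3, h4, ih]
      simp only [s, Finset.sum_range_succ, add_smul, Finset.sum_add_distrib]
      abel
  rw [SModEq.sub_mem, hfK]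
  have : f 0 + ∑ j, s j K • x j - (f 0 + ∑ j, C j • x j) = ∑ j, (s j K - C j) • x j := by
    simp only [sub_smul, Finset.sum_sub_distrib]; abel
  rw [this]
  refine Submodule.sum_mem _ fun j _ => ?_
  refine Submodule.smul_mem_smul ?_ Submodule.mem_top
  have := hC j K
  rw [SModEq.sub_mem] at this
  simpa using this

/-- Precompleteness for two ideals defining the same adic topology. -/
theorem H4_isPrecomplete_of_pow_le {A : Type*} [CommRing A] (I J : Ideal A) (hIJ : I ≤ J) (k : ℕ)
    (hk : J ^ k ≤ I) [IsPrecomplete I A] : IsPrecomplete J A := by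
  have hk' : J ^ (k + 1) ≤ I := (Ideal.pow_le_pow_right (Nat.le_succ k)).trans hk
  refine ⟨fun f hf => ?_⟩
  have hf' : ∀ {m n}, m ≤ n → f m - f n ∈ J ^ m := by
    intro m n hmn
    have := hf hmn
    rw [SModEq.sub_mem] at this
    simpa using this
  let g : ℕ → A := fun n => f ((k + 1) * n)
  have hg : ∀ {m n}, m ≤ n → g m ≡ g n [SMOD (I ^ m • ⊤ : Submodule A A)] := by
    intro m n hmn
    rw [SModEq.sub_mem]
    have h1 : g m - g n ∈ J ^ ((k + 1) * m) := hf' (Nat.mul_le_mul_left _ hmn)
    rw [pow_mul] at h1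
    have h2 := Ideal.pow_right_mono hk' m h1
    simpa using h2
  obtain ⟨L, hL⟩ := IsPrecomplete.prec ‹IsPrecomplete I A› hg
  refine ⟨L, fun n => ?_⟩
  rw [SModEq.sub_mem]
  have h1 : f n - g n ∈ J ^ n := hf' (by nlinarith)
  have h2 : g n - L ∈ J ^ n := by
    have := hL n
    rw [SModEq.sub_mem] at this
    have h3 : g n - L ∈ I ^ n := by simpa using this
    exact Ideal.pow_right_mono hIJ n h3
  have : f n - L = (f n - g n) + (g n - L) := by ring
  rw [this]
  simpa using add_mem h1 h2

end Groth.Agent.H4

namespace Groth.Agent.H4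

section PiDecomp

variable {S : Type u} [CommRing S] {ι : Type u} [Fintype ι] [DecidableEq ι] (A : ι → Type u)
  [∀ i, CommRing (A i)] [∀ i, IsLocalRing (A i)] (Φ : S ≃+* (Π i, A i))

/-- projection to the `i`-th factor -/
def H4_piProj (i : ι) : S →+* A i := (Pi.evalRingHom A i).comp (Φ : S →+* Π i, A i)

theorem H4_piProj_surjective (i : ι) : Function.Surjective (H4_piProj A Φ i) := by
  intro a
  refine ⟨Φ.symm (Pi.single i a), ?_⟩
  simp [H4_piProj]

/-- the `i`-th maximal ideal -/
def H4_piMax (i : ι) : Ideal S := (maximalIdeal (A i)).comap (H4_piProj A Φ i)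

instance H4_piMax_isMaximal (i : ι) : (H4_piMax A Φ i).IsMaximal :=
  Ideal.comap_isMaximal_of_surjective _ (H4_piProj_surjective A Φ i)

theorem H4_piMax_isLocalization (i : ι) :
    letI := (H4_piProj A Φ i).toAlgebra
    IsLocalization.AtPrime (A i) (H4_piMax A Φ i) := by
  letI := (H4_piProj A Φ i).toAlgebra
  have halg : ∀ s : S, algebraMap S (A i) s = Φ s i := fun s => rfl
  show IsLocalization (H4_piMax A Φ i).primeCompl (A i)
  rw [isLocalization_iff]
  refine ⟨?_, ?_, ?_⟩
  · rintro ⟨y, hy⟩
    have : Φ y i ∉ maximalIdeal (A i) := hy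
    rw [halg]
    by_contra h
    exact this ((IsLocalRing.mem_maximalIdeal _).mpr h)
  · intro z
    obtain ⟨s, hs⟩ := H4_piProj_surjective A Φ i z
    refine ⟨(s, 1), ?_⟩
    show z * algebraMap S (A i) 1 = algebraMap S (A i) s
    rw [map_one, mul_one]
    exact hs.symm
  · intro x y hxy
    rw [halg, halg] at hxy
    refine ⟨⟨Φ.symm (Pi.single i 1), ?_⟩, ?_⟩
    · show Φ.symm (Pi.single i 1) ∉ H4_piMax A Φ i
      intro h
      have h1 : Φ (Φ.symm (Pi.single i (1 : A i))) i ∈ maximalIdeal (A i) := h
      rw [RingEquiv.apply_symm_apply, Pi.single_eq_same] at h1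
      exact (IsLocalRing.mem_maximalIdeal _).mp h1 isUnit_one
    · apply Φ.injective
      simp only [map_mul, RingEquiv.apply_symm_apply]
      funext j
      by_cases hj : j = i
      · subst hj; simp [hxy]
      · simp [hj]

theorem H4_exists_eq_piMax (P : Ideal S) [hP : P.IsMaximal] : ∃ i, P = H4_piMax A Φ i := by
  classical
  let e : ι → S := fun i => Φ.symm (Pi.single i 1)
  have hsum : ∑ i, e i = 1 := by
    apply Φ.injective
    simp only [e, map_sum, RingEquiv.apply_symm_apply, map_one]
    exact Finset.univ_sum_single (1 : Π i, A i)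
  have hex : ∃ i, e i ∉ P := by
    by_contra h
    push Not at h
    have : (1 : S) ∈ P := by
      rw [← hsum]; exact Ideal.sum_mem _ fun i _ => h i
    exact hP.ne_top ((Ideal.eq_top_iff_one _).mpr this)
  obtain ⟨i, hi⟩ := hex
  refine ⟨i, ?_⟩
  have hle : P ≤ H4_piMax A Φ i := by
    intro x hx
    by_contra hxi
    have hu : IsUnit (Φ x i) := by
      by_contra h
      exact hxi ((IsLocalRing.mem_maximalIdeal _).mpr h)
    obtain ⟨u, hu⟩ := hu
    have : e i = x * Φ.symm (Pi.single i (↑u⁻¹ : A i)) := by
      apply Φ.injective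
      simp only [e, map_mul, RingEquiv.apply_symm_apply]
      funext j
      by_cases hj : j = i
      · subst hj; simp [← hu]
      · simp [hj]
    exact hi (this ▸ Ideal.mul_mem_right _ _ hx)
  exact hP.eq_of_le (H4_piMax_isMaximal A Φ i).ne_top hle


theorem H4_locEquiv (P : Ideal S) [P.IsPrime] (i : ι) (hP : P = H4_piMax A Φ i) :
    letI := (H4_piProj A Φ i).toAlgebra
    Nonempty (Localization.AtPrime P ≃ₐ[S] A i) := by
  subst hP
  letI := (H4_piProj A Φ i).toAlgebra
  haveI := H4_piMax_isLocalization A Φ i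
  exact ⟨IsLocalization.algEquiv (H4_piMax A Φ i).primeCompl _ _⟩

end PiDecomp

/-- completeness of a finite local algebra over a complete Noetherian local ring -/
theorem H4_isAdicComplete_of_finite_local (R : Type u) [CommRing R]
    [IsLocalRing R] [IsNoetherianRing R] [IsAdicComplete (maximalIdeal R) R]
    (B : Type u) [CommRing B] [IsLocalRing B] [Algebra R B] [Module.Finite R B] :
    IsAdicComplete (maximalIdeal B) B := by
  haveI : IsNoetherianRing B := IsNoetherianRing.of_finite R B
  haveI : Algebra.IsIntegral R B := Algebra.IsIntegral.of_finite R B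
  haveI h1 : IsPrecomplete (maximalIdeal R) B := H4_isPrecomplete_of_finite R (maximalIdeal R) B
  haveI h2 : IsPrecomplete ((maximalIdeal R).map (algebraMap R B)) B :=
    (IsPrecomplete.map_algebraMap_iff (S := B) (I := maximalIdeal R) (M := B)).mpr h1
  set I := (maximalIdeal R).map (algebraMap R B) with hI
  have hIJ : I ≤ maximalIdeal B := by
    have := H4_map_maximalIdeal_le_jacobson R B
    rwa [IsLocalRing.jacobson_eq_maximalIdeal _ bot_ne_top] at this
  have hItop : I ≠ ⊤ := fun h => (IsLocalRing.maximalIdeal.isMaximal B).ne_top (top_le_iff.mp (h ▸ hIJ))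
  haveI : IsArtinianRing (B ⧸ I) := H4_finite_local_artinian_quotient R B
  have hnil : IsNilpotent (Ideal.jacobson (⊥ : Ideal (B ⧸ I))) :=
    IsArtinianRing.isNilpotent_jacobson_bot
  obtain ⟨k, hk⟩ := hnil
  have hmap : (maximalIdeal B).map (Ideal.Quotient.mk I) = Ideal.jacobson ⊥ := by
    have h3 := Ideal.map_jacobson_of_surjective (f := Ideal.Quotient.mk I)
      Ideal.Quotient.mk_surjective (I := I) (by rw [Ideal.mk_ker])
    rw [IsLocalRing.jacobson_eq_maximalIdeal _ hItop] at h3
    rw [h3, Ideal.map_quotient_self]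
  have hJk : (maximalIdeal B) ^ k ≤ I := by
    have h4 : ((maximalIdeal B) ^ k).map (Ideal.Quotient.mk I) = ⊥ := by
      rw [Ideal.map_pow, hmap]; exact hk
    rw [← Ideal.mk_ker (I := I)]
    intro x hx
    rw [RingHom.mem_ker]
    have : Ideal.Quotient.mk I x ∈ ((maximalIdeal B) ^ k).map (Ideal.Quotient.mk I) :=
      Ideal.mem_map_of_mem _ hx
    rwa [h4] at this
  haveI : IsPrecomplete (maximalIdeal B) B := H4_isPrecomplete_of_pow_le I _ hIJ k hJk
  exact { }


theorem H4_finite_algebra_over_complete_local (R : Type u) [CommRing R]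
    [IsLocalRing R] [IsNoetherianRing R] [IsAdicComplete (IsLocalRing.maximalIdeal R) R]
    (S : Type u) [CommRing S] [Algebra R S] [Module.Finite R S] :
    Finite (MaximalSpectrum S) ∧
      Function.Bijective
        (algebraMap S ((m : MaximalSpectrum S) → Localization.AtPrime m.asIdeal)) ∧
      ∀ m : MaximalSpectrum S, IsNoetherianRing (Localization.AtPrime m.asIdeal) ∧
        IsAdicComplete (IsLocalRing.maximalIdeal (Localization.AtPrime m.asIdeal))
          (Localization.AtPrime m.asIdeal) := by
  classical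
  haveI : HenselianLocalRing R := H4_henselianLocalRing_of_isAdicComplete R
  obtain ⟨ι, hι, A, hA, hAlg, hloc, ⟨Φ'⟩⟩ := H4_finite_henselian_pi_alg R S
  haveI : IsNoetherianRing S := IsNoetherianRing.of_finite R S
  set Φ : S ≃+* (Π i, A i) := Φ'.toRingEquiv with hΦ
  have hex : ∀ m : MaximalSpectrum S, ∃ i, m.asIdeal = H4_piMax A Φ i := fun m =>
    haveI := m.isMaximal
    H4_exists_eq_piMax A Φ m.asIdeal
  choose idx hidx using hex
  have hinj : Function.Injective idx := by
    intro m m' h
    apply MaximalSpectrum.ext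
    rw [hidx m, hidx m', h]
  have hfin : Finite (MaximalSpectrum S) := Finite.of_injective idx hinj
  -- finiteness of each factor over R
  have hAfin : ∀ i, Module.Finite R (A i) := by
    intro i
    let pr : S →ₗ[R] A i := (LinearMap.proj i).comp Φ'.toLinearMap
    refine Module.Finite.of_surjective pr ?_
    intro a
    obtain ⟨s, hs⟩ := H4_piProj_surjective A Φ i a
    exact ⟨s, hs⟩
  have hAcomp : ∀ i, IsAdicComplete (maximalIdeal (A i)) (A i) := fun i =>
    haveI := hAfin i
    H4_isAdicComplete_of_finite_local R (A i)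
  -- idempotents
  let e : ι → S := fun i => Φ.symm (Pi.single i 1)
  have he_mul : ∀ i j, i ≠ j → e i * e j = 0 := by
    intro i j hij
    apply Φ.injective
    simp only [e, map_mul, RingEquiv.apply_symm_apply, map_zero]
    funext l
    by_cases hl : l = i
    · subst hl; simp [Pi.single_eq_of_ne hij]
    · simp [hl]
  have he_idem : ∀ i, e i * e i = e i := by
    intro i
    apply Φ.injective
    simp only [e, map_mul, RingEquiv.apply_symm_apply]
    funext l
    by_cases hl : l = i
    · subst hl; simp
    · simp [hl]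
  have he_notin : ∀ m : MaximalSpectrum S, e (idx m) ∉ m.asIdeal := by
    intro m h
    rw [hidx m] at h
    have h1 : Φ (Φ.symm (Pi.single (idx m) (1 : A (idx m)))) (idx m) ∈ maximalIdeal (A (idx m)) := h
    rw [RingEquiv.apply_symm_apply, Pi.single_eq_same] at h1
    exact (IsLocalRing.mem_maximalIdeal _).mp h1 isUnit_one
  -- images of idempotents in the localizations
  have he_one : ∀ m : MaximalSpectrum S,
      algebraMap S (Localization.AtPrime m.asIdeal) (e (idx m)) = 1 := by
    intro m
    have hu : IsUnit (algebraMap S (Localization.AtPrime m.asIdeal) (e (idx m))) :=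
      IsLocalization.map_units (M := m.asIdeal.primeCompl) _ ⟨e (idx m), he_notin m⟩
    have h2 : algebraMap S (Localization.AtPrime m.asIdeal) (e (idx m)) *
        algebraMap S (Localization.AtPrime m.asIdeal) (e (idx m)) =
        algebraMap S (Localization.AtPrime m.asIdeal) (e (idx m)) * 1 := by
      rw [← map_mul, he_idem, mul_one]
    exact hu.mul_left_cancel h2
  have he_zero : ∀ m m' : MaximalSpectrum S, m ≠ m' →
      algebraMap S (Localization.AtPrime m'.asIdeal) (e (idx m)) = 0 := by
    intro m m' hmm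
    have hne : idx m ≠ idx m' := fun h => hmm (hinj h)
    have h2 : algebraMap S (Localization.AtPrime m'.asIdeal) (e (idx m)) *
        algebraMap S (Localization.AtPrime m'.asIdeal) (e (idx m')) = 0 := by
      rw [← map_mul, he_mul _ _ hne, map_zero]
    rwa [he_one m', mul_one] at h2
  -- surjectivity of `S → S_m`
  have hsurj : ∀ m : MaximalSpectrum S,
      Function.Surjective (algebraMap S (Localization.AtPrime m.asIdeal)) := by
    intro m x
    letI := (H4_piProj A Φ (idx m)).toAlgebra
    obtain ⟨ψ⟩ := H4_locEquiv A Φ m.asIdeal (idx m) (hidx m)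
    obtain ⟨s, hs⟩ := H4_piProj_surjective A Φ (idx m) (ψ x)
    refine ⟨s, ψ.injective ?_⟩
    rw [ψ.commutes]
    exact hs
  refine ⟨hfin, ⟨?_, ?_⟩, ?_⟩
  · exact MaximalSpectrum.toPiLocalization_injective S
  · intro f
    haveI : Fintype (MaximalSpectrum S) := Fintype.ofFinite _
    choose σ hσ using fun m => hsurj m (f m)
    refine ⟨∑ m, σ m * e (idx m), ?_⟩
    funext m₀
    show algebraMap S (Localization.AtPrime m₀.asIdeal) (∑ m, σ m * e (idx m)) = f m₀
    rw [map_sum, Finset.sum_eq_single m₀]
    · rw [map_mul, he_one, mul_one, hσ]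
    · intro m _ hm
      rw [map_mul, he_zero m m₀ hm, mul_zero]
    · intro h; exact absurd (Finset.mem_univ _) h
  · intro m
    haveI := m.isMaximal
    refine ⟨IsLocalization.isNoetherianRing m.asIdeal.primeCompl _ inferInstance, ?_⟩
    letI := (H4_piProj A Φ (idx m)).toAlgebra
    obtain ⟨ψ⟩ := H4_locEquiv A Φ m.asIdeal (idx m) (hidx m)
    have h1 := (IsAdicComplete.congr_ringEquiv
      (maximalIdeal (Localization.AtPrime m.asIdeal)) ψ.toRingEquiv)
    rw [← h1]
    have h2 : (maximalIdeal (Localization.AtPrime m.asIdeal)).map ψ.toRingEquiv =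
        maximalIdeal (A (idx m)) := IsLocalRing.map_ringEquiv_maximalIdeal ψ.toRingEquiv
    rw [h2]
    exact hAcomp (idx m)

end Groth.Agent.H4
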