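import Mathlib

set_option autoImplicit false
universe u

open Topology

namespace H4

variable {X : Type u} [TopologicalSpace X]

/-- Normal form induction for constructible sets: finite unions of differences of
retrocompact opens. -/
theorem H4_constr_induction {P : Set X → Prop}
    (sdiff : ∀ U V : Set X, IsOpen U → IsRetrocompact U → IsOpen V → IsRetrocompact V → P (U \ V))
    (union : ∀ s t : Set X, P s → P t → P (s ∪ t)) {s : Set X} (hs : IsConstructible s) : P s := by
  induction s, hs using BooleanSubalgebra.closure_sdiff_sup_induction with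
  | isSublattice =>
    exact ⟨fun s hs t ht ↦ ⟨hs.1.union ht.1, hs.2.union ht.2⟩,
      fun s hs t ht ↦ ⟨hs.1.inter ht.1, hs.2.inter_isOpen ht.2 ht.1⟩⟩
  | bot_mem => exact ⟨isOpen_empty, .empty⟩
  | top_mem => exact ⟨isOpen_univ, .univ⟩
  | sdiff U hU V hV => exact sdiff U V hU.1 hU.2 hV.1 hV.2
  | sup s _ t _ hs' ht' => exact union _ _ hs' ht'

/-- Constructible sets are retrocompact. -/
theorem H4_isRetrocompact_of_isConstructible {s : Set X} (hs : IsConstructible s) :
    IsRetrocompact s := by
  refine H4_constr_induction (P := fun s => IsRetrocompact s) ?_ ?_ hs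
  · intro U V hUo hUr hVo hVr W hWc hWo
    have : (U \ V) ∩ W = (U ∩ W) \ V := by
      ext x; simp only [Set.mem_inter_iff, Set.mem_sdiff]; tauto
    rw [this]
    exact (hUr hWc hWo).diff hVo
  · intro s t hs ht
    exact hs.union ht

/-- Compact opens of a subspace of a prespectral space come from compact opens of the space. -/
theorem H4_compact_open_subtype [PrespectralSpace X] (T : Set X) (V : Set T)
    (hVo : IsOpen V) (hVc : IsCompact V) :
    ∃ W : Set X, IsOpen W ∧ IsCompact W ∧ Subtype.val ⁻¹' W = V := by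
  let ι := {U : Set X // IsOpen U ∧ IsCompact U}
  let b : ι → Set T := fun U => Subtype.val ⁻¹' U.1
  have hbasis : TopologicalSpace.IsTopologicalBasis (Set.range b) := by
    have := (PrespectralSpace.isTopologicalBasis (X := X)).isInducing
      (Topology.IsInducing.subtypeVal (t := T))
    convert this using 1
    ext s
    constructor
    · rintro ⟨U, rfl⟩
      exact ⟨U.1, U.2, rfl⟩
    · rintro ⟨U, hU, rfl⟩
      exact ⟨⟨U, hU⟩, rfl⟩
  obtain ⟨s, hs, rfl⟩ := eq_finite_iUnion_of_isTopologicalBasis_of_isCompact_open b hbasis V hVc hVo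
  refine ⟨⋃ i ∈ s, i.1, isOpen_biUnion fun i _ => i.2.1, hs.isCompact_biUnion fun i _ => i.2.2, ?_⟩
  simp only [Set.preimage_iUnion, b]

/-- Key step: an open subset of `E` cut out by `W`, compact on compact opens, is constructible. -/
theorem H4_isConstructible_inter_of_compact {E₁ : Set X} (hE₁ : IsConstructible E₁) :
    ∀ (W E : Set X), IsOpen W → E₁ ⊆ E →
      (∀ K : Set X, IsCompact K → IsOpen K → IsCompact (E ∩ W ∩ K)) →
      IsConstructible (E₁ ∩ W) := by
  refine H4_constr_induction (P := fun E₁ => ∀ (W E : Set X), IsOpen W → E₁ ⊆ E →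
      (∀ K : Set X, IsCompact K → IsOpen K → IsCompact (E ∩ W ∩ K)) →
      IsConstructible (E₁ ∩ W)) ?_ ?_ hE₁
  · intro U V hUo hUr hVo hVr W E hWo hsub hK
    have hA : IsOpen ((U ∩ W) ∪ (U ∩ V)) := (hUo.inter hWo).union (hUo.inter hVo)
    have hAr : IsRetrocompact ((U ∩ W) ∪ (U ∩ V)) := by
      intro K hKc hKo
      have h1 : IsCompact ((E ∩ W ∩ (U ∩ K)) \ V) :=
        (hK (U ∩ K) (hUr hKc hKo) (hUo.inter hKo)).diff hVo
      have h2 : IsCompact (V ∩ (U ∩ K)) := hVr (hUr hKc hKo) (hUo.inter hKo)
      have : ((U ∩ W) ∪ (U ∩ V)) ∩ K = ((E ∩ W ∩ (U ∩ K)) \ V) ∪ (V ∩ (U ∩ K)) := by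
        ext x
        simp only [Set.mem_inter_iff, Set.mem_union, Set.mem_sdiff]
        constructor
        · rintro ⟨(⟨hU, hW⟩ | ⟨hU, hV⟩), hxK⟩
          · by_cases hV : x ∈ V
            · exact Or.inr ⟨hV, hU, hxK⟩
            · exact Or.inl ⟨⟨⟨hsub ⟨hU, hV⟩, hW⟩, hU, hxK⟩, hV⟩
          · exact Or.inr ⟨hV, hU, hxK⟩
        · rintro (⟨⟨⟨_, hW⟩, hU, hxK⟩, _⟩ | ⟨hV, hU, hxK⟩)
          · exact ⟨Or.inl ⟨hU, hW⟩, hxK⟩
          · exact ⟨Or.inr ⟨hU, hV⟩, hxK⟩
      rw [this]
      exact h1.union h2
    have : (U \ V) ∩ W = ((U ∩ W) ∪ (U ∩ V)) \ V := by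
      ext x
      simp only [Set.mem_inter_iff, Set.mem_union, Set.mem_sdiff]
      tauto
    rw [this]
    exact (hAr.isConstructible hA).sdiff (hVr.isConstructible hVo)
  · intro s t hs ht W E hWo hsub hK
    rw [Set.union_inter_distrib_right]
    exact (hs W E hWo (Set.subset_union_left.trans hsub) hK).union
      (ht W E hWo (Set.subset_union_right.trans hsub) hK)

/-- A constructible subset of a constructible subspace is constructible. -/
theorem H4_isConstructible_image_subtype {E : Set X} (hE : IsConstructible E) {F : Set E}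
    (hF : IsConstructible F) : IsConstructible (Subtype.val '' F) := by
  have hEr : IsRetrocompact E := H4_isRetrocompact_of_isConstructible hE
  have hEs : IsSpectralMap (Subtype.val : E → X) :=
    IsRetrocompact_iff_isSpectralMap_subtypeVal.1 hEr
  induction hF using IsConstructible.empty_union_induction with
  | open_retrocompact U hUo hUr =>
    obtain ⟨W, hWo, rfl⟩ := isOpen_induced_iff.1 hUo
    rw [Subtype.image_preimage_coe]
    refine H4_isConstructible_inter_of_compact hE W E hWo subset_rfl ?_
    intro K hKc hKo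
    have h1 : IsCompact ((Subtype.val : E → X) ⁻¹' K) := hEs.isCompact_preimage_of_isOpen hKo hKc
    have h2 := hUr h1 (hKo.preimage continuous_subtype_val)
    have h3 := h2.image continuous_subtype_val
    rw [← Set.preimage_inter, Subtype.image_preimage_coe] at h3
    convert h3 using 1
    ext x; simp only [Set.mem_inter_iff]; tauto
  | union s hs t ht hs' ht' => rw [Set.image_union]; exact hs'.union ht'
  | compl s hs hs' =>
    rw [← Set.range_sdiff_image Subtype.val_injective, Subtype.range_coe]
    exact hE.sdiff hs'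

end H4
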