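import Mathlib
set_option autoImplicit false
universe u
open CategoryTheory AlgebraicGeometry TopologicalSpace

namespace Groth.Agent.H4

/-- In an irreducible Noetherian quasi-sober T0 space of dimension ≤ 1, a proper closed subset is
a finite set of closed points. -/
theorem H4_finite_closedPoints_of_isClosed_ne_univ {X : Type u} [TopologicalSpace X]
    [NoetherianSpace X] [QuasiSober X] [T0Space X] [IrreducibleSpace X]
    (hX : topologicalKrullDim X ≤ 1) (Z : Set X) (hZ : IsClosed Z) (hne : Z ≠ Set.univ) :
    Z.Finite ∧ ∀ x ∈ Z, IsClosed ({x} : Set X) := by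
  have hdim := (Order.krullDim_le_one_iff (α := IrreducibleCloseds X)).mp hX
  have key : ∀ t : Set X, IsClosed t → IsIrreducible t → t ≠ Set.univ →
      ∃ z, t = {z} := by
    intro t htc hti htne
    let T : IrreducibleCloseds X := ⟨t, hti, htc⟩
    let top : IrreducibleCloseds X :=
      ⟨Set.univ, IrreducibleSpace.isIrreducible_univ X, isClosed_univ⟩
    have hlt : T < top := by
      refine lt_of_le_of_ne (fun x _ => Set.mem_univ x) ?_
      intro h
      exact htne (congrArg (fun s : IrreducibleCloseds X => (s : Set X)) h)
    have hmin : IsMin T := (hdim T).resolve_right (fun hmax => hlt.not_ge (hmax hlt.le))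
    refine ⟨hti.genericPoint, ?_⟩
    have hgen : closure ({hti.genericPoint} : Set X) = t := hti.closure_genericPoint htc
    ext w
    constructor
    · intro hw
      let c : IrreducibleCloseds X :=
        ⟨closure {w}, isIrreducible_singleton.closure, isClosed_closure⟩
      have hcT : c ≤ T := fun x hx =>
        (htc.closure_subset_iff.mpr (Set.singleton_subset_iff.mpr hw)) hx
      have hTc : T ≤ c := hmin hcT
      have heq : closure ({w} : Set X) = t := Set.Subset.antisymm hcT hTc
      have h1 : IsGenericPoint w t := heq
      have h2 : IsGenericPoint hti.genericPoint t := hgen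
      exact Set.mem_singleton_iff.mpr (h1.eq h2)
    · intro hw
      rw [Set.mem_singleton_iff.mp hw]
      exact hgen.subset (subset_closure rfl)
  obtain ⟨S, hSf, hSc, hSi, hSU⟩ := NoetherianSpace.exists_finite_set_isClosed_irreducible hZ
  have hS1 : ∀ t ∈ S, ∃ z, t = {z} := fun t ht => key t (hSc t ht) (hSi t ht) (by
    intro h
    apply hne
    rw [hSU]
    exact Set.eq_univ_of_univ_subset (h ▸ Set.subset_sUnion_of_mem ht))
  constructor
  · rw [hSU]
    refine hSf.sUnion fun t ht => ?_
    obtain ⟨z, rfl⟩ := hS1 t ht
    exact Set.finite_singleton z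
  · intro x hx
    rw [hSU] at hx
    obtain ⟨t, ht, hxt⟩ := hx
    obtain ⟨z, rfl⟩ := hS1 t ht
    rw [Set.mem_singleton_iff.mp hxt]
    exact hSc _ ht

theorem H4_finite_or_cofinite_of_isConstructible {X : Scheme.{u}} [IsNoetherian X]
    [IrreducibleSpace X] (hX : topologicalKrullDim X = 1) (s : Set X)
    (hs : Topology.IsConstructible s) :
    (s.Finite ∧ (∀ x ∈ s, IsClosed ({x} : Set X))) ∨
      (sᶜ.Finite ∧ ∀ x ∈ sᶜ, IsClosed ({x} : Set X)) := by
  have key := H4_finite_closedPoints_of_isClosed_ne_univ (X := X) hX.le
  induction hs using Topology.IsConstructible.empty_union_induction with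
  | open_retrocompact U hUo hUc =>
    by_cases hU : U = ∅
    · left; subst hU; simp
    · right
      exact key Uᶜ hUo.isClosed_compl (by
        intro h
        apply hU
        rw [← compl_compl U, h, Set.compl_univ])
  | union s hs t ht ihs iht =>
    rcases ihs with ⟨h1, h2⟩ | ⟨h1, h2⟩
    · rcases iht with ⟨h3, h4⟩ | ⟨h3, h4⟩
      · left
        exact ⟨h1.union h3, fun x hx => hx.elim (h2 x) (h4 x)⟩
      · right
        exact ⟨h3.subset (by intro x hx; exact fun h => hx (Or.inr h)),
          fun x hx => h4 x (fun h => hx (Or.inr h))⟩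
    · right
      exact ⟨h1.subset (by intro x hx; exact fun h => hx (Or.inl h)),
        fun x hx => h2 x (fun h => hx (Or.inl h))⟩
  | compl s hs ih =>
    rcases ih with h | h
    · right; rwa [compl_compl]
    · left; exact h

end Groth.Agent.H4
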