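import Mathlib

set_option autoImplicit false
universe u

namespace Groth.Agent.H4

open scoped nonZeroDivisors

/-- A finite torsion-free module over a domain embeds into a finite free module. -/
theorem H4_exists_injective_of_torsionFree_rank (R : Type u) [CommRing R] [IsDomain R] (M : Type u)
    [AddCommGroup M] [Module R M] [Module.Finite R M] [Module.IsTorsionFree R M] :
    ∃ (f : M →ₗ[R] (Fin (Module.finrank (FractionRing R) (LocalizedModule R⁰ M)) → R)),
      Function.Injective f := by
  classical
  let K := FractionRing R
  let MK := LocalizedModule R⁰ M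
  let mk : M →ₗ[R] MK := LocalizedModule.mkLinearMap R⁰ M
  haveI : Module.Finite K MK := Module.Finite.of_isLocalizedModule R⁰ mk
  let n := Module.finrank K MK
  let b : Module.Basis (Fin n) K MK := Module.finBasis K MK
  let coords : MK ≃ₗ[K] (Fin n → K) := b.equivFun
  let g : M →ₗ[R] (Fin n → K) := (coords.restrictScalars R).toLinearMap ∘ₗ mk
  have hmk : Function.Injective mk := by
    rw [← LinearMap.ker_eq_bot, LinearMap.ker_eq_bot']
    intro m hm
    have hm' : m ∈ LinearMap.ker (LocalizedModule.mkLinearMap R⁰ M) := hm
    rw [LocalizedModule.mem_ker_mkLinearMap_iff] at hm'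
    obtain ⟨s, hs, hsm⟩ := hm'
    have hreg : IsRegular s := isRegular_of_ne_zero (nonZeroDivisors.ne_zero hs)
    have := Module.IsTorsionFree.isSMulRegular (M := M) hreg
    exact this (show s • m = s • (0 : M) by rw [hsm, smul_zero])
  have hg : Function.Injective g := coords.injective.comp hmk
  obtain ⟨S, hS⟩ := (Module.Finite.fg_top : (⊤ : Submodule R M).FG)
  let T : Finset K := (S ×ˢ (Finset.univ : Finset (Fin n))).image (fun p => g p.1 p.2)
  obtain ⟨d, hd⟩ := IsLocalization.exist_integer_multiples_of_finset R⁰ T
  let φ : M →ₗ[R] (Fin n → K) := (d : R) • g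
  let ι : (Fin n → R) →ₗ[R] (Fin n → K) := (Algebra.linearMap R K).compLeft (Fin n)
  have hι : Function.Injective ι := by
    intro v w hvw
    funext i
    have := congrFun hvw i
    exact IsFractionRing.injective R K this
  have hφ : ∀ m, φ m ∈ LinearMap.range ι := by
    have h1 : (⊤ : Submodule R M) ≤ (LinearMap.range ι).comap φ := by
      rw [← hS, Submodule.span_le]
      intro m hm
      have h2 : ∀ i, ∃ r : R, algebraMap R K r = (d : R) • g m i := fun i =>
        hd (g m i) (Finset.mem_image.2 ⟨(m, i), Finset.mem_product.2 ⟨hm, Finset.mem_univ i⟩, rfl⟩)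
      choose r hr using h2
      refine ⟨r, ?_⟩
      funext i
      exact hr i
    intro m
    exact h1 trivial
  have hφinj : Function.Injective φ := by
    intro m m' hmm
    apply hg
    have h3 : (d : R) • g m = (d : R) • g m' := hmm
    have hd0 : algebraMap R K (d : R) ≠ 0 := by
      intro h
      exact nonZeroDivisors.ne_zero d.2 (IsFractionRing.injective R K (by rw [h, map_zero]))
    funext i
    have h4 := congrFun h3 i
    simp only [Pi.smul_apply, Algebra.smul_def] at h4
    exact mul_left_cancel₀ hd0 h4
  refine ⟨(LinearEquiv.ofInjective ι hι).symm.toLinearMap ∘ₗ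
    (φ.codRestrict (LinearMap.range ι) hφ), ?_⟩
  refine (LinearEquiv.ofInjective ι hι).symm.injective.comp ?_
  intro m m' hmm
  apply hφinj
  exact congrArg Subtype.val hmm

theorem H4_exists_injective_of_torsionFree (R : Type u) [CommRing R] [IsDomain R] (M : Type u)
    [AddCommGroup M] [Module R M] [Module.Finite R M] [Module.IsTorsionFree R M] :
    ∃ (n : ℕ) (f : M →ₗ[R] (Fin n → R)), Function.Injective f :=
  ⟨_, H4_exists_injective_of_torsionFree_rank R M⟩

end Groth.Agent.H4
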