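import Mathlib
import Groth.Agent.Lib.helper4.TorsionFreeEmb

/-! Filtrations of coprimary modules with quotients embedded in `A/p`. -/

set_option autoImplicit false
universe u

namespace Groth.Agent.H4

section Filt

variable {A : Type u} [CommRing A] {M : Type u} [AddCommGroup M] [Module A M] (p : Ideal A)

/-- One step of the filtration: `Q ≤ P` and `P/Q` embeds in `A/p`. -/
def H4Step (P Q : Submodule A M) : Prop :=
  Q ≤ P ∧ ∃ g : (↥P ⧸ Submodule.comap P.subtype Q) →ₗ[A] (A ⧸ p), Function.Injective g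

/-- A filtration from `N2` down to `N0` with steps embedded in `A/p`. -/
def H4Filt (N0 N2 : Submodule A M) : Prop :=
  ∃ (m : ℕ) (F : Fin (m + 1) → Submodule A M), F 0 = N2 ∧ F (Fin.last m) = N0 ∧
    ∀ i : Fin m, H4Step p (F i.castSucc) (F i.succ)

theorem H4Filt_refl (N : Submodule A M) : H4Filt p N N :=
  ⟨0, fun _ => N, rfl, rfl, fun i => i.elim0⟩

theorem H4Filt_cons {N0 N' N2 : Submodule A M} (h : H4Filt p N0 N') (hle : N' ≤ N2)
    (g : ↥N2 →ₗ[A] (A ⧸ p)) (hg : ∀ x : ↥N2, g x = 0 ↔ (x : M) ∈ N') : H4Filt p N0 N2 := by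
  obtain ⟨m, F, hF0, hFl, hstep⟩ := h
  refine ⟨m + 1, Fin.cons N2 F, ?_, ?_, ?_⟩
  · simp
  · rw [show Fin.last (m + 1) = (Fin.last m).succ from rfl, Fin.cons_succ]
    exact hFl
  · intro i
    refine Fin.cases ?_ (fun j => ?_) i
    · rw [Fin.castSucc_zero, Fin.cons_zero, Fin.cons_succ, hF0]
      refine ⟨hle, ?_⟩
      have hker : Submodule.comap N2.subtype N' ≤ LinearMap.ker g := by
        intro x hx
        rw [LinearMap.mem_ker, hg]
        exact hx
      refine ⟨Submodule.liftQ _ g hker, ?_⟩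
      rw [← LinearMap.ker_eq_bot, Submodule.ker_liftQ, eq_bot_iff]
      rintro _ ⟨x, hx, rfl⟩
      rw [Submodule.mem_bot, Submodule.mkQ_apply, Submodule.Quotient.mk_eq_zero]
      exact (hg x).1 hx
    · rw [← Fin.succ_castSucc, Fin.cons_succ, Fin.cons_succ]
      exact hstep j

theorem H4Filt_of_map (r : ℕ) : ∀ (N0 N1 N2 : Submodule A M), H4Filt p N0 N1 → N1 ≤ N2 →
    ∀ φ : ↥N2 →ₗ[A] (Fin r → A ⧸ p), (∀ x : ↥N2, φ x = 0 ↔ (x : M) ∈ N1) → H4Filt p N0 N2 := by
  induction r with
  | zero =>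
    intro N0 N1 N2 h hle φ hφ
    have : N1 = N2 := by
      apply le_antisymm hle
      intro x hx
      exact (hφ ⟨x, hx⟩).1 (Subsingleton.elim _ _)
    rw [← this]; exact h
  | succ r ih =>
    intro N0 N1 N2 h hle φ hφ
    let g : ↥N2 →ₗ[A] (A ⧸ p) := (LinearMap.proj 0) ∘ₗ φ
    let N' : Submodule A M := Submodule.map N2.subtype (LinearMap.ker g)
    have hN'mem : ∀ x : ↥N2, (x : M) ∈ N' ↔ g x = 0 := by
      intro x
      constructor
      · rintro ⟨y, hy, hyx⟩
        have : y = x := Subtype.ext hyx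
        rw [← this]; exact hy
      · intro hx
        exact ⟨x, hx, rfl⟩
    have hN'le : N' ≤ N2 := by
      rintro _ ⟨y, _, rfl⟩
      exact y.2
    have hN1N' : N1 ≤ N' := by
      intro x hx
      have hx2 : x ∈ N2 := hle hx
      rw [hN'mem ⟨x, hx2⟩]
      have := (hφ ⟨x, hx2⟩).2 hx
      change (φ ⟨x, hx2⟩) 0 = 0
      rw [this]; rfl
    let tail : (Fin (r + 1) → A ⧸ p) →ₗ[A] (Fin r → A ⧸ p) :=
      LinearMap.pi (fun j => LinearMap.proj j.succ)
    let φ' : ↥N' →ₗ[A] (Fin r → A ⧸ p) := tail ∘ₗ φ ∘ₗ Submodule.inclusion hN'le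
    have hφ' : ∀ x : ↥N', φ' x = 0 ↔ (x : M) ∈ N1 := by
      intro x
      have hx2 : (x : M) ∈ N2 := hN'le x.2
      have hg0 : g ⟨x, hx2⟩ = 0 := (hN'mem ⟨x, hx2⟩).1 x.2
      rw [← hφ ⟨x, hx2⟩]
      constructor
      · intro h0
        funext j
        refine Fin.cases ?_ (fun k => ?_) j
        · exact hg0
        · exact congrFun h0 k
      · intro h0
        funext k
        change (φ ⟨x, hx2⟩) k.succ = 0
        rw [h0]; rfl
    have h1 : H4Filt p N0 N' := ih N0 N1 N' h hN1N' φ' hφ'
    exact H4Filt_cons p h1 hN'le g (fun x => (hN'mem x).symm)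

end Filt


section Main

variable (A : Type u) [CommRing A] [IsNoetherianRing A] (M : Type u) [AddCommGroup M] [Module A M]
  [Module.Finite A M] (p : Ideal A)

theorem H4_regular_of_not_mem (hp : associatedPrimes A M = {p}) (s : A) (hs : s ∉ p) (x : M)
    (hx : s • x = 0) : x = 0 := by
  by_contra hne
  have : s ∈ {r : A | ∃ x : M, x ≠ 0 ∧ r • x = 0} := ⟨x, hne, hx⟩
  rw [← biUnion_associatedPrimes_eq_zero_divisors, hp] at this
  simp only [Set.mem_singleton_iff, Set.iUnion_iUnion_eq_left, SetLike.mem_coe] at this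
  exact hs this

theorem H4_pow_le_annihilator (hp : associatedPrimes A M = {p}) :
    ∃ n : ℕ, p ^ n ≤ Module.annihilator A M := by
  have hmin : (Module.annihilator A M).minimalPrimes ⊆ {p} := by
    rw [← hp]
    exact Module.associatedPrimes.minimalPrimes_annihilator_subset_associatedPrimes A M
  have hne : Module.annihilator A M ≠ ⊤ := by
    intro h
    haveI : Subsingleton M := by
      rw [← Module.annihilator_eq_top_iff (R := A)]
      exact h
    have := associatedPrimes.eq_empty_of_subsingleton (R := A) (M := M)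
    rw [hp] at this
    exact Set.singleton_ne_empty p this
  obtain ⟨q, hq⟩ := Ideal.nonempty_minimalPrimes hne
  have hqp : q = p := hmin hq
  have hmineq : (Module.annihilator A M).minimalPrimes = {p} := by
    apply Set.Subset.antisymm hmin
    rintro _ rfl
    rw [← hqp]; exact hq
  have hrad : (Module.annihilator A M).radical = p := by
    rw [← Ideal.sInf_minimalPrimes, hmineq, sInf_singleton]
  obtain ⟨n, hn⟩ := Ideal.exists_radical_pow_le_of_fg (Module.annihilator A M)
    (IsNoetherian.noetherian _)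
  rw [hrad] at hn
  exact ⟨n, hn⟩

/-- The `i`-th layer: elements killed by `p^i`. -/
def H4T (i : ℕ) : Submodule A M := Submodule.torsionBySet A M ((p ^ i : Ideal A) : Set A)

theorem H4T_mem (i : ℕ) (x : M) : x ∈ H4T A M p i ↔ ∀ a ∈ p ^ i, a • x = 0 := by
  unfold H4T
  rw [Submodule.mem_torsionBySet_iff]
  constructor
  · intro h a ha
    exact h ⟨a, ha⟩
  · intro h a
    exact h a a.2

theorem H4T_key [hpp : p.IsPrime] (hp : associatedPrimes A M = {p}) (i : ℕ) :
    ∃ (r : ℕ) (φ : ↥(H4T A M p (i + 1)) →ₗ[A] (Fin r → A ⧸ p)),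
      ∀ x : ↥(H4T A M p (i + 1)), φ x = 0 ↔ (x : M) ∈ H4T A M p i := by
  classical
  let P := H4T A M p (i + 1)
  let Ti' : Submodule A ↥P := Submodule.comap P.subtype (H4T A M p i)
  let Q := ↥P ⧸ Ti'
  have hQ : Module.IsTorsionBySet A Q (p : Set A) := by
    intro x a
    obtain ⟨y, rfl⟩ := Submodule.Quotient.mk_surjective _ x
    rw [← Submodule.Quotient.mk_smul, Submodule.Quotient.mk_eq_zero]
    change ((a : A) • y : ↥P).1 ∈ H4T A M p i
    rw [H4T_mem]
    intro b hb
    have hy := (H4T_mem A M p (i + 1) y.1).1 y.2 (b * a) (by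
      rw [pow_succ]; exact Ideal.mul_mem_mul hb a.2)
    rw [Submodule.coe_smul, smul_smul]
    exact hy
  letI : Module (A ⧸ p) Q := hQ.module
  haveI : IsScalarTower A (A ⧸ p) Q := hQ.isScalarTower
  haveI : Module.Finite A ↥P := Module.Finite.of_fg (IsNoetherian.noetherian P)
  haveI : Module.Finite A Q := inferInstance
  haveI : Module.Finite (A ⧸ p) Q := Module.Finite.of_restrictScalars_finite A (A ⧸ p) Q
  haveI : Module.IsTorsionFree (A ⧸ p) Q := by
    constructor
    intro d hd
    obtain ⟨s, rfl⟩ := Ideal.Quotient.mk_surjective d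
    have hs : s ∉ p := by
      intro h
      have h0 : (Ideal.Quotient.mk p) s = 0 := Ideal.Quotient.eq_zero_iff_mem.2 h
      rw [h0] at hd
      exact not_isRegular_zero hd
    rw [isSMulRegular_iff_right_eq_zero_of_smul]
    intro x hx
    have hx' : s • x = 0 := hx
    obtain ⟨y, rfl⟩ := Submodule.Quotient.mk_surjective _ x
    rw [← Submodule.Quotient.mk_smul, Submodule.Quotient.mk_eq_zero] at hx'
    rw [Submodule.Quotient.mk_eq_zero]
    change y.1 ∈ H4T A M p i
    have hx'' : (s • y : ↥P).1 ∈ H4T A M p i := hx'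
    rw [H4T_mem] at hx'' ⊢
    intro b hb
    apply H4_regular_of_not_mem A M p hp s hs
    have := hx'' b hb
    rw [Submodule.coe_smul, smul_comm] at this
    exact this
  obtain ⟨n, f, hf⟩ := H4_exists_injective_of_torsionFree (A ⧸ p) Q
  refine ⟨n, (f.restrictScalars A) ∘ₗ Ti'.mkQ, ?_⟩
  intro x
  rw [LinearMap.comp_apply, LinearMap.restrictScalars_apply]
  rw [map_eq_zero_iff f hf, Submodule.mkQ_apply, Submodule.Quotient.mk_eq_zero]
  rfl

theorem H4_coprimary_filt (hp : associatedPrimes A M = {p}) : H4Filt p (⊥ : Submodule A M) ⊤ := by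
  have hpp : p.IsPrime := by
    have : p ∈ associatedPrimes A M := by rw [hp]; exact Set.mem_singleton p
    exact this.isPrime
  have hall : ∀ i : ℕ, H4Filt p (⊥ : Submodule A M) (H4T A M p i) := by
    intro i
    induction i with
    | zero =>
      have : H4T A M p 0 = ⊥ := by
        rw [eq_bot_iff]
        intro x hx
        rw [H4T_mem] at hx
        have := hx 1 (by rw [pow_zero, Ideal.one_eq_top]; exact (Submodule.mem_top : (1 : A) ∈ (⊤ : Ideal A)))
        rw [one_smul] at this
        rw [Submodule.mem_bot]; exact this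
      rw [this]; exact H4Filt_refl p ⊥
    | succ i ih =>
      obtain ⟨r, φ, hφ⟩ := H4T_key A M p hp i
      have hle : H4T A M p i ≤ H4T A M p (i + 1) := by
        intro x hx
        rw [H4T_mem] at hx ⊢
        intro a ha
        exact hx a (Ideal.pow_le_pow_right (Nat.le_succ i) ha)
      exact H4Filt_of_map p r ⊥ _ _ ih hle φ hφ
  obtain ⟨n, hn⟩ := H4_pow_le_annihilator A M p hp
  have htop : H4T A M p n = ⊤ := by
    rw [eq_top_iff]
    intro x _
    rw [H4T_mem]
    intro a ha
    exact Module.mem_annihilator.1 (hn ha) x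
  rw [← htop]
  exact hall n

end Main

end Groth.Agent.H4
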