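import Mathlib

set_option autoImplicit false
universe u

open Topology

namespace H4

variable {X : Type u} [TopologicalSpace X]

/-- Core cover-refinement lemma. -/
theorem H4_cover_refine (Z : Set X) (hZ : IsCompact Z)
    {ι : Type u} (U : ι → Set X) (hcov : Z ⊆ ⋃ i, U i) (p : ℕ)
    (W : (Fin (p + 1) → ι) → Set X) (hWo : ∀ t, IsOpen (W t))
    (hWZ : ∀ t, W t ∩ Z = (⋂ l, U (t l)) ∩ Z)
    (R : ι → Set X → Prop)
    (hloc : ∀ z ∈ Z, ∀ i, z ∈ U i → ∃ N, IsOpen N ∧ z ∈ N ∧ R i N)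
    (hempty : ∀ i, R i ∅)
    (hunion : ∀ i N N', R i N → R i N' → R i (N ∪ N'))
    (hmono : ∀ i N N', R i N → N' ⊆ N → R i N')
    (hcl : ∀ i N, R i N → closure N ∩ Z ⊆ U i) :
    ∃ V : ι → Set X, (∀ i, IsOpen (V i)) ∧ (Z ⊆ ⋃ i, V i) ∧ (∀ i, R i (V i)) ∧
      (∀ t : Fin (p + 1) → ι, (⋂ l, V (t l)) ⊆ W t) := by
  classical
  -- choose index and neighbourhood for each point of Z
  have h1 : ∀ z : Z, ∃ i, (z : X) ∈ U i := fun z => Set.mem_iUnion.1 (hcov z.2)
  choose idx hidx using h1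
  have h2 : ∀ z : Z, ∃ N, IsOpen N ∧ (z : X) ∈ N ∧ R (idx z) N :=
    fun z => hloc z z.2 (idx z) (hidx z)
  choose N hNo hzN hRN using h2
  obtain ⟨T, hT⟩ := hZ.elim_finite_subcover (fun z : Z => N z) hNo (by
    intro z hz
    exact Set.mem_iUnion.2 ⟨⟨z, hz⟩, hzN ⟨z, hz⟩⟩)
  let V1 : ι → Set X := fun i => ⋃ z ∈ T.filter (fun z => idx z = i), N z
  have hV1o : ∀ i, IsOpen (V1 i) := fun i => isOpen_biUnion (fun z _ => hNo z)
  have hV1R : ∀ i, R i (V1 i) := by
    intro i
    have : ∀ T' : Finset Z, (∀ z ∈ T', idx z = i) → R i (⋃ z ∈ T', N z) := by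
      intro T'
      induction T' using Finset.induction_on with
      | empty => intro _; simpa using hempty i
      | insert a T' ha ih =>
        intro h
        rw [Finset.set_biUnion_insert]
        refine hunion i _ _ ?_ (ih (fun z hz => h z (Finset.mem_insert_of_mem hz)))
        have := h a (Finset.mem_insert_self a T')
        rw [← this]
        exact hRN a
    exact this _ (fun z hz => (Finset.mem_filter.1 hz).2)
  let I0 : Finset ι := T.image idx
  have hV1empty : ∀ i, i ∉ I0 → V1 i = ∅ := by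
    intro i hi
    simp only [V1]
    have : T.filter (fun z => idx z = i) = ∅ := by
      rw [Finset.filter_eq_empty_iff]
      intro z hz hzi
      exact hi (Finset.mem_image.2 ⟨z, hz, hzi⟩)
    rw [this]
    simp
  let tuples : Finset (Fin (p + 1) → ι) := Fintype.piFinset (fun _ => I0)
  let K : Set X := ⋃ t ∈ tuples, (⋂ l, closure (V1 (t l))) ∩ (W t)ᶜ
  have hKcl : IsClosed K := by
    refine isClosed_biUnion_finset (fun t _ => ?_)
    exact (isClosed_iInter (fun l => isClosed_closure)).inter (hWo t).isClosed_compl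
  have hKZ : ∀ x ∈ K, x ∉ Z := by
    intro x hxK hxZ
    simp only [K, Set.mem_iUnion] at hxK
    obtain ⟨t, _, hxcl, hxW⟩ := hxK
    have hxU : x ∈ (⋂ l, U (t l)) ∩ Z := by
      refine ⟨Set.mem_iInter.2 (fun l => ?_), hxZ⟩
      exact hcl (t l) (V1 (t l)) (hV1R (t l)) ⟨Set.mem_iInter.1 hxcl l, hxZ⟩
    rw [← hWZ t] at hxU
    exact hxW hxU.1
  refine ⟨fun i => V1 i \ K, fun i => (hV1o i).sdiff hKcl, ?_, ?_, ?_⟩
  · intro z hz
    have := hT hz
    simp only [Set.mem_iUnion] at this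
    obtain ⟨z', hz'T, hzN'⟩ := this
    refine Set.mem_iUnion.2 ⟨idx z', ?_, fun hK => hKZ z hK hz⟩
    simp only [V1, Set.mem_iUnion]
    exact ⟨z', Finset.mem_filter.2 ⟨hz'T, rfl⟩, hzN'⟩
  · intro i
    exact hmono i _ _ (hV1R i) Set.sdiff_subset
  · intro t x hx
    rw [Set.mem_iInter] at hx
    by_cases ht : ∀ l, t l ∈ I0
    · have htt : t ∈ tuples := Fintype.mem_piFinset.2 ht
      by_contra hxW
      have hxK : x ∈ K := by
        simp only [K, Set.mem_iUnion]
        refine ⟨t, htt, Set.mem_iInter.2 (fun l => subset_closure (hx l).1), hxW⟩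
      exact (hx 0).2 hxK
    · push Not at ht
      obtain ⟨l, hl⟩ := ht
      have := (hx l).1
      rw [hV1empty _ hl] at this
      exact absurd this (Set.notMem_empty x)

end H4
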