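import Mathlib
set_option autoImplicit false
universe u
open CategoryTheory AlgebraicGeometry

namespace Groth.Agent.H4

theorem H4_finite_of_isClosed_of_ne_univ (A : Type u) [CommRing A] [IsDedekindDomain A]
    (Z : Set (PrimeSpectrum A)) (hZ : IsClosed Z) (hne : Z ≠ Set.univ) :
    Z.Finite ∧ ∀ p ∈ Z, p.asIdeal.IsMaximal ∧ p.asIdeal ≠ ⊥ := by
  obtain ⟨I, rfl⟩ := (PrimeSpectrum.isClosed_iff_zeroLocus_ideal _).mp hZ
  have hI : I ≠ ⊥ := by
    rintro rfl
    exact hne (by simp)
  have hne0 : ∀ q : Ideal A, I ≤ q → q ≠ ⊥ := fun q hq h0 => hI (le_bot_iff.mp (h0 ▸ hq))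
  have hmax : ∀ p ∈ PrimeSpectrum.zeroLocus (I : Set A),
      p.asIdeal.IsMaximal ∧ p.asIdeal ≠ ⊥ := fun p hp =>
    ⟨p.2.isMaximal (hne0 _ ((PrimeSpectrum.mem_zeroLocus _ _).mp hp)),
      hne0 _ ((PrimeSpectrum.mem_zeroLocus _ _).mp hp)⟩
  refine ⟨?_, hmax⟩
  have hsub : PrimeSpectrum.zeroLocus (I : Set A) ⊆
      PrimeSpectrum.asIdeal ⁻¹' I.minimalPrimes := by
    intro p hp
    have hIp : I ≤ p.asIdeal := (PrimeSpectrum.mem_zeroLocus _ _).mp hp
    refine ⟨⟨p.2, hIp⟩, fun q hq hqp => ?_⟩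
    have hqm : q.IsMaximal := hq.1.isMaximal (hne0 _ hq.2)
    exact (hqm.eq_of_le p.2.ne_top hqp).ge
  exact ((Ideal.finite_minimalPrimes_of_isNoetherianRing A I).preimage
    (fun p _ q _ h => PrimeSpectrum.ext h)).subset hsub

theorem H4_isAffineOpen_of_isDedekindDomain (A : Type u) [CommRing A] [IsDedekindDomain A]
    (U : (Spec (CommRingCat.of A)).Opens) : IsAffineOpen U := by
  by_cases hU : U = ⊥
  · subst hU; exact isAffineOpen_bot _
  have hZne : (U.carrier : Set (PrimeSpectrum A))ᶜ ≠ Set.univ := by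
    intro h
    apply hU
    ext x
    simp only [TopologicalSpace.Opens.coe_bot, Set.mem_empty_iff_false, iff_false]
    intro hx
    have : x ∈ (U.carrier : Set (PrimeSpectrum A))ᶜ := h ▸ Set.mem_univ x
    exact this hx
  obtain ⟨hZfin, hZmax⟩ := H4_finite_of_isClosed_of_ne_univ A _ U.2.isClosed_compl hZne
  have key : ∀ D : (Spec (CommRingCat.of A)).Opens, IsAffineOpen (U ⊓ D) →
      IsAffineOpen (U.ι ⁻¹ᵁ D) := by
    intro D hD
    rw [← U.ι.isAffineOpen_iff_of_isOpenImmersion, U.ι.image_preimage_eq_opensRange_inf,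
      Scheme.Opens.opensRange_ι]
    exact hD
  have : IsAffineHom U.ι := by
    apply isAffineHom_of_forall_exists_isAffineOpen
    intro x
    by_cases hx : x ∈ U
    · obtain ⟨_, ⟨f, rfl⟩, hxf, hfU⟩ :=
        (PrimeSpectrum.isTopologicalBasis_basic_opens (R := A)).exists_subset_of_mem_open hx U.2
      have hD := IsAffineOpen.Spec_basicOpen (R := CommRingCat.of A) f
      refine ⟨PrimeSpectrum.basicOpen f, hxf, hD, key _ ?_⟩
      have : U ⊓ PrimeSpectrum.basicOpen f = PrimeSpectrum.basicOpen f := inf_eq_right.mpr hfU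
      exact this.symm ▸ hD
    · obtain ⟨hxm, hx0⟩ := hZmax x hx
      -- nonzero element of x
      obtain ⟨π, hπx, hπ0⟩ : ∃ π ∈ (x : PrimeSpectrum A).asIdeal, π ≠ 0 :=
        Submodule.exists_mem_ne_zero_of_ne_bot hx0
      -- V(π) finite set of closed points
      have hVne : PrimeSpectrum.zeroLocus ({π} : Set A) ≠ Set.univ := by
        intro h
        have h0 : (⟨⊥, Ideal.isPrime_bot⟩ : PrimeSpectrum A) ∈
            PrimeSpectrum.zeroLocus ({π} : Set A) := h ▸ Set.mem_univ _
        rw [PrimeSpectrum.mem_zeroLocus, Set.singleton_subset_iff] at h0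
        exact hπ0 (by simpa using h0)
      obtain ⟨hVfin, hVmax⟩ := H4_finite_of_isClosed_of_ne_univ A _
        (PrimeSpectrum.isClosed_zeroLocus ({π} : Set A)) hVne
      set F : Set (PrimeSpectrum A) :=
        ((U.carrier : Set (PrimeSpectrum A))ᶜ ∪ PrimeSpectrum.zeroLocus ({π} : Set A)) \ {x} with hF
      have hFfin : F.Finite := (hZfin.union hVfin).subset Set.sdiff_subset
      have hFcl : IsClosed F := by
        rw [← Set.biUnion_of_singleton F]
        refine hFfin.isClosed_biUnion fun p hp => ?_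
        rw [PrimeSpectrum.isClosed_singleton_iff_isMaximal]
        rcases hp.1 with h | h
        · exact (hZmax p h).1
        · exact (hVmax p h).1
      have hxF : x ∈ Fᶜ := fun h => h.2 rfl
      obtain ⟨_, ⟨f, rfl⟩, hxf, hfF⟩ :=
        (PrimeSpectrum.isTopologicalBasis_basic_opens (R := A)).exists_subset_of_mem_open hxF
          hFcl.isOpen_compl
      refine ⟨PrimeSpectrum.basicOpen f, hxf, IsAffineOpen.Spec_basicOpen (R := CommRingCat.of A) f, key _ ?_⟩
      have heq : U ⊓ PrimeSpectrum.basicOpen f = PrimeSpectrum.basicOpen (f * π) := by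
        ext p
        simp only [SetLike.mem_coe, PrimeSpectrum.basicOpen_mul]
        constructor
        · rintro ⟨hpU, hpf⟩
          refine ⟨hpf, fun hpπ => ?_⟩
          have hpV : (p : PrimeSpectrum A) ∈ PrimeSpectrum.zeroLocus ({π} : Set A) :=
            (PrimeSpectrum.mem_zeroLocus (p : PrimeSpectrum A) _).mpr
              (Set.singleton_subset_iff.mpr hpπ)
          have hpx : p ≠ x := fun h => hx (h ▸ hpU)
          exact hfF hpf ⟨Or.inr hpV, hpx⟩
        · rintro ⟨hpf, hpπ⟩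
          refine ⟨?_, hpf⟩
          by_contra hpU
          have hpx : p ≠ x := fun h => hpπ (h ▸ hπx)
          exact hfF hpf ⟨Or.inl hpU, hpx⟩
      exact heq.symm ▸ IsAffineOpen.Spec_basicOpen (R := CommRingCat.of A) (f * π)
  have h2 : IsAffine U := isAffine_of_isAffineHom U.ι
  exact h2

end Groth.Agent.H4
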