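import Mathlib
set_option autoImplicit false
universe u
open CategoryTheory CategoryTheory.Limits AlgebraicGeometry TopologicalSpace

namespace Groth.Agent.H4

theorem H4_exists_open_restrict_eq_of_eq_on_dense_points {Y : Scheme.{u}}
    (A : Type u) [CommRing A] [IsDomain A] (ξ η : Spec (CommRingCat.of A) ⟶ Y)
    (D : Set ↥(Spec (CommRingCat.of A))) (hD : Dense D)
    (hpt : ∀ p ∈ D, (Spec (CommRingCat.of A)).fromSpecResidueField p ≫ ξ =
      (Spec (CommRingCat.of A)).fromSpecResidueField p ≫ η) :
    ∃ U : (Spec (CommRingCat.of A)).Opens,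
      (U : Set ↥(Spec (CommRingCat.of A))).Nonempty ∧ U.ι ≫ ξ = U.ι ≫ η := by
  let e : equalizer ξ η ⟶ Spec (CommRingCat.of A) := equalizer.ι ξ η
  have hDe : D ⊆ Set.range e := by
    intro p hp
    let l := equalizer.lift ((Spec (CommRingCat.of A)).fromSpecResidueField p) (hpt p hp)
    have hl : l ≫ e = (Spec (CommRingCat.of A)).fromSpecResidueField p := equalizer.lift_ι _ _
    have hmem : p ∈ Set.range ((Spec (CommRingCat.of A)).fromSpecResidueField p) := by
      rw [Scheme.range_fromSpecResidueField]; rfl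
    obtain ⟨z, hz⟩ := hmem
    refine ⟨l z, ?_⟩
    show (l ≫ e) z = p
    exact (congrArg (fun g : Spec ((Spec (CommRingCat.of A)).residueField p) ⟶
      Spec (CommRingCat.of A) => g z) hl).trans hz
  have hDV : D ⊆ (e.coborderRange : Set _) := fun p hp => subset_coborder (hDe hp)
  have hsurj : Surjective e.liftCoborder := by
    refine ⟨fun v => ?_⟩
    have hcl : IsClosed (Set.range e.liftCoborder) :=
      e.liftCoborder.isClosedEmbedding.isClosed_range
    obtain ⟨C, hC, hCeq⟩ :=
      (e.coborderRange.ι.isOpenEmbedding.isInducing.isClosed_iff).mp hcl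
    have hDC : D ⊆ C := by
      intro p hp
      obtain ⟨z, hz⟩ := hDe hp
      have h1 : e.liftCoborder z ∈ e.coborderRange.ι ⁻¹' C := by rw [hCeq]; exact ⟨z, rfl⟩
      have h2 : e.coborderRange.ι (e.liftCoborder z) = p := by
        rw [← hz]
        exact congrArg (fun g : equalizer ξ η ⟶ Spec (CommRingCat.of A) => g z)
          e.liftCoborder_ι
      exact h2 ▸ h1
    have hCuniv : C = Set.univ :=
      Set.eq_univ_of_univ_subset (hD.closure_eq ▸ closure_minimal hDC hC)
    have hv : v ∈ e.coborderRange.ι ⁻¹' C := by rw [hCuniv]; trivial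
    rw [hCeq] at hv
    exact hv
  have hiso : IsIso e.liftCoborder := isIso_of_isClosedImmersion_of_surjective _
  refine ⟨e.coborderRange, ?_, ?_⟩
  · haveI : Nonempty ↥(Spec (CommRingCat.of A)) :=
      inferInstanceAs (Nonempty (PrimeSpectrum A))
    obtain ⟨p, hp⟩ := hD.nonempty
    exact ⟨p, hDV hp⟩
  · have h1 : e.coborderRange.ι = inv e.liftCoborder ≫ e := by
      rw [IsIso.eq_inv_comp, e.liftCoborder_ι]
    rw [h1, Category.assoc, Category.assoc]
    congr 1
    exact equalizer.condition ξ η

end Groth.Agent.H4
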