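import Mathlib

set_option autoImplicit false
universe u
open AlgebraicGeometry CategoryTheory CategoryTheory.Limits Topology TopologicalSpace

namespace Groth.Agent.H4

/-- pointwise agreement locus for maps into a separated scheme contains a closed set through which
every agreeing test map factors -/
theorem H4_exists_closed_agreement {X Y Z : Scheme.{u}} (f g : X ⟶ Y) (s : Y ⟶ Z) [IsSeparated s]
    (h : f ≫ s = g ≫ s) :
    ∃ E : Set X, IsClosed E ∧ (∀ x ∈ E, f.base x = g.base x) ∧
      ∀ (W : Scheme.{u}) (ι : W ⟶ X), ι ≫ f = ι ≫ g → Set.range ι.base ⊆ E := by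
  let X' : Over Z := Over.mk (f ≫ s)
  let Y' : Over Z := Over.mk s
  let f' : X' ⟶ Y' := Over.homMk f
  let g' : X' ⟶ Y' := Over.homMk g h.symm
  have : IsSeparated Y'.hom := ‹_›
  refine ⟨Set.range (equalizer.ι f' g').left.base,
    (Scheme.Hom.isClosedEmbedding _).isClosed_range, ?_, ?_⟩
  · rintro _ ⟨z, rfl⟩
    have hc : (equalizer.ι f' g').left ≫ f = (equalizer.ι f' g').left ≫ g :=
      congr($(equalizer.condition f' g').left)
    have := congrArg (fun m : (equalizer f' g').left ⟶ Y => m.base z) hc
    simpa using this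
  · intro W ι hι
    let U' : Over Z := Over.mk (ι ≫ f ≫ s)
    let ι' : U' ⟶ X' := Over.homMk ι
    have hι' : ι' ≫ f' = ι' ≫ g' := by ext1; exact hι
    have hfac : (equalizer.lift ι' hι').left ≫ (equalizer.ι f' g').left = ι := by
      rw [← Over.comp_left, equalizer.lift_ι]; rfl
    rintro _ ⟨w, rfl⟩
    refine ⟨(equalizer.lift ι' hι').left.base w, ?_⟩
    have := congrArg (fun m : W ⟶ X => m.base w) hfac
    simpa using this

end Groth.Agent.H4
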