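import Mathlib
import Groth.Agent.Lib.helper4.SepAgree

set_option autoImplicit false
universe u
open AlgebraicGeometry CategoryTheory CategoryTheory.Limits Topology TopologicalSpace

namespace Groth.Agent.H4

theorem H4_isOpenImmersion_of_restrict_dense_opens {X Y : Scheme.{u}} (f : X ⟶ Y) [IsSeparated f]
    {ι : Type u} (U : ι → X.Opens) (hU : ⨆ i, U i = ⊤) (hd : ∀ i, Dense (U i : Set X))
    (h : ∀ i, IsOpenImmersion ((U i).ι ≫ f)) : IsOpenImmersion f := by
  have hcov : ∀ x : X, ∃ i, x ∈ U i := by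
    intro x
    have : x ∈ (⨆ i, U i : X.Opens) := by rw [hU]; trivial
    exact Opens.mem_iSup.mp this
  have hinjU : ∀ i (x x' : X), x ∈ U i → x' ∈ U i → f.base x = f.base x' → x = x' := by
    intro i x x' hx hx' hfx
    haveI := h i
    have h1 : ((U i).ι ≫ f).base ⟨x, hx⟩ = ((U i).ι ≫ f).base ⟨x', hx'⟩ := hfx
    have := ((U i).ι ≫ f).isOpenEmbedding.injective h1
    exact congrArg Subtype.val this
  haveI : ∀ x, IsIso (f.stalkMap x) := by
    intro x
    obtain ⟨i, hx⟩ := hcov x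
    haveI := h i
    let xu : (U i).toScheme := ⟨x, hx⟩
    have hcomp := Scheme.Hom.stalkMap_comp (U i).ι f xu
    have hiso : IsIso (((U i).ι ≫ f).stalkMap xu) := inferInstance
    rw [hcomp] at hiso
    have hι : IsIso ((U i).ι.stalkMap xu) := inferInstance
    exact @IsIso.of_isIso_comp_right _ _ _ _ _ _ _ hι hiso
  have hopen : IsOpenMap f.base := by
    intro O hO
    have : f.base '' O = ⋃ i, ((U i).ι ≫ f).base '' ((U i).ι.base ⁻¹' O) := by
      ext y; constructor
      · rintro ⟨x, hxO, rfl⟩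
        obtain ⟨i, hx⟩ := hcov x
        exact Set.mem_iUnion.mpr ⟨i, ⟨x, hx⟩, hxO, rfl⟩
      · intro hy
        obtain ⟨i, x', hx'O, rfl⟩ := Set.mem_iUnion.mp hy
        exact ⟨(U i).ι.base x', hx'O, rfl⟩
    rw [this]
    exact isOpen_iUnion (fun i => by
      haveI := h i
      exact ((U i).ι ≫ f).isOpenEmbedding.isOpenMap _ (hO.preimage (U i).ι.continuous))
  have hinj : Function.Injective f.base := by
    intro x x' hxx'
    obtain ⟨i, hx⟩ := hcov x
    obtain ⟨j, hx'⟩ := hcov x'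
    haveI := h i; haveI := h j
    let a := (U i).ι ≫ f
    let b := (U j).ι ≫ f
    let T : Y.Opens := a.opensRange ⊓ b.opensRange
    have hTa : Set.range T.ι.base ⊆ Set.range a.base := by
      rw [T.range_ι]; exact fun y hy => hy.1
    have hTb : Set.range T.ι.base ⊆ Set.range b.base := by
      rw [T.range_ι]; exact fun y hy => hy.2
    let si : (T : Scheme) ⟶ X := IsOpenImmersion.lift a T.ι hTa ≫ (U i).ι
    let sj : (T : Scheme) ⟶ X := IsOpenImmersion.lift b T.ι hTb ≫ (U j).ι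
    have hsi : si ≫ f = T.ι := by
      simp only [si, Category.assoc]; exact IsOpenImmersion.lift_fac a T.ι hTa
    have hsj : sj ≫ f = T.ι := by
      simp only [sj, Category.assoc]; exact IsOpenImmersion.lift_fac b T.ι hTb
    obtain ⟨E, hEcl, hEeq, hEfac⟩ := H4_exists_closed_agreement si sj f (hsi.trans hsj.symm)
    let W : X.Opens := U i ⊓ U j
    let c : (W : Scheme) ⟶ Y := W.ι ≫ f
    have hca : X.homOfLE (inf_le_left : W ≤ U i) ≫ a = c := by
      show X.homOfLE _ ≫ (U i).ι ≫ f = W.ι ≫ f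
      rw [← Category.assoc, X.homOfLE_ι]
    have hcb : X.homOfLE (inf_le_right : W ≤ U j) ≫ b = c := by
      show X.homOfLE _ ≫ (U j).ι ≫ f = W.ι ≫ f
      rw [← Category.assoc, X.homOfLE_ι]
    haveI : IsOpenImmersion c := by rw [← hca]; infer_instance
    let T₀ : Y.Opens := c.opensRange
    have hT₀T : T₀ ≤ T := by
      rintro _ ⟨w, rfl⟩
      exact ⟨⟨⟨w.1, w.2.1⟩, rfl⟩, ⟨⟨w.1, w.2.2⟩, rfl⟩⟩
    have hT₀c : Set.range T₀.ι.base ⊆ Set.range c.base := by rw [T₀.range_ι]; rfl
    let γ : (T₀ : Scheme) ⟶ W := IsOpenImmersion.lift c T₀.ι hT₀c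
    have hγ : γ ≫ c = T₀.ι := IsOpenImmersion.lift_fac c T₀.ι hT₀c
    let κ : (T₀ : Scheme) ⟶ T := Y.homOfLE hT₀T
    have hκ : κ ≫ T.ι = T₀.ι := Y.homOfLE_ι hT₀T
    have h1 : κ ≫ si = γ ≫ W.ι := by
      simp only [si]
      have : κ ≫ IsOpenImmersion.lift a T.ι hTa = γ ≫ X.homOfLE (inf_le_left : W ≤ U i) := by
        rw [← cancel_mono a, Category.assoc, IsOpenImmersion.lift_fac, hκ, Category.assoc, hca, hγ]
      rw [← Category.assoc, this, Category.assoc, X.homOfLE_ι]
    have h2 : κ ≫ sj = γ ≫ W.ι := by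
      simp only [sj]
      have : κ ≫ IsOpenImmersion.lift b T.ι hTb = γ ≫ X.homOfLE (inf_le_right : W ≤ U j) := by
        rw [← cancel_mono b, Category.assoc, IsOpenImmersion.lift_fac, hκ, Category.assoc, hcb, hγ]
      rw [← Category.assoc, this, Category.assoc, X.homOfLE_ι]
    have hκE : Set.range κ.base ⊆ E := hEfac _ κ (h1.trans h2.symm)
    have hdense : Dense (Set.range κ.base) := by
      rw [dense_iff_inter_open]
      intro O hO hOne
      obtain ⟨t, ht⟩ := hOne
      have hO' : IsOpen (T.ι.base '' O) := T.ι.isOpenEmbedding.isOpenMap _ hO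
      obtain ⟨u, hu⟩ := t.2.1
      have hne : ((U i : Set X) ∩ f.base ⁻¹' (T.ι.base '' O)).Nonempty :=
        ⟨u.1, u.2, t, ht, hu.symm⟩
      have hop : IsOpen ((U i : Set X) ∩ f.base ⁻¹' (T.ι.base '' O)) :=
        (U i).2.inter (hO'.preimage f.continuous)
      obtain ⟨u', hu'1, hu'j⟩ := (hd j).inter_open_nonempty _ hop hne
      obtain ⟨t', ht'O, ht'⟩ := hu'1.2
      refine ⟨t', ht'O, ?_⟩
      have hmem : t'.1 ∈ T₀ := ⟨⟨u', hu'1.1, hu'j⟩, ht'.symm⟩
      refine ⟨⟨t'.1, hmem⟩, ?_⟩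
      apply T.ι.isOpenEmbedding.injective
      have := congrArg (fun m : (T₀ : Scheme) ⟶ Y => m.base ⟨t'.1, hmem⟩) hκ
      exact this
    have hEuniv : E = Set.univ := by
      apply Set.eq_univ_of_univ_subset
      rw [← hdense.closure_eq]; exact closure_minimal hκE hEcl
    have hyT : f.base x ∈ T := ⟨⟨⟨x, hx⟩, rfl⟩, ⟨⟨x', hx'⟩, hxx'.symm⟩⟩
    let ty : T := ⟨f.base x, hyT⟩
    have hE := hEeq ty (by rw [hEuniv]; trivial)
    have hfsi : f.base (si.base ty) = f.base x := by
      have := congrArg (fun m : (T : Scheme) ⟶ Y => m.base ty) hsi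
      exact this
    have hfsj : f.base (sj.base ty) = f.base x' := by
      have := congrArg (fun m : (T : Scheme) ⟶ Y => m.base ty) hsj
      rw [← hxx']
      exact this
    have hsiU : si.base ty ∈ U i := ((IsOpenImmersion.lift a T.ι hTa).base ty).2
    have hsjU : sj.base ty ∈ U j := ((IsOpenImmersion.lift b T.ι hTb).base ty).2
    have e1 : si.base ty = x := hinjU i _ _ hsiU hx hfsi
    have e2 : sj.base ty = x' := hinjU j _ _ hsjU hx' hfsj
    rw [← e1, ← e2, hE]
  have hemb : IsOpenEmbedding f.base :=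
    IsOpenEmbedding.of_continuous_injective_isOpenMap f.continuous hinj hopen
  exact IsOpenImmersion.of_isIso_stalkMap f hemb

end Groth.Agent.H4
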