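import Mathlib

/-!
# Descending finitely presented / étale algebras along a localization
-/

set_option autoImplicit false

open TensorProduct

namespace Groth.Agent.H4

universe u

section model

attribute [local instance] Algebra.TensorProduct.rightAlgebra

/-- A finitely presented algebra over a localization `L` of `C₀` is a localization of a finitely
presented `C₀`-algebra. -/
theorem H4_exists_fp_model {C₀ : Type u} (L : Type u) {C' : Type u} [CommRing C₀] [CommRing L]
    [CommRing C'] [Algebra C₀ L] (M : Submonoid C₀) [IsLocalization M L] [Algebra L C']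
    [Algebra.FinitePresentation L C'] [Algebra C₀ C'] [IsScalarTower C₀ L C'] :
    ∃ (D₀ : Type u) (_ : CommRing D₀) (_ : Algebra C₀ D₀) (_ : Algebra.FinitePresentation C₀ D₀)
      (ι₀ : D₀ →ₐ[C₀] C'),
      @IsLocalization D₀ _ (Algebra.algebraMapSubmonoid D₀ M) C' _ ι₀.toRingHom.toAlgebra := by
  classical
  let P := Algebra.Presentation.ofFinitePresentation L C'
  obtain ⟨u, hu⟩ := IsLocalization.exist_integer_multiples_of_finset M
    (P.finite_coeffs.toFinset)
  have huunit : IsUnit (algebraMap C₀ L (u : C₀)) := IsLocalization.map_units L u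
  let a : L := algebraMap C₀ L (u : C₀)
  let P' : Algebra.Presentation L C' _ _ :=
    { toGenerators := P.toGenerators
      relation := fun j => a • P.relation j
      span_range_relation_eq_ker := by
        rw [← P.span_range_relation_eq_ker]
        apply le_antisymm
        · rw [Ideal.span_le]
          rintro _ ⟨j, rfl⟩
          show a • P.relation j ∈ _
          rw [MvPolynomial.smul_eq_C_mul]
          exact Ideal.mul_mem_left _ _ (Ideal.subset_span ⟨j, rfl⟩)
        · rw [Ideal.span_le]
          rintro _ ⟨j, rfl⟩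
          obtain ⟨b, hb⟩ := huunit.exists_left_inv
          have h1 : P.relation j = MvPolynomial.C b * (a • P.relation j) := by
            rw [MvPolynomial.smul_eq_C_mul, ← mul_assoc, ← MvPolynomial.C_mul, hb,
              MvPolynomial.C_1, one_mul]
          show P.relation j ∈ _
          rw [h1]
          exact Ideal.mul_mem_left _ _ (Ideal.subset_span ⟨j, rfl⟩) }
  haveI hcoeffs : P'.HasCoeffs C₀ := by
    constructor
    intro x hx
    simp only [Algebra.Presentation.coeffs, Set.mem_iUnion, Finset.mem_coe] at hx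
    obtain ⟨j, hj⟩ := hx
    rw [MvPolynomial.mem_coeffs_iff] at hj
    obtain ⟨m, hm, rfl⟩ := hj
    have h2 : MvPolynomial.coeff m (P'.relation j) = a * MvPolynomial.coeff m (P.relation j) := by
      show MvPolynomial.coeff m (a • P.relation j) = _
      rw [MvPolynomial.coeff_smul, smul_eq_mul]
    rw [h2]
    by_cases h0 : MvPolynomial.coeff m (P.relation j) = 0
    · rw [h0, mul_zero]
      exact ⟨0, map_zero _⟩
    · have h3 : MvPolynomial.coeff m (P.relation j) ∈ P.finite_coeffs.toFinset := by
        rw [Set.Finite.mem_toFinset]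
        simp only [Algebra.Presentation.coeffs, Set.mem_iUnion, Finset.mem_coe]
        refine ⟨j, ?_⟩
        rw [MvPolynomial.mem_coeffs_iff]
        exact ⟨m, MvPolynomial.mem_support_iff.mpr h0, rfl⟩
      obtain ⟨c, hc⟩ := hu _ h3
      refine ⟨c, ?_⟩
      rw [hc]
      show (u : C₀) • _ = _
      rw [Algebra.smul_def]
  let D₀ := P'.ModelOfHasCoeffs C₀
  let e : L ⊗[C₀] D₀ ≃ₐ[L] C' := P'.tensorModelOfHasCoeffsEquiv C₀
  let ι₀ : D₀ →ₐ[C₀] C' :=
    ((e.restrictScalars C₀).toAlgHom).comp
      (Algebra.TensorProduct.includeRight : D₀ →ₐ[C₀] L ⊗[C₀] D₀)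
  refine ⟨D₀, inferInstance, inferInstance, inferInstance, ι₀, ?_⟩
  haveI h1 : IsLocalization (Algebra.algebraMapSubmonoid D₀ M) (L ⊗[C₀] D₀) :=
    IsLocalization.tensorRight L M
  exact (IsLocalization.isLocalization_iff_of_ringEquiv (Algebra.algebraMapSubmonoid D₀ M)
    e.toRingEquiv).mp h1

/-- An étale algebra over a localization `L` of `C₀`, localized at a prime, is the localization of
an étale `C₀`-algebra at a prime. -/
theorem H4_descend_etale_localization {C₀ : Type u} (L : Type u) {C' : Type u} [CommRing C₀]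
    [CommRing L] [CommRing C'] [Algebra C₀ L] (M : Submonoid C₀) [IsLocalization M L]
    [Algebra L C'] [Algebra.Etale L C'] [Algebra C₀ C'] [IsScalarTower C₀ L C']
    (Q' : Ideal C') [Q'.IsPrime] :
    ∃ (S : Type u) (_ : CommRing S) (_ : Algebra C₀ S) (_ : Algebra.Etale C₀ S) (r : Ideal S)
      (_ : r.IsPrime) (j : S →ₐ[C₀] Localization.AtPrime Q'),
      @IsLocalization S _ r.primeCompl (Localization.AtPrime Q') _ j.toRingHom.toAlgebra := by
  classical
  obtain ⟨D₀, _, _, _, ι₀, hloc⟩ := H4_exists_fp_model L M (C' := C')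
  letI algD₀C' : Algebra D₀ C' := ι₀.toRingHom.toAlgebra
  haveI : IsLocalization (Algebra.algebraMapSubmonoid D₀ M) C' := hloc
  haveI tw0 : IsScalarTower C₀ D₀ C' :=
    IsScalarTower.of_algebraMap_eq (fun c => (ι₀.commutes c).symm)
  haveI tw1 : IsScalarTower D₀ C' (Localization.AtPrime Q') := inferInstance
  let Q₀ : Ideal D₀ := Q'.comap (algebraMap D₀ C')
  haveI hQ₀ : Q₀.IsPrime := Ideal.comap_isPrime _ _
  haveI hloc0 : IsLocalization.AtPrime (Localization.AtPrime Q') Q₀ :=
    IsLocalization.isLocalization_isLocalization_atPrime_isLocalization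
      (Algebra.algebraMapSubmonoid D₀ M) (Localization.AtPrime Q') Q'
  haveI : Algebra.FormallyEtale C₀ L := Algebra.FormallyEtale.of_isLocalization M
  haveI : Algebra.FormallyEtale C₀ C' := Algebra.FormallyEtale.comp C₀ L C'
  haveI : Algebra.FormallyEtale C' (Localization.AtPrime Q') :=
    Algebra.FormallyEtale.of_isLocalization Q'.primeCompl
  haveI : Algebra.FormallyEtale C₀ (Localization.AtPrime Q') :=
    Algebra.FormallyEtale.comp C₀ C' (Localization.AtPrime Q')
  haveI tw2 : IsScalarTower C₀ D₀ (Localization.AtPrime Q') :=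
    IsScalarTower.of_algebraMap_eq (fun c => by
      rw [IsScalarTower.algebraMap_apply D₀ C' (Localization.AtPrime Q'),
        ← IsScalarTower.algebraMap_apply C₀ D₀ C',
        ← IsScalarTower.algebraMap_apply C₀ C' (Localization.AtPrime Q')])
  let eq : Localization.AtPrime Q₀ ≃ₐ[D₀] Localization.AtPrime Q' :=
    IsLocalization.algEquiv Q₀.primeCompl _ _
  haveI : Algebra.IsEtaleAt C₀ Q₀ :=
    Algebra.FormallyEtale.of_equiv (eq.symm.restrictScalars C₀)
  obtain ⟨f, hf, hEt⟩ := Algebra.exists_etale_of_isEtaleAt (R := C₀) Q₀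
  haveI := hEt
  have hunit : IsUnit (algebraMap D₀ (Localization.AtPrime Q') f) :=
    IsLocalization.map_units (Localization.AtPrime Q') (⟨f, hf⟩ : Q₀.primeCompl)
  let j₀ : Localization.Away f →+* Localization.AtPrime Q' :=
    IsLocalization.Away.lift (S := Localization.Away f) f hunit
  have hj₀ : ∀ d, j₀ (algebraMap D₀ (Localization.Away f) d) =
      algebraMap D₀ (Localization.AtPrime Q') d := fun d =>
    IsLocalization.Away.lift_eq _ hunit d
  let j : Localization.Away f →ₐ[C₀] Localization.AtPrime Q' :=
    { j₀ with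
      commutes' := fun c => by
        show j₀ (algebraMap C₀ (Localization.Away f) c) = _
        rw [IsScalarTower.algebraMap_apply C₀ D₀ (Localization.Away f), hj₀,
          ← IsScalarTower.algebraMap_apply C₀ D₀ (Localization.AtPrime Q')] }
  let r : Ideal (Localization.Away f) :=
    (IsLocalRing.maximalIdeal (Localization.AtPrime Q')).comap j₀
  haveI hr : r.IsPrime := Ideal.comap_isPrime _ _
  refine ⟨Localization.Away f, inferInstance, inferInstance, inferInstance, r, hr, j, ?_⟩
  letI algSLoc : Algebra (Localization.Away f) (Localization.AtPrime Q') := j.toRingHom.toAlgebra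
  haveI tw3 : IsScalarTower D₀ (Localization.Away f) (Localization.AtPrime Q') :=
    IsScalarTower.of_algebraMap_eq (fun d => (hj₀ d).symm)
  have hle : Submonoid.powers f ≤ Q₀.primeCompl := by
    rintro _ ⟨n, rfl⟩
    exact Q₀.primeCompl.pow_mem hf n
  haveI h5 : IsLocalization (Q₀.primeCompl.map (algebraMap D₀ (Localization.Away f)))
      (Localization.AtPrime Q') :=
    IsLocalization.isLocalization_of_submonoid_le (Localization.Away f) (Localization.AtPrime Q')
      (Submonoid.powers f) Q₀.primeCompl hle
  refine IsLocalization.of_le (Q₀.primeCompl.map (algebraMap D₀ (Localization.Away f)))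
    r.primeCompl ?_ ?_
  · rintro _ ⟨d, hd, rfl⟩
    show (algebraMap D₀ (Localization.Away f)) d ∉ r
    intro hmem
    have h6 : j₀ (algebraMap D₀ (Localization.Away f) d) ∈
        IsLocalRing.maximalIdeal (Localization.AtPrime Q') := hmem
    rw [hj₀] at h6
    exact h6 (IsLocalization.map_units (Localization.AtPrime Q') (⟨d, hd⟩ : Q₀.primeCompl))
  · intro x hx
    have h7 : j₀ x ∉ IsLocalRing.maximalIdeal (Localization.AtPrime Q') := hx
    rw [IsLocalRing.mem_maximalIdeal, mem_nonunits_iff] at h7
    push Not at h7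
    exact h7

end model

end Groth.Agent.H4
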