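import Mathlib
import Groth.Agent.Lib.helper4.Catenary

set_option autoImplicit false
universe u v

namespace Groth.Agent.H4

open Order

section
variable {P : Type u} [PartialOrder P]

/-- series from an `ℕ`-indexed saturated chain -/
noncomputable def H4_seriesOfFun (f : ℕ → P) (n : ℕ) (h : ∀ i < n, f i ⋖ f (i + 1)) : LTSeries P :=
  LTSeries.mk n (fun i : Fin (n + 1) => f i) (by
    apply Fin.strictMono_iff_lt_succ.2
    intro i
    simpa using (h i i.2).1)

theorem H4_seriesOfFun_length (f : ℕ → P) (n : ℕ) (h : ∀ i < n, f i ⋖ f (i + 1)) :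
    (H4_seriesOfFun f n h).length = n := rfl

theorem H4_seriesOfFun_head (f : ℕ → P) (n : ℕ) (h : ∀ i < n, f i ⋖ f (i + 1)) :
    (H4_seriesOfFun f n h).head = f 0 := rfl

theorem H4_seriesOfFun_last (f : ℕ → P) (n : ℕ) (h : ∀ i < n, f i ⋖ f (i + 1)) :
    (H4_seriesOfFun f n h).last = f n := rfl

theorem H4_seriesOfFun_covBy (f : ℕ → P) (n : ℕ) (h : ∀ i < n, f i ⋖ f (i + 1))
    (i : Fin (H4_seriesOfFun f n h).length) :
    (H4_seriesOfFun f n h) (Fin.castSucc i) ⋖ (H4_seriesOfFun f n h) (Fin.succ i) := by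
  have := h i i.2
  simpa [H4_seriesOfFun] using this

/-- existence of saturated chains of length `coheight` to the unique maximal element -/
theorem H4_exists_saturated (m : P) (hm : ∀ x : P, IsMax x → x = m) :
    ∀ (n : ℕ) (x : P), coheight x = n →
      ∃ f : ℕ → P, f 0 = x ∧ f n = m ∧ ∀ i < n, f i ⋖ f (i + 1) := by
  intro n
  induction n with
  | zero =>
    intro x hx
    have hx' : coheight x = 0 := by simpa using hx
    have : IsMax x := coheight_eq_zero.1 hx'
    exact ⟨fun _ => x, rfl, hm x this, fun i hi => absurd hi (Nat.not_lt_zero i)⟩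
  | succ n ih =>
    intro x hx
    have hx' : coheight x = (n : ℕ∞) + 1 := by simpa using hx
    obtain ⟨-, ⟨y, hxy, hy⟩, hall⟩ := coheight_eq_coe_add_one_iff.1 hx'
    obtain ⟨f, hf0, hfn, hf⟩ := ih y hy
    have hcov : x ⋖ y := by
      refine ⟨hxy, fun c hxc hcy => ?_⟩
      have h1 : coheight c ≤ n := hall c hxc
      have h2 : coheight y + 1 ≤ coheight c := coheight_add_one_le hcy
      rw [hy] at h2
      have h3 : ((n + 1 : ℕ) : ℕ∞) ≤ (n : ℕ∞) := by
        push_cast
        exact h2.trans h1
      have h4 : n + 1 ≤ n := Nat.cast_le.1 h3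
      omega
    refine ⟨fun k => Nat.casesOn k x f, rfl, hfn, fun i hi => ?_⟩
    cases i with
    | zero =>
      show x ⋖ f 0
      rw [hf0]; exact hcov
    | succ i =>
      show f i ⋖ f (i + 1)
      exact hf i (by omega)

theorem H4_sat_len (d : P → ℕ) (hd : ∀ p q : P, p ⋖ q → d p = d q + 1) (s : LTSeries P)
    (hs : ∀ i : Fin s.length, s (Fin.castSucc i) ⋖ s (Fin.succ i)) :
    d s.head = d s.last + s.length := by
  have key : ∀ (k : ℕ) (hk : k < s.length + 1), d (s 0) = d (s ⟨k, hk⟩) + k := by
    intro k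
    induction k with
    | zero => intro hk; rfl
    | succ k ih =>
      intro hk
      have h1 := hs ⟨k, by omega⟩
      have h2 := hd _ _ h1
      have h3 := ih (by omega)
      simp only [Fin.castSucc_mk, Fin.succ_mk] at h2
      rw [h3, h2]
      ring
  exact key s.length (Nat.lt_succ_self _)

theorem H4_catPoset_iff_dimFunction (m : P) (hm : ∀ x : P, IsMax x → x = m)
    (hfin : ∀ x : P, coheight x < ⊤) :
    H4_CatPoset P ↔ ∀ p q : P, p < q →
      (coheight q < coheight p ∧ (p ⋖ q → coheight p = coheight q + 1)) := by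
  have hd : ∀ x : P, coheight x = ((coheight x).toNat : ℕ∞) := fun x =>
    (ENat.coe_toNat (hfin x).ne).symm
  constructor
  · intro hcat p q hpq
    refine ⟨coheight_strictAnti hpq (hfin q), fun hcov => ?_⟩
    obtain ⟨f, hf0, hfn, hf⟩ := H4_exists_saturated m hm _ p (hd p)
    obtain ⟨g, hg0, hgn, hg⟩ := H4_exists_saturated m hm _ q (hd q)
    have hg' : ∀ i < (coheight q).toNat + 1,
        (fun k => Nat.casesOn k p g : ℕ → P) i ⋖ (fun k => Nat.casesOn k p g : ℕ → P) (i + 1) := by
      intro i hi
      cases i with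
      | zero =>
        show p ⋖ g 0
        rw [hg0]; exact hcov
      | succ i =>
        show g i ⋖ g (i + 1)
        exact hg i (by omega)
    have := hcat.2 (H4_seriesOfFun f _ hf) (H4_seriesOfFun _ _ hg')
      (by rw [H4_seriesOfFun_head, H4_seriesOfFun_head]; exact hf0)
      (by rw [H4_seriesOfFun_last, H4_seriesOfFun_last, hfn]; exact hgn.symm)
      (H4_seriesOfFun_covBy f _ hf) (H4_seriesOfFun_covBy _ _ hg')
    rw [H4_seriesOfFun_length, H4_seriesOfFun_length] at this
    rw [hd p, hd q, this]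
    push_cast
    rfl
  · intro hdim
    have hcov : ∀ p q : P, p ⋖ q → (coheight p).toNat = (coheight q).toNat + 1 := by
      intro p q h
      have h1 := (hdim p q h.1).2 h
      rw [hd p, hd q] at h1
      have h2 : (((coheight p).toNat : ℕ) : ℕ∞) = (((coheight q).toNat + 1 : ℕ) : ℕ∞) := by
        push_cast
        exact h1
      exact Nat.cast_inj.1 h2
    refine ⟨?_, ?_⟩
    · intro p q _
      refine ⟨(coheight p).toNat, fun s hs _ => ?_⟩
      have h1 : (s.length : ℕ∞) ≤ coheight s.head := length_le_coheight_head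
      rw [hs, hd p] at h1
      exact Nat.cast_le.1 h1
    · intro s t hhead hlast hs ht
      have h1 := H4_sat_len (fun x => (coheight x).toNat) hcov s hs
      have h2 := H4_sat_len (fun x => (coheight x).toNat) hcov t ht
      simp only at h1 h2
      rw [hhead, hlast] at h1
      omega

end

end Groth.Agent.H4
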