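import Mathlib
import Groth.Agent.Lib.helper4.CatSpace
import Groth.Agent.Lib.helper4.DimFun

set_option autoImplicit false
universe u v

namespace Groth.Agent.H4

section Poset
variable {P : Type u} [PartialOrder P]

/-- a strictly monotone `ℤ`-valued function increasing by one along covers makes a poset catenary -/
theorem H4_catPoset_of_dimFun (d : P → ℤ) (hmono : ∀ p q : P, p < q → d p < d q)
    (hcov : ∀ p q : P, p ⋖ q → d q = d p + 1) : H4_CatPoset P := by
  have hsm : StrictMono d := fun p q h => hmono p q h
  have hsat : ∀ s : LTSeries P, (∀ i : Fin s.length, s (Fin.castSucc i) ⋖ s (Fin.succ i)) →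
      d s.last = d s.head + s.length := by
    intro s hs
    have key : ∀ (k : ℕ) (hk : k < s.length + 1), d (s ⟨k, hk⟩) = d (s 0) + k := by
      intro k
      induction k with
      | zero => intro hk; simp
      | succ k ih =>
        intro hk
        have h1 := hs ⟨k, by omega⟩
        have h2 := hcov _ _ h1
        have h3 := ih (by omega)
        simp only [Fin.castSucc_mk, Fin.succ_mk] at h2
        rw [h2, h3]
        push_cast
        ring
    exact key s.length (Nat.lt_succ_self _)
  refine ⟨fun p q _ => ⟨(d q - d p).toNat, fun s hs hl => ?_⟩, fun s t hh hl hs ht => ?_⟩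
  · have h1 := LTSeries.head_add_length_le_int (s.map d hsm)
    rw [LTSeries.head_map, LTSeries.last_map, hs, hl, LTSeries.map_length] at h1
    omega
  · have h1 := hsat s hs
    have h2 := hsat t ht
    rw [hh, hl] at h1
    omega

/-- in a catenary poset there is a saturated chain between comparable elements -/
theorem H4_exists_sat (hQ : H4_CatPoset P) (a b : P) (hab : a ≤ b) :
    ∃ s : LTSeries P, s.head = a ∧ s.last = b ∧
      ∀ i : Fin s.length, s (Fin.castSucc i) ⋖ s (Fin.succ i) := by
  obtain ⟨n, hn⟩ := hQ.1 a b hab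
  have key : ∀ k : ℕ, ∀ r : LTSeries P, r.head = a → r.last = b → n ≤ r.length + k →
      ∃ s : LTSeries P, s.head = a ∧ s.last = b ∧
        ∀ i : Fin s.length, s (Fin.castSucc i) ⋖ s (Fin.succ i) := by
    intro k
    induction k with
    | zero =>
      intro r hh hl hk
      by_cases hr : ∀ i : Fin r.length, r (Fin.castSucc i) ⋖ r (Fin.succ i)
      · exact ⟨r, hh, hl, hr⟩
      · push Not at hr
        obtain ⟨i, hi⟩ := hr
        have hlt : r (Fin.castSucc i) < r (Fin.succ i) := r.step i
        rw [not_covBy_iff hlt] at hi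
        obtain ⟨c, h1, h2⟩ := hi
        have h3 := hn (r.insertNth i c h1 h2) (by rw [H4_insertNth_head, hh])
          (by rw [H4_insertNth_last, hl])
        rw [H4_insertNth_length] at h3
        omega
    | succ k ih =>
      intro r hh hl hk
      by_cases hr : ∀ i : Fin r.length, r (Fin.castSucc i) ⋖ r (Fin.succ i)
      · exact ⟨r, hh, hl, hr⟩
      · push Not at hr
        obtain ⟨i, hi⟩ := hr
        have hlt : r (Fin.castSucc i) < r (Fin.succ i) := r.step i
        rw [not_covBy_iff hlt] at hi
        obtain ⟨c, h1, h2⟩ := hi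
        exact ih (r.insertNth i c h1 h2) (by rw [H4_insertNth_head, hh])
          (by rw [H4_insertNth_last, hl]) (by rw [H4_insertNth_length]; omega)
  rcases hab.eq_or_lt with h | h
  · subst h
    exact key n (RelSeries.singleton _ a) rfl rfl (by omega)
  · exact key n (RelSeries.singleton _ a |>.snoc b h) (by simp) (by simp) (by omega)

open Classical in
/-- the common length of saturated chains from `a` to `b` (zero if `¬ a ≤ b`) -/
noncomputable def H4_clen (hQ : H4_CatPoset P) (a b : P) : ℕ :=
  if h : a ≤ b then (Classical.choose (H4_exists_sat hQ a b h)).length else 0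

theorem H4_clen_eq (hQ : H4_CatPoset P) (s : LTSeries P)
    (hs : ∀ i : Fin s.length, s (Fin.castSucc i) ⋖ s (Fin.succ i)) :
    H4_clen hQ s.head s.last = s.length := by
  unfold H4_clen
  rw [dif_pos (LTSeries.head_le_last s)]
  obtain ⟨h1, h2, h3⟩ := Classical.choose_spec (H4_exists_sat hQ s.head s.last
    (LTSeries.head_le_last s))
  exact hQ.2 _ s h1 h2 h3 hs

theorem H4_clen_add (hQ : H4_CatPoset P) (a b c : P) (hab : a ≤ b) (hbc : b ≤ c) :
    H4_clen hQ a b + H4_clen hQ b c = H4_clen hQ a c := by
  obtain ⟨s, hs1, hs2, hs3⟩ := H4_exists_sat hQ a b hab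
  obtain ⟨t, ht1, ht2, ht3⟩ := H4_exists_sat hQ b c hbc
  have hconn : s.last = t.head := hs2.trans ht1.symm
  have hsat : ∀ i : Fin (s.length + t.length),
      (s.smash t hconn) (Fin.castSucc i) ⋖ (s.smash t hconn) (Fin.succ i) := by
    intro i
    induction i using Fin.addCases with
    | left i =>
      have e1 := RelSeries.smash_castAdd hconn i
      have e2 := RelSeries.smash_succ_castAdd hconn i
      have h3 := hs3 i
      rw [← e1, ← e2] at h3
      exact h3
    | right i =>
      have e1 := RelSeries.smash_natAdd hconn i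
      have e2 := RelSeries.smash_succ_natAdd hconn i
      have h3 := ht3 i
      rw [← e1, ← e2] at h3
      exact h3
  have h1 := H4_clen_eq hQ s hs3
  have h2 := H4_clen_eq hQ t ht3
  have h3 := H4_clen_eq hQ (s.smash t hconn) hsat
  rw [RelSeries.head_smash, RelSeries.last_smash] at h3
  rw [hs1, hs2] at h1
  rw [ht1, ht2] at h2
  rw [hs1, ht2] at h3
  rw [h1, h2, h3]
  rfl

theorem H4_clen_pos (hQ : H4_CatPoset P) (a b : P) (hab : a < b) : 0 < H4_clen hQ a b := by
  obtain ⟨s, hs1, hs2, hs3⟩ := H4_exists_sat hQ a b hab.le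
  have h1 := H4_clen_eq hQ s hs3
  rw [hs1, hs2] at h1
  rw [h1]
  by_contra h0
  have h0' : s.length = 0 := by omega
  have : s.head = s.last := by
    unfold RelSeries.head RelSeries.last
    congr 1
    apply Fin.ext
    simp [h0']
  rw [hs1, hs2] at this
  exact hab.ne this

theorem H4_clen_covBy (hQ : H4_CatPoset P) (a b : P) (hab : a ⋖ b) : H4_clen hQ a b = 1 := by
  have h : ∀ i < 1, (fun k : ℕ => if k = 0 then a else b) i ⋖
      (fun k : ℕ => if k = 0 then a else b) (i + 1) := by
    intro i hi
    have : i = 0 := by omega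
    subst this
    simpa using hab
  have h1 := H4_clen_eq hQ (H4_seriesOfFun _ 1 h) (H4_seriesOfFun_covBy _ 1 h)
  rw [H4_seriesOfFun_head, H4_seriesOfFun_last, H4_seriesOfFun_length] at h1
  simpa using h1

end Poset

end Groth.Agent.H4
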