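import Mathlib
import Groth.Prelude.Def_W4stktopologysheavesDim
import Groth.Agent.Lib.helper4.DimFun2

set_option autoImplicit false
universe u v

namespace Groth.Agent.H4

open TopologicalSpace

/-- a catenary Noetherian ring has, locally on its spectrum, a dimension function -/
theorem H4_exists_dimFun_nhd (A : Type u) [CommRing A] [IsNoetherianRing A]
    (hA : CAlg.IsCatenary A) (p : PrimeSpectrum A) :
    ∃ U : Opens (PrimeSpectrum A), p ∈ U ∧ ∃ δ : U → ℤ, PtTop.IsDimensionFunction δ := by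
  classical
  have hQ : H4_CatPoset (PrimeSpectrum A) := hA
  let M := minimalPrimes A
  have hMfin : M.Finite := minimalPrimes.finite_of_isNoetherianRing A
  let B : Set (Ideal A) := {Q | ¬ Q ≤ p.asIdeal ∧
    (Q ∈ M ∨ ∃ q ∈ M, ∃ q' ∈ M, Q ∈ (q ⊔ q').minimalPrimes)}
  have hBfin : B.Finite := by
    apply Set.Finite.subset (s := M ∪ ⋃ q ∈ M, ⋃ q' ∈ M, (q ⊔ q').minimalPrimes)
    · exact hMfin.union (hMfin.biUnion fun q _ => hMfin.biUnion fun q' _ =>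
        Ideal.finite_minimalPrimes_of_isNoetherianRing A _)
    · rintro Q ⟨-, h | ⟨q, hq, q', hq', h⟩⟩
      · exact Or.inl h
      · exact Or.inr (Set.mem_biUnion hq (Set.mem_biUnion hq' h))
  let C : Set (PrimeSpectrum A) := ⋃ Q ∈ B, PrimeSpectrum.zeroLocus (Q : Set A)
  have hC : IsClosed C := hBfin.isClosed_biUnion fun Q _ => PrimeSpectrum.isClosed_zeroLocus _
  let U : Opens (PrimeSpectrum A) := ⟨Cᶜ, hC.isOpen_compl⟩
  have hmemU : ∀ y : PrimeSpectrum A, y ∈ U ↔ ∀ Q ∈ B, ¬ Q ≤ y.asIdeal := by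
    intro y
    show y ∉ C ↔ _
    simp only [C, Set.mem_iUnion, not_exists, PrimeSpectrum.mem_zeroLocus, SetLike.coe_subset_coe]
  have hpU : p ∈ U := (hmemU p).2 fun Q hQB => hQB.1
  have hU1 : ∀ y ∈ U, ∀ q ∈ M, q ≤ y.asIdeal → q ≤ p.asIdeal := by
    intro y hy q hq hqy
    by_contra hqp
    exact (hmemU y).1 hy q ⟨hqp, Or.inl hq⟩ hqy
  have hU2 : ∀ y ∈ U, ∀ q ∈ M, ∀ q' ∈ M, q ≤ y.asIdeal → q' ≤ y.asIdeal →
      ∃ Q : PrimeSpectrum A, q ≤ Q.asIdeal ∧ q' ≤ Q.asIdeal ∧ Q ≤ y ∧ Q ≤ p := by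
    intro y hy q hq q' hq' hqy hq'y
    obtain ⟨Q, hQmin, hQy⟩ := Ideal.exists_minimalPrimes_le (I := q ⊔ q') (J := y.asIdeal)
      (sup_le hqy hq'y)
    have hQprime : Q.IsPrime := hQmin.1.1
    have hle : q ⊔ q' ≤ Q := hQmin.1.2
    refine ⟨⟨Q, hQprime⟩, le_sup_left.trans hle, le_sup_right.trans hle, hQy, ?_⟩
    by_contra hQp
    exact (hmemU y).1 hy Q ⟨hQp, Or.inr ⟨q, hq, q', hq', hQmin⟩⟩ hQy
  have hex : ∀ y : PrimeSpectrum A, ∃ q : PrimeSpectrum A, q.asIdeal ∈ M ∧ q ≤ y := by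
    intro y
    obtain ⟨q, hq, hqy⟩ := Ideal.exists_minimalPrimes_le (I := (⊥ : Ideal A)) (J := y.asIdeal)
      bot_le
    exact ⟨⟨q, hq.1.1⟩, hq, hqy⟩
  choose m hmM hmy using hex
  let δ : U → ℤ := fun y => (H4_clen hQ (m y.1) p : ℤ) - H4_clen hQ (m y.1) y.1
  have hwd : ∀ y : U, ∀ q : PrimeSpectrum A, q.asIdeal ∈ M → q ≤ y.1 →
      δ y = (H4_clen hQ q p : ℤ) - H4_clen hQ q y.1 := by
    intro y q hq hqy
    obtain ⟨Q, h1, h2, h3, h4⟩ := hU2 y.1 y.2 q.asIdeal hq (m y.1).asIdeal (hmM y.1) hqy (hmy y.1)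
    have a1 := H4_clen_add hQ q Q p h1 h4
    have a2 := H4_clen_add hQ q Q y.1 h1 h3
    have a3 := H4_clen_add hQ (m y.1) Q p h2 h4
    have a4 := H4_clen_add hQ (m y.1) Q y.1 h2 h3
    show (H4_clen hQ (m y.1) p : ℤ) - H4_clen hQ (m y.1) y.1 = _
    omega
  have hspec : ∀ x y : U, x ⤳ y ↔ x.1 ≤ y.1 := fun x y =>
    (subtype_specializes_iff x y).trans (PrimeSpectrum.le_iff_specializes _ _).symm
  refine ⟨U, hpU, δ, ?_, ?_⟩
  · intro x y hxy hne
    have hle : x.1 ≤ y.1 := (hspec x y).1 hxy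
    have hlt : x.1 < y.1 := lt_of_le_of_ne hle (fun h => hne (Subtype.ext h))
    have h1 := hwd y (m x.1) (hmM x.1) ((hmy x.1).trans hle)
    have h2 := H4_clen_add hQ (m x.1) x.1 y.1 (hmy x.1) hle
    have h3 := H4_clen_pos hQ x.1 y.1 hlt
    rw [h1]
    show _ < (H4_clen hQ (m x.1) p : ℤ) - H4_clen hQ (m x.1) x.1
    omega
  · rintro x y ⟨hxy, hne, himm⟩
    have hle : x.1 ≤ y.1 := (hspec x y).1 hxy
    have hlt : x.1 < y.1 := lt_of_le_of_ne hle (fun h => hne (Subtype.ext h))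
    have hcov : x.1 ⋖ y.1 := by
      refine ⟨hlt, fun z hxz hzy => ?_⟩
      have hzU : z ∈ U :=
        ((PrimeSpectrum.le_iff_specializes z y.1).1 hzy.le).mem_open U.isOpen y.2
      rcases himm ⟨z, hzU⟩ ((hspec x ⟨z, hzU⟩).2 hxz.le) ((hspec ⟨z, hzU⟩ y).2 hzy.le) with h | h
      · exact hxz.ne (congrArg Subtype.val h).symm
      · exact hzy.ne (congrArg Subtype.val h)
    have h1 := hwd y (m x.1) (hmM x.1) ((hmy x.1).trans hle)
    have h2 := H4_clen_add hQ (m x.1) x.1 y.1 (hmy x.1) hle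
    have h3 := H4_clen_covBy hQ x.1 y.1 hcov
    rw [h1]
    show (H4_clen hQ (m x.1) p : ℤ) - H4_clen hQ (m x.1) x.1 = _
    omega

theorem H4_dimFun_of_homeomorph {Y : Type u} {Z : Type v} [TopologicalSpace Y] [TopologicalSpace Z]
    (h : Y ≃ₜ Z) (δ' : Y → ℤ) (hδ : PtTop.IsDimensionFunction δ') :
    PtTop.IsDimensionFunction (δ' ∘ h.symm) := by
  have hs : ∀ a b : Z, a ⤳ b ↔ h.symm a ⤳ h.symm b := fun a b =>
    (h.symm.isInducing.specializes_iff).symm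
  refine ⟨fun x y hxy hne => ?_, fun x y hxy => ?_⟩
  · exact hδ.1 _ _ ((hs x y).1 hxy) (fun e => hne (h.symm.injective e))
  · obtain ⟨h1, h2, h3⟩ := hxy
    refine hδ.2 _ _ ⟨(hs x y).1 h1, fun e => h2 (h.symm.injective e), fun z hxz hzy => ?_⟩
    have hz : h.symm (h z) = z := h.symm_apply_apply z
    rcases h3 (h z) ((hs _ _).2 (by rw [hz]; exact hxz)) ((hs _ _).2 (by rw [hz]; exact hzy))
      with e | e
    · left; rw [← hz, e]
    · right; rw [← hz, e]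

theorem H4_catSpace_of_dimFun {Y : Type u} [TopologicalSpace Y] [QuasiSober Y] [T0Space Y]
    (δ : Y → ℤ) (hδ : PtTop.IsDimensionFunction δ) : PtTop.IsCatenarySpace Y := by
  rw [H4_isCatenarySpace_iff]
  letI := specializationOrder Y
  refine H4_catPoset_of_orderIso (irreducibleSetEquivPoints (α := Y)) ?_
  refine H4_catPoset_of_dimFun δ (fun p q hpq => ?_) (fun p q hpq => ?_)
  · have h1 : q ⤳ p := hpq.le
    exact hδ.1 q p h1 (fun e => hpq.ne e.symm)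
  · have h1 : q ⤳ p := hpq.1.le
    refine hδ.2 q p ⟨h1, fun e => hpq.1.ne e.symm, fun z hqz hzp => ?_⟩
    have hpz : p ≤ z := hzp
    have hzq : z ≤ q := hqz
    by_contra hcon
    push Not at hcon
    exact hpq.2 (lt_of_le_of_ne hpz (fun e => hcon.2 e.symm)) (lt_of_le_of_ne hzq hcon.1)

end Groth.Agent.H4
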