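import Mathlib

/-! Pairs `(S, q)` of an algebra and a prime with trivial residue field extension over `p`,
encoded as `R`-algebra maps `S → κ(p)`. -/

set_option autoImplicit false
universe u

open TensorProduct

namespace Groth.Agent.H4

variable {R : Type u} [CommRing R] (p : Ideal R) [p.IsPrime]

/-- From a pair with trivial residue extension to a character with kernel `q`. -/
theorem H4_pair_char {S : Type u} [CommRing S] [Algebra R S] (q : Ideal S) [q.IsPrime]
    (hq : p = q.comap (algebraMap R S))
    (hκ : Function.Bijective (Ideal.ResidueField.map p q (algebraMap R S) hq)) :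
    ∃ χ : S →ₐ[R] p.ResidueField, RingHom.ker χ = q := by
  classical
  let σ : p.ResidueField ≃+* q.ResidueField := RingEquiv.ofBijective _ hκ
  have hσ : ∀ y, σ y = Ideal.ResidueField.map p q (algebraMap R S) hq y := fun y => rfl
  let χ₀ : S →+* p.ResidueField := (σ.symm : _ →+* _).comp (algebraMap S q.ResidueField)
  have hχ₀ : ∀ s, χ₀ s = σ.symm (algebraMap S q.ResidueField s) := fun s => rfl
  let χ : S →ₐ[R] p.ResidueField :=
    { χ₀ with
      commutes' := by
        intro r
        show χ₀ (algebraMap R S r) = _
        rw [hχ₀, ← Ideal.ResidueField.map_algebraMap p q (algebraMap R S) hq r, ← hσ,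
          RingEquiv.symm_apply_apply] }
  refine ⟨χ, ?_⟩
  ext s
  rw [RingHom.mem_ker]
  show χ₀ s = 0 ↔ _
  rw [hχ₀, map_eq_zero_iff _ σ.symm.injective, Ideal.algebraMap_residueField_eq_zero]

/-- From a character to a pair with trivial residue extension. -/
theorem H4_char_pair {S : Type u} [CommRing S] [Algebra R S] (χ : S →ₐ[R] p.ResidueField)
    (q : Ideal S) [q.IsPrime] (hker : RingHom.ker χ = q) :
    ∃ hq : p = q.comap (algebraMap R S),
      Function.Bijective (Ideal.ResidueField.map p q (algebraMap R S) hq) := by
  classical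
  have hmem : ∀ s, s ∈ q ↔ χ s = 0 := fun s => by rw [← hker]; exact RingHom.mem_ker
  have hq : p = q.comap (algebraMap R S) := by
    ext r
    rw [Ideal.mem_comap, hmem, AlgHom.commutes, Ideal.algebraMap_residueField_eq_zero]
  refine ⟨hq, RingHom.injective _, ?_⟩
  let ρ : q.ResidueField →+* p.ResidueField :=
    Ideal.ResidueField.lift q χ.toRingHom (fun s hs => RingHom.mem_ker.mpr ((hmem s).mp hs))
      (fun s hs => by
        show IsUnit (χ s)
        rw [isUnit_iff_ne_zero]
        intro h0
        exact hs ((hmem s).mpr h0))
  have hρ : ∀ s, ρ (algebraMap S q.ResidueField s) = χ s := fun s =>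
    Ideal.ResidueField.lift_algebraMap _ _ _ _ s
  have hcomp : ρ.comp (Ideal.ResidueField.map p q (algebraMap R S) hq) = RingHom.id _ := by
    apply Ideal.ResidueField.ringHom_ext
    ext r
    simp only [RingHom.comp_apply, RingHom.id_apply]
    rw [Ideal.ResidueField.map_algebraMap, hρ, AlgHom.commutes]
  intro y
  refine ⟨ρ y, ?_⟩
  apply ρ.injective
  have := RingHom.congr_fun hcomp (ρ y)
  simpa using this

/-- Two characters on `S₁` with the same prime kernel `q₁` of trivial residue extension agree. -/
theorem H4_char_unique {S : Type u} [CommRing S] [Algebra R S] (q : Ideal S) [q.IsPrime]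
    (hq : p = q.comap (algebraMap R S))
    (hκ : Function.Bijective (Ideal.ResidueField.map p q (algebraMap R S) hq))
    (χ χ' : S →ₐ[R] p.ResidueField) (h : RingHom.ker χ = q) (h' : RingHom.ker χ' = q) :
    χ = χ' := by
  classical
  have key : ∀ (χ : S →ₐ[R] p.ResidueField), RingHom.ker χ = q → ∀ s,
      Ideal.ResidueField.map p q (algebraMap R S) hq (χ s) = algebraMap S q.ResidueField s := by
    intro χ hker s
    have hmem : ∀ s, s ∈ q ↔ χ s = 0 := fun s => by rw [← hker]; exact RingHom.mem_ker
    let ρ : q.ResidueField →+* p.ResidueField :=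
      Ideal.ResidueField.lift q χ.toRingHom (fun s hs => RingHom.mem_ker.mpr ((hmem s).mp hs))
        (fun s hs => by
          show IsUnit (χ s)
          rw [isUnit_iff_ne_zero]
          intro h0
          exact hs ((hmem s).mpr h0))
    have hρ : ∀ s, ρ (algebraMap S q.ResidueField s) = χ s := fun s =>
      Ideal.ResidueField.lift_algebraMap _ _ _ _ s
    have hcomp : ρ.comp (Ideal.ResidueField.map p q (algebraMap R S) hq) = RingHom.id _ := by
      apply Ideal.ResidueField.ringHom_ext
      ext r
      simp only [RingHom.comp_apply, RingHom.id_apply]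
      rw [Ideal.ResidueField.map_algebraMap, hρ, AlgHom.commutes]
    apply ρ.injective
    have := RingHom.congr_fun hcomp (χ s)
    simp only [RingHom.comp_apply, RingHom.id_apply] at this
    rw [this, hρ]
  ext s
  apply hκ.injective
  rw [key χ h s, key χ' h' s]

end Groth.Agent.H4
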