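import Mathlib
import Groth.Agent.Lib.helper4.DescendLoc
import Groth.Agent.Lib.helper4.HenselizationProps
import Groth.Agent.Lib.helper4.EtalePairs
import Groth.Agent.S0501
import Groth.Agent.S0508
import Groth.Agent.S0509

/-!
# The henselization of `R_p` as a colimit of étale pairs over `R`
-/

set_option autoImplicit false

open TensorProduct

namespace Groth.Agent.H4

universe u

/-- A map from an étale algebra to a flat algebra is flat. -/
theorem H4_flat_of_etale_of_flat {R S T : Type u} [CommRing R] [CommRing S] [CommRing T]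
    [Algebra R S] [Algebra R T] [Algebra.Etale R S] [Module.Flat R T] (f : S →ₐ[R] T) :
    f.toRingHom.Flat := by
  let m : T ⊗[R] S →ₐ[T] T :=
    Algebra.TensorProduct.lift (AlgHom.id T T) f (fun _ _ => Commute.all _ _)
  have hm : m.toRingHom.Flat := by
    algebraize [m.toRingHom]
    haveI : IsScalarTower T (T ⊗[R] S) T :=
      IsScalarTower.of_algebraMap_eq (fun t => (m.commutes t).symm)
    haveI : Algebra.Etale (T ⊗[R] S) T := Algebra.Etale.of_restrictScalars T (T ⊗[R] S) T
    show Module.Flat (T ⊗[R] S) T
    infer_instance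
  have hi : (Algebra.TensorProduct.includeRight : S →ₐ[R] T ⊗[R] S).toRingHom.Flat := by
    have h1 : (algebraMap S (S ⊗[R] T)).Flat := RingHom.flat_algebraMap_iff.mpr inferInstance
    have h2 : ((Algebra.TensorProduct.comm R S T).toAlgHom.toRingHom).Flat :=
      RingHom.Flat.of_bijective (Algebra.TensorProduct.comm R S T).bijective
    have h3 := h1.comp h2
    convert h3 using 1
    refine RingHom.ext fun s => ?_
    simp
  have h4 := hi.comp hm
  convert h4 using 1
  refine RingHom.ext fun s => ?_
  simp [m]

/-- If `f : S → T` is flat with `T` local and `f s = 0`, then `s` is killed by an element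
mapping to a unit. -/
theorem H4_exists_kill_of_flat {S T : Type u} [CommRing S] [CommRing T] [IsLocalRing T]
    (f : S →+* T) (hf : f.Flat) (s : S) (hs : f s = 0) :
    ∃ t : S, f t ∉ IsLocalRing.maximalIdeal T ∧ t * s = 0 := by
  classical
  algebraize [f]
  have hflat : Module.Flat S T := hf
  have h0 : ∑ i : Fin 1, (fun _ => s) i • (fun _ => (1 : T)) i = 0 := by
    simp only [Finset.univ_unique, Finset.sum_singleton, Algebra.smul_def, mul_one]
    exact hs
  obtain ⟨k, a, y, hx, ha⟩ := Module.Flat.isTrivialRelation_of_sum_smul_eq_zero (R := S) (M := T)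
    (f := fun _ : Fin 1 => s) (x := fun _ => (1 : T)) h0
  by_contra hcon
  push Not at hcon
  have h1 : ∀ j, f (a 0 j) ∈ IsLocalRing.maximalIdeal T := by
    intro j
    by_contra hj
    refine hcon (a 0 j) hj ?_
    have := ha j
    simp only [Finset.univ_unique, Finset.sum_singleton] at this
    rw [mul_comm]
    have hd : (default : Fin 1) = 0 := rfl
    rw [hd] at this
    exact this
  have h2 : (1 : T) ∈ IsLocalRing.maximalIdeal T := by
    have hx0 : (1 : T) = ∑ j, a 0 j • y j := hx 0
    rw [hx0]
    refine Ideal.sum_mem _ fun j _ => ?_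
    rw [Algebra.smul_def]
    exact Ideal.mul_mem_right _ _ (h1 j)
  exact (Ideal.ne_top_iff_one _).mp (IsLocalRing.maximalIdeal.isMaximal T).ne_top h2

/-- Extending an algebra map to a localization away from an element mapping to a unit. -/
theorem H4_algHom_away {R S T : Type u} [CommRing R] [CommRing S] [CommRing T] [Algebra R S]
    [Algebra R T] (f : S →ₐ[R] T) (t : S) (ht : IsUnit (f t)) :
    ∃ f' : Localization.Away t →ₐ[R] T, ∀ y, f' (algebraMap S _ y) = f y := by
  let l : Localization.Away t →+* T :=
    IsLocalization.Away.lift (S := Localization.Away t) t (g := f.toRingHom) ht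
  have hl : ∀ y, l (algebraMap S _ y) = f y := fun y => IsLocalization.Away.lift_eq _ ht y
  exact ⟨{ l with
    commutes' := fun c => by
      show l (algebraMap R (Localization.Away t) c) = _
      rw [IsScalarTower.algebraMap_apply R S (Localization.Away t), hl, f.commutes] }, hl⟩

section pairs

variable (R : Type u) [CommRing R] (p : Ideal R) [p.IsPrime]
  (Rh : Type u) [CommRing Rh] [IsLocalRing Rh] [Algebra (Localization.AtPrime p) Rh]
  [IsLocalHom (algebraMap (Localization.AtPrime p) Rh)]
  [Hensel.IsHenselization (Localization.AtPrime p) Rh]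
  [Algebra R Rh] [IsScalarTower R (Localization.AtPrime p) Rh]

/-- The residue field isomorphism. -/
noncomputable def H4_rhoEquiv : p.ResidueField ≃+* IsLocalRing.ResidueField Rh :=
  RingEquiv.ofBijective (IsLocalRing.ResidueField.map (algebraMap (Localization.AtPrime p) Rh))
    (Groth.Agent.S0508.result (Localization.AtPrime p) Rh)

theorem H4_rhoEquiv_algebraMap (r : R) :
    H4_rhoEquiv R p Rh (algebraMap R p.ResidueField r) =
      IsLocalRing.residue Rh (algebraMap R Rh r) := by
  simp only [H4_rhoEquiv, RingEquiv.ofBijective_apply]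
  rw [IsScalarTower.algebraMap_apply R (Localization.AtPrime p) p.ResidueField,
    IsLocalRing.ResidueField.algebraMap_eq, IsLocalRing.ResidueField.map_residue,
    ← IsScalarTower.algebraMap_apply]

variable {S : Type u} [CommRing S] [Algebra R S]

/-- The character of an `R`-algebra map into the henselization. -/
noncomputable def H4_charOf (f : S →ₐ[R] Rh) : S →ₐ[R] p.ResidueField :=
  { ((H4_rhoEquiv R p Rh).symm : IsLocalRing.ResidueField Rh →+* p.ResidueField).comp
      ((IsLocalRing.residue Rh).comp f.toRingHom) with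
    commutes' := fun r => by
      show (H4_rhoEquiv R p Rh).symm (IsLocalRing.residue Rh (f (algebraMap R S r))) = _
      rw [f.commutes, ← H4_rhoEquiv_algebraMap R p Rh r, RingEquiv.symm_apply_apply] }

theorem H4_charOf_apply (f : S →ₐ[R] Rh) (x : S) :
    H4_rhoEquiv R p Rh (H4_charOf R p Rh f x) = IsLocalRing.residue Rh (f x) := by
  show H4_rhoEquiv R p Rh ((H4_rhoEquiv R p Rh).symm (IsLocalRing.residue Rh (f x))) = _
  rw [RingEquiv.apply_symm_apply]

theorem H4_charOf_ker (f : S →ₐ[R] Rh) :
    RingHom.ker (H4_charOf R p Rh f) = (IsLocalRing.maximalIdeal Rh).comap f.toRingHom := by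
  ext x
  rw [RingHom.mem_ker, Ideal.mem_comap, ← IsLocalRing.residue_eq_zero_iff,
    ← map_eq_zero_iff _ (H4_rhoEquiv R p Rh).injective, H4_charOf_apply]
  rfl

/-- Any `R`-algebra map into the henselization gives a pair with trivial residue extension. -/
theorem H4_pair_of_algHom (f : S →ₐ[R] Rh) (q : Ideal S) [q.IsPrime]
    (hq : (IsLocalRing.maximalIdeal Rh).comap f.toRingHom = q) :
    ∃ hq' : p = q.comap (algebraMap R S),
      Function.Bijective (Ideal.ResidueField.map p q (algebraMap R S) hq') :=
  H4_char_pair p (H4_charOf R p Rh f) q ((H4_charOf_ker R p Rh f).trans hq)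

/-- Part (a): existence and uniqueness of the map from a pair. -/
theorem H4_pairs_existsUnique [Algebra.Etale R S] (q : Ideal S) [q.IsPrime]
    (hq : p = q.comap (algebraMap R S))
    (hκ : Function.Bijective (Ideal.ResidueField.map p q (algebraMap R S) hq)) :
    ∃! f : S →ₐ[R] Rh, (IsLocalRing.maximalIdeal Rh).comap f.toRingHom = q := by
  classical
  haveI : HenselianLocalRing Rh :=
    Hensel.IsHenselization.henselian (R := Localization.AtPrime p)
  obtain ⟨χ, hχ⟩ := H4_pair_char p q hq hκ
  have hmem : ∀ s, s ∈ q ↔ χ s = 0 := fun s => by rw [← hχ]; exact RingHom.mem_ker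
  let ρ₀ : q.ResidueField →+* p.ResidueField :=
    Ideal.ResidueField.lift q χ.toRingHom (fun s hs => RingHom.mem_ker.mpr ((hmem s).mp hs))
      (fun s hs => by
        show IsUnit (χ s)
        rw [isUnit_iff_ne_zero]
        intro h0
        exact hs ((hmem s).mpr h0))
  have hρ₀ : ∀ s, ρ₀ (algebraMap S q.ResidueField s) = χ s := fun s =>
    Ideal.ResidueField.lift_algebraMap _ _ _ _ s
  let τ : q.ResidueField →+* IsLocalRing.ResidueField Rh :=
    ((H4_rhoEquiv R p Rh : p.ResidueField →+* IsLocalRing.ResidueField Rh)).comp ρ₀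
  have hτ : τ.comp (algebraMap R q.ResidueField) =
      (IsLocalRing.residue Rh).comp (algebraMap R Rh) := by
    refine RingHom.ext fun r => ?_
    show H4_rhoEquiv R p Rh (ρ₀ (algebraMap R q.ResidueField r)) = _
    rw [IsScalarTower.algebraMap_apply R S q.ResidueField, hρ₀, χ.commutes,
      H4_rhoEquiv_algebraMap]
    rfl
  obtain ⟨f, ⟨hf1, hf2⟩, huniq⟩ := Groth.Agent.S0501.result R Rh S q τ hτ
  refine ⟨f, hf1, fun f' hf' => huniq f' ⟨hf', fun a => ?_⟩⟩
  have h1 : H4_charOf R p Rh f' = χ :=
    H4_char_unique p q hq hκ _ _ ((H4_charOf_ker R p Rh f').trans hf') hχ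
  show _ = H4_rhoEquiv R p Rh (ρ₀ (algebraMap S q.ResidueField a))
  rw [hρ₀, ← h1, H4_charOf_apply]

include p in
/-- Part (c), core: an element dying in the henselization is killed by an element mapping to a
unit. -/
theorem H4_pairs_kill [Algebra.Etale R S] (f : S →ₐ[R] Rh) (s : S) (hs : f s = 0) :
    ∃ t : S, f t ∉ IsLocalRing.maximalIdeal Rh ∧ t * s = 0 := by
  haveI : Module.FaithfullyFlat (Localization.AtPrime p) Rh :=
    Groth.Agent.S0509.result (Localization.AtPrime p) Rh
  haveI : Module.Flat R (Localization.AtPrime p) := IsLocalization.flat _ p.primeCompl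
  haveI : Module.Flat R Rh := Module.Flat.trans R (Localization.AtPrime p) Rh
  exact H4_exists_kill_of_flat f.toRingHom (H4_flat_of_etale_of_flat f) s hs

include p in
/-- Part (b), core: every element of the henselization comes from an étale `R`-algebra. -/
theorem H4_pairs_exists_of (x : Rh) :
    ∃ (S : Type u) (_ : CommRing S) (_ : Algebra R S) (_ : Algebra.Etale R S)
      (f : S →ₐ[R] Rh) (s : S), f s = x := by
  classical
  obtain ⟨e⟩ := H4_henselization_equiv (R := Localization.AtPrime p) Rh
  obtain ⟨j, g₀, hg₀⟩ : ∃ (j : H4_Nbhd (Localization.AtPrime p)) (g₀ : j.G),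
      H4_of _ j g₀ = e x := Ring.DirectLimit.exists_of (e x)
  letI algRC : Algebra R j.C := ((algebraMap (Localization.AtPrime p) j.C).comp
    (algebraMap R (Localization.AtPrime p))).toAlgebra
  haveI twRAC : IsScalarTower R (Localization.AtPrime p) j.C :=
    IsScalarTower.of_algebraMap_eq (fun _ => rfl)
  obtain ⟨S, _, _, hSEt, r, hr, jj, hloc⟩ :=
    H4_descend_etale_localization (C₀ := R) (Localization.AtPrime p) (C' := j.C) p.primeCompl j.q
  letI algSLoc : Algebra S (Localization.AtPrime j.q) := jj.toRingHom.toAlgebra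
  haveI : IsLocalization.AtPrime (Localization.AtPrime j.q) r := hloc
  have hjj : ∀ y : S, algebraMap S (Localization.AtPrime j.q) y = jj y := fun _ => rfl
  let ofL : Localization.AtPrime j.q →+* H4_Hens (Localization.AtPrime p) := H4_of _ j
  let g₁ : Localization.AtPrime j.q := g₀
  have hg₁ : ofL g₁ = e x := hg₀
  obtain ⟨a, t, hat⟩ := IsLocalization.exists_mk'_eq r.primeCompl g₁
  have hunit : IsUnit (jj (t : S)) := IsLocalization.map_units (Localization.AtPrime j.q) t
  have hcomm : ∀ c : R, e.symm (ofL (algebraMap R (Localization.AtPrime j.q) c)) =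
      algebraMap R Rh c := by
    intro c
    have h1 : algebraMap R (Localization.AtPrime j.q) c =
        algebraMap (Localization.AtPrime p) j.G (algebraMap R (Localization.AtPrime p) c) := by
      rw [IsScalarTower.algebraMap_apply R j.C (Localization.AtPrime j.q),
        IsScalarTower.algebraMap_apply (Localization.AtPrime p) j.C j.G]
      rfl
    have h2 : ofL (algebraMap R (Localization.AtPrime j.q) c) =
        algebraMap (Localization.AtPrime p) (H4_Hens (Localization.AtPrime p))
          (algebraMap R (Localization.AtPrime p) c) := by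
      rw [h1]
      exact H4_of_algebraMap _ j _
    rw [h2, e.symm.commutes, ← IsScalarTower.algebraMap_apply]
  let f₀ : S →ₐ[R] Rh :=
    { (e.symm.toRingEquiv.toRingHom.comp ofL).comp jj.toRingHom with
      commutes' := fun c => by
        show e.symm (ofL (jj (algebraMap R S c))) = _
        rw [jj.commutes, hcomm] }
  have hf₀ : ∀ y, f₀ y = e.symm (ofL (jj y)) := fun _ => rfl
  have hunit' : IsUnit (f₀ (t : S)) := by
    rw [hf₀]
    exact (hunit.map ofL).map e.symm.toRingEquiv.toRingHom
  obtain ⟨f', hf'⟩ := H4_algHom_away f₀ (t : S) hunit'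
  refine ⟨Localization.Away (t : S), inferInstance, inferInstance, inferInstance, f',
    IsLocalization.mk' _ a ⟨(t : S), Submonoid.mem_powers _⟩, ?_⟩
  have h2 : f' (IsLocalization.mk' (Localization.Away (t : S)) a
      ⟨(t : S), Submonoid.mem_powers _⟩) * f₀ (t : S) = f₀ a := by
    rw [← hf' (t : S), ← map_mul, IsLocalization.mk'_spec, hf']
  have h3 : x * f₀ (t : S) = f₀ a := by
    have h4 : jj a = g₁ * jj (t : S) := by
      rw [← hat, ← hjj (t : S), IsLocalization.mk'_spec, hjj]
    rw [hf₀, hf₀, h4, map_mul, map_mul, hg₁, AlgEquiv.symm_apply_apply]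
  exact hunit'.mul_right_cancel (h2.trans h3.symm)

end pairs

end Groth.Agent.H4
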