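import Mathlib
import Groth.Prelude.Def_EssEt
import Groth.Agent.Lib.helper4.DescendLoc

/-!
# Transitivity of essentially étale local algebras
-/

set_option autoImplicit false

namespace Groth.Agent.H4

universe u

theorem H4_essEt_trans (A : Type u) [CommRing A] [IsLocalRing A] (B : Type u) [CommRing B]
    [IsLocalRing B] [Algebra A B] (C : Type u) [CommRing C] [Algebra B C] [Algebra A C]
    [IsScalarTower A B C]
    (C₁ : Type u) [CommRing C₁] [Algebra A C₁] (q₁ : Ideal C₁) [hq₁ : q₁.IsPrime]
    [hEt₁ : Algebra.Etale A C₁]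
    (hq₁A : q₁.comap (algebraMap A C₁) = IsLocalRing.maximalIdeal A)
    (eB : B ≃ₐ[A] Localization.AtPrime q₁)
    (C₂ : Type u) [CommRing C₂] [Algebra B C₂] (q₂ : Ideal C₂) [hq₂ : q₂.IsPrime]
    [hEt₂ : Algebra.Etale B C₂]
    (hq₂B : q₂.comap (algebraMap B C₂) = IsLocalRing.maximalIdeal B)
    (eC : C ≃ₐ[B] Localization.AtPrime q₂) :
    EGA4loc.IsEssentiallyEtale A C := by
  classical
  -- L := localization of C₁ at q₁
  let L := Localization.AtPrime q₁
  letI algLB : Algebra L B := eB.symm.toRingEquiv.toRingHom.toAlgebra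
  have hLB : ∀ x : L, algebraMap L B x = eB.symm x := fun _ => rfl
  let eLB : L ≃ₐ[L] B := AlgEquiv.ofRingEquiv (f := eB.symm.toRingEquiv) (fun x => rfl)
  haveI : Algebra.Etale L B := Algebra.Etale.of_equiv eLB
  letI algLC₂ : Algebra L C₂ := ((algebraMap B C₂).comp (algebraMap L B)).toAlgebra
  haveI twLBC₂ : IsScalarTower L B C₂ := IsScalarTower.of_algebraMap_eq (fun _ => rfl)
  haveI : Algebra.Etale L C₂ := Algebra.Etale.comp L B C₂
  letI algC₁C₂ : Algebra C₁ C₂ := ((algebraMap L C₂).comp (algebraMap C₁ L)).toAlgebra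
  haveI twC₁LC₂ : IsScalarTower C₁ L C₂ := IsScalarTower.of_algebraMap_eq (fun _ => rfl)
  obtain ⟨S, _, _, hSEt, r, hr, j, hloc⟩ :=
    H4_descend_etale_localization (C₀ := C₁) L (C' := C₂) q₁.primeCompl q₂
  letI algAS : Algebra A S := ((algebraMap C₁ S).comp (algebraMap A C₁)).toAlgebra
  haveI twAC₁S : IsScalarTower A C₁ S := IsScalarTower.of_algebraMap_eq (fun _ => rfl)
  haveI : Algebra.Etale A S := Algebra.Etale.comp A C₁ S
  letI algSLoc : Algebra S (Localization.AtPrime q₂) := j.toRingHom.toAlgebra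
  haveI : IsLocalization.AtPrime (Localization.AtPrime q₂) r := hloc
  have hjS : ∀ s : S, algebraMap S (Localization.AtPrime q₂) s = j s := fun _ => rfl
  -- key computation: the two maps `A → Loc q₂` agree
  have hkey : ∀ a : A, algebraMap S (Localization.AtPrime q₂) (algebraMap A S a) =
      algebraMap C₂ (Localization.AtPrime q₂) (algebraMap B C₂ (algebraMap A B a)) := by
    intro a
    have h1 : algebraMap A S a = algebraMap C₁ S (algebraMap A C₁ a) := rfl
    rw [h1, hjS, j.commutes, IsScalarTower.algebraMap_apply C₁ C₂ (Localization.AtPrime q₂)]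
    congr 1
    show algebraMap B C₂ (eB.symm (algebraMap C₁ L (algebraMap A C₁ a))) = _
    congr 1
    rw [← IsScalarTower.algebraMap_apply A C₁ L, eB.symm.commutes]
  refine ⟨S, inferInstance, algAS, r, hr, inferInstance, ?_, ?_⟩
  · -- r lies over the maximal ideal of A
    have hr' : r = (IsLocalRing.maximalIdeal (Localization.AtPrime q₂)).comap
        (algebraMap S (Localization.AtPrime q₂)) :=
      (IsLocalization.AtPrime.comap_maximalIdeal (Localization.AtPrime q₂) r).symm
    ext a
    rw [Ideal.mem_comap, hr', Ideal.mem_comap, hkey]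
    have h2 : algebraMap C₂ (Localization.AtPrime q₂) (algebraMap B C₂ (algebraMap A B a)) ∈
        IsLocalRing.maximalIdeal (Localization.AtPrime q₂) ↔
        algebraMap B C₂ (algebraMap A B a) ∈ q₂ := by
      have h5 : (IsLocalRing.maximalIdeal (Localization.AtPrime q₂)).comap
          (algebraMap C₂ (Localization.AtPrime q₂)) = q₂ :=
        IsLocalization.AtPrime.comap_maximalIdeal (Localization.AtPrime q₂) q₂
      rw [← Ideal.mem_comap, h5]
    rw [h2, ← Ideal.mem_comap, hq₂B, ← hq₁A, Ideal.mem_comap]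
    -- `algebraMap A B a ∈ 𝔪_B ↔ algebraMap A C₁ a ∈ q₁`
    have h3 : algebraMap A B a = eB.symm (algebraMap C₁ L (algebraMap A C₁ a)) := by
      rw [← IsScalarTower.algebraMap_apply A C₁ L, eB.symm.commutes]
    rw [h3, IsLocalRing.mem_maximalIdeal, mem_nonunits_iff]
    have h4 : IsUnit (eB.symm (algebraMap C₁ L (algebraMap A C₁ a))) ↔
        IsUnit (algebraMap C₁ L (algebraMap A C₁ a)) :=
      MulEquiv.isUnit_map eB.symm.toRingEquiv.toMulEquiv
    rw [h4, IsLocalization.AtPrime.isUnit_to_map_iff L q₁]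
    simp [Ideal.primeCompl]
  · -- the isomorphism
    let eq : Localization.AtPrime r ≃ₐ[S] Localization.AtPrime q₂ :=
      IsLocalization.algEquiv r.primeCompl _ _
    refine ⟨AlgEquiv.ofRingEquiv (f := eC.toRingEquiv.trans eq.symm.toRingEquiv) ?_⟩
    intro a
    show eq.symm (eC (algebraMap A C a)) = _
    rw [IsScalarTower.algebraMap_apply A B C, eC.commutes,
      IsScalarTower.algebraMap_apply B C₂ (Localization.AtPrime q₂), ← hkey, eq.symm.commutes,
      ← IsScalarTower.algebraMap_apply A S (Localization.AtPrime r)]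

end Groth.Agent.H4
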