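import Mathlib

set_option autoImplicit false
universe u
open TensorProduct IsLocalRing

namespace Groth.Agent.H4

/-- Flat local hom with `m_R S = m_S`, `S` Noetherian: same dimension. -/
theorem H4_ringKrullDim_eq_of_flat_of_map_maximalIdeal (R S : Type*) [CommRing R] [CommRing S]
    [IsLocalRing R] [IsLocalRing S] [IsNoetherianRing R] [IsNoetherianRing S] [Algebra R S]
    [IsLocalHom (algebraMap R S)] [Module.Flat R S]
    (h : (maximalIdeal R).map (algebraMap R S) = maximalIdeal S) :
    ringKrullDim S = ringKrullDim R := by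
  haveI : (maximalIdeal S).LiesOver (maximalIdeal R) :=
    ⟨(IsLocalRing.maximalIdeal_comap (algebraMap R S)).symm⟩
  have h1 := Ideal.height_eq_height_add_of_liesOver_of_hasGoingDown (maximalIdeal R)
    (maximalIdeal S)
  have h2 : (maximalIdeal S).map (Ideal.Quotient.mk ((maximalIdeal R).map (algebraMap R S))) =
      ⊥ := by
    rw [h, Ideal.map_quotient_self]
  have hnt : Nontrivial (S ⧸ (maximalIdeal R).map (algebraMap R S)) := by
    rw [h]; infer_instance
  rw [h2, Ideal.height_bot, add_zero] at h1
  rw [← IsLocalRing.maximalIdeal_height_eq_ringKrullDim,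
    ← IsLocalRing.maximalIdeal_height_eq_ringKrullDim (R := R), h1]

theorem H4_spanFinrank_maximalIdeal_le_of_faithfullyFlat (R S : Type*) [CommRing R] [CommRing S]
    [IsLocalRing R] [IsLocalRing S] [IsNoetherianRing R] [IsNoetherianRing S] [Algebra R S]
    [IsLocalHom (algebraMap R S)] [Module.FaithfullyFlat R S]
    (h : (maximalIdeal R).map (algebraMap R S) = maximalIdeal S) :
    (maximalIdeal R).spanFinrank ≤ (maximalIdeal S).spanFinrank := by
  classical
  have hmem : ∀ a : maximalIdeal R, algebraMap R S a ∈ maximalIdeal S := fun a => by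
    rw [← h]; exact Ideal.mem_map_of_mem _ a.2
  let g : maximalIdeal R → maximalIdeal S := fun a => ⟨algebraMap R S a, hmem a⟩
  let s : Set (maximalIdeal S) := Set.range g
  have hs : Submodule.span S s = ⊤ := by
    rw [← (Submodule.map_injective_of_injective (Submodule.injective_subtype _)).eq_iff,
      Submodule.map_span, Submodule.map_top, Submodule.range_subtype]
    have h5 : (Submodule.subtype (maximalIdeal S)) '' s =
        (algebraMap R S) '' (maximalIdeal R : Set R) := by
      ext x
      constructor
      · rintro ⟨_, ⟨a, rfl⟩, rfl⟩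
        exact ⟨a.1, a.2, rfl⟩
      · rintro ⟨a, ha, rfl⟩
        exact ⟨g ⟨a, ha⟩, ⟨⟨a, ha⟩, rfl⟩, rfl⟩
    rw [h5]
    exact h
  have hs' : Submodule.span (ResidueField S) ((maximalIdeal S).toCotangent '' s) = ⊤ :=
    CotangentSpace.span_image_eq_top_iff.mpr hs
  let B := Module.Basis.ofSpan hs'.ge
  haveI : Fintype ↥((linearIndepOn_empty (ResidueField S) id).extend
      (Set.empty_subset ((maximalIdeal S).toCotangent '' s))) :=
    FiniteDimensional.fintypeBasisIndex B
  have hcard : Fintype.card ↥((linearIndepOn_empty (ResidueField S) id).extend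
      (Set.empty_subset ((maximalIdeal S).toCotangent '' s))) = (maximalIdeal S).spanFinrank := by
    rw [IsLocalRing.spanFinrank_maximalIdeal_eq_finrank_cotangentSpace,
      Module.finrank_eq_card_basis B]
  have hB : ∀ i, ∃ a : maximalIdeal R, (maximalIdeal S).toCotangent (g a) = B i := by
    intro i
    have := Module.Basis.ofSpan_subset hs'.ge ⟨i, rfl⟩
    obtain ⟨x, ⟨a, rfl⟩, hx⟩ := this
    exact ⟨a, hx⟩
  choose a ha using hB
  let s' : Set (maximalIdeal S) := Set.range (fun i => g (a i))
  have hs'' : Submodule.span S s' = ⊤ := by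
    rw [← CotangentSpace.span_image_eq_top_iff]
    have : (maximalIdeal S).toCotangent '' s' = Set.range B := by
      rw [← Set.range_comp]
      congr 1
      funext i
      exact ha i
    rw [this]
    exact B.span_eq
  let J : Ideal R := Ideal.span (Set.range fun i => (a i : R))
  have hJ : J.map (algebraMap R S) = maximalIdeal S := by
    rw [Ideal.map_span, ← Set.range_comp]
    have h2 := congrArg (Submodule.map (Submodule.subtype (maximalIdeal S))) hs''
    rw [Submodule.map_span, Submodule.map_top, Submodule.range_subtype, ← Set.range_comp] at h2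
    exact h2
  have hJ' : J = maximalIdeal R :=
    Ideal.map_injective_of_faithfullyFlat (B := S) (hJ.trans h.symm)
  rw [← hJ', ← hcard]
  refine (Submodule.spanFinrank_span_le_ncard_of_finite (Set.finite_range _)).trans ?_
  rw [← Set.image_univ]
  refine (Set.ncard_image_le Set.finite_univ).trans ?_
  rw [Set.ncard_univ, Nat.card_eq_fintype_card]

theorem H4_isRegularLocalRing_iff_of_faithfullyFlat (R S : Type*) [CommRing R] [CommRing S]
    [IsLocalRing R] [IsLocalRing S] [IsNoetherianRing R] [IsNoetherianRing S] [Algebra R S]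
    [IsLocalHom (algebraMap R S)] [Module.Flat R S]
    (h : (maximalIdeal R).map (algebraMap R S) = maximalIdeal S) :
    IsRegularLocalRing R ↔ IsRegularLocalRing S := by
  haveI : Module.FaithfullyFlat R S := Module.FaithfullyFlat.of_flat_of_isLocalHom
  have hdim := H4_ringKrullDim_eq_of_flat_of_map_maximalIdeal R S h
  have h1 := H4_spanFinrank_maximalIdeal_le_of_faithfullyFlat R S h
  have h2 : (maximalIdeal S).spanFinrank ≤ (maximalIdeal R).spanFinrank := by
    rw [← h]
    exact Ideal.spanFinrank_map_le_of_fg _ (maximalIdeal R).fg_of_isNoetherianRing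
  have h3 : (maximalIdeal S).spanFinrank = (maximalIdeal R).spanFinrank := le_antisymm h2 h1
  rw [isRegularLocalRing_iff, isRegularLocalRing_iff, h3, hdim]

end Groth.Agent.H4
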