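import Mathlib
import Groth.Agent.Lib.helper4.RegFlat
import Groth.Agent.Lib.helper4.HensNoeth

set_option autoImplicit false
universe u
open TensorProduct IsLocalRing

namespace Groth.Agent.H4

theorem H4_regular_localization_iff_of_etale (A B : Type u) [CommRing A] [CommRing B]
    [Algebra A B] [Algebra.Etale A B] (q : Ideal B) [q.IsPrime] :
    IsRegularLocalRing (Localization.AtPrime (Ideal.comap (algebraMap A B) q)) ↔
      IsRegularLocalRing (Localization.AtPrime q) := by
  set p := Ideal.comap (algebraMap A B) q with hp
  haveI : q.LiesOver p := ⟨rfl⟩
  letI := Localization.AtPrime.algebraOfLiesOver p q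
  haveI : IsLocalHom (algebraMap (Localization.AtPrime p) (Localization.AtPrime q)) := by
    rw [Localization.AtPrime.IsLiesOverAlgebra.algebraMap_eq (p := p) (P := q)]
    exact Localization.isLocalHom_localRingHom p q (algebraMap A B) Ideal.LiesOver.over
  haveI : Algebra.EssFiniteType (Localization.AtPrime p) (Localization.AtPrime q) :=
    .of_comp A _ _
  haveI : Algebra.FormallyUnramified (Localization.AtPrime p) (Localization.AtPrime q) :=
    .of_restrictScalars A _ _
  have hmax := Algebra.FormallyUnramified.map_maximalIdeal (R := Localization.AtPrime p)
    (S := Localization.AtPrime q)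
  haveI : Module.Flat (Localization.AtPrime p) (Localization.AtPrime q) := inferInstance
  haveI : Module.FaithfullyFlat (Localization.AtPrime p) (Localization.AtPrime q) :=
    Module.FaithfullyFlat.of_flat_of_isLocalHom
  constructor
  · intro hA
    haveI : IsNoetherianRing (Localization.AtPrime p) := inferInstance
    haveI : IsNoetherianRing (Localization.AtPrime q) :=
      Algebra.EssFiniteType.isNoetherianRing (Localization.AtPrime p) (Localization.AtPrime q)
    exact (H4_isRegularLocalRing_iff_of_faithfullyFlat _ _ hmax).mp hA
  · intro hB
    haveI : IsNoetherianRing (Localization.AtPrime q) := inferInstance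
    haveI : IsNoetherianRing (Localization.AtPrime p) :=
      H4_isNoetherianRing_of_faithfullyFlat (Localization.AtPrime p) (Localization.AtPrime q)
    exact (H4_isRegularLocalRing_iff_of_faithfullyFlat _ _ hmax).mpr hB

end Groth.Agent.H4
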