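import Mathlib

/-! Smooth algebras over reduced rings are reduced; nilradicals under smooth maps. -/

set_option autoImplicit false
universe u

open TensorProduct Polynomial

namespace Groth.Agent.H4

/-- Over a reduced ring, a polynomial which is integral over the base has no higher coefficients. -/
theorem H4_coeff_eq_zero_of_isIntegral {R : Type u} [CommRing R] [IsReduced R] (f : R[X])
    (hf : IsIntegral R f) (n : ℕ) (hn : n ≠ 0) : f.coeff n = 0 := by
  by_contra hne
  have h1 : f.coeff n ∉ nilradical R := by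
    rw [nilradical_eq_zero]
    exact hne
  rw [nilradical_eq_sInf, Ideal.mem_sInf] at h1
  push Not at h1
  obtain ⟨p, hp, hnp⟩ := h1
  haveI : p.IsPrime := hp
  let φ : R[X] →ₐ[R] (R ⧸ p)[X] := Polynomial.mapAlg R (R ⧸ p)
  have hφ : ∀ g : R[X], φ g = g.map (algebraMap R (R ⧸ p)) := fun g => by
    simp [φ, Polynomial.mapAlg_eq_map]
  have h2 : IsIntegral R (φ f) := hf.map φ
  have h3 : IsIntegral (R ⧸ p) (φ f) := h2.tower_top
  have h4 : (φ f).coeff n ≠ 0 := by
    rw [hφ, Polynomial.coeff_map]
    intro h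
    apply hnp
    exact Ideal.Quotient.eq_zero_iff_mem.mp h
  have h5 : (φ f).natDegree ≠ 0 := by
    intro h
    apply h4
    apply Polynomial.coeff_eq_zero_of_natDegree_lt
    rw [h]
    exact Nat.pos_of_ne_zero hn
  have h6 : φ f ≠ 0 := fun h => h4 (by rw [h, Polynomial.coeff_zero])
  have h7 : Transcendental (R ⧸ p) (φ f) :=
    Polynomial.transcendental (φ f) h5
      (mem_nonZeroDivisors_of_ne_zero (Polynomial.leadingCoeff_ne_zero.mpr h6))
  exact h7 h3.isAlgebraic

/-- A smooth algebra over a reduced ring is reduced. -/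
theorem H4_isReduced_of_smooth (R S : Type u) [CommRing R] [CommRing S] [Algebra R S]
    [Algebra.Smooth R S] [IsReduced R] : IsReduced S := by
  constructor
  intro x hx
  -- the element `x ⊗ X` is nilpotent hence integral
  have hy : IsIntegral S (x ⊗ₜ[R] (X : R[X])) := by
    obtain ⟨n, hn⟩ := hx
    refine ⟨X ^ n, monic_X_pow n, ?_⟩
    rw [Polynomial.eval₂_pow, Polynomial.eval₂_X, Algebra.TensorProduct.tmul_pow, hn,
      TensorProduct.zero_tmul]
  obtain ⟨z, hz⟩ := (TensorProduct.toIntegralClosure_bijective_of_smooth (R := R) (S := S)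
    (B := R[X])).surjective ⟨x ⊗ₜ[R] (X : R[X]), hy⟩
  have hz' : (Algebra.TensorProduct.map (AlgHom.id S S) (integralClosure R R[X]).val) z =
      x ⊗ₜ[R] (X : R[X]) := congrArg Subtype.val hz
  let lam : S ⊗[R] R[X] →ₗ[R] S :=
    (TensorProduct.rid R S).toLinearMap ∘ₗ (Polynomial.lcoeff R 1).lTensor S
  have hlam : ∀ (s : S) (p : R[X]), lam (s ⊗ₜ[R] p) = p.coeff 1 • s := by
    intro s p
    simp [lam]
  have hzero : ∀ w : S ⊗[R] (integralClosure R R[X]),
      lam ((Algebra.TensorProduct.map (AlgHom.id S S) (integralClosure R R[X]).val) w) = 0 := by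
    intro w
    induction w using TensorProduct.induction_on with
    | zero => simp
    | tmul s c =>
      rw [Algebra.TensorProduct.map_tmul, hlam]
      have : (c : R[X]).coeff 1 = 0 := H4_coeff_eq_zero_of_isIntegral _ c.2 1 one_ne_zero
      show ((c : R[X]).coeff 1) • _ = 0
      rw [this, zero_smul]
    | add a b ha hb => rw [map_add, map_add, ha, hb, add_zero]
  have h1 := hzero z
  rw [hz', hlam, Polynomial.coeff_X_one, one_smul] at h1
  exact h1

/-- Nilradicals extend along smooth maps. -/
theorem H4_nilradical_map_of_smooth (R S : Type u) [CommRing R] [CommRing S] [Algebra R S]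
    [Algebra.Smooth R S] : (nilradical R).map (algebraMap R S) = nilradical S := by
  apply le_antisymm
  · rw [Ideal.map_le_iff_le_comap]
    intro r hr
    rw [Ideal.mem_comap, mem_nilradical]
    exact (mem_nilradical.mp hr).map _
  · intro x hx
    have : IsReduced (R ⧸ nilradical R) := by
      rw [← Ideal.isRadical_iff_quotient_reduced]
      exact Ideal.radical_isRadical _
    have : IsReduced ((R ⧸ nilradical R) ⊗[R] S) :=
      H4_isReduced_of_smooth (R ⧸ nilradical R) ((R ⧸ nilradical R) ⊗[R] S)
    have h1 : IsNilpotent ((1 : R ⧸ nilradical R) ⊗ₜ[R] x) := by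
      obtain ⟨n, hn⟩ := mem_nilradical.mp hx
      refine ⟨n, ?_⟩
      rw [Algebra.TensorProduct.tmul_pow, hn, TensorProduct.tmul_zero]
    have h2 : (1 : R ⧸ nilradical R) ⊗ₜ[R] x = 0 := h1.eq_zero
    have h3 := congrArg (TensorProduct.quotTensorEquivQuotSMul S (nilradical R)) h2
    rw [TensorProduct.quotTensorEquivQuotSMul_mk_one_tmul, map_zero,
      Submodule.Quotient.mk_eq_zero, Ideal.smul_top_eq_map] at h3
    exact h3

end Groth.Agent.H4
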