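import Mathlib
import Groth.Agent.Lib.helper4.RegEtale
import Groth.Agent.Lib.helper4.SmoothReduced

set_option autoImplicit false
universe u
open TensorProduct IsLocalRing

namespace Groth.Agent.H4

theorem H4_ringKrullDim_localization_eq_of_etale (A B : Type u) [CommRing A] [CommRing B]
    [Algebra A B] [Algebra.Etale A B] [IsNoetherianRing A] (q : Ideal B) [q.IsPrime] :
    ringKrullDim (Localization.AtPrime q) =
      ringKrullDim (Localization.AtPrime (Ideal.comap (algebraMap A B) q)) := by
  set p := Ideal.comap (algebraMap A B) q with hp
  haveI : q.LiesOver p := ⟨rfl⟩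
  letI := Localization.AtPrime.algebraOfLiesOver p q
  haveI : IsLocalHom (algebraMap (Localization.AtPrime p) (Localization.AtPrime q)) := by
    rw [Localization.AtPrime.IsLiesOverAlgebra.algebraMap_eq (p := p) (P := q)]
    exact Localization.isLocalHom_localRingHom p q (algebraMap A B) Ideal.LiesOver.over
  haveI : Algebra.EssFiniteType (Localization.AtPrime p) (Localization.AtPrime q) :=
    .of_comp A _ _
  haveI : Algebra.FormallyUnramified (Localization.AtPrime p) (Localization.AtPrime q) :=
    .of_restrictScalars A _ _
  have hmax := Algebra.FormallyUnramified.map_maximalIdeal (R := Localization.AtPrime p)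
    (S := Localization.AtPrime q)
  haveI : Module.Flat (Localization.AtPrime p) (Localization.AtPrime q) := inferInstance
  haveI : IsNoetherianRing (Localization.AtPrime p) := inferInstance
  haveI : IsNoetherianRing (Localization.AtPrime q) :=
    Algebra.EssFiniteType.isNoetherianRing (Localization.AtPrime p) (Localization.AtPrime q)
  exact H4_ringKrullDim_eq_of_flat_of_map_maximalIdeal _ _ hmax

attribute [local instance] Algebra.TensorProduct.rightAlgebra in
theorem H4_isReduced_localization_iff_of_etale (A B : Type u) [CommRing A] [CommRing B]
    [Algebra A B] [Algebra.Etale A B] (q : Ideal B) [q.IsPrime] :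
    IsReduced (Localization.AtPrime (Ideal.comap (algebraMap A B) q)) ↔
      IsReduced (Localization.AtPrime q) := by
  set p := Ideal.comap (algebraMap A B) q with hp
  haveI : q.LiesOver p := ⟨rfl⟩
  letI := Localization.AtPrime.algebraOfLiesOver p q
  haveI : IsLocalHom (algebraMap (Localization.AtPrime p) (Localization.AtPrime q)) := by
    rw [Localization.AtPrime.IsLiesOverAlgebra.algebraMap_eq (p := p) (P := q)]
    exact Localization.isLocalHom_localRingHom p q (algebraMap A B) Ideal.LiesOver.over
  haveI : Module.Flat (Localization.AtPrime p) (Localization.AtPrime q) := inferInstance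
  haveI : Module.FaithfullyFlat (Localization.AtPrime p) (Localization.AtPrime q) :=
    Module.FaithfullyFlat.of_flat_of_isLocalHom
  constructor
  · intro hA
    let T := Localization.AtPrime p ⊗[A] B
    haveI : IsReduced T := H4_isReduced_of_smooth (Localization.AtPrime p) T
    haveI hloc : IsLocalization (Algebra.algebraMapSubmonoid B p.primeCompl) T :=
      IsLocalization.tensorRight (Localization.AtPrime p) p.primeCompl
    constructor
    intro z hz
    obtain ⟨b, s, rfl⟩ := IsLocalization.exists_mk'_eq q.primeCompl z
    have hb : IsNilpotent (algebraMap B (Localization.AtPrime q) b) := by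
      have : algebraMap B (Localization.AtPrime q) b =
          IsLocalization.mk' (Localization.AtPrime q) b s * algebraMap B _ (s : B) := by
        rw [IsLocalization.mk'_spec]
      rw [this]
      exact (Commute.all _ _).isNilpotent_mul_right hz
    obtain ⟨n, hn⟩ := hb
    rw [← map_pow, IsLocalization.map_eq_zero_iff q.primeCompl] at hn
    obtain ⟨t, ht⟩ := hn
    have hnil : IsNilpotent ((t : B) * b) := by
      refine ⟨n + 1, ?_⟩
      have : ((t : B) * b) ^ (n + 1) = (t : B) ^ n * b * ((t : B) * b ^ n) := by ring
      rw [this, ht, mul_zero]
    have hT : algebraMap B T ((t : B) * b) = 0 := (hnil.map (algebraMap B T)).eq_zero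
    rw [IsLocalization.map_eq_zero_iff (Algebra.algebraMapSubmonoid B p.primeCompl)] at hT
    obtain ⟨⟨m, a, ha, rfl⟩, hm⟩ := hT
    have hanq : algebraMap A B a ∉ q := fun h => ha h
    have hmem : algebraMap A B a * (t : B) ∈ q.primeCompl := by
      intro h
      rcases Ideal.IsPrime.mem_or_mem inferInstance h with h | h
      · exact hanq h
      · exact t.2 h
    have hzero : algebraMap B (Localization.AtPrime q) b = 0 := by
      rw [IsLocalization.map_eq_zero_iff q.primeCompl]
      refine ⟨⟨_, hmem⟩, ?_⟩
      simpa [mul_assoc] using hm
    rw [IsLocalization.mk'_eq_zero_iff]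
    exact (IsLocalization.map_eq_zero_iff q.primeCompl _ _).mp hzero
  · intro hB
    exact isReduced_of_injective (algebraMap (Localization.AtPrime p) (Localization.AtPrime q))
      (FaithfulSMul.algebraMap_injective _ _)

end Groth.Agent.H4
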