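import Mathlib
import Groth.Agent.Lib.helper4.SmoothReduced
import Groth.Agent.Lib.helper4.HenselizationProps
import Groth.Agent.Lib.helper4.StrictHenselizationProps

/-! Nilradical and reducedness of the (strict) henselization. -/

set_option autoImplicit false
universe u

namespace Groth.Agent.H4

/-- Nilradical of a localization of a smooth algebra. -/
theorem H4_nilradical_map_localization (R C G : Type u) [CommRing R] [CommRing C] [CommRing G]
    [Algebra R C] [Algebra C G] [Algebra R G] [IsScalarTower R C G] [Algebra.Smooth R C]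
    (M : Submonoid C) [IsLocalization M G] :
    nilradical G ≤ (nilradical R).map (algebraMap R G) := by
  intro y hy
  obtain ⟨n, hn⟩ := mem_nilradical.mp hy
  obtain ⟨c, s, rfl⟩ := IsLocalization.exists_mk'_eq M y
  rw [← IsLocalization.mk'_pow, IsLocalization.mk'_eq_zero_iff] at hn
  obtain ⟨t, ht⟩ := hn
  have h1 : ((t : C) * c) ^ (n + 1) = 0 := by
    have : ((t : C) * c) ^ (n + 1) = ((t : C) ^ n * c) * ((t : C) * c ^ n) := by ring
    rw [this, ht, mul_zero]
  have h2 : (t : C) * c ∈ nilradical C := mem_nilradical.mpr ⟨n + 1, h1⟩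
  rw [← H4_nilradical_map_of_smooth R C] at h2
  have h3 : algebraMap C G ((t : C) * c) ∈ (nilradical R).map (algebraMap R G) := by
    rw [IsScalarTower.algebraMap_eq R C G, ← Ideal.map_map]
    exact Ideal.mem_map_of_mem _ h2
  have h4 : IsLocalization.mk' G c s =
      IsLocalization.mk' G (1 : C) (t * s) * algebraMap C G ((t : C) * c) := by
    rw [mul_comm, IsLocalization.mul_mk'_eq_mk'_of_mul, mul_one]
    rw [IsLocalization.mk'_eq_iff_eq]
    simp only [Submonoid.coe_mul]
    congr 1
    ring
  rw [h4]
  exact Ideal.mul_mem_left _ _ h3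

theorem H4_map_nilradical_le (R S : Type u) [CommRing R] [CommRing S] [Algebra R S] :
    (nilradical R).map (algebraMap R S) ≤ nilradical S := by
  rw [Ideal.map_le_iff_le_comap]
  intro r hr
  rw [Ideal.mem_comap, mem_nilradical]
  exact (mem_nilradical.mp hr).map _

theorem H4_Hens_nilradical (R : Type u) [CommRing R] [IsLocalRing R] :
    (nilradical R).map (algebraMap R (H4_Hens R)) = nilradical (H4_Hens R) := by
  apply le_antisymm (H4_map_nilradical_le R _)
  intro x hx
  obtain ⟨n, hn⟩ := mem_nilradical.mp hx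
  obtain ⟨i, y, rfl⟩ := Ring.DirectLimit.exists_of x
  change (H4_of R i y) ^ n = 0 at hn
  rw [← map_pow] at hn
  obtain ⟨j, hij, hj⟩ := H4_dl_eq_zero (fun i : H4_Nbhd R => i.G) (H4_f R) hn
  rw [map_pow] at hj
  have h1 : H4_f R i j hij y ∈ nilradical j.G := mem_nilradical.mpr ⟨n, hj⟩
  have h2 := H4_nilradical_map_localization R j.C j.G j.q.primeCompl h1
  have h3 : H4_of R i y = H4_of R j (H4_f R i j hij y) := (H4_of_f R hij y).symm
  change H4_of R i y ∈ _
  rw [h3]
  have h4 : algebraMap R (H4_Hens R) = (H4_of R j).comp (algebraMap R j.G) := by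
    ext r
    exact (H4_of_algebraMap R j r).symm
  rw [h4, ← Ideal.map_map]
  exact Ideal.mem_map_of_mem _ h2

theorem H4K_Hens_nilradical (R K : Type u) [CommRing R] [IsLocalRing R] [Field K] [Algebra R K]
    [hK : Fact (RingHom.ker (algebraMap R K) = IsLocalRing.maximalIdeal R)] :
    (nilradical R).map (algebraMap R (H4K_Hens R K)) = nilradical (H4K_Hens R K) := by
  apply le_antisymm (H4_map_nilradical_le R _)
  intro x hx
  obtain ⟨n, hn⟩ := mem_nilradical.mp hx
  obtain ⟨i, y, rfl⟩ := Ring.DirectLimit.exists_of x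
  change (H4K_of R K i y) ^ n = 0 at hn
  rw [← map_pow] at hn
  obtain ⟨j, hij, hj⟩ := H4_dl_eq_zero (fun i : H4K_Nbhd R K => i.G) (H4K_f R K) hn
  rw [map_pow] at hj
  have h1 : H4K_f R K i j hij y ∈ nilradical j.G := mem_nilradical.mpr ⟨n, hj⟩
  have h2 := H4_nilradical_map_localization R j.C j.G j.q.primeCompl h1
  have h3 : H4K_of R K i y = H4K_of R K j (H4K_f R K i j hij y) := (H4K_of_f R K hij y).symm
  change H4K_of R K i y ∈ _
  rw [h3]
  have h4 : algebraMap R (H4K_Hens R K) = (H4K_of R K j).comp (algebraMap R j.G) := by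
    ext r
    exact (H4K_of_algebraMap R K j r).symm
  rw [h4, ← Ideal.map_map]
  exact Ideal.mem_map_of_mem _ h2

attribute [local instance] H4_ksep_algebra in
theorem H4_SHens_nilradical (R : Type u) [CommRing R] [IsLocalRing R] :
    (nilradical R).map (algebraMap R (H4_SHens R)) = nilradical (H4_SHens R) :=
  H4K_Hens_nilradical R (H4_ksep R)

/-- Transport along an algebra isomorphism. -/
theorem H4_nilradical_map_of_equiv {R S S' : Type u} [CommRing R] [CommRing S] [CommRing S']
    [Algebra R S] [Algebra R S'] (e : S ≃ₐ[R] S')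
    (h : (nilradical R).map (algebraMap R S') = nilradical S') :
    (nilradical R).map (algebraMap R S) = nilradical S := by
  apply le_antisymm (H4_map_nilradical_le R _)
  intro x hx
  have h1 : e x ∈ nilradical S' := by
    rw [mem_nilradical] at hx ⊢
    exact hx.map e
  rw [← h] at h1
  have h2 : e.symm (e x) ∈ ((nilradical R).map (algebraMap R S')).map (e.symm : S' →+* S) :=
    Ideal.mem_map_of_mem _ h1
  rw [Ideal.map_map, e.symm_apply_apply] at h2
  have h3 : (e.symm : S' →+* S).comp (algebraMap R S') = algebraMap R S := by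
    ext r
    simp
  rw [h3] at h2
  exact h2

end Groth.Agent.H4
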