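import Mathlib

/-! Normality ascends along suitable flat maps: the core algebraic lemmas. -/

set_option autoImplicit false
universe u

open TensorProduct Polynomial

namespace Groth.Agent.H4

/-- The divisibility property: `s` is divisible by `r` as soon as `s / r` is integral. -/
def H4_NDiv (R G : Type u) [CommRing R] [CommRing G] [Algebra R G] : Prop :=
  ∀ (r : R), r ≠ 0 → ∀ (s : G) (p : G[X]), p.Monic →
    (p.scaleRoots (algebraMap R G r)).eval s = 0 → algebraMap R G r ∣ s

/-- A reduced nontrivial ring all of whose elements are algebraic over a field and whose only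
idempotents are `0` and `1` is a field. -/
theorem H4_isField_of_algebraic {K T : Type u} [Field K] [CommRing T] [Nontrivial T] [IsReduced T]
    (f : K →+* T) (halg : ∀ t : T, ∃ p : K[X], p ≠ 0 ∧ p.eval₂ f t = 0)
    (hidem : ∀ e : T, IsIdempotentElem e → e = 0 ∨ e = 1) : IsField T := by
  refine ⟨⟨0, 1, zero_ne_one⟩, mul_comm, ?_⟩
  intro x hx
  obtain ⟨p, hp0, hp⟩ := halg x
  -- write `p = X ^ k * u` with `u.coeff 0 ≠ 0`
  obtain ⟨u, hpu, hu⟩ := Polynomial.exists_eq_pow_rootMultiplicity_mul_and_not_dvd p hp0 0
  set k := p.rootMultiplicity 0 with hk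
  rw [map_zero, sub_zero] at hpu hu
  have hu0 : u.coeff 0 ≠ 0 := by
    intro h
    apply hu
    exact Polynomial.X_dvd_iff.mpr h
  -- decompose `u = C (u.coeff 0) + X * v`
  obtain ⟨v, hv⟩ : ∃ v : K[X], u = C (u.coeff 0) + X * v := by
    refine ⟨u.divX, ?_⟩
    rw [add_comm, mul_comm]
    exact (Polynomial.divX_mul_X_add u).symm
  set a : T := x ^ k with ha
  set b : T := u.eval₂ f x with hb
  have hab : a * b = 0 := by
    rw [ha, hb, ← hp, hpu, Polynomial.eval₂_mul, Polynomial.eval₂_pow, Polynomial.eval₂_X]
  have hunit : IsUnit (f (u.coeff 0)) := (isUnit_iff_ne_zero.mpr hu0).map f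
  have hbx : b = f (u.coeff 0) + x * v.eval₂ f x := by
    rw [hb]
    conv_lhs => rw [hv]
    rw [Polynomial.eval₂_add, Polynomial.eval₂_C, Polynomial.eval₂_mul, Polynomial.eval₂_X]
  -- `x` and `b` are coprime, hence so are `a` and `b`
  obtain ⟨w, hw⟩ := hunit.exists_left_inv
  have hcop1 : IsCoprime x b := by
    refine ⟨-(w * v.eval₂ f x), w, ?_⟩
    rw [hbx]
    have : -(w * v.eval₂ f x) * x + w * (f (u.coeff 0) + x * v.eval₂ f x) = w * f (u.coeff 0) := by
      ring
    rw [this, hw]
  have hcop : IsCoprime a b := hcop1.pow_left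
  obtain ⟨c, d, hcd⟩ := hcop
  have he : IsIdempotentElem (c * a) := by
    show c * a * (c * a) = c * a
    have h1 : c * a = 1 - d * b := by rw [← hcd]; ring
    have h2 : c * a * (d * b) = 0 := by
      have : c * a * (d * b) = c * d * (a * b) := by ring
      rw [this, hab, mul_zero]
    calc c * a * (c * a) = c * a * (1 - d * b) := by rw [← h1]
      _ = c * a - c * a * (d * b) := by ring
      _ = c * a := by rw [h2, sub_zero]
  rcases hidem _ he with h0 | h1
  · -- `d * b = 1`, so `a = 0`, so `x = 0`
    exfalso
    have hdb : d * b = 1 := by rw [← hcd, h0, zero_add]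
    have ha0 : a = 0 := by
      have : a = a * (d * b) := by rw [hdb, mul_one]
      rw [this]
      have : a * (d * b) = d * (a * b) := by ring
      rw [this, hab, mul_zero]
    apply hx
    have : IsNilpotent x := ⟨k, ha0⟩
    exact this.eq_zero
  · -- `a` is a unit, so `b = 0`, so `x` is a unit
    have hb0 : b = 0 := by
      have : b = (c * a) * b := by rw [h1, one_mul]
      rw [this]
      have : c * a * b = c * (a * b) := by ring
      rw [this, hab, mul_zero]
    rw [hbx] at hb0
    refine ⟨-(w * v.eval₂ f x), ?_⟩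
    have h2 : x * v.eval₂ f x = -f (u.coeff 0) := eq_neg_of_add_eq_zero_right hb0
    calc x * -(w * v.eval₂ f x) = -(w * (x * v.eval₂ f x)) := by ring
      _ = -(w * -f (u.coeff 0)) := by rw [h2]
      _ = w * f (u.coeff 0) := by ring
      _ = 1 := hw

/-- If base change to `G` preserves the integral closure of `R` in its fraction field (and `R` is
integrally closed, `G` flat), then `G` has the divisibility property. -/
theorem H4_nDiv_of_toIntegralClosure_surjective (R G : Type u) [CommRing R] [IsDomain R]
    [IsIntegrallyClosed R] [CommRing G] [Algebra R G] [Module.Flat R G]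
    (hP : Function.Surjective (TensorProduct.toIntegralClosure R G (FractionRing R))) :
    H4_NDiv R G := by
  intro r hr s p hp heval
  have hrK : algebraMap R (FractionRing R) r ≠ 0 := by
    intro h
    apply hr
    exact (IsFractionRing.injective R (FractionRing R)) (by rw [h, map_zero])
  have hinj : Function.Injective (algebraMap G (G ⊗[R] FractionRing R)) :=
    Algebra.TensorProduct.includeLeft_injective (S := R) (IsFractionRing.injective R (FractionRing R))
  have hbt : (algebraMap G (G ⊗[R] FractionRing R) (algebraMap R G r)) *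
      (s ⊗ₜ[R] (algebraMap R (FractionRing R) r)⁻¹) =
      algebraMap G (G ⊗[R] FractionRing R) s := by
    rw [Algebra.TensorProduct.algebraMap_apply, Algebra.TensorProduct.algebraMap_apply,
      Algebra.TensorProduct.tmul_mul_tmul, one_mul]
    simp only [Algebra.algebraMap_self, RingHom.id_apply]
    rw [← Algebra.smul_def, TensorProduct.smul_tmul, Algebra.smul_def, mul_inv_cancel₀ hrK]
  have hunit : IsUnit (algebraMap G (G ⊗[R] FractionRing R) (algebraMap R G r)) := by
    refine IsUnit.of_mul_eq_one ((1 : G) ⊗ₜ[R] (algebraMap R (FractionRing R) r)⁻¹) ?_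
    rw [Algebra.TensorProduct.algebraMap_apply, Algebra.TensorProduct.tmul_mul_tmul, one_mul]
    simp only [Algebra.algebraMap_self, RingHom.id_apply, mul_one]
    rw [← mul_one (algebraMap R G r), ← Algebra.smul_def, TensorProduct.smul_tmul,
      Algebra.smul_def, mul_inv_cancel₀ hrK]
    rfl
  have hint : IsIntegral G (s ⊗ₜ[R] (algebraMap R (FractionRing R) r)⁻¹ : G ⊗[R] FractionRing R) := by
    refine ⟨p, hp, ?_⟩
    have h1 := Polynomial.scaleRoots_eval₂_mul (p := p) (algebraMap G (G ⊗[R] FractionRing R))
      (s ⊗ₜ[R] (algebraMap R (FractionRing R) r)⁻¹) (algebraMap R G r)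
    rw [hbt, Polynomial.eval₂_at_apply, heval, map_zero] at h1
    exact (hunit.pow _).mul_right_eq_zero.mp h1.symm
  obtain ⟨z, hz⟩ := hP ⟨_, hint⟩
  have hz' : (Algebra.TensorProduct.map (AlgHom.id G G)
      (integralClosure R (FractionRing R)).val) z =
      s ⊗ₜ[R] (algebraMap R (FractionRing R) r)⁻¹ := congrArg Subtype.val hz
  have hform : ∀ w : G ⊗[R] (integralClosure R (FractionRing R)),
      ∃ g : G, (Algebra.TensorProduct.map (AlgHom.id G G)
        (integralClosure R (FractionRing R)).val) w = g ⊗ₜ[R] (1 : FractionRing R) := by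
    intro w
    induction w using TensorProduct.induction_on with
    | zero => exact ⟨0, by simp⟩
    | tmul g c =>
      obtain ⟨c', hc'⟩ := IsIntegrallyClosed.algebraMap_eq_of_integral c.2
      refine ⟨c' • g, ?_⟩
      rw [Algebra.TensorProduct.map_tmul, TensorProduct.smul_tmul]
      show g ⊗ₜ[R] (c : FractionRing R) = _
      rw [← hc', Algebra.smul_def, mul_one]
    | add a b ha hb =>
      obtain ⟨g₁, h₁⟩ := ha
      obtain ⟨g₂, h₂⟩ := hb
      exact ⟨g₁ + g₂, by rw [map_add, h₁, h₂, TensorProduct.add_tmul]⟩
  obtain ⟨g, hg⟩ := hform z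
  rw [hz'] at hg
  refine ⟨g, ?_⟩
  apply hinj
  rw [← hbt, hg, map_mul]
  rfl

/-- A local reduced flat algebra `G` over a domain `R` with the divisibility property, all of whose
generic fibre elements are algebraic, is an integrally closed domain. -/
theorem H4_normal_of_nDiv (R G : Type u) [CommRing R] [IsDomain R] [CommRing G] [IsLocalRing G]
    [IsReduced G] [Algebra R G] [Module.Flat R G] (hN : H4_NDiv R G)
    (halg : ∀ t : G ⊗[R] FractionRing R, ∃ p : (FractionRing R)[X], p ≠ 0 ∧
      p.eval₂ (Algebra.TensorProduct.includeRight :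
        FractionRing R →ₐ[R] G ⊗[R] FractionRing R).toRingHom t = 0) :
    IsDomain G ∧ IsIntegrallyClosed G := by
  have hinj : Function.Injective (algebraMap G (G ⊗[R] FractionRing R)) :=
    Algebra.TensorProduct.includeLeft_injective (S := R) (IsFractionRing.injective R (FractionRing R))
  haveI hloc : IsLocalization (Algebra.algebraMapSubmonoid G (nonZeroDivisors R))
      (G ⊗[R] FractionRing R) := inferInstance
  haveI : IsReduced (G ⊗[R] FractionRing R) :=
    isReduced_localizationPreserves (Algebra.algebraMapSubmonoid G (nonZeroDivisors R))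
      (G ⊗[R] FractionRing R) inferInstance
  haveI : Nontrivial (G ⊗[R] FractionRing R) := hinj.nontrivial
  -- integrally closed in the generic fibre
  have hclosed : ∀ t : G ⊗[R] FractionRing R, IsIntegral G t →
      ∃ g, algebraMap G (G ⊗[R] FractionRing R) g = t := by
    rintro t ⟨p, hp, hpt⟩
    obtain ⟨g, ⟨m, hm⟩, rfl⟩ := IsLocalization.exists_mk'_eq
      (Algebra.algebraMapSubmonoid G (nonZeroDivisors R)) t
    obtain ⟨r, hr, rfl⟩ := hm
    have h1 := scaleRoots_aeval_eq_zero_of_aeval_mk'_eq_zero
      (M := Algebra.algebraMapSubmonoid G (nonZeroDivisors R)) (hr := hpt)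
    rw [Polynomial.aeval_algebraMap_apply] at h1
    have h2 : (p.scaleRoots (algebraMap R G r)).eval g = 0 := hinj (h1.trans (map_zero _).symm)
    obtain ⟨g', hg'⟩ := hN r (nonZeroDivisors.ne_zero hr) g p hp h2
    refine ⟨g', ?_⟩
    rw [IsLocalization.eq_mk'_iff_mul_eq, ← map_mul, hg', mul_comm]
  -- idempotents
  have hidem : ∀ e : G ⊗[R] FractionRing R, IsIdempotentElem e → e = 0 ∨ e = 1 := by
    intro e he
    have hint : IsIntegral G e := by
      refine ⟨X ^ 2 - X, Polynomial.monic_X_pow_sub (by simp), ?_⟩
      have he' : e * e = e := he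
      simp [pow_two, he']
    obtain ⟨g, rfl⟩ := hclosed e hint
    have hg : g * g = g := by
      apply hinj
      rw [map_mul]
      exact he
    rcases IsLocalRing.isUnit_or_isUnit_one_sub_self g with h | h
    · right
      have : g * (1 - g) = 0 := by rw [mul_sub, mul_one, hg, sub_self]
      have h1 : 1 - g = 0 := h.mul_right_eq_zero.mp this
      rw [← sub_eq_zero.mp h1, map_one]
    · left
      have : (1 - g) * g = 0 := by rw [sub_mul, one_mul, hg, sub_self]
      have h1 : g = 0 := h.mul_right_eq_zero.mp this
      rw [h1, map_zero]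
  have hfield : IsField (G ⊗[R] FractionRing R) :=
    H4_isField_of_algebraic _ halg hidem
  have hdom : IsDomain G := by
    haveI : IsDomain (G ⊗[R] FractionRing R) := hfield.isDomain
    exact hinj.isDomain (algebraMap G (G ⊗[R] FractionRing R))
  refine ⟨hdom, ?_⟩
  haveI := hdom
  haveI : IsFractionRing G (G ⊗[R] FractionRing R) := by
    refine IsLocalization.of_le (Algebra.algebraMapSubmonoid G (nonZeroDivisors R))
      (nonZeroDivisors G) ?_ ?_
    · intro m hm
      apply mem_nonZeroDivisors_of_ne_zero
      intro h0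
      have hu : IsUnit (algebraMap G (G ⊗[R] FractionRing R) m) :=
        IsLocalization.map_units (G ⊗[R] FractionRing R) ⟨m, hm⟩
      rw [h0, map_zero] at hu
      exact not_isUnit_zero hu
    · intro g hg
      have hne : algebraMap G (G ⊗[R] FractionRing R) g ≠ 0 := by
        intro h
        exact nonZeroDivisors.ne_zero hg (hinj (h.trans (map_zero _).symm))
      obtain ⟨y, hy⟩ := hfield.mul_inv_cancel hne
      exact IsUnit.of_mul_eq_one y hy
  rw [isIntegrallyClosed_iff (G ⊗[R] FractionRing R)]
  intro x hx
  exact hclosed x hx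

/-- Normality descends along faithfully flat maps. -/
theorem H4_normal_descent (R S : Type u) [CommRing R] [CommRing S] [Algebra R S]
    [Module.FaithfullyFlat R S] [IsDomain S] [IsIntegrallyClosed S] :
    IsDomain R ∧ IsIntegrallyClosed R := by
  have hinj : Function.Injective (algebraMap R S) := FaithfulSMul.algebraMap_injective R S
  have hdom : IsDomain R := hinj.isDomain (algebraMap R S)
  refine ⟨hdom, ?_⟩
  haveI := hdom
  rw [isIntegrallyClosed_iff (FractionRing R)]
  rintro x ⟨p, hp, hpx⟩
  obtain ⟨a, ⟨b, hb⟩, rfl⟩ := IsLocalization.exists_mk'_eq (nonZeroDivisors R) x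
  have h1 := scaleRoots_aeval_eq_zero_of_aeval_mk'_eq_zero (M := nonZeroDivisors R) (hr := hpx)
  rw [Polynomial.aeval_algebraMap_apply] at h1
  have h2 : (p.scaleRoots b).eval a = 0 :=
    (IsFractionRing.injective R (FractionRing R)) (h1.trans (map_zero _).symm)
  -- transport to `S`
  have hb0 : algebraMap R S b ≠ 0 := by
    intro h
    exact nonZeroDivisors.ne_zero hb (hinj (h.trans (map_zero _).symm))
  have h3 : ((p.map (algebraMap R S)).scaleRoots (algebraMap R S b)).eval (algebraMap R S a) = 0 := by
    rw [← Polynomial.map_scaleRoots _ _ _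
      (by rw [hp.leadingCoeff, map_one]; exact one_ne_zero),
      Polynomial.eval_map, Polynomial.eval₂_hom, h2, map_zero]
  -- the fraction is integral over `S`
  set L := FractionRing S
  have hbL : algebraMap S L (algebraMap R S b) ≠ 0 := by
    intro h
    exact hb0 ((IsFractionRing.injective S L) (h.trans (map_zero _).symm))
  have hint : IsIntegral S (algebraMap S L (algebraMap R S a) / algebraMap S L (algebraMap R S b)) := by
    refine ⟨p.map (algebraMap R S), hp.map _, ?_⟩
    have h4 := Polynomial.scaleRoots_eval₂_mul (p := p.map (algebraMap R S)) (algebraMap S L)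
      (algebraMap S L (algebraMap R S a) / algebraMap S L (algebraMap R S b)) (algebraMap R S b)
    rw [mul_div_cancel₀ _ hbL, Polynomial.eval₂_at_apply, h3, map_zero] at h4
    exact (mul_eq_zero.mp h4.symm).resolve_left (pow_ne_zero _ hbL)
  obtain ⟨s, hs⟩ := (isIntegrallyClosed_iff L).mp inferInstance hint
  have h5 : algebraMap R S a = algebraMap R S b * s := by
    apply IsFractionRing.injective S L
    rw [map_mul, hs, mul_div_cancel₀ _ hbL]
  have h6 : a ∈ ((Ideal.span {b}).map (algebraMap R S)).comap (algebraMap R S) := by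
    rw [Ideal.mem_comap, h5]
    exact Ideal.mul_mem_right _ _ (Ideal.mem_map_of_mem _ (Ideal.mem_span_singleton_self b))
  rw [Ideal.comap_map_eq_self_of_faithfullyFlat, Ideal.mem_span_singleton'] at h6
  obtain ⟨c, hc⟩ := h6
  refine ⟨c, ?_⟩
  rw [IsLocalization.eq_mk'_iff_mul_eq, ← map_mul, hc]

end Groth.Agent.H4
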