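import Mathlib
import Groth.Agent.Lib.helper4.NormalCore
import Groth.Agent.Lib.helper4.DirectLimitLocal
import Groth.Agent.Lib.helper4.HensReduced
import Groth.Agent.Lib.helper4.HenselizationProps
import Groth.Agent.Lib.helper4.StrictHenselizationProps

/-! The (strict) henselization of a normal local domain is a normal domain. -/

set_option autoImplicit false
universe u

open TensorProduct Polynomial

namespace Groth.Agent.H4

section

variable {ι : Type u} [Preorder ι] [Nonempty ι] [IsDirected ι (· ≤ ·)]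
  (G : ι → Type u) [∀ i, CommRing (G i)]
  (f : ∀ i j, i ≤ j → G i →+* G j) [DirectedSystem G (fun i j h => f i j h)]
  [∀ i, IsLocalRing (G i)] (hf : ∀ i j (h : i ≤ j), IsLocalHom (f i j h))
  (R : Type u) [CommRing R] [∀ i, Algebra R (G i)]
  (hfR : ∀ i j h r, f i j h (algebraMap R (G i) r) = algebraMap R (G j) r)
  [Algebra R (Ring.DirectLimit G (fun i j h => f i j h))]
  (hofR : ∀ i r, Ring.DirectLimit.of G (fun i j h => f i j h) i (algebraMap R (G i) r) =
    algebraMap R (Ring.DirectLimit G (fun i j h => f i j h)) r)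

include hf hfR hofR in
/-- The divisibility property passes to direct limits. -/
theorem H4_dl_nDiv (hN : ∀ i, H4_NDiv R (G i)) :
    H4_NDiv R (Ring.DirectLimit G (fun i j h => f i j h)) := by
  intro r hr s p hp heval
  haveI : IsLocalRing (Ring.DirectLimit G (fun i j h => f i j h)) := H4_dl_isLocalRing G f hf
  obtain ⟨k, pk, y, hpk, rfl, rfl⟩ := H4_dl_exists_monic G f hf p hp s
  rw [← hofR k r, ← Polynomial.map_scaleRoots _ _ _
    (by rw [hpk.leadingCoeff, map_one]; exact one_ne_zero),
    Polynomial.eval_map, Polynomial.eval₂_hom] at heval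
  obtain ⟨j, hkj, hj⟩ := H4_dl_eq_zero G f heval
  rw [← Polynomial.eval₂_hom, ← Polynomial.eval_map, Polynomial.map_scaleRoots _ _ _
    (by rw [hpk.leadingCoeff, map_one]; exact one_ne_zero), hfR] at hj
  obtain ⟨g, hg⟩ := hN j r hr (f k j hkj y) (pk.map (f k j hkj)) (hpk.map _) hj
  refine ⟨Ring.DirectLimit.of G (fun i j h => f i j h) j g, ?_⟩
  rw [← hofR j r, ← map_mul, ← hg, Ring.DirectLimit.of_f]

end

/-- Generic fibre elements of a quasi-finite algebra are algebraic. -/
theorem H4_algebraic_tensor_of_quasiFinite (R G : Type u) [CommRing R] [IsDomain R] [CommRing G]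
    [Algebra R G] [Algebra.QuasiFinite R G] (t : G ⊗[R] FractionRing R) :
    ∃ p : (FractionRing R)[X], p ≠ 0 ∧
      p.eval₂ (Algebra.TensorProduct.includeRight :
        FractionRing R →ₐ[R] G ⊗[R] FractionRing R).toRingHom t = 0 := by
  haveI : Algebra.QuasiFinite (FractionRing R) (FractionRing R ⊗[R] G) := inferInstance
  haveI : Module.Finite (FractionRing R) (FractionRing R ⊗[R] G) := Module.Finite.of_quasiFinite
  haveI : Algebra.IsIntegral (FractionRing R) (FractionRing R ⊗[R] G) :=
    Algebra.IsIntegral.of_finite _ _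
  obtain ⟨p, hp, hpt⟩ := Algebra.IsIntegral.isIntegral (R := FractionRing R)
    ((Algebra.TensorProduct.comm R (FractionRing R) G).symm t)
  refine ⟨p, hp.ne_zero, ?_⟩
  let ψ : FractionRing R ⊗[R] G →+* G ⊗[R] FractionRing R :=
    (Algebra.TensorProduct.comm R (FractionRing R) G).toAlgHom.toRingHom
  have hψ : ∀ x, ψ x = Algebra.TensorProduct.comm R (FractionRing R) G x := fun x => rfl
  have h1 := congrArg ψ hpt
  rw [Polynomial.hom_eval₂, map_zero] at h1
  have h2 : ψ.comp (algebraMap (FractionRing R) (FractionRing R ⊗[R] G)) =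
      (Algebra.TensorProduct.includeRight :
        FractionRing R →ₐ[R] G ⊗[R] FractionRing R).toRingHom := by
    ext k
    simp [ψ, Algebra.TensorProduct.algebraMap_apply]
  rw [h2, hψ, AlgEquiv.apply_symm_apply] at h1
  exact h1

/-- Elements of the generic fibre are pure tensors. -/
theorem H4_exists_tmul_inv (R S : Type u) [CommRing R] [IsDomain R] [CommRing S] [Algebra R S]
    (t : S ⊗[R] FractionRing R) : ∃ (s : S) (k : FractionRing R), t = s ⊗ₜ[R] k := by
  obtain ⟨s, ⟨m, hm⟩, rfl⟩ := IsLocalization.exists_mk'_eq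
    (Algebra.algebraMapSubmonoid S (nonZeroDivisors R)) t
  obtain ⟨r, hr, rfl⟩ := hm
  have hrK : algebraMap R (FractionRing R) r ≠ 0 := by
    intro h
    apply nonZeroDivisors.ne_zero hr
    exact (IsFractionRing.injective R (FractionRing R)) (by rw [h, map_zero])
  refine ⟨s, (algebraMap R (FractionRing R) r)⁻¹, ?_⟩
  rw [IsLocalization.mk'_eq_iff_eq_mul]
  rw [Algebra.TensorProduct.algebraMap_apply, Algebra.TensorProduct.algebraMap_apply,
    Algebra.TensorProduct.tmul_mul_tmul, mul_one]
  simp only [Algebra.algebraMap_self, RingHom.id_apply]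
  rw [mul_comm s, ← Algebra.smul_def, TensorProduct.smul_tmul, Algebra.smul_def,
    mul_inv_cancel₀ hrK]

theorem H4_nDiv_localization_smooth (R C G : Type u) [CommRing R] [IsDomain R]
    [IsIntegrallyClosed R] [CommRing C] [CommRing G] [Algebra R C] [Algebra C G] [Algebra R G]
    [IsScalarTower R C G] [Algebra.Smooth R C] (M : Submonoid C) [IsLocalization M G]
    [Module.Flat R G] : H4_NDiv R G := by
  apply H4_nDiv_of_toIntegralClosure_surjective
  exact (TensorProduct.toIntegralClosure_bijective_of_tower (S := C) (T := G)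
    (TensorProduct.toIntegralClosure_bijective_of_smooth)
    (TensorProduct.toIntegralClosure_bijective_of_isLocalization M)).surjective

theorem H4_Hens_normal (R : Type u) [CommRing R] [IsLocalRing R] [IsDomain R]
    [IsIntegrallyClosed R] : IsDomain (H4_Hens R) ∧ IsIntegrallyClosed (H4_Hens R) := by
  haveI : IsReduced (H4_Hens R) := by
    rw [← nilradical_eq_bot_iff, ← H4_Hens_nilradical, nilradical_eq_zero R]
    exact Ideal.map_bot
  apply H4_normal_of_nDiv R (H4_Hens R)
  · letI : Algebra R (Ring.DirectLimit (fun i : H4_Nbhd R => i.G) (fun i j h => H4_f R i j h)) :=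
      H4_Hens_algebra R
    exact H4_dl_nDiv (fun i : H4_Nbhd R => i.G) (H4_f R) (H4_f_isLocalHom R) R
      (fun i j h r => (H4_trans i j h).commutes r) (H4_of_algebraMap R)
      (fun i => H4_nDiv_localization_smooth R i.C i.G i.q.primeCompl)
  · intro t
    obtain ⟨s, k, rfl⟩ := H4_exists_tmul_inv R (H4_Hens R) t
    obtain ⟨i, y, rfl⟩ := Ring.DirectLimit.exists_of s
    haveI : Algebra.QuasiFinite R i.G :=
      inferInstanceAs (Algebra.QuasiFinite R (Localization.AtPrime i.q))
    obtain ⟨p, hp, hpt⟩ := H4_algebraic_tensor_of_quasiFinite R i.G (y ⊗ₜ[R] k)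
    refine ⟨p, hp, ?_⟩
    let φ : i.G ⊗[R] FractionRing R →+* H4_Hens R ⊗[R] FractionRing R :=
      (Algebra.TensorProduct.map (H4_ofₐ R i) (AlgHom.id R (FractionRing R))).toRingHom
    have h1 := congrArg φ hpt
    rw [Polynomial.hom_eval₂, map_zero] at h1
    have h2 : φ.comp (Algebra.TensorProduct.includeRight :
        FractionRing R →ₐ[R] i.G ⊗[R] FractionRing R).toRingHom =
        (Algebra.TensorProduct.includeRight :
        FractionRing R →ₐ[R] H4_Hens R ⊗[R] FractionRing R).toRingHom := by
      ext k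
      simp [φ]
    rw [h2] at h1
    exact h1

theorem H4K_Hens_normal (R K : Type u) [CommRing R] [IsLocalRing R] [IsDomain R]
    [IsIntegrallyClosed R] [Field K] [Algebra R K]
    [hK : Fact (RingHom.ker (algebraMap R K) = IsLocalRing.maximalIdeal R)] :
    IsDomain (H4K_Hens R K) ∧ IsIntegrallyClosed (H4K_Hens R K) := by
  haveI : IsReduced (H4K_Hens R K) := by
    rw [← nilradical_eq_bot_iff, ← H4K_Hens_nilradical, nilradical_eq_zero R]
    exact Ideal.map_bot
  apply H4_normal_of_nDiv R (H4K_Hens R K)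
  · letI : Algebra R (Ring.DirectLimit (fun i : H4K_Nbhd R K => i.G)
        (fun i j h => H4K_f R K i j h)) := H4K_Hens_algebra R K
    exact H4_dl_nDiv (fun i : H4K_Nbhd R K => i.G) (H4K_f R K) (H4K_f_isLocalHom R K) R
      (fun i j h r => (H4K_trans i j h).commutes r) (H4K_of_algebraMap R K)
      (fun i => H4_nDiv_localization_smooth R i.C i.G i.q.primeCompl)
  · intro t
    obtain ⟨s, k, rfl⟩ := H4_exists_tmul_inv R (H4K_Hens R K) t
    obtain ⟨i, y, rfl⟩ := Ring.DirectLimit.exists_of s
    haveI : Algebra.QuasiFinite R i.G :=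
      inferInstanceAs (Algebra.QuasiFinite R (Localization.AtPrime i.q))
    obtain ⟨p, hp, hpt⟩ := H4_algebraic_tensor_of_quasiFinite R i.G (y ⊗ₜ[R] k)
    refine ⟨p, hp, ?_⟩
    let φ : i.G ⊗[R] FractionRing R →+* H4K_Hens R K ⊗[R] FractionRing R :=
      (Algebra.TensorProduct.map (H4K_ofₐ R K i) (AlgHom.id R (FractionRing R))).toRingHom
    have h1 := congrArg φ hpt
    rw [Polynomial.hom_eval₂, map_zero] at h1
    have h2 : φ.comp (Algebra.TensorProduct.includeRight :
        FractionRing R →ₐ[R] i.G ⊗[R] FractionRing R).toRingHom =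
        (Algebra.TensorProduct.includeRight :
        FractionRing R →ₐ[R] H4K_Hens R K ⊗[R] FractionRing R).toRingHom := by
      ext k
      simp [φ]
    rw [h2] at h1
    exact h1

attribute [local instance] H4_ksep_algebra in
theorem H4_SHens_normal (R : Type u) [CommRing R] [IsLocalRing R] [IsDomain R]
    [IsIntegrallyClosed R] : IsDomain (H4_SHens R) ∧ IsIntegrallyClosed (H4_SHens R) :=
  H4K_Hens_normal R (H4_ksep R)

end Groth.Agent.H4
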