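import Mathlib
import Groth.Agent.S0501

set_option autoImplicit false
universe u

namespace Groth.Agent.H4

/-- Two `R`-algebra maps from an étale algebra to a henselian local ring agreeing modulo the maximal
ideal are equal. -/
theorem H4_etale_algHom_ext_of_residue {R S A : Type u} [CommRing R] [CommRing S]
    [HenselianLocalRing S] [Algebra R S] [CommRing A] [Algebra R A] [Algebra.Etale R A]
    (f f' : A →ₐ[R] S)
    (h : ∀ a, IsLocalRing.residue S (f a) = IsLocalRing.residue S (f' a)) : f = f' := by
  classical
  let g : A →+* IsLocalRing.ResidueField S := (IsLocalRing.residue S).comp f.toRingHom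
  have hg : ∀ a, g a = IsLocalRing.residue S (f a) := fun a => rfl
  let q : Ideal A := RingHom.ker g
  haveI : q.IsPrime := RingHom.ker_isPrime g
  let τ : q.ResidueField →+* IsLocalRing.ResidueField S :=
    Ideal.ResidueField.lift q g le_rfl (by
      intro a ha
      show IsUnit (g a)
      rw [isUnit_iff_ne_zero]
      intro h0
      exact ha ((RingHom.mem_ker).mpr h0))
  have hτ : ∀ a, τ (algebraMap A q.ResidueField a) = g a := fun a =>
    Ideal.ResidueField.lift_algebraMap _ _ _ _ a
  have hcompat : τ.comp (algebraMap R q.ResidueField) =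
      (IsLocalRing.residue S).comp (algebraMap R S) := by
    ext r
    rw [RingHom.comp_apply, IsScalarTower.algebraMap_apply R A q.ResidueField, hτ, hg,
      f.commutes]
    rfl
  obtain ⟨F, _, huniq⟩ := Groth.Agent.S0501.result R S A q τ hcompat
  have hcomap : ∀ (F' : A →ₐ[R] S), (∀ a, IsLocalRing.residue S (F' a) = g a) →
      Ideal.comap F'.toRingHom (IsLocalRing.maximalIdeal S) = q := by
    intro F' hF'
    ext a
    rw [Ideal.mem_comap]
    show F' a ∈ IsLocalRing.maximalIdeal S ↔ _
    rw [← IsLocalRing.residue_eq_zero_iff, hF']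
    exact (RingHom.mem_ker).symm
  have hf : f = F := huniq f ⟨hcomap f (fun a => rfl), fun a => (hτ a).symm⟩
  have hf' : f' = F := huniq f' ⟨hcomap f' (fun a => (h a).symm), fun a => by
    rw [hτ, hg]; exact (h a).symm⟩
  rw [hf, hf']

/-- Over a local ring with separably closed residue field, residue fields of primes of an étale
algebra lying over the maximal ideal are trivial extensions. -/
theorem H4_surjective_algebraMap_residueField {R A : Type u} [CommRing R] [IsLocalRing R]
    [IsSepClosed (IsLocalRing.ResidueField R)] [CommRing A] [Algebra R A] [Algebra.Etale R A]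
    (q : Ideal A) [q.IsPrime]
    (hq : q.comap (algebraMap R A) = IsLocalRing.maximalIdeal R) :
    Function.Surjective (algebraMap R q.ResidueField) := by
  haveI : Algebra.FormallyEtale A (Localization.AtPrime q) :=
    Algebra.FormallyEtale.of_isLocalization q.primeCompl
  haveI : Algebra.FormallyUnramified R (Localization.AtPrime q) :=
    Algebra.FormallyUnramified.comp R A _
  haveI : Algebra.EssFiniteType R (Localization.AtPrime q) :=
    Algebra.EssFiniteType.comp R A _
  haveI : IsLocalHom (algebraMap R (Localization.AtPrime q)) := ⟨fun r hr => by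
    rw [IsScalarTower.algebraMap_apply R A, IsLocalization.AtPrime.isUnit_to_map_iff _ q] at hr
    by_contra hnu
    have : r ∈ IsLocalRing.maximalIdeal R := (IsLocalRing.mem_maximalIdeal _).mpr hnu
    rw [← hq] at this
    exact hr this⟩
  have hsurj := IsSepClosed.algebraMap_surjective (IsLocalRing.ResidueField R)
    (IsLocalRing.ResidueField (Localization.AtPrime q))
  intro x
  obtain ⟨y, hy⟩ := hsurj x
  obtain ⟨r, rfl⟩ := IsLocalRing.residue_surjective y
  refine ⟨r, ?_⟩
  rw [← hy]
  rfl

/-- If `R → κ(q)` is surjective, two algebra maps to a local ring pulling the maximal ideal back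
to `q` agree on residues. -/
theorem H4_residue_eq_of_comap_eq {R S A : Type u} [CommRing R] [CommRing S] [IsLocalRing S]
    [Algebra R S] [CommRing A] [Algebra R A] (q : Ideal A) [q.IsPrime]
    (hsurj : Function.Surjective (algebraMap R q.ResidueField))
    (h h' : A →ₐ[R] S)
    (hh : Ideal.comap h.toRingHom (IsLocalRing.maximalIdeal S) = q)
    (hh' : Ideal.comap h'.toRingHom (IsLocalRing.maximalIdeal S) = q) (a : A) :
    IsLocalRing.residue S (h a) = IsLocalRing.residue S (h' a) := by
  obtain ⟨r, hr⟩ := hsurj (algebraMap A q.ResidueField a)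
  have hmem : a - algebraMap R A r ∈ q := by
    rw [← Ideal.algebraMap_residueField_eq_zero, map_sub,
      ← IsScalarTower.algebraMap_apply R A q.ResidueField, hr, sub_self]
  have key : ∀ (k : A →ₐ[R] S), Ideal.comap k.toRingHom (IsLocalRing.maximalIdeal S) = q →
      IsLocalRing.residue S (k a) = IsLocalRing.residue S (algebraMap R S r) := by
    intro k hk
    have h1 : k (a - algebraMap R A r) ∈ IsLocalRing.maximalIdeal S := by
      have := hmem
      rw [← hk] at this
      exact this
    rw [← IsLocalRing.residue_eq_zero_iff, map_sub, map_sub, k.commutes, sub_eq_zero] at h1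
    exact h1
  rw [key h hh, key h' hh']

/-- Existence of sections through a prime with trivial residue extension. -/
theorem H4_exists_algHom_of_surjective_residueField {R A : Type u} [CommRing R]
    [HenselianLocalRing R] [CommRing A] [Algebra R A] [Algebra.Etale R A]
    (q : Ideal A) [q.IsPrime]
    (hq : q.comap (algebraMap R A) = IsLocalRing.maximalIdeal R)
    (hsurj : Function.Surjective (algebraMap R q.ResidueField)) :
    ∃ f : A →ₐ[R] R, Ideal.comap f.toRingHom (IsLocalRing.maximalIdeal R) = q := by
  have hker : RingHom.ker (algebraMap R q.ResidueField) ≤ RingHom.ker (IsLocalRing.residue R) := by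
    intro r hr
    rw [RingHom.mem_ker, IsScalarTower.algebraMap_apply R A q.ResidueField,
      Ideal.algebraMap_residueField_eq_zero] at hr
    rw [RingHom.mem_ker, IsLocalRing.residue_eq_zero_iff, ← hq]
    exact hr
  let τ₀ : q.ResidueField →+* IsLocalRing.ResidueField R :=
    RingHom.liftOfSurjective (algebraMap R q.ResidueField) hsurj ⟨IsLocalRing.residue R, hker⟩
  have hτ₀ : τ₀.comp (algebraMap R q.ResidueField) =
      (IsLocalRing.residue R).comp (algebraMap R R) := by
    ext r
    exact RingHom.liftOfSurjective_comp_apply (algebraMap R q.ResidueField) hsurj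
      ⟨IsLocalRing.residue R, hker⟩ r
  obtain ⟨F, ⟨hF, _⟩, _⟩ := Groth.Agent.S0501.result R R A q τ₀ hτ₀
  exact ⟨F, hF⟩

/-- Algebra maps out of `R[X]/(P)` from solutions. -/
theorem H4_exists_algHom_of_solution {R T : Type*} [CommRing R] [CommRing T] [Algebra R T]
    {σ ι : Type*} (P : ι → MvPolynomial σ R) (t : σ → T)
    (ht : ∀ i, MvPolynomial.aeval t (P i) = 0) :
    ∃ f : (MvPolynomial σ R ⧸ Ideal.span (Set.range P)) →ₐ[R] T,
      ∀ p, f (Ideal.Quotient.mk _ p) = MvPolynomial.aeval t p := by
  have hle : Ideal.span (Set.range P) ≤ RingHom.ker (MvPolynomial.aeval t : MvPolynomial σ R →ₐ[R] T) := by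
    rw [Ideal.span_le]
    rintro _ ⟨i, rfl⟩
    exact (RingHom.mem_ker).mpr (ht i)
  exact ⟨Ideal.Quotient.liftₐ _ (MvPolynomial.aeval t) (fun a ha => (RingHom.mem_ker).mp (hle ha)),
    fun p => rfl⟩

end Groth.Agent.H4
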