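import Mathlib
import Groth.Agent.Lib.helper4.FiniteEtaleHom
import Groth.Agent.Lib.helper4.EtaleHensel
import Groth.Agent.Lib.helper4.HenselValuation
import Groth.Agent.Lib.helper4.FiniteLocalProd

/-! Étale algebras over a henselian local ring: homomorphisms into a finite algebra `C`
biject with homomorphisms into `C/𝔪C`. -/

set_option autoImplicit false
universe u

namespace Groth.Agent.H4

open Polynomial

/-- Homomorphisms from an étale algebra into a henselian local ring `S` biject with the
homomorphisms into any proper quotient of `S`. -/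
theorem H4_etale_algHom_quotient_bijective {R S E : Type u} [CommRing R] [CommRing S]
    [HenselianLocalRing S] [Algebra R S] [CommRing E] [Algebra R E] [Algebra.Etale R E]
    (I : Ideal S) (hI : I ≠ ⊤) :
    Function.Bijective (fun φ : E →ₐ[R] S => (Ideal.Quotient.mkₐ R I).comp φ) := by
  classical
  haveI : Nontrivial (S ⧸ I) := Ideal.Quotient.nontrivial_iff.mpr hI
  haveI hq : HenselianLocalRing (S ⧸ I) := H4_henselian_quotient I hI
  have hle : I ≤ IsLocalRing.maximalIdeal S := IsLocalRing.le_maximalIdeal hI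
  have hjac : I ≤ Ideal.jacobson ⊥ := by
    rw [IsLocalRing.jacobson_eq_maximalIdeal ⊥ bot_ne_top]
    exact hle
  haveI : IsLocalHom (Ideal.Quotient.mk I) := isLocalHom_of_le_jacobson_bot I hjac
  constructor
  · intro f f' h
    apply H4_etale_algHom_ext_of_residue
    intro a
    have h1 : Ideal.Quotient.mk I (f a) = Ideal.Quotient.mk I (f' a) := AlgHom.congr_fun h a
    rw [Ideal.Quotient.eq] at h1
    have h2 := hle h1
    rw [← sub_eq_zero, ← map_sub]
    exact (IsLocalRing.residue_eq_zero_iff _).mpr h2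
  · intro g
    let p : S ⧸ I →ₐ[R] IsLocalRing.ResidueField S := Ideal.Quotient.factorₐ R hle
    obtain ⟨f, hf⟩ := H4_etale_exists_lift_of_residue (p.comp g)
    refine ⟨f, ?_⟩
    apply H4_etale_algHom_ext_of_residue
    intro a
    obtain ⟨s, hs⟩ := Ideal.Quotient.mk_surjective (g a)
    show IsLocalRing.residue (S ⧸ I) (Ideal.Quotient.mk I (f a)) =
      IsLocalRing.residue (S ⧸ I) (g a)
    rw [← hs, ← sub_eq_zero, ← map_sub, ← map_sub, IsLocalRing.residue_eq_zero_iff]
    have h3 : f a - s ∈ IsLocalRing.maximalIdeal S := by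
      rw [← IsLocalRing.residue_eq_zero_iff, map_sub, sub_eq_zero, hf a]
      show p (g a) = _
      rw [← hs]; rfl
    rw [IsLocalRing.mem_maximalIdeal, mem_nonunits_iff] at h3 ⊢
    exact fun hu => h3 (isUnit_of_map_unit (Ideal.Quotient.mk I) _ hu)

theorem H4_etale_algHom_reduction_bijective (A : Type u) [CommRing A] [HenselianLocalRing A]
    (C : Type u) [CommRing C] [Algebra A C] [Module.Finite A C]
    (E : Type u) [CommRing E] [Algebra A E] [Algebra.Etale A E] :
    Function.Bijective (fun φ : E →ₐ[A] C =>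
      (Ideal.Quotient.mkₐ A
        (Ideal.map (algebraMap A C) (IsLocalRing.maximalIdeal A))).comp φ) := by
  classical
  obtain ⟨ι, hι, D, hD, hDalg, hloc, ⟨Φ⟩⟩ := H4_finite_henselian_pi_alg A C
  let pr : ∀ i, C →ₐ[A] D i := fun i => (Pi.evalAlgHom A D i).comp Φ.toAlgHom
  have hpr : ∀ i c, pr i c = Φ c i := fun i c => rfl
  have hpr_surj : ∀ i, Function.Surjective (pr i) := by
    intro i d
    obtain ⟨c, hc⟩ := Φ.surjective (Pi.single i d)
    refine ⟨c, ?_⟩
    rw [hpr, hc, Pi.single_eq_same]
  haveI : ∀ i, Module.Finite A (D i) := fun i =>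
    Module.Finite.of_surjective (pr i).toLinearMap (hpr_surj i)
  haveI : ∀ i, HenselianLocalRing (D i) := fun i => Groth.Agent.S0505.result A (D i)
  set I := Ideal.map (algebraMap A C) (IsLocalRing.maximalIdeal A) with hIdef
  let J : ∀ i, Ideal (D i) := fun i => Ideal.map (algebraMap A (D i)) (IsLocalRing.maximalIdeal A)
  have hJ : ∀ i, J i ≠ ⊤ := by
    intro i
    have h := H4_map_maximalIdeal_le_jacobson A (D i)
    rw [IsLocalRing.jacobson_eq_maximalIdeal ⊥ bot_ne_top] at h
    intro htop
    exact (IsLocalRing.maximalIdeal.isMaximal (D i)).ne_top (top_le_iff.mp (htop ▸ h))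
  have hcomp : ∀ i, ((pr i : C →+* D i)).comp (algebraMap A C) = algebraMap A (D i) :=
    fun i => (pr i).comp_algebraMap
  have hmapI : ∀ i, Ideal.map (pr i : C →+* D i) I = J i := by
    intro i
    rw [hIdef, Ideal.map_map, hcomp]
  have hIJ : ∀ i, I ≤ (J i).comap (pr i) := by
    intro i
    rw [← Ideal.map_le_iff_le_comap]
    exact (hmapI i).le
  have hK : ∀ y : C, (∀ i, pr i y ∈ J i) → y ∈ I := by
    intro y hy
    let e : ι → C := fun i => Φ.symm (Pi.single i 1)
    have hsum : ∑ i, e i = 1 := by
      apply Φ.injective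
      rw [map_sum, map_one]
      simp only [e, AlgEquiv.apply_symm_apply]
      exact Finset.univ_sum_single (1 : ∀ i, D i)
    have hye : ∀ i, y * e i ∈ I := by
      intro i
      have h1 : pr i y ∈ Ideal.map (pr i : C →+* D i) I := by
        rw [hmapI]; exact hy i
      obtain ⟨z, hz, hzy⟩ :=
        (Ideal.mem_map_iff_of_surjective (pr i : C →+* D i) (hpr_surj i)).mp h1
      have h2 : y * e i = z * e i := by
        apply Φ.injective
        funext j
        rw [map_mul, map_mul]
        simp only [e, AlgEquiv.apply_symm_apply, Pi.mul_apply]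
        by_cases hj : j = i
        · subst hj
          rw [Pi.single_eq_same, mul_one, mul_one]
          exact hzy.symm
        · rw [Pi.single_eq_of_ne hj, mul_zero, mul_zero]
      rw [h2]
      exact Ideal.mul_mem_right _ _ hz
    have h3 : y = ∑ i, y * e i := by rw [← Finset.mul_sum, hsum, mul_one]
    rw [h3]
    exact Ideal.sum_mem _ fun i _ => hye i
  let q : ∀ i, C ⧸ I →ₐ[A] D i ⧸ J i := fun i => Ideal.quotientMapₐ (J i) (pr i) (hIJ i)
  have hq : ∀ i c, q i (Ideal.Quotient.mk I c) = Ideal.Quotient.mk (J i) (pr i c) :=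
    fun i c => rfl
  constructor
  · intro f f' h
    have h' : ∀ a, Ideal.Quotient.mk I (f a) = Ideal.Quotient.mk I (f' a) :=
      fun a => AlgHom.congr_fun h a
    have hi : ∀ i, (pr i).comp f = (pr i).comp f' := by
      intro i
      apply (H4_etale_algHom_quotient_bijective (R := A) (S := D i) (E := E) (J i) (hJ i)).1
      ext a
      show Ideal.Quotient.mk (J i) (pr i (f a)) = Ideal.Quotient.mk (J i) (pr i (f' a))
      rw [← hq, ← hq, h' a]
    ext a
    apply Φ.injective
    funext i
    exact AlgHom.congr_fun (hi i) a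
  · intro g
    have hfi : ∀ i, ∃ fi : E →ₐ[A] D i,
        (Ideal.Quotient.mkₐ A (J i)).comp fi = (q i).comp g := fun i =>
      (H4_etale_algHom_quotient_bijective (R := A) (S := D i) (E := E) (J i) (hJ i)).2 _
    choose fi hfi using hfi
    refine ⟨Φ.symm.toAlgHom.comp (AlgHom.pi fi), ?_⟩
    ext a
    obtain ⟨c, hc⟩ := Ideal.Quotient.mk_surjective (g a)
    show Ideal.Quotient.mk I (Φ.symm (fun i => fi i a)) = g a
    rw [← hc, Ideal.Quotient.eq]
    apply hK
    intro i
    rw [map_sub]
    have h1 : pr i (Φ.symm (fun i => fi i a)) = fi i a := by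
      rw [hpr, AlgEquiv.apply_symm_apply]
    rw [h1, ← Ideal.Quotient.eq]
    have h2 : Ideal.Quotient.mk (J i) (fi i a) = q i (g a) := AlgHom.congr_fun (hfi i) a
    rw [h2, ← hc, hq]

/-- A local ring with the étale lifting property against its residue field is henselian. -/
theorem H4_henselian_of_etale_lifting (A : Type u) [CommRing A] [IsLocalRing A]
    (h : ∀ (E : Type u) [CommRing E] [Algebra A E] [Algebra.Etale A E],
      Function.Surjective (fun φ : E →ₐ[A] A =>
        (Ideal.Quotient.mkₐ A
          (Ideal.map (algebraMap A A) (IsLocalRing.maximalIdeal A))).comp φ)) :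
    HenselianLocalRing A := by
  classical
  refine { ‹IsLocalRing A› with is_henselian := ?_ }
  intro f hf a₀ h₁ h₂
  let P : StandardEtalePair A := ⟨f, hf, derivative f, ⟨1, 0, 1, by simp⟩⟩
  set I := Ideal.map (algebraMap A A) (IsLocalRing.maximalIdeal A) with hIdef
  have hI : I = IsLocalRing.maximalIdeal A := Ideal.map_id _
  have hmk : ∀ p : A[X], aeval (Ideal.Quotient.mk I a₀) p = Ideal.Quotient.mk I (p.eval a₀) := by
    intro p
    have := Polynomial.aeval_algebraMap_apply (A ⧸ I) a₀ p
    rw [Ideal.Quotient.algebraMap_eq, Polynomial.coe_aeval_eq_eval] at this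
    exact this
  have hmap : P.HasMap (Ideal.Quotient.mk I a₀) := by
    constructor
    · show aeval (Ideal.Quotient.mk I a₀) f = 0
      rw [hmk, Ideal.Quotient.eq_zero_iff_mem, hI]
      exact h₁
    · show IsUnit (aeval (Ideal.Quotient.mk I a₀) (derivative f))
      rw [hmk]
      exact h₂.map _
  obtain ⟨φ, hφ⟩ := h P.Ring (P.lift _ hmap)
  refine ⟨φ P.X, ?_, ?_⟩
  · show f.eval (φ P.X) = 0
    have h1 : aeval (φ P.X) f = φ (aeval P.X f) := Polynomial.aeval_algHom_apply φ P.X f
    rw [← Polynomial.coe_aeval_eq_eval, h1]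
    have h2 : aeval P.X P.f = 0 := P.hasMap_X.1
    show φ (aeval P.X P.f) = 0
    rw [h2, map_zero]
  · have h1 : Ideal.Quotient.mk I (φ P.X) = Ideal.Quotient.mk I a₀ := by
      have := AlgHom.congr_fun hφ P.X
      rw [P.lift_X] at this
      exact this
    rw [Ideal.Quotient.eq, hI] at h1
    exact h1

end Groth.Agent.H4
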