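import Mathlib
import Groth.Prelude.Def_ProEtW
import Groth.Agent.Lib.helper4.AbsIntClosed

/-!
# Rings all of whose faithfully flat étale algebras have retractions
-/

set_option autoImplicit false
universe u

open Polynomial IsLocalRing

namespace Groth.Agent.H4

/-- A two-member family of types. -/
def H4_fam (X Y : Type u) : Bool → Type u
  | true => X
  | false => Y

instance H4_fam_commRing (X Y : Type u) [CommRing X] [CommRing Y] : ∀ b, CommRing (H4_fam X Y b)
  | true => inferInstanceAs (CommRing X)
  | false => inferInstanceAs (CommRing Y)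

instance H4_fam_algebra (A X Y : Type u) [CommRing A] [CommRing X] [CommRing Y] [Algebra A X]
    [Algebra A Y] : ∀ b, Algebra A (H4_fam X Y b)
  | true => inferInstanceAs (Algebra A X)
  | false => inferInstanceAs (Algebra A Y)

instance H4_fam_etale (A X Y : Type u) [CommRing A] [CommRing X] [CommRing Y] [Algebra A X]
    [Algebra A Y] [Algebra.Etale A X] [Algebra.Etale A Y] : ∀ b, Algebra.Etale A (H4_fam X Y b)
  | true => inferInstanceAs (Algebra.Etale A X)
  | false => inferInstanceAs (Algebra.Etale A Y)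

/-- The product `X × Y` as a Pi type. -/
abbrev H4_prod (X Y : Type u) : Type u := ∀ b, H4_fam X Y b

example (A X Y : Type u) [CommRing A] [CommRing X] [CommRing Y] [Algebra A X]
    [Algebra A Y] [Algebra.Etale A X] [Algebra.Etale A Y] : Algebra.Etale A (H4_prod X Y) :=
  inferInstance

/-- Projections as algebra maps. -/
def H4_prod_fst (A X Y : Type u) [CommRing A] [CommRing X] [CommRing Y] [Algebra A X]
    [Algebra A Y] : H4_prod X Y →ₐ[A] X := Pi.evalAlgHom A (H4_fam X Y) true

def H4_prod_snd (A X Y : Type u) [CommRing A] [CommRing X] [CommRing Y] [Algebra A X]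
    [Algebra A Y] : H4_prod X Y →ₐ[A] Y := Pi.evalAlgHom A (H4_fam X Y) false

/-- Faithful flatness of a binary product from a covering of the spectrum. -/
theorem H4_prod_faithfullyFlat (A X Y : Type u) [CommRing A] [CommRing X] [CommRing Y] [Algebra A X]
    [Algebra A Y] [Module.Flat A (H4_prod X Y)]
    (hcov : ∀ (𝔭 : Ideal A), 𝔭.IsPrime →
      (∃ q : Ideal X, q.IsPrime ∧ q.comap (algebraMap A X) = 𝔭) ∨
      (∃ q : Ideal Y, q.IsPrime ∧ q.comap (algebraMap A Y) = 𝔭)) :
    Module.FaithfullyFlat A (H4_prod X Y) := by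
  refine Module.FaithfullyFlat.of_comap_surjective ?_
  intro 𝔭
  rcases hcov 𝔭.asIdeal 𝔭.2 with ⟨q, hq, hqp⟩ | ⟨q, hq, hqp⟩
  · haveI := hq
    refine ⟨⟨q.comap (H4_prod_fst A X Y), inferInstance⟩, ?_⟩
    ext1
    show Ideal.comap (algebraMap A (H4_prod X Y)) (q.comap (H4_prod_fst A X Y)) = 𝔭.asIdeal
    rw [← hqp]
    ext a
    simp only [Ideal.mem_comap]
    rw [AlgHom.commutes]
  · haveI := hq
    refine ⟨⟨q.comap (H4_prod_snd A X Y), inferInstance⟩, ?_⟩
    ext1
    show Ideal.comap (algebraMap A (H4_prod X Y)) (q.comap (H4_prod_snd A X Y)) = 𝔭.asIdeal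
    rw [← hqp]
    ext a
    simp only [Ideal.mem_comap]
    rw [AlgHom.commutes]

section inclusions

variable (X Y : Type u) [CommRing X] [CommRing Y]

/-- Left inclusion (non-unital). -/
def H4_inl (x : X) : H4_prod X Y := fun b => match b with
  | true => x
  | false => (0 : Y)

/-- Right inclusion (non-unital). -/
def H4_inr (y : Y) : H4_prod X Y := fun b => match b with
  | true => (0 : X)
  | false => y

theorem H4_inl_mul (x x' : X) : H4_inl X Y (x * x') = H4_inl X Y x * H4_inl X Y x' := by
  funext b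
  cases b
  · exact (mul_zero (0 : Y)).symm
  · rfl

theorem H4_inl_add (x x' : X) : H4_inl X Y (x + x') = H4_inl X Y x + H4_inl X Y x' := by
  funext b
  cases b
  · exact (add_zero (0 : Y)).symm
  · rfl

theorem H4_inl_zero : H4_inl X Y 0 = 0 := by
  funext b
  cases b <;> rfl

theorem H4_inl_one_add_inr_one : H4_inl X Y 1 + H4_inr X Y 1 = 1 := by
  funext b
  cases b
  · exact zero_add (1 : Y)
  · exact add_zero (1 : X)

theorem H4_inl_smul (A : Type u) [CommRing A] [Algebra A X] [Algebra A Y] (a : A) (x : X) :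
    H4_inl X Y (a • x) = a • H4_inl X Y x := by
  funext b
  cases b
  · exact (smul_zero (A := Y) a).symm
  · rfl

theorem H4_inr_smul (A : Type u) [CommRing A] [Algebra A X] [Algebra A Y] (a : A) (y : Y) :
    H4_inr X Y (a • y) = a • H4_inr X Y y := by
  funext b
  cases b
  · rfl
  · exact (smul_zero (A := X) a).symm

end inclusions

set_option maxHeartbeats 1000000 in
/-- Key lemma: if `A` has étale retractions, `𝔪` is maximal and the étale algebra `X` has a prime
over `𝔪`, then there is an `A`-algebra map `X → A_𝔪`. -/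
theorem H4_exists_algHom_localization (A : Type u) [CommRing A] (h : ProEtW.HasEtaleRetractions A)
    (m : Ideal A) [hm : m.IsMaximal] (X : Type u) [CommRing X] [Algebra A X] [Algebra.Etale A X]
    (hX : ∃ q : Ideal X, q.IsPrime ∧ q.comap (algebraMap A X) = m) :
    Nonempty (X →ₐ[A] Localization.AtPrime m) := by
  classical
  -- the image of `Spec X` is open
  have hU : IsOpen (Set.range (PrimeSpectrum.comap (algebraMap A X))) :=
    (PrimeSpectrum.isOpenMap_comap_of_hasGoingDown_of_finitePresentation).isOpen_range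
  obtain ⟨J, hJ⟩ := (PrimeSpectrum.isClosed_iff_zeroLocus_ideal _).1 (isClosed_compl_iff.2 hU)
  have hmU : (⟨m, hm.isPrime⟩ : PrimeSpectrum A) ∈ Set.range (PrimeSpectrum.comap (algebraMap A X)) := by
    obtain ⟨q, hq, hqm⟩ := hX
    refine ⟨⟨q, hq⟩, ?_⟩
    ext1
    exact hqm
  have hJm : ¬ J ≤ m := by
    intro hle
    have h1 : (⟨m, hm.isPrime⟩ : PrimeSpectrum A) ∈ PrimeSpectrum.zeroLocus (J : Set A) := by
      rw [PrimeSpectrum.mem_zeroLocus]
      exact hle
    rw [← hJ] at h1
    exact h1 hmU
  have htop : m ⊔ J = ⊤ := by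
    by_contra hne
    have h1 := hm.eq_of_le hne le_sup_left
    exact hJm (h1 ▸ le_sup_right)
  obtain ⟨t, ht, j, hj, htj⟩ := Submodule.mem_sup.1 (htop ▸ Submodule.mem_top : (1 : A) ∈ m ⊔ J)
  -- the covering
  have hcov : ∀ (𝔭 : Ideal A), 𝔭.IsPrime →
      (∃ q : Ideal X, q.IsPrime ∧ q.comap (algebraMap A X) = 𝔭) ∨
      (∃ q : Ideal (Localization.Away t), q.IsPrime ∧
        q.comap (algebraMap A (Localization.Away t)) = 𝔭) := by
    intro 𝔭 h𝔭
    by_cases ht𝔭 : t ∈ 𝔭
    · left
      have hj𝔭 : j ∉ 𝔭 := by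
        intro hj𝔭
        have : (1 : A) ∈ 𝔭 := htj ▸ Ideal.add_mem _ ht𝔭 hj𝔭
        exact h𝔭.ne_top ((Ideal.eq_top_iff_one _).2 this)
      have h1 : (⟨𝔭, h𝔭⟩ : PrimeSpectrum A) ∉ PrimeSpectrum.zeroLocus (J : Set A) := by
        rw [PrimeSpectrum.mem_zeroLocus]
        intro hle
        exact hj𝔭 (hle hj)
      rw [← hJ] at h1
      have h2 : (⟨𝔭, h𝔭⟩ : PrimeSpectrum A) ∈ Set.range (PrimeSpectrum.comap (algebraMap A X)) :=
        Set.notMem_compl_iff.1 h1
      obtain ⟨q, hq⟩ := h2
      exact ⟨q.asIdeal, q.2, congrArg PrimeSpectrum.asIdeal hq⟩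
    · right
      have hdisj : Disjoint (Submonoid.powers t : Set A) (𝔭 : Set A) :=
        (Ideal.disjoint_powers_iff_notMem t h𝔭.isRadical).2 ht𝔭
      exact ⟨Ideal.map (algebraMap A (Localization.Away t)) 𝔭,
        IsLocalization.isPrime_of_isPrime_disjoint (Submonoid.powers t) _ 𝔭 h𝔭 hdisj,
        IsLocalization.under_map_of_isPrime_disjoint (Submonoid.powers t) _ h𝔭 hdisj⟩
  haveI hflat : Module.Flat A (H4_prod X (Localization.Away t)) := inferInstance
  have hff : Module.FaithfullyFlat A (H4_prod X (Localization.Away t)) :=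
    H4_prod_faithfullyFlat A X (Localization.Away t) hcov
  obtain ⟨ρ⟩ := h (H4_prod X (Localization.Away t)) hff inferInstance
  -- idempotents
  set e₁ : H4_prod X (Localization.Away t) := H4_inl X (Localization.Away t) 1 with he₁
  set e₂ : H4_prod X (Localization.Away t) := H4_inr X (Localization.Away t) 1 with he₂
  have he12 : e₁ + e₂ = 1 := H4_inl_one_add_inr_one X (Localization.Away t)
  have he1idem : e₁ * e₁ = e₁ := by
    rw [he₁, ← H4_inl_mul, one_mul]
  set α : A →+* Localization.AtPrime m := algebraMap A (Localization.AtPrime m) with hα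
  have hidem : IsIdempotentElem (α (ρ e₁)) := by
    show α (ρ e₁) * α (ρ e₁) = α (ρ e₁)
    rw [← map_mul, ← map_mul, he1idem]
  rcases IsLocalRing.isUnit_or_isUnit_one_sub_self (α (ρ e₁)) with hu | hu
  · -- `α (ρ e₁) = 1`
    have h1 : α (ρ e₁) = 1 := by
      have h2 : α (ρ e₁) * α (ρ e₁) = α (ρ e₁) * 1 := by rw [mul_one]; exact hidem
      exact hu.mul_left_cancel h2
    refine ⟨{ toFun := fun x => α (ρ (H4_inl X (Localization.Away t) x))
              map_one' := h1
              map_mul' := fun x y => by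
                show α (ρ (H4_inl X (Localization.Away t) (x * y))) = _
                rw [H4_inl_mul, map_mul, map_mul]
              map_zero' := by
                show α (ρ (H4_inl X (Localization.Away t) (0 : X))) = 0
                rw [H4_inl_zero, map_zero, map_zero]
              map_add' := fun x y => by
                show α (ρ (H4_inl X (Localization.Away t) (x + y))) = _
                rw [H4_inl_add, map_add, map_add]
              commutes' := fun a => by
                show α (ρ (H4_inl X (Localization.Away t) (algebraMap A X a))) = algebraMap A _ a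
                have h3 : H4_inl X (Localization.Away t) (algebraMap A X a) = a • e₁ := by
                  rw [he₁, ← H4_inl_smul, Algebra.smul_def, mul_one]
                rw [h3, map_smul, smul_eq_mul, map_mul, h1, mul_one] }⟩
  · -- `α (ρ e₂) = 1` is impossible
    exfalso
    have h1 : α (ρ e₂) = 1 - α (ρ e₁) := by
      rw [← map_one α, ← map_one ρ, ← he12, map_add, map_add]; ring
    have hidem2 : IsIdempotentElem (1 - α (ρ e₁)) := hidem.one_sub
    have h2 : 1 - α (ρ e₁) = 1 := by
      have h3 : (1 - α (ρ e₁)) * (1 - α (ρ e₁)) = (1 - α (ρ e₁)) * 1 := by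
        rw [mul_one]; exact hidem2
      exact hu.mul_left_cancel h3
    rw [← h1] at h2
    -- `t` acts invertibly on `e₂`
    have htunit : IsUnit (algebraMap A (Localization.Away t) t) :=
      IsLocalization.Away.algebraMap_isUnit t
    obtain ⟨w, hw⟩ := htunit
    set y : H4_prod X (Localization.Away t) :=
      H4_inr X (Localization.Away t) ((↑w⁻¹ : Localization.Away t)) with hy
    have h3 : t • y = e₂ := by
      rw [hy, he₂, ← H4_inr_smul, Algebra.smul_def, ← hw, Units.mul_inv]
    have h4 : α t * α (ρ y) = 1 := by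
      rw [← h2, ← h3, map_smul, smul_eq_mul, map_mul]
    have h5 : IsUnit (α t) := IsUnit.of_mul_eq_one _ h4
    have h6 := (IsLocalization.AtPrime.isUnit_to_map_iff (Localization.AtPrime m) m t).1 h5
    exact h6 ht

end Groth.Agent.H4
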