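import Mathlib
import Groth.Prelude.Def_ProEtW
import Groth.Agent.Lib.helper4.EtaleRetractions

/-!
# Étale retractions imply strictly henselian local rings at maximal ideals
-/

set_option autoImplicit false
universe u

open Polynomial IsLocalRing

namespace Groth.Agent.H4

/-- `(scaleRoots f s).comp (C s * X) = C (s ^ n) * f`. -/
theorem H4_scaleRoots_comp {S : Type u} [CommRing S] (f : S[X]) (s : S) :
    (scaleRoots f s).comp (C s * X) = C (s ^ f.natDegree) * f := by
  ext i
  rw [comp_C_mul_X_coeff, coeff_scaleRoots, coeff_C_mul]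
  by_cases hi : i ≤ f.natDegree
  · have h1 : s ^ (f.natDegree - i) * s ^ i = s ^ f.natDegree := by
      rw [← pow_add, Nat.sub_add_cancel hi]
    rw [mul_assoc, h1, mul_comm]
  · push Not at hi
    rw [coeff_eq_zero_of_natDegree_lt hi, zero_mul, zero_mul, mul_zero]

/-- Derivative of `scaleRoots` at a scaled point. -/
theorem H4_scaleRoots_derivative_eval {S : Type u} [CommRing S] (f : S[X]) (s x : S) :
    s * (derivative (scaleRoots f s)).eval (s * x) = s ^ f.natDegree * (derivative f).eval x := by
  have h1 := congrArg (fun p => (derivative p).eval x) (H4_scaleRoots_comp f s)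
  simp only [derivative_comp, derivative_mul, derivative_C, zero_mul, derivative_X, mul_one,
    zero_add, eval_mul, eval_C, eval_comp, eval_X, eval_add, mul_zero, add_zero] at h1
  exact h1

/-- From the Key lemma: roots of monic polynomials in `A_𝔪`. -/
theorem H4_exists_root_of_retractions (A : Type u) [CommRing A] (h : ProEtW.HasEtaleRetractions A)
    (m : Ideal A) [hm : m.IsMaximal] (G : A[X]) (hG : G.Monic) (g₁ : A[X])
    (L : Type u) [Field L] [Algebra A L] (hker : RingHom.ker (algebraMap A L) = m) (y : L)
    (hy : aeval y G = 0) (hy' : aeval y (g₁ * derivative G) ≠ 0) :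
    ∃ x : Localization.AtPrime m, aeval x G = 0 ∧ IsUnit (aeval x g₁) := by
  let P : StandardEtalePair A := ⟨G, hG, g₁ * derivative G, ⟨g₁, 0, 1, by ring⟩⟩
  have hmap : P.HasMap y := ⟨hy, isUnit_iff_ne_zero.2 hy'⟩
  let ev : P.Ring →ₐ[A] L := P.lift y hmap
  have hX : ∃ q : Ideal P.Ring, q.IsPrime ∧ q.comap (algebraMap A P.Ring) = m := by
    refine ⟨RingHom.ker ev.toRingHom, RingHom.ker_isPrime _, ?_⟩
    rw [← hker]
    ext a
    rw [Ideal.mem_comap, RingHom.mem_ker, RingHom.mem_ker]
    show ev (algebraMap A P.Ring a) = 0 ↔ _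
    rw [ev.commutes]
  obtain ⟨ψ⟩ := H4_exists_algHom_localization A h m P.Ring hX
  have h1 : P.HasMap (ψ P.X) := (P.hasMap_X).map ψ
  refine ⟨ψ P.X, h1.1, ?_⟩
  have h2 : IsUnit (aeval (ψ P.X) (g₁ * derivative G)) := h1.2
  rw [map_mul] at h2
  exact isUnit_of_mul_isUnit_left h2

/-- Scaling data: transport a simple root in a field `L` of a monic polynomial over `A_𝔪` to a
simple root of a monic polynomial over `A`. -/
theorem H4_scaling_data (A : Type u) [CommRing A] (m : Ideal A) [hm : m.IsMaximal]
    (f : (Localization.AtPrime m)[X]) (hf : f.Monic)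
    (L : Type u) [Field L] [Algebra A L] [Algebra (Localization.AtPrime m) L]
    [IsScalarTower A (Localization.AtPrime m) L]
    (y₀ : L) (hy₀ : aeval y₀ f = 0) (hy₀' : aeval y₀ (derivative f) ≠ 0) :
    ∃ (s : m.primeCompl) (G : A[X]), G.Monic ∧
      G.map (algebraMap A (Localization.AtPrime m)) =
        scaleRoots f (algebraMap A (Localization.AtPrime m) s) ∧
      aeval (algebraMap A L s * y₀) G = 0 ∧
      aeval (algebraMap A L s * y₀) (derivative G) ≠ 0 := by
  obtain ⟨s, G, hG, -, hGmap⟩ := H4_monic_scaled_lift m.primeCompl (Localization.AtPrime m) f hf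
  refine ⟨s, G, hG, hGmap, ?_⟩
  set σ : L := algebraMap A L s with hσ
  set p : L[X] := f.map (algebraMap (Localization.AtPrime m) L) with hp
  have hσ' : σ = algebraMap (Localization.AtPrime m) L (algebraMap A (Localization.AtPrime m) s) := by
    rw [hσ, IsScalarTower.algebraMap_apply A (Localization.AtPrime m) L]
  have hσne : σ ≠ 0 := by
    rw [hσ']
    exact ((IsLocalization.map_units (Localization.AtPrime m) s).map _).ne_zero
  have hGL : G.map (algebraMap A L) = scaleRoots p σ := by
    rw [IsScalarTower.algebraMap_eq A (Localization.AtPrime m) L, ← Polynomial.map_map, hGmap,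
      map_scaleRoots, ← hσ']
    rw [hf.leadingCoeff, map_one]
    exact one_ne_zero
  have hpnat : p.natDegree = f.natDegree := hf.natDegree_map _
  have hp0 : p.eval y₀ = 0 := by rw [hp, eval_map_algebraMap]; exact hy₀
  have hp1 : (derivative p).eval y₀ ≠ 0 := by
    rw [hp, derivative_map, eval_map_algebraMap]; exact hy₀'
  constructor
  · rw [← eval_map_algebraMap, hGL, scaleRoots_eval_mul, hp0, mul_zero]
  · rw [← eval_map_algebraMap, ← derivative_map, hGL]
    intro h0
    have h1 := H4_scaleRoots_derivative_eval p σ y₀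
    rw [h0, mul_zero] at h1
    have h2 : σ ^ p.natDegree * (derivative p).eval y₀ ≠ 0 := mul_ne_zero (pow_ne_zero _ hσne) hp1
    exact h2 h1.symm

/-- A root of `G` in `A_𝔪` gives a root of `f`. -/
theorem H4_root_of_scaled {A : Type u} [CommRing A] (m : Ideal A) [hm : m.IsMaximal]
    (f : (Localization.AtPrime m)[X]) (s : m.primeCompl) (G : A[X])
    (hGmap : G.map (algebraMap A (Localization.AtPrime m)) =
        scaleRoots f (algebraMap A (Localization.AtPrime m) s))
    (x : Localization.AtPrime m) (hx : aeval x G = 0)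
    (v : (Localization.AtPrime m)ˣ) (hv : (v : Localization.AtPrime m) = algebraMap A _ s) :
    f.eval ((↑v⁻¹ : Localization.AtPrime m) * x) = 0 := by
  have h1 : (scaleRoots f (algebraMap A (Localization.AtPrime m) s)).eval
      (algebraMap A (Localization.AtPrime m) s * ((↑v⁻¹ : Localization.AtPrime m) * x)) = 0 := by
    rw [← hv, ← mul_assoc, Units.mul_inv, one_mul, hv, ← hGmap, eval_map_algebraMap]
    exact hx
  rw [scaleRoots_eval_mul] at h1
  have h2 : IsUnit (algebraMap A (Localization.AtPrime m) s ^ f.natDegree) := by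
    rw [← hv]; exact v.isUnit.pow _
  exact (h2.mul_right_eq_zero).1 h1

section main

variable (A : Type u) [CommRing A] (m : Ideal A) [hm : m.IsMaximal]

theorem H4_ker_algebraMap_residueField :
    RingHom.ker (algebraMap A (ResidueField (Localization.AtPrime m))) = m := by
  ext a
  rw [RingHom.mem_ker, IsScalarTower.algebraMap_apply A (Localization.AtPrime m)
    (ResidueField (Localization.AtPrime m)), ResidueField.algebraMap_eq, residue_eq_zero_iff,
    IsLocalization.AtPrime.to_map_mem_maximal_iff (Localization.AtPrime m) m]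

theorem H4_residue_surjective_of_maximal (c : Localization.AtPrime m) :
    ∃ b : A, residue (Localization.AtPrime m) (algebraMap A _ b) = residue _ c := by
  obtain ⟨a, u, rfl⟩ := IsLocalization.exists_mk'_eq m.primeCompl c
  obtain ⟨u', i, hi, hu'⟩ := hm.exists_inv u.2
  refine ⟨a * u', ?_⟩
  rw [← sub_eq_zero, ← map_sub, residue_eq_zero_iff]
  have h1 : algebraMap A (Localization.AtPrime m) (a * u') - IsLocalization.mk' _ a u =
      - (IsLocalization.mk' (Localization.AtPrime m) a u * algebraMap A _ i) := by
    have h2 : IsLocalization.mk' (Localization.AtPrime m) a u * algebraMap A _ (u : A) =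
        algebraMap A _ a := IsLocalization.mk'_spec _ _ _
    have h3 : algebraMap A (Localization.AtPrime m) u' * algebraMap A _ (u : A) +
        algebraMap A _ i = 1 := by
      rw [← map_mul, ← map_add, hu', map_one]
    rw [map_mul]
    linear_combination (-algebraMap A (Localization.AtPrime m) u') * h2 +
      (IsLocalization.mk' (Localization.AtPrime m) a u) * h3
  rw [h1]
  refine Ideal.neg_mem_iff _ |>.2 (Ideal.mul_mem_left _ _ ?_)
  exact (IsLocalization.AtPrime.to_map_mem_maximal_iff (Localization.AtPrime m) m i).2 hi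

set_option maxHeartbeats 1000000 in
theorem H4_henselian_of_retractions (h : ProEtW.HasEtaleRetractions A) :
    HenselianLocalRing (Localization.AtPrime m) := by
  classical
  refine { (inferInstance : IsLocalRing (Localization.AtPrime m)) with is_henselian := ?_ }
  intro f hf a₀ h₁ h₂
  set y₀ : ResidueField (Localization.AtPrime m) := residue _ a₀ with hy₀def
  have hy₀ : aeval y₀ f = 0 := by
    rw [hy₀def, ← ResidueField.algebraMap_eq, aeval_algebraMap_apply_eq_algebraMap_eval,
      ResidueField.algebraMap_eq, residue_eq_zero_iff]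
    exact h₁
  have hy₀' : aeval y₀ (derivative f) ≠ 0 := by
    rw [hy₀def, ← ResidueField.algebraMap_eq, aeval_algebraMap_apply_eq_algebraMap_eval,
      ResidueField.algebraMap_eq]
    exact (h₂.map (residue _)).ne_zero
  obtain ⟨s, G, hG, hGmap, hyG, hyG'⟩ := H4_scaling_data A m f hf _ y₀ hy₀ hy₀'
  set y : ResidueField (Localization.AtPrime m) :=
    algebraMap A (ResidueField (Localization.AtPrime m)) s * y₀ with hy
  obtain ⟨b₀, hb₀⟩ := H4_residue_surjective_of_maximal A m
    (algebraMap A (Localization.AtPrime m) s * a₀)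
  have hyb : algebraMap A (ResidueField (Localization.AtPrime m)) b₀ = y := by
    rw [IsScalarTower.algebraMap_apply A (Localization.AtPrime m)
      (ResidueField (Localization.AtPrime m)), ResidueField.algebraMap_eq, hb₀, map_mul, hy,
      IsScalarTower.algebraMap_apply A (Localization.AtPrime m)
      (ResidueField (Localization.AtPrime m)), ResidueField.algebraMap_eq]
  set g₁ : A[X] := G /ₘ (X - C b₀) with hg₁
  have hGg : G = (X - C b₀) * g₁ + C (G.eval b₀) := by
    have h3 := Polynomial.modByMonic_add_div G (X - C b₀)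
    rw [modByMonic_X_sub_C_eq_C_eval] at h3
    rw [hg₁]
    conv_lhs => rw [← h3]
    ring
  have hder : aeval y (derivative G) = aeval y g₁ := by
    have h3 : derivative G = derivative ((X - C b₀) * g₁ + C (G.eval b₀)) := by rw [← hGg]
    rw [h3]
    simp only [derivative_add, derivative_mul, derivative_sub, derivative_X, derivative_C, sub_zero,
      one_mul, add_zero, map_add, map_mul, map_sub, aeval_X, aeval_C, hyb, sub_self, zero_mul]
  have hy' : aeval y (g₁ * derivative G) ≠ 0 := by
    rw [map_mul, ← hder]
    exact mul_ne_zero hyG' hyG'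
  obtain ⟨x, hx, hxu⟩ := H4_exists_root_of_retractions A h m G hG g₁ _
    (H4_ker_algebraMap_residueField A m) y hyG hy'
  obtain ⟨v, hv⟩ := IsLocalization.map_units (Localization.AtPrime m) s
  refine ⟨(↑v⁻¹ : Localization.AtPrime m) * x, H4_root_of_scaled m f s G hGmap x hx v hv, ?_⟩
  -- congruence
  have hGb : G.eval b₀ ∈ m := by
    rw [← H4_ker_algebraMap_residueField A m, RingHom.mem_ker,
      ← aeval_algebraMap_apply_eq_algebraMap_eval, hyb]
    exact hyG
  have h4 : (x - algebraMap A (Localization.AtPrime m) b₀) * aeval x g₁ =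
      - algebraMap A (Localization.AtPrime m) (G.eval b₀) := by
    have h5 : aeval x G = (x - algebraMap A (Localization.AtPrime m) b₀) * aeval x g₁ +
        algebraMap A (Localization.AtPrime m) (G.eval b₀) := by
      conv_lhs => rw [hGg]
      simp
    rw [hx] at h5
    linear_combination -h5
  have h6 : x - algebraMap A (Localization.AtPrime m) b₀ ∈ maximalIdeal (Localization.AtPrime m) := by
    have h7 : (x - algebraMap A (Localization.AtPrime m) b₀) * aeval x g₁ ∈
        maximalIdeal (Localization.AtPrime m) := by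
      rw [h4]
      exact Ideal.neg_mem_iff _ |>.2
        ((IsLocalization.AtPrime.to_map_mem_maximal_iff (Localization.AtPrime m) m _).2 hGb)
    obtain ⟨w, hw⟩ := hxu
    have h8 := Ideal.mul_mem_right (↑w⁻¹ : Localization.AtPrime m) _ h7
    rw [mul_assoc, ← hw, Units.mul_inv, mul_one] at h8
    exact h8
  have h9 : algebraMap A (Localization.AtPrime m) b₀ - algebraMap A (Localization.AtPrime m) s * a₀ ∈
      maximalIdeal (Localization.AtPrime m) := by
    rw [← residue_eq_zero_iff, map_sub, hb₀, sub_self]
  have h10 : (↑v⁻¹ : Localization.AtPrime m) * x - a₀ = (↑v⁻¹ : Localization.AtPrime m) *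
      ((x - algebraMap A (Localization.AtPrime m) b₀) +
        (algebraMap A (Localization.AtPrime m) b₀ - algebraMap A (Localization.AtPrime m) s * a₀)) := by
    rw [← hv]
    have : (↑v⁻¹ : Localization.AtPrime m) * (v : Localization.AtPrime m) = 1 := Units.inv_mul v
    linear_combination (a₀) * this
  rw [h10]
  exact Ideal.mul_mem_left _ _ (Ideal.add_mem _ h6 h9)

set_option maxHeartbeats 1000000 in
theorem H4_isSepClosed_of_retractions (h : ProEtW.HasEtaleRetractions A) :
    IsSepClosed (ResidueField (Localization.AtPrime m)) := by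
  classical
  refine IsSepClosed.of_exists_root _ ?_
  intro g hg hirr hsep
  have hlifts : g ∈ lifts (residue (Localization.AtPrime m)) := by
    rw [lifts_iff_coeff_lifts]
    intro n
    exact residue_surjective _
  obtain ⟨f, hf1, -, hf3⟩ := lifts_and_natDegree_eq_and_monic hlifts hg
  haveI : Fact (Irreducible g) := ⟨hirr⟩
  set y₀ : AdjoinRoot g := AdjoinRoot.root g with hy₀def
  have halg : algebraMap (Localization.AtPrime m) (AdjoinRoot g) =
      (AdjoinRoot.of g).comp (residue (Localization.AtPrime m)) := by
    rw [IsScalarTower.algebraMap_eq (Localization.AtPrime m)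
      (ResidueField (Localization.AtPrime m)) (AdjoinRoot g), AdjoinRoot.algebraMap_eq,
      ResidueField.algebraMap_eq]
  have hy₀ : aeval y₀ f = 0 := by
    rw [aeval_def, halg, ← eval₂_map, hf1]
    exact AdjoinRoot.eval₂_root g
  have hy₀' : aeval y₀ (derivative f) ≠ 0 := by
    rw [aeval_def, halg, ← eval₂_map, ← derivative_map, hf1]
    obtain ⟨a, b, hab⟩ := hsep
    have h1 := congrArg (eval₂ (AdjoinRoot.of g) (AdjoinRoot.root g)) hab
    rw [eval₂_add, eval₂_mul, eval₂_mul, AdjoinRoot.eval₂_root, mul_zero, zero_add, eval₂_one] at h1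
    intro h0
    rw [h0, mul_zero] at h1
    exact zero_ne_one h1
  obtain ⟨s, G, hG, hGmap, hyG, hyG'⟩ := H4_scaling_data A m f hf3 (AdjoinRoot g) y₀ hy₀ hy₀'
  have hker : RingHom.ker (algebraMap A (AdjoinRoot g)) = m := by
    refine Eq.trans ?_ (H4_ker_algebraMap_residueField A m)
    ext a
    rw [RingHom.mem_ker, RingHom.mem_ker, IsScalarTower.algebraMap_apply A
      (ResidueField (Localization.AtPrime m)) (AdjoinRoot g)]
    exact map_eq_zero_iff _ (RingHom.injective _)
  have hy' : aeval (algebraMap A (AdjoinRoot g) s * y₀) ((1 : A[X]) * derivative G) ≠ 0 := by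
    rw [one_mul]; exact hyG'
  obtain ⟨x, hx, -⟩ := H4_exists_root_of_retractions A h m G hG 1 (AdjoinRoot g) hker _ hyG hy'
  obtain ⟨v, hv⟩ := IsLocalization.map_units (Localization.AtPrime m) s
  have hroot := H4_root_of_scaled m f s G hGmap x hx v hv
  refine ⟨residue _ ((↑v⁻¹ : Localization.AtPrime m) * x), ?_⟩
  rw [← hf1, eval_map, eval₂_at_apply, hroot, map_zero]

theorem H4_strictlyHenselian_of_retractions (h : ProEtW.HasEtaleRetractions A) :
    ∃ _ : HenselianLocalRing (Localization.AtPrime m),
      IsSepClosed (ResidueField (Localization.AtPrime m)) :=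
  ⟨H4_henselian_of_retractions A m h, H4_isSepClosed_of_retractions A m h⟩

end main

end Groth.Agent.H4
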