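import Mathlib

/-! Idempotents `e` of an `R`-algebra `S` such that the ideal `S e` is a finite `R`-module. -/

set_option autoImplicit false
universe u v

namespace Groth.Agent.H4

variable {R : Type u} {S : Type v} [CommRing R] [CommRing S] [Algebra R S]

/-- The ideal generated by `e` is finitely generated as an `R`-module. -/
def H4_IdemFG (R : Type u) {S : Type v} [CommRing R] [CommRing S] [Algebra R S] (e : S) : Prop :=
  ((Ideal.span {e} : Ideal S).restrictScalars R).FG

theorem H4_idemFG_zero : H4_IdemFG R (0 : S) := by
  unfold H4_IdemFG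
  have : (Ideal.span {(0 : S)} : Ideal S) = ⊥ := by simp
  rw [this]
  have h2 : ((⊥ : Ideal S).restrictScalars R) = ⊥ := by
    ext x; simp
  rw [h2]
  exact Submodule.fg_bot

theorem H4_isIdempotentElem_join {e f : S} (he : IsIdempotentElem e) (hf : IsIdempotentElem f) :
    IsIdempotentElem (e + f - e * f) := by
  have h1 : e * e = e := he
  have h2 : f * f = f := hf
  show (e + f - e * f) * (e + f - e * f) = e + f - e * f
  have : (e + f - e * f) * (e + f - e * f) =
      e * e + f * f + 2 * (e * f) - 2 * ((e * e) * f) - 2 * (e * (f * f)) + (e * e) * (f * f) := by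
    ring
  rw [this, h1, h2]
  ring

/-- Join of idempotents preserves finiteness. -/
theorem H4_idemFG_join {e f : S} (hei : IsIdempotentElem e) (hfi : IsIdempotentElem f)
    (he : H4_IdemFG R e) (hf : H4_IdemFG R f) : H4_IdemFG R (e + f - e * f) := by
  unfold H4_IdemFG at *
  have h1 : ((Ideal.span {e + f - e * f} : Ideal S).restrictScalars R) =
      ((Ideal.span {e} : Ideal S).restrictScalars R) ⊔
        ((Ideal.span {f} : Ideal S).restrictScalars R) := by
    apply le_antisymm
    · intro x hx
      rw [Submodule.restrictScalars_mem, Ideal.mem_span_singleton'] at hx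
      obtain ⟨a, rfl⟩ := hx
      rw [Submodule.mem_sup]
      refine ⟨a * (1 - f) * e, ?_, a * f, ?_, by ring⟩
      · rw [Submodule.restrictScalars_mem]
        exact Ideal.mul_mem_left _ _ (Ideal.mem_span_singleton_self e)
      · rw [Submodule.restrictScalars_mem]
        exact Ideal.mul_mem_left _ _ (Ideal.mem_span_singleton_self f)
    · apply sup_le
      · intro x hx
        rw [Submodule.restrictScalars_mem, Ideal.mem_span_singleton'] at hx ⊢
        obtain ⟨a, rfl⟩ := hx
        refine ⟨a * e, ?_⟩
        have h1 : e * e = e := hei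
        have : a * e * (e + f - e * f) = a * (e * e) + a * (e * f) - a * ((e * e) * f) := by ring
        rw [this, h1]; ring
      · intro x hx
        rw [Submodule.restrictScalars_mem, Ideal.mem_span_singleton'] at hx ⊢
        obtain ⟨a, rfl⟩ := hx
        refine ⟨a * f, ?_⟩
        have h2 : f * f = f := hfi
        have : a * f * (e + f - e * f) = a * (e * f) + a * (f * f) - a * (e * (f * f)) := by ring
        rw [this, h2]; ring
  rw [h1]
  exact he.sup hf

/-- If `S e` is a finite `R`-module then so is `S ⧸ (1 - e)`. -/
theorem H4_finite_quotient_of_idemFG {e : S} (he : H4_IdemFG R e) :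
    Module.Finite R (S ⧸ Ideal.span ({1 - e} : Set S)) := by
  unfold H4_IdemFG at he
  haveI : Module.Finite R ((Ideal.span {e} : Ideal S).restrictScalars R) :=
    Module.Finite.iff_fg.mpr he
  let φ : ((Ideal.span {e} : Ideal S).restrictScalars R) →ₗ[R] (S ⧸ Ideal.span ({1 - e} : Set S)) :=
    ((Ideal.Quotient.mkₐ R (Ideal.span ({1 - e} : Set S))).toLinearMap).comp
      (Submodule.subtype _)
  apply Module.Finite.of_surjective φ
  intro y
  obtain ⟨s, rfl⟩ := Ideal.Quotient.mk_surjective y
  refine ⟨⟨s * e, by
    rw [Submodule.restrictScalars_mem]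
    exact Ideal.mul_mem_left _ _ (Ideal.mem_span_singleton_self e)⟩, ?_⟩
  show Ideal.Quotient.mk _ (s * e) = Ideal.Quotient.mk _ s
  rw [Ideal.Quotient.eq, Ideal.mem_span_singleton']
  exact ⟨-s, by ring⟩

/-- If the localization away from an idempotent `e` is finite over `A` then `B e` is a finite
`A`-module. -/
theorem H4_idemFG_of_finite_away {A : Type u} {B : Type v} [CommRing A] [CommRing B] [Algebra A B]
    {e : B} (he : IsIdempotentElem e) [Module.Finite A (Localization.Away e)] :
    H4_IdemFG A e := by
  unfold H4_IdemFG
  rw [← Module.Finite.iff_fg]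
  have hu : IsUnit (algebraMap B (Localization.Away e) e) := IsLocalization.Away.algebraMap_isUnit e
  have h1 : algebraMap B (Localization.Away e) e = 1 := by
    have h2 : algebraMap B (Localization.Away e) e * algebraMap B (Localization.Away e) e =
        algebraMap B (Localization.Away e) e := by rw [← map_mul, he.eq]
    have := hu.mul_left_cancel (a := algebraMap B (Localization.Away e) e)
      (b := algebraMap B (Localization.Away e) e) (c := 1) (by rw [h2, mul_one])
    exact this
  have hmem : ∀ x ∈ (Ideal.span {e} : Ideal B), e * x = x := by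
    intro x hx
    rw [Ideal.mem_span_singleton'] at hx
    obtain ⟨a, rfl⟩ := hx
    rw [mul_comm, mul_assoc, he.eq]
  let φ : ((Ideal.span {e} : Ideal B).restrictScalars A) →ₗ[A] Localization.Away e :=
    ((IsScalarTower.toAlgHom A B (Localization.Away e)).toLinearMap).comp (Submodule.subtype _)
  have hφ : ∀ x, φ x = algebraMap B (Localization.Away e) x.1 := fun x => rfl
  have hinj : Function.Injective φ := by
    rw [injective_iff_map_eq_zero]
    intro x hx
    rw [hφ, IsLocalization.map_eq_zero_iff (Submonoid.powers e)] at hx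
    obtain ⟨⟨_, n, rfl⟩, hn⟩ := hx
    have hx1 : x.1 ∈ (Ideal.span {e} : Ideal B) := x.2
    have h3 : ∀ n : ℕ, e ^ n * x.1 = x.1 := by
      intro n
      induction n with
      | zero => simp
      | succ k ih => rw [pow_succ, mul_assoc, hmem _ hx1, ih]
    apply Subtype.ext
    show x.1 = 0
    rw [← h3 n]
    exact hn
  have hsurj : Function.Surjective φ := by
    intro z
    obtain ⟨b, ⟨_, n, rfl⟩, rfl⟩ := IsLocalization.exists_mk'_eq (Submonoid.powers e) z
    refine ⟨⟨b * e, by
      rw [Submodule.restrictScalars_mem]
      exact Ideal.mul_mem_left _ _ (Ideal.mem_span_singleton_self e)⟩, ?_⟩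
    rw [hφ]
    show algebraMap B (Localization.Away e) (b * e) = _
    rw [map_mul, h1, mul_one, IsLocalization.eq_mk'_iff_mul_eq]
    show _ * algebraMap B (Localization.Away e) (e ^ n) = _
    rw [map_pow, h1, one_pow, mul_one]
  exact Module.Finite.equiv (LinearEquiv.ofBijective φ ⟨hinj, hsurj⟩).symm

end Groth.Agent.H4
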