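import Mathlib

/-! Finiteness of `T ⧸ (1 - e)`: base change and lifting from a quotient. -/

set_option autoImplicit false
universe u

open TensorProduct

namespace Groth.Agent.H4

theorem H4_finite_quotient_baseChange {R R' R'' S : Type u} [CommRing R] [CommRing R']
    [CommRing R''] [CommRing S] [Algebra R R'] [Algebra R' R''] [Algebra R R'']
    [IsScalarTower R R' R''] [Algebra R S]
    (e : R' ⊗[R] S) [Module.Finite R' (R' ⊗[R] S ⧸ Ideal.span {1 - e})] :
    Module.Finite R'' (R'' ⊗[R] S ⧸ Ideal.span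
      {1 - Algebra.TensorProduct.map (Algebra.ofId R' R'') (AlgHom.id R S) e}) := by
  let ε := Algebra.tensorQuotientTensorEquiv R'' (1 - e)
  have h1 : Module.Finite R'' (R'' ⊗[R] S ⧸ Ideal.span
      {Algebra.TensorProduct.rTensor S (Algebra.ofId R' R'') (1 - e)}) :=
    Module.Finite.equiv ε.toLinearEquiv
  have h2 : Algebra.TensorProduct.rTensor S (Algebra.ofId R' R'') (1 - e) =
      1 - Algebra.TensorProduct.map (Algebra.ofId R' R'') (AlgHom.id R S) e := by
    rw [map_sub, map_one]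
  rw [h2] at h1
  exact h1

theorem H4_finite_quotient_lift {A T T₁ : Type u} [CommRing A] [CommRing T] [CommRing T₁]
    [Algebra A T] [Algebra A T₁] (ε : T) (σ : T₁ ≃ₐ[A] (T ⧸ Ideal.span {ε})) (f : T) (f₁ : T₁)
    (hσ : σ f₁ = Ideal.Quotient.mk _ f) (hfε : ε * f = 0)
    [Module.Finite A (T₁ ⧸ Ideal.span {1 - f₁})] :
    Module.Finite A (T ⧸ Ideal.span {1 - f}) := by
  have hle : Ideal.span {ε} ≤ Ideal.span {1 - f} := by
    rw [Ideal.span_le]
    intro x hx
    rw [Set.mem_singleton_iff] at hx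
    subst hx
    show x ∈ Ideal.span {1 - f}
    rw [Ideal.mem_span_singleton']
    exact ⟨x, by rw [mul_sub, mul_one, hfε, sub_zero]⟩
  let g : T₁ →ₐ[A] T ⧸ Ideal.span {1 - f} :=
    (Ideal.Quotient.factorₐ A hle).comp σ.toAlgHom
  have hg : ∀ t, g t = Ideal.Quotient.factorₐ A hle (σ t) := fun _ => rfl
  have hgsurj : Function.Surjective g := by
    intro y
    obtain ⟨t, rfl⟩ := Ideal.Quotient.mk_surjective y
    obtain ⟨t₁, ht₁⟩ := σ.surjective (Ideal.Quotient.mk _ t)
    exact ⟨t₁, by rw [hg, ht₁]; rfl⟩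
  have hg0 : ∀ a ∈ Ideal.span {1 - f₁}, g a = 0 := by
    intro a ha
    rw [Ideal.mem_span_singleton'] at ha
    obtain ⟨b, rfl⟩ := ha
    rw [map_mul, hg (1 - f₁), map_sub, map_one, hσ]
    have : (Ideal.Quotient.factorₐ A hle) (1 - (Ideal.Quotient.mk (Ideal.span {ε})) f) = 0 := by
      rw [← map_one (Ideal.Quotient.mk (Ideal.span {ε})), ← map_sub]
      show Ideal.Quotient.mk (Ideal.span {1 - f}) (1 - f) = 0
      exact Ideal.Quotient.eq_zero_iff_mem.mpr (Ideal.mem_span_singleton_self _)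
    rw [this, mul_zero]
  let g' : (T₁ ⧸ Ideal.span {1 - f₁}) →ₐ[A] T ⧸ Ideal.span {1 - f} :=
    Ideal.Quotient.liftₐ _ g hg0
  have hg'surj : Function.Surjective g' := by
    intro y
    obtain ⟨t, rfl⟩ := hgsurj y
    exact ⟨Ideal.Quotient.mk _ t, rfl⟩
  exact Module.Finite.of_surjective g'.toLinearMap hg'surj

end Groth.Agent.H4
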