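import Mathlib

/-! Primes isolated in their fibre, and quasi-finiteness. -/

set_option autoImplicit false
universe u

open TensorProduct

namespace Groth.Agent.H4

/-- `q` is isolated among the primes over `p`: no other prime over `p` is comparable with it. -/
def H4_IsoIn {R S : Type*} [CommRing R] [CommRing S] [Algebra R S] (p : Ideal R) (q : Ideal S) :
    Prop :=
  ∀ Q : Ideal S, Q.IsPrime → Q.LiesOver p → (Q ≤ q ∨ q ≤ Q) → Q = q

/-- For finite type algebras, quasi-finiteness at a prime means being isolated in the fibre. -/
theorem H4_quasiFiniteAt_iff_isoIn {R S : Type u} [CommRing R] [CommRing S] [Algebra R S]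
    [Algebra.FiniteType R S] (p : Ideal R) [p.IsPrime] (q : Ideal S) [hq : q.IsPrime]
    [hqp : q.LiesOver p] : Algebra.QuasiFiniteAt R q ↔ H4_IsoIn p q := by
  classical
  haveI : Algebra.FiniteType p.ResidueField (p.Fiber S) := inferInstance
  haveI : IsNoetherianRing (p.Fiber S) := Algebra.FiniteType.isNoetherianRing p.ResidueField _
  haveI : IsJacobsonRing (p.Fiber S) := isJacobsonRing_of_finiteType (A := p.ResidueField)
  let e := PrimeSpectrum.primesOverOrderIsoFiber R S p
  let x : p.primesOver S := ⟨q, hq, hqp⟩
  have hcomap : ∀ y : p.primesOver S,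
      (e y).asIdeal.comap Algebra.TensorProduct.includeRight.toRingHom = y.1 := by
    intro y
    have := congrArg Subtype.val (e.symm_apply_apply y)
    exact this
  have htfae := PrimeSpectrum.isOpen_singleton_tfae_of_isNoetherian_of_isJacobsonRing (e x)
  constructor
  · intro hqf
    haveI : Algebra.QuasiFiniteAt p.ResidueField (e x).asIdeal :=
      .baseChange q _ (hcomap x).symm
    have hopen : IsOpen ({e x} : Set (PrimeSpectrum (p.Fiber S))) :=
      (Algebra.QuasiFiniteAt.isClopen_singleton (R := p.ResidueField) (e x)).isOpen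
    obtain ⟨hcl, hgen⟩ := (htfae.out 0 2).mp hopen
    rw [PrimeSpectrum.isClosed_singleton_iff_isMaximal] at hcl
    intro Q hQ hQp hcomp
    let y : p.primesOver S := ⟨Q, hQ, hQp⟩
    have hyx : y = x := by
      rcases hcomp with h | h
      · have h1 : e y ≤ e x := e.monotone (show y ≤ x from h)
        have h2 : e y ⤳ e x := (PrimeSpectrum.le_iff_specializes _ _).mp h1
        have h3 : e y ∈ ({e x} : Set _) := hgen h2 rfl
        exact e.injective h3
      · have h1 : e x ≤ e y := e.monotone (show x ≤ y from h)
        have h2 : (e x).asIdeal = (e y).asIdeal :=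
          hcl.eq_of_le (e y).isPrime.ne_top h1
        exact (e.injective (PrimeSpectrum.ext h2)).symm
    exact congrArg Subtype.val hyx
  · intro hiso
    have hopen : IsOpen ({e x} : Set (PrimeSpectrum (p.Fiber S))) := by
      have h20 : (IsClosed ({e x} : Set (PrimeSpectrum (p.Fiber S))) ∧
          StableUnderGeneralization ({e x} : Set (PrimeSpectrum (p.Fiber S)))) ↔
          IsOpen ({e x} : Set (PrimeSpectrum (p.Fiber S))) := htfae.out 2 0
      refine h20.mp ⟨?_, ?_⟩
      · rw [PrimeSpectrum.isClosed_singleton_iff_isMaximal]
        obtain ⟨M, hM, hle⟩ := Ideal.exists_le_maximal (e x).asIdeal (e x).isPrime.ne_top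
        let y' : PrimeSpectrum (p.Fiber S) := ⟨M, hM.isPrime⟩
        have h1 : x ≤ e.symm y' := by
          rw [← e.symm_apply_apply x]
          exact e.symm.monotone (show e x ≤ y' from hle)
        have h2 : (e.symm y').1 = q :=
          hiso _ (e.symm y').2.1 (e.symm y').2.2 (Or.inr h1)
        have h3 : e.symm y' = x := Subtype.ext h2
        have h4 : y' = e x := by rw [← h3, e.apply_symm_apply]
        have h5 : M = (e x).asIdeal := congrArg PrimeSpectrum.asIdeal h4
        rw [← h5]
        exact hM
      · intro a b hab ha
        rw [Set.mem_singleton_iff] at ha ⊢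
        subst ha
        have h1 : b ≤ e x := (PrimeSpectrum.le_iff_specializes _ _).mpr hab
        have h2 : e.symm b ≤ x := by
          rw [← e.symm_apply_apply x]
          exact e.symm.monotone h1
        have h3 : (e.symm b).1 = q :=
          hiso _ (e.symm b).2.1 (e.symm b).2.2 (Or.inl h2)
        have h4 : e.symm b = x := Subtype.ext h3
        rw [← h4, e.apply_symm_apply]
    haveI : Algebra.QuasiFiniteAt p.ResidueField (e x).asIdeal :=
      Algebra.QuasiFiniteAt.of_isOpen_singleton (R := p.ResidueField) (e x) hopen
    exact Algebra.QuasiFiniteAt.of_quasiFiniteAt_residueField p q (e x).asIdeal (hcomap x)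

end Groth.Agent.H4
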