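import Mathlib

/-! Quasi-finite locus in a fibre: finiteness, and passage to the quotient by an idempotent. -/

set_option autoImplicit false
universe u

open TensorProduct

namespace Groth.Agent.H4

/-- If `S ⧸ (e)` (with `e` idempotent) is quasi-finite at `q'`, then `S` is quasi-finite at the
preimage of `q'`. -/
theorem H4_quasiFiniteAt_of_quotient_idem (R : Type u) [CommRing R] (S : Type u) [CommRing S]
    [Algebra R S] (e : S) (he : IsIdempotentElem e)
    (q' : Ideal (S ⧸ Ideal.span ({e} : Set S))) [q'.IsPrime] [Algebra.QuasiFiniteAt R q']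
    (q : Ideal S) [q.IsPrime] (hq : q = q'.comap (Ideal.Quotient.mk (Ideal.span ({e} : Set S)))) :
    Algebra.QuasiFiniteAt R q := by
  have heq : e ∈ q := by
    rw [hq, Ideal.mem_comap]
    have : Ideal.Quotient.mk (Ideal.span ({e} : Set S)) e = 0 :=
      Ideal.Quotient.eq_zero_iff_mem.mpr (Ideal.mem_span_singleton_self e)
    rw [this]
    exact Ideal.zero_mem _
  have h1e : (1 - e) ∉ q := by
    intro h
    apply Ideal.IsPrime.ne_top (inferInstance : q.IsPrime)
    rw [Ideal.eq_top_iff_one]
    have : (1 : S) = e + (1 - e) := by ring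
    rw [this]
    exact Ideal.add_mem _ heq h
  have he0 : algebraMap S (Localization.AtPrime q) e = 0 := by
    rw [IsLocalization.map_eq_zero_iff q.primeCompl]
    refine ⟨⟨1 - e, h1e⟩, ?_⟩
    show (1 - e) * e = 0
    have : e * e = e := he
    rw [sub_mul, one_mul, this, sub_self]
  let g : (S ⧸ Ideal.span ({e} : Set S)) →ₐ[R] Localization.AtPrime q :=
    Ideal.Quotient.liftₐ (Ideal.span ({e} : Set S))
      (IsScalarTower.toAlgHom R S (Localization.AtPrime q)) (by
        intro a ha
        rw [Ideal.mem_span_singleton'] at ha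
        obtain ⟨c, rfl⟩ := ha
        show algebraMap S (Localization.AtPrime q) (c * e) = 0
        rw [map_mul, he0, mul_zero])
  have hg : ∀ s : S, g (Ideal.Quotient.mk _ s) = algebraMap S (Localization.AtPrime q) s :=
    fun s => rfl
  have hgu : ∀ y : q'.primeCompl, IsUnit (g y) := by
    rintro ⟨y, hy⟩
    obtain ⟨s, rfl⟩ := Ideal.Quotient.mk_surjective y
    rw [hg]
    apply IsLocalization.map_units (M := q.primeCompl) _ ⟨s, ?_⟩
    intro hs
    apply hy
    rw [hq] at hs
    exact hs
  let f : Localization.AtPrime q' →ₐ[R] Localization.AtPrime q :=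
    IsLocalization.liftAlgHom (M := q'.primeCompl) (f := g) hgu
  have hf : ∀ y, f (algebraMap _ _ y) = g y := fun y => by
    simp [f]
  refine .of_forall_exists_mul_mem_range f fun x ↦ ?_
  obtain ⟨x, ⟨s, hs⟩, rfl⟩ := IsLocalization.exists_mk'_eq q.primeCompl x
  refine ⟨algebraMap _ _ (Ideal.Quotient.mk (Ideal.span ({e} : Set S)) s), ?_,
    algebraMap _ _ (Ideal.Quotient.mk (Ideal.span ({e} : Set S)) x), ?_⟩
  · rw [hf, hg]
    exact IsLocalization.map_units _ ⟨s, hs⟩
  · show f _ = _
    rw [hf, hf, hg, hg, IsLocalization.mk'_spec_mk]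

/-- For a finite type algebra, only finitely many primes over a given prime are quasi-finite
points. -/
theorem H4_finite_quasiFiniteAt_primesOver (R : Type u) [CommRing R] (S : Type u) [CommRing S]
    [Algebra R S] [Algebra.FiniteType R S] (p : Ideal R) [p.IsPrime] :
    {q : Ideal S | ∃ (_ : q.IsPrime), q.LiesOver p ∧ Algebra.QuasiFiniteAt R q}.Finite := by
  classical
  haveI : Algebra.FiniteType p.ResidueField (p.Fiber S) := inferInstance
  haveI : IsNoetherianRing (p.Fiber S) := Algebra.FiniteType.isNoetherianRing p.ResidueField _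
  let T : Set (PrimeSpectrum (p.Fiber S)) := {Q | IsOpen ({Q} : Set (PrimeSpectrum (p.Fiber S)))}
  have hT : T.Finite := by
    have hc : IsCompact T := TopologicalSpace.NoetherianSpace.isCompact T
    obtain ⟨t, ht⟩ := hc.elim_finite_subcover (fun Q : T => ({Q.1} : Set _)) (fun Q => Q.2) (by
      intro Q hQ
      exact Set.mem_iUnion.mpr ⟨⟨Q, hQ⟩, rfl⟩)
    apply Set.Finite.subset (Finset.finite_toSet (t.image Subtype.val))
    intro Q hQ
    obtain ⟨i, hi⟩ := Set.mem_iUnion.mp (ht hQ)
    obtain ⟨hit, hi2⟩ := Set.mem_iUnion.mp hi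
    rw [Set.mem_singleton_iff] at hi2
    rw [Finset.coe_image]
    exact ⟨i, hit, hi2.symm⟩
  let e := PrimeSpectrum.primesOverOrderIsoFiber R S p
  apply Set.Finite.subset
    (hT.image (fun Q => Q.asIdeal.comap Algebra.TensorProduct.includeRight.toRingHom))
  rintro q ⟨hq, hqp, hqf⟩
  have hcomap : (e ⟨q, hq, hqp⟩).asIdeal.comap Algebra.TensorProduct.includeRight.toRingHom
      = q := by
    have := congrArg Subtype.val (e.symm_apply_apply ⟨q, hq, hqp⟩)
    exact this
  refine ⟨e ⟨q, hq, hqp⟩, ?_, hcomap⟩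
  haveI : Algebra.QuasiFiniteAt p.ResidueField (e ⟨q, hq, hqp⟩).asIdeal :=
    .baseChange q _ hcomap.symm
  exact (Algebra.QuasiFiniteAt.isClopen_singleton (R := p.ResidueField) (e ⟨q, hq, hqp⟩)).isOpen

end Groth.Agent.H4
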