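import Mathlib
import Groth.Agent.Lib.helper4.IsoPrimes
import Groth.Agent.Lib.helper4.QuasiFiniteLocus

/-! Isolated primes: transfer along residually trivial base change, finiteness, quotients by
idempotents. -/

set_option autoImplicit false
universe u

open TensorProduct

namespace Groth.Agent.H4

section transfer

variable {R R' S : Type*} [CommRing R] [CommRing R'] [CommRing S] [Algebra R R'] [Algebra R S]
    {p : Ideal R} {P : Ideal R'} [p.IsPrime] [P.IsPrime] [P.LiesOver p]

theorem H4_isoIn_comap_iff
    (H : Function.Bijective (Ideal.ResidueField.mapₐ p P (Algebra.ofId _ _) (P.over_def p)))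
    (P'' : Ideal (R' ⊗[R] S)) [hP'' : P''.IsPrime] [hP''P : P''.LiesOver P] :
    H4_IsoIn P P'' ↔
      H4_IsoIn p (P''.comap Algebra.TensorProduct.includeRight.toRingHom) := by
  let F := Ideal.fiberIsoOfBijectiveResidueField H (S := S)
  have hF : ∀ Q : P.primesOver (R' ⊗[R] S),
      (F Q).1 = Q.1.comap Algebra.TensorProduct.includeRight.toRingHom := fun Q =>
    Ideal.comap_fiberIsoOfBijectiveResidueField_apply H Q
  let x : P.primesOver (R' ⊗[R] S) := ⟨P'', hP'', hP''P⟩
  constructor
  · intro h Q hQ hQp hcomp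
    let y := F.symm ⟨Q, hQ, hQp⟩
    have hy : (F y).1 = Q := by
      show (F (F.symm ⟨Q, hQ, hQp⟩)).1 = Q
      rw [F.apply_symm_apply]
    have hcomp' : y.1 ≤ P'' ∨ P'' ≤ y.1 := by
      rcases hcomp with h1 | h1
      · left
        have h2 : F y ≤ F x := by
          show (F y).1 ≤ (F x).1
          rw [hy, hF x]; exact h1
        exact F.le_iff_le.mp h2
      · right
        have h2 : F x ≤ F y := by
          show (F x).1 ≤ (F y).1
          rw [hy, hF x]; exact h1
        exact F.le_iff_le.mp h2
    have h2 : y.1 = P'' := h y.1 y.2.1 y.2.2 hcomp'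
    have h3 : y = x := Subtype.ext h2
    rw [← hy, h3, hF x]
  · intro h Q hQ hQP hcomp
    let y : P.primesOver (R' ⊗[R] S) := ⟨Q, hQ, hQP⟩
    have hcomp' : (F y).1 ≤ (F x).1 ∨ (F x).1 ≤ (F y).1 := by
      rcases hcomp with h1 | h1
      · exact Or.inl (F.monotone (show y ≤ x from h1))
      · exact Or.inr (F.monotone (show x ≤ y from h1))
    rw [hF x] at hcomp'
    have h2 := h (F y).1 (F y).2.1 (F y).2.2 hcomp'
    have h3 : F y = F x := Subtype.ext (h2.trans (hF x).symm)
    exact congrArg Subtype.val (F.injective h3)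

end transfer

/-- The set of primes over `p` isolated in their fibre. -/
def H4_IsoSet (R S : Type*) [CommRing R] [CommRing S] [Algebra R S] (p : Ideal R) :
    Set (Ideal S) :=
  {q | q.IsPrime ∧ q.LiesOver p ∧ H4_IsoIn p q}

theorem H4_isoSet_finite (R S : Type u) [CommRing R] [CommRing S] [Algebra R S]
    [Algebra.FiniteType R S] (p : Ideal R) [p.IsPrime] : (H4_IsoSet R S p).Finite := by
  refine (H4_finite_quasiFiniteAt_primesOver R S p).subset ?_
  rintro q ⟨h1, h2, h3⟩
  haveI := h1
  haveI := h2
  exact ⟨h1, h2, (H4_quasiFiniteAt_iff_isoIn p q).mpr h3⟩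

/-- A prime of `S ⧸ (e)` isolated in its fibre pulls back to a prime of `S` isolated in its fibre
(`e` idempotent). -/
theorem H4_isoIn_comap_quotient_idem {R S : Type*} [CommRing R] [CommRing S] [Algebra R S]
    (p : Ideal R) (e : S) (he : IsIdempotentElem e) (r : Ideal (S ⧸ Ideal.span {e}))
    [hr : r.IsPrime] (hiso : H4_IsoIn p r) :
    H4_IsoIn p (r.comap (Ideal.Quotient.mk (Ideal.span {e}))) := by
  intro Q hQ hQp hcomp
  have her : e ∈ r.comap (Ideal.Quotient.mk (Ideal.span {e})) := by
    rw [Ideal.mem_comap]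
    have : Ideal.Quotient.mk (Ideal.span ({e} : Set S)) e = 0 :=
      Ideal.Quotient.eq_zero_iff_mem.mpr (Ideal.mem_span_singleton_self e)
    rw [this]; exact Ideal.zero_mem _
  have heQ : e ∈ Q := by
    rcases hcomp with h | h
    · have h0 : e * (1 - e) ∈ Q := by
        have : e * (1 - e) = 0 := by rw [mul_sub, mul_one, he.eq, sub_self]
        rw [this]; exact Ideal.zero_mem _
      rcases hQ.mem_or_mem h0 with h1 | h1
      · exact h1
      · exfalso
        have h2 : (1 : S) ∈ r.comap (Ideal.Quotient.mk (Ideal.span {e})) := by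
          have : (1 : S) = e + (1 - e) := by ring
          rw [this]
          exact Ideal.add_mem _ her (h h1)
        exact (Ideal.ne_top_iff_one _).mp (Ideal.comap_isPrime _ r).ne_top h2
    · exact h her
  have hle : Ideal.span {e} ≤ Q := by
    rw [Ideal.span_le]
    intro x hx
    rw [Set.mem_singleton_iff] at hx
    rw [hx]; exact heQ
  have hker : RingHom.ker (Ideal.Quotient.mk (Ideal.span ({e} : Set S))) ≤ Q := by
    rw [Ideal.mk_ker]; exact hle
  have hQmap : (Q.map (Ideal.Quotient.mk (Ideal.span ({e} : Set S)))).comap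
      (Ideal.Quotient.mk (Ideal.span ({e} : Set S))) = Q := by
    rw [Ideal.comap_map_of_surjective _ Ideal.Quotient.mk_surjective, ← RingHom.ker_eq_comap_bot]
    exact sup_eq_left.mpr hker
  haveI hQ' : (Q.map (Ideal.Quotient.mk (Ideal.span ({e} : Set S)))).IsPrime :=
    Ideal.map_isPrime_of_surjective Ideal.Quotient.mk_surjective hker
  have hQ'p : (Q.map (Ideal.Quotient.mk (Ideal.span ({e} : Set S)))).LiesOver p := by
    constructor
    have h1 := hQp.over
    rw [h1]
    conv_lhs => rw [← hQmap]
    rfl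
  have hrmap : (r.comap (Ideal.Quotient.mk (Ideal.span ({e} : Set S)))).map
      (Ideal.Quotient.mk (Ideal.span ({e} : Set S))) = r :=
    Ideal.map_comap_of_surjective _ Ideal.Quotient.mk_surjective r
  have hcomp' : Q.map (Ideal.Quotient.mk (Ideal.span ({e} : Set S))) ≤ r ∨
      r ≤ Q.map (Ideal.Quotient.mk (Ideal.span ({e} : Set S))) := by
    rcases hcomp with h | h
    · left; rw [← hrmap]; exact Ideal.map_mono h
    · right; rw [← hrmap]; exact Ideal.map_mono h
  have := hiso _ hQ' hQ'p hcomp'
  rw [← hQmap, this]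

end Groth.Agent.H4
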