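import Mathlib
import Groth.Agent.Lib.helper4.IsoPrimes2
import Groth.Agent.Lib.helper4.IdemFiniteBC
import Groth.Agent.Lib.helper4.IdemFinite

/-! Étale-local splitting of the quasi-finite part of a finite type algebra (Stacks 00UL, finite
type version), following Mathlib's proof of the finite case. -/

set_option autoImplicit false
universe u

open TensorProduct

namespace Groth.Agent.H4

attribute [local instance] RingHom.ker_isPrime

attribute [local instance] Localization.AtPrime.algebraOfLiesOver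

/-- The inductive statement. -/
def H4_SplitGoal (R S : Type u) [CommRing R] [CommRing S] [Algebra R S] (p : Ideal R)
    [p.IsPrime] : Prop :=
  ∃ (R' : Type u) (_ : CommRing R') (_ : Algebra R R') (_ : Algebra.Etale R R') (P : Ideal R')
      (_ : P.IsPrime) (_ : P.LiesOver p) (n : ℕ) (e : Fin (n + 1) → R' ⊗[R] S)
      (_ : CompleteOrthogonalIdempotents e) (P' : Fin n → Ideal (R' ⊗[R] S))
      (_ : ∀ i, (P' i).IsPrime) (_ : ∀ i, (P' i).LiesOver P),
      Function.Bijective (Ideal.ResidueField.mapₐ p P (Algebra.ofId _ _) (P.over_def p)) ∧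
      (∀ i, e i.castSucc ∉ P' i) ∧
      (∀ i : Fin n, Module.Finite R' (R' ⊗[R] S ⧸ Ideal.span {1 - e i.castSucc})) ∧
      ∀ (P'' : Ideal (R' ⊗[R] S)), P''.IsPrime → P''.LiesOver P →
        (∀ i, e i.castSucc ∉ P'' → P'' = P' i) ∧ (e (.last n) ∉ P'' → ¬ H4_IsoIn P P'')

theorem H4_split_aux
    {R : Type u} {S : Type u} [CommRing R] [CommRing S] [Algebra R S]
    (p : Ideal R) [p.IsPrime] (q : Ideal S)
    (R' : Type u) [CommRing R'] [Algebra R R'] [Algebra.Etale R R'] (P : Ideal R')
    [P.IsPrime] [P.LiesOver p] (e : R' ⊗[R] S) (P' : Ideal (R' ⊗[R] S))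
    [P'.IsPrime] [P'.LiesOver P]
    (hP'q : Ideal.comap Algebra.TensorProduct.includeRight.toRingHom P' = q)
    (heP' : e ∉ P') (hpP : Function.Bijective
      (Ideal.ResidueField.mapₐ p P (Algebra.ofId _ _) (P.over_def p)))
    (hfin : Module.Finite R' (R' ⊗[R] S ⧸ Ideal.span {1 - e}))
    (H : ∀ (P'' : Ideal (R' ⊗[R] S)), P''.IsPrime → P''.LiesOver P → e ∉ P'' → P'' = P')
    (R'' : Type u) [CommRing R''] [Algebra R' R''] [Algebra R R''] [IsScalarTower R R' R'']
    [Algebra.Etale R' R''] (Q : Ideal R'')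
    [Q.IsPrime] [Q.LiesOver P] (n : ℕ)
    (e' : Fin ((n + 1) + 1) → R'' ⊗[R] S)
    (he' : CompleteOrthogonalIdempotents e')
    (he'0 : e' 0 = Algebra.TensorProduct.map (Algebra.ofId R' R'') (AlgHom.id R S) e)
    (Q' : Fin n → Ideal (R'' ⊗[R] S)) [∀ i, (Q' i).IsPrime] [∀ i, (Q' i).LiesOver Q]
    (hPQ : Function.Bijective (Ideal.ResidueField.mapₐ P Q (Algebra.ofId _ _) (Q.over_def P)))
    (hQ' : ∀ (i : Fin n), e' i.succ.castSucc ∉ Q' i)
    (hfin' : ∀ i : Fin n,
      Module.Finite R'' (R'' ⊗[R] S ⧸ Ideal.span {1 - e' i.succ.castSucc}))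
    (H' : ∀ (P'' : Ideal (R'' ⊗[R] S)), e' 0 ∈ P'' → P''.IsPrime → P''.LiesOver Q →
      (∀ (i : Fin n), e' i.succ.castSucc ∉ P'' → P'' = Q' i) ∧
        (e' (.last _) ∉ P'' → ¬ H4_IsoIn Q P'')) :
    H4_SplitGoal R S p := by
  let φ := Algebra.TensorProduct.map (Algebra.ofId R' R'') (AlgHom.id R S)
  have : Q.LiesOver p := .trans _ P _
  have hpQ :
    Function.Bijective (Ideal.ResidueField.mapₐ p Q (Algebra.ofId _ _) (Q.over_def p)) := by
    convert hPQ.comp hpP
    rw [← @AlgHom.coe_restrictScalars' R R', ← AlgHom.coe_comp]; congr 1; ext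
  let P'φ := (Ideal.fiberIsoOfBijectiveResidueField hpQ).symm
    (Ideal.fiberIsoOfBijectiveResidueField hpP ⟨P', ‹_›, ‹_›⟩)
  have : P'φ.1.LiesOver P := .trans _ Q _
  have : (P'φ.1.comap φ.toRingHom).LiesOver P := inferInstanceAs ((P'φ.1.comap φ).LiesOver P)
  have hP'φ : P'φ.1.comap φ.toRingHom = P' := by
    apply Ideal.eq_of_comap_eq_comap_of_bijective_residueFieldMap hpP
    rw [Ideal.comap_comap]
    convert Ideal.comap_fiberIsoOfBijectiveResidueField_symm hpQ _
    · ext; simp [φ]
    · simp; rfl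
  refine ⟨R'', inferInstance, _, .comp R R' R'', Q, ‹_›, .trans _ P _, _, _, he', Fin.cons P'φ
    Q', Fin.cases P'φ.2.1 ?prime, Fin.cases P'φ.2.2 ?lies, hpQ, Fin.cases ?c2a ?c2b,
    Fin.cases ?c3a ?c3b, ?c4⟩
  case prime => simp only [Fin.cons_succ]; infer_instance
  case lies => simp only [Fin.cons_succ]; infer_instance
  case c2a => rw [← hP'φ] at heP'; simpa [he'0]
  case c2b => simpa
  case c3a =>
    show Module.Finite R'' (R'' ⊗[R] S ⧸ Ideal.span {1 - e' (Fin.castSucc 0)})
    rw [Fin.castSucc_zero, he'0]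
    exact H4_finite_quotient_baseChange e
  case c3b => exact fun i => hfin' i
  case c4 =>
    intro P'' _ _
    by_cases heP'' : e ∈ P''.comap φ
    · obtain ⟨h₁, h₂⟩ := H' P'' (by simpa [he'0]) inferInstance inferInstance
      exact ⟨Fin.cases (fun h ↦ (h (by simpa [he'0])).elim) (by simpa using h₁), h₂⟩
    · have : P''.LiesOver P := .trans _ Q _
      obtain rfl := H _ inferInstance inferInstance heP''
      have hmem : ∀ i ≠ 0, e' i ∈ P'' := by
        intro j hj
        rw [← Ideal.IsPrime.mul_mem_left_iff (I := P'') heP'']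
        simp [φ, ← he'0, he'.ortho hj.symm]
      refine ⟨Fin.cases (fun _ ↦ ?_) (by simp [hmem]),
        fun h => (h (hmem _ (Fin.last_pos).ne')).elim⟩
      simp only [Fin.cons_zero]
      apply Ideal.eq_of_comap_eq_comap_of_bijective_residueFieldMap hpQ
      have : (φ.restrictScalars _).comp Algebra.TensorProduct.includeRight =
          Algebra.TensorProduct.includeRight := by ext; simp [φ]
      rw [← this]
      exact congr(($hP'φ).comap Algebra.TensorProduct.includeRight).symm

/-- Passing to the quotient by the idempotent strictly decreases the number of isolated primes. -/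
theorem H4_isoSet_ncard_lt {R S : Type u} [CommRing R] [CommRing S] [Algebra R S]
    [Algebra.FiniteType R S] (p : Ideal R) [p.IsPrime] (q : Ideal S) (hq : q ∈ H4_IsoSet R S p)
    (R' : Type u) [CommRing R'] [Algebra R R'] (P : Ideal R')
    [P.IsPrime] [P.LiesOver p] (e : R' ⊗[R] S) (he : IsIdempotentElem e)
    (P' : Ideal (R' ⊗[R] S)) [P'.IsPrime] [P'.LiesOver P]
    (hP'q : Ideal.comap Algebra.TensorProduct.includeRight.toRingHom P' = q)
    (heP' : e ∉ P') (hpP : Function.Bijective
      (Ideal.ResidueField.mapₐ p P (Algebra.ofId _ _) (P.over_def p))) :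
    (H4_IsoSet R' (R' ⊗[R] S ⧸ Ideal.span {e}) P).ncard < (H4_IsoSet R S p).ncard := by
  classical
  have hfinset := H4_isoSet_finite R S p
  let mk := Ideal.Quotient.mk (Ideal.span ({e} : Set (R' ⊗[R] S)))
  let g : Ideal (R' ⊗[R] S ⧸ Ideal.span {e}) → Ideal S := fun r =>
    (r.comap mk).comap Algebra.TensorProduct.includeRight.toRingHom
  have hmem_e : ∀ r : Ideal (R' ⊗[R] S ⧸ Ideal.span {e}), e ∈ r.comap mk := by
    intro r
    rw [Ideal.mem_comap]
    have : mk e = 0 := Ideal.Quotient.eq_zero_iff_mem.mpr (Ideal.mem_span_singleton_self e)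
    rw [this]; exact Ideal.zero_mem _
  have hlies : ∀ r : Ideal (R' ⊗[R] S ⧸ Ideal.span {e}), r.LiesOver P →
      (r.comap mk).LiesOver P := by
    intro r hr
    constructor
    rw [hr.over]
    rfl
  have hmaps : Set.MapsTo g (H4_IsoSet R' (R' ⊗[R] S ⧸ Ideal.span {e}) P)
      (H4_IsoSet R S p \ {q}) := by
    rintro r ⟨hr1, hr2, hr3⟩
    haveI := hr1
    haveI : (r.comap mk).IsPrime := Ideal.comap_isPrime _ _
    haveI : (r.comap mk).LiesOver P := hlies r hr2
    have hiso : H4_IsoIn P (r.comap mk) := H4_isoIn_comap_quotient_idem P e he r hr3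
    refine ⟨⟨Ideal.comap_isPrime _ _, ?_, (H4_isoIn_comap_iff hpP (r.comap mk)).mp hiso⟩, ?_⟩
    · constructor
      have h3 : (Algebra.TensorProduct.includeRight : S →ₐ[R] R' ⊗[R] S).toRingHom.comp
          (algebraMap R S) = algebraMap R (R' ⊗[R] S) :=
        RingHom.ext fun x => (Algebra.TensorProduct.includeRight : S →ₐ[R] R' ⊗[R] S).commutes x
      show p = Ideal.comap (algebraMap R S)
        (Ideal.comap Algebra.TensorProduct.includeRight.toRingHom (r.comap mk))
      rw [Ideal.comap_comap, h3, IsScalarTower.algebraMap_eq R R' (R' ⊗[R] S),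
        ← Ideal.comap_comap]
      have h2 : Ideal.comap (algebraMap R' (R' ⊗[R] S)) (r.comap mk) = P :=
        ((r.comap mk).over_def P).symm
      rw [h2]
      exact P.over_def p
    · intro hgq
      rw [Set.mem_singleton_iff] at hgq
      have h1 : r.comap mk = P' :=
        Ideal.eq_of_comap_eq_comap_of_bijective_residueFieldMap hpP _ _ (hgq.trans hP'q.symm)
      exact heP' (h1 ▸ hmem_e r)
  have hinj : Set.InjOn g (H4_IsoSet R' (R' ⊗[R] S ⧸ Ideal.span {e}) P) := by
    rintro r₁ ⟨h11, h12, -⟩ r₂ ⟨h21, h22, -⟩ hg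
    haveI := h11
    haveI := h21
    haveI : (r₁.comap mk).IsPrime := Ideal.comap_isPrime _ _
    haveI : (r₁.comap mk).LiesOver P := hlies r₁ h12
    haveI : (r₂.comap mk).IsPrime := Ideal.comap_isPrime _ _
    haveI : (r₂.comap mk).LiesOver P := hlies r₂ h22
    have h1 : r₁.comap mk = r₂.comap mk :=
      Ideal.eq_of_comap_eq_comap_of_bijective_residueFieldMap hpP _ _ hg
    exact Ideal.comap_injective_of_surjective mk Ideal.Quotient.mk_surjective h1
  calc (H4_IsoSet R' (R' ⊗[R] S ⧸ Ideal.span {e}) P).ncard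
      ≤ (H4_IsoSet R S p \ {q}).ncard :=
        Set.ncard_le_ncard_of_injOn g hmaps hinj (hfinset.subset Set.diff_subset)
    _ < (H4_IsoSet R S p).ncard := Set.ncard_diff_singleton_lt_of_mem hq hfinset

set_option maxHeartbeats 1000000 in
theorem H4_split_main {R : Type u} {S : Type u} [CommRing R] [CommRing S] [Algebra R S]
    [Algebra.FiniteType R S] (p : Ideal R) [p.IsPrime] : H4_SplitGoal R S p := by
  induction h : (H4_IsoSet R S p).ncard using Nat.strong_induction_on generalizing R S with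
  | h n IH =>
    have hfinset := H4_isoSet_finite R S p
    cases n with
    | zero =>
      have hempty := (Set.ncard_eq_zero hfinset).mp h
      haveI hpp : p.LiesOver p := ⟨rfl⟩
      have hbij : Function.Bijective
          (Ideal.ResidueField.mapₐ p p (Algebra.ofId R R) (p.over_def p)) := by
        rw! [Algebra.ofId_self, Ideal.ResidueField.mapₐ_id]; exact Function.bijective_id
      refine ⟨R, inferInstance, inferInstance, inferInstance, p, inferInstance, hpp, 0, 1,
        ⟨⟨by simp [IsIdempotentElem],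
          by simp only [Nat.reduceAdd, Pi.one_apply, mul_one, Subsingleton.pairwise]⟩,
          by simp⟩, nofun, nofun, nofun, hbij, nofun, nofun, ?_⟩
      intro P'' h₁ h₂
      refine ⟨nofun, fun _ hiso => ?_⟩
      have h3 := (H4_isoIn_comap_iff hbij P'').mp hiso
      have hmem : P''.comap Algebra.TensorProduct.includeRight.toRingHom ∈ H4_IsoSet R S p :=
        ⟨inferInstance, ⟨by simp [P''.over_def p, Ideal.under, Ideal.comap_comap]⟩, h3⟩
      rw [hempty] at hmem
      exact hmem
    | succ n =>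
    obtain ⟨q, hq⟩ := Set.nonempty_of_ncard_ne_zero (h.trans_ne (by simp))
    obtain ⟨hqprime, hqp, hqiso⟩ := id hq
    haveI := hqprime
    haveI := hqp
    haveI : Algebra.QuasiFiniteAt R q := (H4_quasiFiniteAt_iff_isoIn p q).mpr hqiso
    obtain ⟨R', _, _, _, P, _, _, e, he, P', _, _, hP'q, heP', hpP, hfinAway, H⟩ :=
      Algebra.exists_etale_isIdempotentElem_forall_liesOver_eq p q
    haveI := hfinAway
    have hfin1 : Module.Finite R' (R' ⊗[R] S ⧸ Ideal.span {1 - e}) :=
      H4_finite_quotient_of_idemFG (H4_idemFG_of_finite_away he)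
    have hlt : (H4_IsoSet R' (R' ⊗[R] S ⧸ Ideal.span {e}) P).ncard < n + 1 := by
      rw [← h]
      exact H4_isoSet_ncard_lt p q hq R' P e he P' hP'q heP' hpP
    obtain ⟨R'', _, _, _, Q, _, _, m, e' : _ → R'' ⊗[R'] (R' ⊗[R] S ⧸ Ideal.span {e}),
      he', Q' : _ → Ideal (R'' ⊗[R'] (R' ⊗[R] S ⧸ Ideal.span {e})), _, _, hPQ, hQ', hfin', H'⟩ :=
      IH _ hlt (R := R') (S := R' ⊗[R] S ⧸ Ideal.span {e}) P rfl
    let : Algebra R R'' := .compHom _ (algebraMap R R')
    have : IsScalarTower R R' R'' := .of_algebraMap_eq' rfl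
    let φ := Algebra.TensorProduct.map (Algebra.ofId R' R'') (AlgHom.id R S)
    let e₁ : R'' ⊗[R'] (R' ⊗[R] S ⧸ Ideal.span {e}) ≃ₐ[R''] (R'' ⊗[R] S ⧸ Ideal.span {φ e}) :=
      Algebra.tensorQuotientTensorEquiv (R'' := R'') e
    obtain ⟨e'', he'', he''e'⟩ := CompleteOrthogonalIdempotents.exists_eq_comp_of_ker_eq_span
      (Ideal.Quotient.mk (Ideal.span {φ e})) (I := Fin (m + 1)) (φ e) (he.map φ) (by simp)
      (e₁ ∘ e') (he'.map e₁.toRingHom) (fun _ ↦ Ideal.Quotient.mk_surjective _)
    have he''e'' (i : _) : e₁ (e' i) = e'' i := congr_fun he''e' i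
    have hψe'' (i : _) : (e' i) = e₁.symm (e'' i) := e₁.eq_symm_apply.mpr (he''e'' i)
    have hcomapmap : ∀ P'' : Ideal (R'' ⊗[R] S), φ e ∈ P'' →
        Ideal.comap (e₁.symm.toAlgHom.comp (Ideal.Quotient.mkₐ R'' (Ideal.span {φ e})))
          ((P''.map (Ideal.Quotient.mk (.span {φ e}))).comap e₁) = P'' := by
      intro P'' heP''
      change Ideal.comap (Ideal.Quotient.mk _) (Ideal.comap (e₁.symm.trans e₁).toRingHom _) = _
      simp only [AlgEquiv.symm_trans_self, RingEquiv.toRingHom_eq_coe,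
        AlgEquiv.toRingEquiv_toRingHom, AlgEquiv.refl_toRingHom, Ideal.comap_id]
      rw [Ideal.comap_map_of_surjective _ Ideal.Quotient.mk_surjective]
      simpa [left_eq_sup, ← RingHom.ker_eq_comap_bot, Ideal.span_le] using heP''
    refine H4_split_aux p q R' P e P'
      hP'q heP' hpP hfin1 (fun P'' h₁ h₂ heP'' ↦ H P'' h₁ h₂ heP'') R'' Q m _
      ((CompleteOrthogonalIdempotents.equiv (finSuccEquiv _)).mpr he'') rfl
      (Q' · |>.comap (e₁.symm.toAlgHom.comp (Ideal.Quotient.mkₐ _ _))) hPQ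
      (fun i ↦ by rw [Function.comp_def]; simpa [← hψe''] using hQ' i) ?hfin ?H
    case hfin =>
      intro i
      simp only [Function.comp_apply, finSuccEquiv_zero, finSuccEquiv_last, Fin.castSucc_succ,
        finSuccEquiv_succ]
      haveI := hfin' i
      refine H4_finite_quotient_lift (φ e) e₁ (e'' i.castSucc) (e' i.castSucc)
        (he''e'' _) ?_
      exact he''.ortho (i := none) (j := some i.castSucc) (by simp)
    case H =>
      simp only [Function.comp_apply, finSuccEquiv_zero, finSuccEquiv_last, Fin.castSucc_succ,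
        finSuccEquiv_succ]
      intro P'' heP'' _ _
      have : (P''.map (Ideal.Quotient.mk (.span {φ e}))).IsPrime :=
        Ideal.map_isPrime_of_surjective Ideal.Quotient.mk_surjective (by simpa [Ideal.span_le])
      have : (P''.map (Ideal.Quotient.mk (.span {φ e}))).LiesOver Q := ⟨by
        have : P'' ⊔ Ideal.span {φ e} = P'' := by simpa [Ideal.span_le]
        rw [← Ideal.under_under (B := R'' ⊗[R] S)]
        simpa [Ideal.under, Ideal.comap_map_of_surjective _ Ideal.Quotient.mk_surjective,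
          ← RingHom.ker_eq_comap_bot, this] using P''.over_def Q⟩
      haveI hprimeBar : ((P''.map (Ideal.Quotient.mk (.span {φ e}))).comap e₁).IsPrime :=
        Ideal.comap_isPrime _ _
      haveI hliesBar : ((P''.map (Ideal.Quotient.mk (.span {φ e}))).comap e₁).LiesOver Q :=
        (inferInstanceAs <| ((P''.map (Ideal.Quotient.mk (.span {φ e}))).comap
          e₁.toAlgHom).LiesOver Q)
      have hIH := H' ((P''.map (Ideal.Quotient.mk (.span {φ e}))).comap e₁) hprimeBar hliesBar
      have hP'' : (1 - φ e) ∉ P'' :=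
        fun h ↦ ‹P''.IsPrime›.one_notMem (by convert add_mem heP'' h; ring)
      have hmemiff : ∀ j, e' j ∈ (P''.map (Ideal.Quotient.mk (.span {φ e}))).comap e₁ ↔
          e'' j ∈ P'' := by
        intro j
        simp only [Ideal.mem_comap, he''e'',
          Ideal.mem_map_span_singleton_iff_of_isIdempotentElem (he.map φ),
          Ideal.IsPrime.mul_mem_left_iff hP'']
      refine ⟨fun i hi ↦ ?_, fun hlast hiso => ?_⟩
      · have h1 := hIH.1 i (by rw [hmemiff]; exact hi)
        rw [← h1]
        exact (hcomapmap P'' heP'').symm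
      · refine hIH.2 (by rw [hmemiff]; exact hlast) ?_
        intro Q₁ hQ₁ hQ₁Q hcomp
        let ψ := e₁.symm.toAlgHom.comp (Ideal.Quotient.mkₐ R'' (Ideal.span {φ e}))
        have hψsurj : Function.Surjective ψ :=
          e₁.symm.surjective.comp Ideal.Quotient.mk_surjective
        haveI : (Q₁.comap ψ).IsPrime := Ideal.comap_isPrime _ _
        haveI : (Q₁.comap ψ).LiesOver Q := inferInstanceAs ((Q₁.comap ψ).LiesOver Q)
        have hcomp' : Q₁.comap ψ ≤ P'' ∨ P'' ≤ Q₁.comap ψ := by
          rw [← hcomapmap P'' heP'']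
          rcases hcomp with h1 | h1
          · exact Or.inl (Ideal.comap_mono h1)
          · exact Or.inr (Ideal.comap_mono h1)
        have h2 := hiso (Q₁.comap ψ) inferInstance inferInstance hcomp'
        rw [← hcomapmap P'' heP''] at h2
        exact Ideal.comap_injective_of_surjective ψ hψsurj h2

end Groth.Agent.H4
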