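import Mathlib
import Groth.Agent.Lib.helper4.EtaleSplitFT

/-! Final form of the étale-local splitting for finite type algebras. -/

set_option autoImplicit false
universe u

open TensorProduct

namespace Groth.Agent.H4

/-- Triviality of the residue field extension in terms of generation by the image of `R`. -/
theorem H4_closure_range_of_bijective {R R' : Type u} [CommRing R] [CommRing R'] [Algebra R R']
    (p : Ideal R) [p.IsPrime] (P : Ideal R') [P.IsPrime] [P.LiesOver p]
    (hpP : Function.Bijective
      (Ideal.ResidueField.mapₐ p P (Algebra.ofId _ _) (P.over_def p))) :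
    Subfield.closure (Set.range (algebraMap R P.ResidueField)) = ⊤ := by
  let f := Ideal.ResidueField.mapₐ p P (Algebra.ofId R R') (P.over_def p)
  have h1 : Subfield.closure (Set.range (algebraMap R p.ResidueField)) = ⊤ := by
    have h2 := IsFractionRing.closure_range_algebraMap (R ⧸ p) p.ResidueField
    have h3 : Set.range (algebraMap (R ⧸ p) p.ResidueField) =
        Set.range (algebraMap R p.ResidueField) := by
      ext y
      constructor
      · rintro ⟨x, rfl⟩
        obtain ⟨x, rfl⟩ := Ideal.Quotient.mk_surjective x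
        exact ⟨x, rfl⟩
      · rintro ⟨x, rfl⟩
        exact ⟨Ideal.Quotient.mk p x, rfl⟩
    rw [← h3]; exact h2
  have h4 : Set.range (algebraMap R P.ResidueField) =
      (f : p.ResidueField →+* P.ResidueField) '' Set.range (algebraMap R p.ResidueField) := by
    ext y
    constructor
    · rintro ⟨x, rfl⟩
      exact ⟨algebraMap R p.ResidueField x, ⟨x, rfl⟩, f.commutes x⟩
    · rintro ⟨_, ⟨x, rfl⟩, rfl⟩
      exact ⟨x, (f.commutes x).symm⟩
  rw [h4, ← RingHom.map_field_closure, h1, ← RingHom.fieldRange_eq_map,
    RingHom.fieldRange_eq_top_iff]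
  exact hpP.2

theorem H4_etale_split_finiteType (R : Type u) [CommRing R]
    (S : Type u) [CommRing S] [Algebra R S] [Algebra.FiniteType R S] (p : Ideal R) [p.IsPrime] :
    ∃ (R' : Type u) (_ : CommRing R') (_ : Algebra R R') (_ : Algebra.Etale R R') (p' : Ideal R')
      (_ : p'.IsPrime) (_ : p'.LiesOver p) (n : ℕ) (A : Fin n → Type u) (_ : ∀ i, CommRing (A i))
      (_ : ∀ i, Algebra R' (A i)) (B : Type u) (_ : CommRing B) (_ : Algebra R' B),
      Subfield.closure (Set.range (algebraMap R p'.ResidueField)) = ⊤ ∧
      Nonempty ((R' ⊗[R] S) ≃ₐ[R'] ((∀ i, A i) × B)) ∧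
        (∀ i, Module.Finite R' (A i) ∧
          ∃! r : Ideal (A i), r.IsPrime ∧ r.comap (algebraMap R' (A i)) = p') ∧
        ∀ (q : Ideal B) [q.IsPrime], q.comap (algebraMap R' B) = p' →
          ¬ Algebra.QuasiFiniteAt R' q := by
  classical
  obtain ⟨R', _, _, _, P, _, _, n, e, he, P', hP'prime, hP'lies, hpP, heP', hfin, H⟩ :=
    H4_split_main (R := R) (S := S) p
  let T := R' ⊗[R] S
  let E : T := e (Fin.last n)
  have hidem : ∀ j, IsIdempotentElem (e j) := he.idem
  refine ⟨R', inferInstance, inferInstance, inferInstance, P, inferInstance, inferInstance, n,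
    fun i => T ⧸ Ideal.span {1 - e i.castSucc}, fun i => inferInstance, fun i => inferInstance,
    T ⧸ Ideal.span {1 - E}, inferInstance, inferInstance,
    H4_closure_range_of_bijective p P hpP, ?iso, ?fin, ?B⟩
  case iso =>
    let Ψ : T →ₐ[R'] (∀ i : Fin n, T ⧸ Ideal.span {1 - e i.castSucc}) × (T ⧸ Ideal.span {1 - E}) :=
      AlgHom.prod (Pi.algHom R' _ (fun i => Ideal.Quotient.mkₐ R' (Ideal.span {1 - e i.castSucc})))
        (Ideal.Quotient.mkₐ R' (Ideal.span {1 - E}))
    have hbij := he.bijective_pi
    refine ⟨AlgEquiv.ofBijective Ψ ⟨?_, ?_⟩⟩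
    · rw [injective_iff_map_eq_zero]
      intro x hx
      apply hbij.1
      rw [map_zero]
      funext j
      have h1 : ∀ i : Fin n, Ideal.Quotient.mk (Ideal.span {1 - e i.castSucc}) x = 0 := fun i =>
        congrFun (congrArg Prod.fst hx) i
      have h2 : Ideal.Quotient.mk (Ideal.span {1 - E}) x = 0 := congrArg Prod.snd hx
      refine Fin.lastCases ?_ (fun i => ?_) j
      · exact h2
      · exact h1 i
    · rintro ⟨a, b⟩
      let c : ∀ j : Fin (n + 1), T ⧸ Ideal.span {1 - e j} :=
        Fin.lastCases (motive := fun j => T ⧸ Ideal.span {1 - e j}) b (fun i => a i)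
      obtain ⟨x, hx⟩ := hbij.2 c
      refine ⟨x, ?_⟩
      have hx' : ∀ j, Ideal.Quotient.mk (Ideal.span {1 - e j}) x = c j := fun j => congrFun hx j
      apply Prod.ext
      · funext i
        show Ideal.Quotient.mk (Ideal.span {1 - e i.castSucc}) x = a i
        rw [hx' i.castSucc]
        simp only [c, Fin.lastCases_castSucc]
      · show Ideal.Quotient.mk (Ideal.span {1 - E}) x = b
        rw [hx' (Fin.last n)]
        simp only [c, Fin.lastCases_last]
  case fin =>
    intro i
    refine ⟨hfin i, ?_⟩
    let mk := Ideal.Quotient.mk (Ideal.span ({1 - e i.castSucc} : Set T))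
    haveI := hP'prime i
    haveI := hP'lies i
    have h1e : (1 - e i.castSucc) ∈ P' i := by
      have h0 : e i.castSucc * (1 - e i.castSucc) ∈ P' i := by
        have : e i.castSucc * (1 - e i.castSucc) = 0 := by
          rw [mul_sub, mul_one, (hidem _).eq, sub_self]
        rw [this]; exact Ideal.zero_mem _
      exact ((hP'prime i).mem_or_mem h0).resolve_left (heP' i)
    have hker : RingHom.ker mk ≤ P' i := by
      rw [Ideal.mk_ker, Ideal.span_le]
      intro x hx
      rw [Set.mem_singleton_iff] at hx
      rw [hx]; exact h1e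
    have hcm : ((P' i).map mk).comap mk = P' i := by
      rw [Ideal.comap_map_of_surjective _ Ideal.Quotient.mk_surjective,
        ← RingHom.ker_eq_comap_bot]
      exact sup_eq_left.mpr hker
    have halg : ∀ r : Ideal (T ⧸ Ideal.span {1 - e i.castSucc}),
        r.comap (algebraMap R' (T ⧸ Ideal.span {1 - e i.castSucc})) =
          (r.comap mk).comap (algebraMap R' T) := fun r => rfl
    refine ⟨(P' i).map mk, ⟨Ideal.map_isPrime_of_surjective Ideal.Quotient.mk_surjective hker, ?_⟩,
      ?_⟩
    · rw [halg, hcm]
      exact ((P' i).over_def P).symm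
    · rintro r ⟨hr, hrP⟩
      haveI := hr
      haveI : (r.comap mk).IsPrime := Ideal.comap_isPrime _ _
      have hlies : (r.comap mk).LiesOver P := ⟨by rw [← hrP, halg]⟩
      have h1 : (1 - e i.castSucc) ∈ r.comap mk := by
        rw [Ideal.mem_comap]
        have : mk (1 - e i.castSucc) = 0 :=
          Ideal.Quotient.eq_zero_iff_mem.mpr (Ideal.mem_span_singleton_self _)
        rw [this]; exact Ideal.zero_mem _
      have h2 : e i.castSucc ∉ r.comap mk := by
        intro h
        have h3 : (1 : T) ∈ r.comap mk := by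
          have := Ideal.add_mem _ h h1
          rwa [add_sub_cancel] at this
        exact (Ideal.ne_top_iff_one _).mp (Ideal.IsPrime.ne_top inferInstance) h3
      have h4 := (H (r.comap mk) inferInstance hlies).1 i h2
      rw [← h4, Ideal.map_comap_of_surjective _ Ideal.Quotient.mk_surjective]
  case B =>
    intro q hq hqP hqf
    let mk := Ideal.Quotient.mk (Ideal.span ({1 - E} : Set T))
    haveI : (q.comap mk).IsPrime := Ideal.comap_isPrime _ _
    have hlies : (q.comap mk).LiesOver P := ⟨by rw [← hqP]; rfl⟩
    haveI := hlies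
    have h1 : (1 - E) ∈ q.comap mk := by
      rw [Ideal.mem_comap]
      have : mk (1 - E) = 0 :=
        Ideal.Quotient.eq_zero_iff_mem.mpr (Ideal.mem_span_singleton_self _)
      rw [this]; exact Ideal.zero_mem _
    have h2 : E ∉ q.comap mk := by
      intro h
      have h3 : (1 : T) ∈ q.comap mk := by
        have := Ideal.add_mem _ h h1
        rwa [add_sub_cancel] at this
      exact (Ideal.ne_top_iff_one _).mp (Ideal.IsPrime.ne_top inferInstance) h3
    haveI : Algebra.QuasiFiniteAt R' (q.comap mk) :=
      H4_quasiFiniteAt_of_quotient_idem R' T (1 - E) (hidem _).one_sub q (q.comap mk) rfl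
    have hiso : H4_IsoIn P (q.comap mk) :=
      (H4_quasiFiniteAt_iff_isoIn P (q.comap mk)).mp inferInstance
    exact (H (q.comap mk) inferInstance hlies).2 h2 hiso

end Groth.Agent.H4
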