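import Mathlib
import Groth.Agent.Lib.helper4.PiDomain
import Groth.Agent.Lib.helper4.MinFlat
import Groth.Agent.Lib.helper4.EtaleStalk
import Groth.Agent.Lib.helper4.EtaleNormal

set_option autoImplicit false
universe u
open AlgebraicGeometry CategoryTheory Topology

namespace Groth.Agent.H4

/-- Version of `H4_pi_of_locally_domain` with finitely many minimal primes instead of noetherian. -/
theorem H4_pi_of_locally_domain' (B : Type u) [CommRing B] (hfin : (minimalPrimes B).Finite)
    (h : ∀ (m : Ideal B) [m.IsMaximal], IsDomain (Localization.AtPrime m)) :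
    ∃ (n : ℕ) (f : Fin n → Ideal B), (∀ i, (f i).IsPrime) ∧
      Pairwise (Function.onFun IsCoprime f) ∧ ⨅ i, f i = ⊥ := by
  haveI := hfin.to_subtype
  obtain ⟨n, ⟨e⟩⟩ := Finite.exists_equiv_fin (minimalPrimes B)
  refine ⟨n, fun i => (e.symm i : Ideal B), fun i => (e.symm i).2.1.1, ?_, ?_⟩
  · intro i j hij
    rw [Function.onFun, Ideal.isCoprime_iff_sup_eq]
    by_contra hne
    obtain ⟨m, hm, hle⟩ := Ideal.exists_le_maximal _ hne
    haveI := hm
    haveI := h m
    have h1 := H4_minimalPrime_eq_ker B m _ (e.symm i).2 (le_sup_left.trans hle)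
    have h2 := H4_minimalPrime_eq_ker B m _ (e.symm j).2 (le_sup_right.trans hle)
    exact hij (e.symm.injective (Subtype.ext (h1.trans h2.symm)))
  · rw [eq_bot_iff]
    intro b hb
    rw [Ideal.mem_bot]
    apply eq_zero_of_localization
    intro m hm
    haveI := hm
    haveI := h m
    have hK := H4_ker_mem_minimalPrimes B m
    rw [Ideal.mem_iInf] at hb
    have := hb (e ⟨_, hK⟩)
    simpa using this

/-- In a ring with finitely many minimal primes all of whose local rings are domains, every point of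
the spectrum has an open irreducible neighbourhood. -/
theorem H4_exists_open_irreducible_nhd (B : Type u) [CommRing B] (hfin : (minimalPrimes B).Finite)
    (h : ∀ (m : Ideal B) [m.IsMaximal], IsDomain (Localization.AtPrime m))
    (q : PrimeSpectrum B) :
    ∃ W : Set (PrimeSpectrum B), IsOpen W ∧ q ∈ W ∧ IsIrreducible W := by
  classical
  obtain ⟨n, f, hf, hcop, hinf⟩ := H4_pi_of_locally_domain' B hfin h
  have hex : ∀ x : PrimeSpectrum B, ∃ i, f i ≤ x.asIdeal := by
    intro x
    have h1 : (Finset.univ : Finset (Fin n)).inf f ≤ x.asIdeal := by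
      rw [Finset.inf_univ_eq_iInf, hinf]; exact bot_le
    obtain ⟨i, -, hi⟩ := (Ideal.IsPrime.inf_le' x.2).mp h1
    exact ⟨i, hi⟩
  obtain ⟨i, hi⟩ := hex q
  refine ⟨PrimeSpectrum.zeroLocus (f i : Set B), ?_, hi, ?_⟩
  · have heq : PrimeSpectrum.zeroLocus (f i : Set B) =
        (⋃ j ∈ (Finset.univ.erase i : Finset (Fin n)), PrimeSpectrum.zeroLocus (f j : Set B))ᶜ := by
      ext x
      simp only [PrimeSpectrum.mem_zeroLocus, SetLike.coe_subset_coe, Set.mem_compl_iff,
        Set.mem_iUnion, Finset.mem_erase, Finset.mem_univ, and_true, not_exists]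
      constructor
      · intro hx j hji hxj
        have hc := hcop hji
        rw [Function.onFun, Ideal.isCoprime_iff_sup_eq] at hc
        have : (⊤ : Ideal B) ≤ x.asIdeal := hc ▸ sup_le hxj hx
        exact x.2.ne_top (top_le_iff.mp this)
      · intro hx
        obtain ⟨j, hj⟩ := hex x
        by_cases hji : j = i
        · exact hji ▸ hj
        · exact absurd hj (hx j hji)
    rw [heq, isOpen_compl_iff]
    exact Set.Finite.isClosed_biUnion (Finset.finite_toSet _)
      (fun j _ => PrimeSpectrum.isClosed_zeroLocus _)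
  · rw [PrimeSpectrum.isIrreducible_zeroLocus_iff]
    haveI := hf i
    rw [Ideal.IsPrime.radical (hf i)]
    exact hf i

/-- A connected space in which every point has an irreducible open neighbourhood is irreducible. -/
theorem H4_irreducibleSpace_of_connected_of_locally_irreducible (T : Type u) [TopologicalSpace T]
    [ConnectedSpace T]
    (h : ∀ t : T, ∃ W : Set T, IsOpen W ∧ t ∈ W ∧ IsIrreducible W) : IrreducibleSpace T := by
  obtain ⟨t0⟩ : Nonempty T := inferInstance
  obtain ⟨W0, hW0o, ht0, hW0i⟩ := h t0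
  have hZi : IsIrreducible (closure W0) := hW0i.closure
  have hZo : IsOpen (closure W0) := by
    rw [isOpen_iff_mem_nhds]
    intro z hz
    obtain ⟨Wz, hWzo, hzWz, hWzi⟩ := h z
    have hne : (Wz ∩ W0).Nonempty := by
      rw [mem_closure_iff] at hz
      exact hz Wz hWzo hzWz
    have hsub : Wz ⊆ closure W0 :=
      (subset_closure_inter_of_isPreirreducible_of_isOpen hWzi.2 hW0o hne).trans
        (closure_mono Set.inter_subset_right)
    exact Filter.mem_of_superset (hWzo.mem_nhds hzWz) hsub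
  have hclopen : IsClopen (closure W0) := ⟨isClosed_closure, hZo⟩
  have huniv : closure W0 = Set.univ := hclopen.eq_univ ⟨t0, subset_closure ht0⟩
  haveI : PreirreducibleSpace T := ⟨by rw [← huniv]; exact hZi.2⟩
  exact ⟨⟨t0⟩⟩

theorem H4_normal_stalk_of_etale {X Y : Scheme.{u}} (f : Y ⟶ X) [Etale f]
    (hX : ∀ x : X, IsDomain (X.presheaf.stalk x) ∧ IsIntegrallyClosed (X.presheaf.stalk x))
    (y : Y) : IsDomain (Y.presheaf.stalk y) ∧ IsIntegrallyClosed (Y.presheaf.stalk y) := by
  obtain ⟨A, B, _, _, _, _, q, _, ⟨e1⟩, ⟨e2⟩, -⟩ := H4_etale_stalk_data f y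
  obtain ⟨h1, h2⟩ := hX (f.base y)
  haveI : IsDomain (Localization.AtPrime (q.comap (algebraMap A B))) :=
    e2.symm.toMulEquiv.isDomain _
  haveI : IsIntegrallyClosed (Localization.AtPrime (q.comap (algebraMap A B))) :=
    IsIntegrallyClosed.of_equiv e2
  obtain ⟨h4, h5⟩ := H4_normal_localization_of_etale A B q
  exact ⟨e1.toMulEquiv.isDomain _, IsIntegrallyClosed.of_equiv e1.symm⟩

theorem H4_integral_normal_of_finite_etale {X Y : Scheme.{u}} [IsIntegral X]
    (hX : ∀ x : X, IsDomain (X.presheaf.stalk x) ∧ IsIntegrallyClosed (X.presheaf.stalk x))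
    (f : Y ⟶ X) [IsFinite f] [Etale f] [ConnectedSpace Y] :
    IsIntegral Y ∧ ∀ y : Y, IsDomain (Y.presheaf.stalk y) ∧
      IsIntegrallyClosed (Y.presheaf.stalk y) := by
  have hN := H4_normal_stalk_of_etale f hX
  refine ⟨?_, hN⟩
  haveI : ∀ y : Y, _root_.IsReduced (Y.presheaf.stalk y) := fun y => by
    obtain ⟨h1, -⟩ := hN y
    infer_instance
  haveI : IsReduced Y := isReduced_of_isReduced_stalk Y
  haveI : IrreducibleSpace Y := by
    apply H4_irreducibleSpace_of_connected_of_locally_irreducible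
    intro y
    obtain ⟨U, hU, hxU, -⟩ := exists_isAffineOpen_mem_and_subset (X := X) (x := f.base y)
      (U := ⊤) trivial
    have hV : IsAffineOpen (f ⁻¹ᵁ U) := hU.preimage f
    have hyV : y ∈ f ⁻¹ᵁ U := hxU
    letI alg : Algebra Γ(X, U) Γ(Y, f ⁻¹ᵁ U) := (f.appLE U (f ⁻¹ᵁ U) le_rfl).hom.toAlgebra
    have het : Algebra.Etale Γ(X, U) Γ(Y, f ⁻¹ᵁ U) := Etale.etale_appLE f hU hV le_rfl
    haveI : Nonempty U := ⟨⟨f.base y, hxU⟩⟩
    haveI : IsDomain Γ(X, U) := inferInstance
    have hfinA : (minimalPrimes Γ(X, U)).Finite := by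
      rw [IsDomain.minimalPrimes_eq_singleton_bot]; exact Set.finite_singleton _
    have hfinB : (minimalPrimes Γ(Y, f ⁻¹ᵁ U)).Finite :=
      H4_minimalPrimes_finite_of_flat_fp Γ(X, U) Γ(Y, f ⁻¹ᵁ U) hfinA
    let e : ((f ⁻¹ᵁ U : Y.Opens) : Type u) ≃ₜ PrimeSpectrum Γ(Y, f ⁻¹ᵁ U) :=
      Scheme.homeoOfIso hV.isoSpec
    have hdom : ∀ (m : Ideal Γ(Y, f ⁻¹ᵁ U)) [m.IsMaximal],
        IsDomain (Localization.AtPrime m) := by
      intro m hm
      let y' : (f ⁻¹ᵁ U : Y.Opens) := e.symm ⟨m, inferInstance⟩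
      have hy' : (hV.primeIdealOf y').asIdeal = m := by
        have : hV.primeIdealOf y' = e y' := rfl
        rw [this, Homeomorph.apply_symm_apply]
      letI := Y.presheaf.algebra_section_stalk y'
      haveI := hV.isLocalization_stalk y'
      have key : ∀ (P : Ideal Γ(Y, f ⁻¹ᵁ U)) [P.IsPrime],
          P = (hV.primeIdealOf y').asIdeal → IsDomain (Localization.AtPrime P) := by
        intro P _ hP
        subst hP
        obtain ⟨h1, -⟩ := hN y'.1
        exact (IsLocalization.algEquiv (hV.primeIdealOf y').asIdeal.primeCompl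
          (Localization.AtPrime (hV.primeIdealOf y').asIdeal)
          (Y.presheaf.stalk y'.1)).toRingEquiv.toMulEquiv.isDomain _
      exact key m hy'.symm
    obtain ⟨W, hWo, hqW, hWi⟩ :=
      H4_exists_open_irreducible_nhd Γ(Y, f ⁻¹ᵁ U) hfinB hdom (e ⟨y, hyV⟩)
    refine ⟨Subtype.val '' (e ⁻¹' W), ?_, ⟨⟨y, hyV⟩, hqW, rfl⟩, ?_⟩
    · exact (f ⁻¹ᵁ U).2.isOpenMap_subtype_val _ (hWo.preimage e.continuous)
    · have h1 : IsIrreducible (e ⁻¹' W) :=
        hWi.preimage e.isOpenEmbedding ⟨e ⟨y, hyV⟩, hqW, ⟨_, rfl⟩⟩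
      exact h1.image _ continuous_subtype_val.continuousOn
  exact isIntegral_of_irreducibleSpace_of_isReduced Y

end Groth.Agent.H4
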