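import Mathlib

set_option autoImplicit false
universe u
open CategoryTheory CategoryTheory.Limits TensorProduct

namespace Groth.Agent.H4

/-- A finite subset of a filtered colimit of rings lies in the image of a stage. -/
theorem H4_finite_subset_range_stage {I : Type u} [SmallCategory I] [IsFiltered I]
    (D : I ⥤ CommRingCat.{u}) (c : Cocone D) (hc : IsColimit c) (s : Set c.pt) (hs : s.Finite) :
    ∃ i : I, s ⊆ Set.range (c.ι.app i).hom := by
  induction s, hs using Set.Finite.induction_on with
  | empty =>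
    obtain ⟨i⟩ := IsFiltered.nonempty (C := I)
    exact ⟨i, Set.empty_subset _⟩
  | @insert a s _ _ ih =>
    obtain ⟨i, hi⟩ := ih
    obtain ⟨j, y, hy⟩ := Concrete.isColimit_exists_rep D hc a
    refine ⟨IsFiltered.max i j, ?_⟩
    have hw : ∀ {k l : I} (f : k ⟶ l) (x : D.obj k),
        (c.ι.app l).hom ((D.map f).hom x) = (c.ι.app k).hom x := by
      intro k l f x
      have h1 : D.map f ≫ c.ι.app l = c.ι.app k := c.w f
      exact congrArg (fun g => g.hom x) h1
    intro b hb
    rcases hb with rfl | hb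
    · exact ⟨(D.map (IsFiltered.rightToMax i j)).hom y, (hw (IsFiltered.rightToMax i j) y).trans hy⟩
    · obtain ⟨x, rfl⟩ := hi hb
      exact ⟨(D.map (IsFiltered.leftToMax i j)).hom x, hw (IsFiltered.leftToMax i j) x⟩

theorem H4_finitePresentation_descends {I : Type u} [SmallCategory I] [IsFiltered I]
    (D : I ⥤ CommRingCat.{u}) (c : Cocone D) (hc : IsColimit c) (B : Type u) [CommRing B]
    [Algebra c.pt B] [Algebra.FinitePresentation c.pt B] :
    ∃ (i : I) (Bi : Type u) (_ : CommRing Bi) (_ : Algebra (D.obj i) Bi),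
      Algebra.FinitePresentation (D.obj i) Bi ∧
      (letI : Algebra (D.obj i) c.pt := (c.ι.app i).hom.toAlgebra
       Nonempty (B ≃ₐ[c.pt] (c.pt ⊗[D.obj i] Bi))) := by
  let P := Algebra.Presentation.ofFinitePresentation c.pt B
  obtain ⟨i, hi⟩ := H4_finite_subset_range_stage D c hc P.coeffs P.finite_coeffs
  letI alg1 : Algebra (D.obj i) c.pt := (c.ι.app i).hom.toAlgebra
  letI alg2 : Algebra (D.obj i) B := ((algebraMap c.pt B).comp (c.ι.app i).hom).toAlgebra
  haveI : IsScalarTower (D.obj i) c.pt B := IsScalarTower.of_algebraMap_eq (fun _ => rfl)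
  haveI : P.HasCoeffs (D.obj i) := ⟨hi⟩
  exact ⟨i, P.ModelOfHasCoeffs (D.obj i), inferInstance, inferInstance, inferInstance,
    ⟨(P.tensorModelOfHasCoeffsEquiv (D.obj i)).symm⟩⟩

end Groth.Agent.H4
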