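import Mathlib
import Groth.Agent.Lib.helper4.IndEtaleWeakly

set_option autoImplicit false
universe u
open CategoryTheory CategoryTheory.Limits

namespace Groth.Agent.H4

theorem H4_ringHom_faithfullyFlat_of_flat_of_map_ne_top {R S : Type*} [CommRing R] [CommRing S]
    (f : R →+* S) (hf : f.Flat) (h : ∀ m : Ideal R, m.IsMaximal → Ideal.map f m ≠ ⊤) :
    f.FaithfullyFlat := by
  algebraize [f]
  show Module.FaithfullyFlat R S
  refine { toFlat := hf, submodule_ne_top := fun m hm htop => h m hm ?_ }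
  rw [Ideal.smul_top_eq_map] at htop
  have h2 : (Ideal.map (algebraMap R S) m : Ideal S) = ⊤ := by
    rwa [Submodule.restrictScalars_eq_top_iff] at htop
  exact h2

theorem H4_ringHom_faithfullyFlat_map_ne_top {R S : Type*} [CommRing R] [CommRing S]
    (f : R →+* S) (hf : f.FaithfullyFlat) (I : Ideal R) (hI : I ≠ ⊤) : Ideal.map f I ≠ ⊤ := by
  algebraize [f]
  have h1 : Module.FaithfullyFlat R S := hf
  have h2 := (Module.FaithfullyFlat.iff_flat_and_proper_ideal R S).mp h1 |>.2 I hI
  intro h3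
  apply h2
  rw [Ideal.smul_top_eq_map, Submodule.restrictScalars_eq_top_iff]
  exact h3

theorem H4_faithfullyFlat_filteredColimit (J : Type u) [SmallCategory J] [IsFiltered J]
    (C A : J ⥤ CommRingCat.{u}) (φ : C ⟶ A) (h : ∀ j : J, (φ.app j).hom.FaithfullyFlat) :
    (colimMap φ).hom.FaithfullyFlat := by
  classical
  let g : (colimit C : CommRingCat.{u}) →+* (colimit A : CommRingCat.{u}) := (colimMap φ).hom
  let Φ : ∀ j, C.obj j →+* (colimit C : CommRingCat.{u}) := fun j => (colimit.ι C j).hom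
  let Ψ : ∀ j, A.obj j →+* (colimit A : CommRingCat.{u}) := fun j => (colimit.ι A j).hom
  let gj : ∀ j, C.obj j →+* A.obj j := fun j => (φ.app j).hom
  have hcomm : ∀ j, g.comp (Φ j) = (Ψ j).comp (gj j) := by
    intro j
    have h1 : colimit.ι C j ≫ colimMap φ = φ.app j ≫ colimit.ι A j := ι_colimMap φ j
    exact congrArg (fun f => f.hom) h1
  have hT1 : ∀ {i k : J} (a : i ⟶ k), (gj k).comp (C.map a).hom = (A.map a).hom.comp (gj i) := by
    intro i k a
    have h1 : C.map a ≫ φ.app k = φ.app i ≫ A.map a := φ.naturality a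
    exact congrArg (fun f => f.hom) h1
  have hT2 : ∀ {i k : J} (a : i ⟶ k), (Φ k).comp (C.map a).hom = Φ i := by
    intro i k a
    have h1 : C.map a ≫ colimit.ι C k = colimit.ι C i := colimit.w C a
    exact congrArg (fun f => f.hom) h1
  have hT3 : ∀ {i k : J} (a : i ⟶ k), (Ψ k).comp (A.map a).hom = Ψ i := by
    intro i k a
    have h1 : A.map a ≫ colimit.ι A k = colimit.ι A i := colimit.w A a
    exact congrArg (fun f => f.hom) h1
  have hrepC : ∀ r : (colimit C : CommRingCat.{u}), ∃ j x, Φ j x = r := fun r =>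
    Concrete.colimit_exists_rep C r
  have hrepA : ∀ s : (colimit A : CommRingCat.{u}), ∃ j x, Ψ j x = s := fun s =>
    Concrete.colimit_exists_rep A s
  have heqA : ∀ i (u v : A.obj i), Ψ i u = Ψ i v → ∃ (k : J) (a : i ⟶ k),
      (A.map a).hom u = (A.map a).hom v := by
    intro i u v huv
    exact (IsColimit.eq_iff' (colimit.isColimit A) u v).mp huv
  have heq : ∀ i (u v : A.obj i), Ψ i u = Ψ i v → ∃ (k : J) (T : C.obj i →+* C.obj k)
      (t : A.obj i →+* A.obj k),
      (gj k).comp T = t.comp (gj i) ∧ (Φ k).comp T = Φ i ∧ (Ψ k).comp t = Ψ i ∧ t u = t v := by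
    intro i u v huv
    obtain ⟨k, a, hk⟩ := heqA i u v huv
    exact ⟨k, (C.map a).hom, (A.map a).hom, hT1 a, hT2 a, hT3 a, hk⟩
  have hfin := H4_fin_lift (X' := (↑(colimit C : CommRingCat.{u}) : Type u) × (↑(colimit A : CommRingCat.{u}) : Type u))
    (fun j => C.obj j × A.obj j) (fun j p => (Φ j p.1, Ψ j p.2)) IsFiltered.nonempty
    (fun i i' => ⟨IsFiltered.max i i',
      fun p => ((C.map (IsFiltered.leftToMax i i')).hom p.1,
        (A.map (IsFiltered.leftToMax i i')).hom p.2),
      fun p => ((C.map (IsFiltered.rightToMax i i')).hom p.1,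
        (A.map (IsFiltered.rightToMax i i')).hom p.2),
      fun p => Prod.ext (RingHom.congr_fun (hT2 _) p.1) (RingHom.congr_fun (hT3 _) p.2),
      fun p => Prod.ext (RingHom.congr_fun (hT2 _) p.1) (RingHom.congr_fun (hT3 _) p.2)⟩)
    (fun b => by
      obtain ⟨i, x, hx⟩ := hrepC b.1
      obtain ⟨i', y, hy⟩ := hrepA b.2
      refine ⟨IsFiltered.max i i', ((C.map (IsFiltered.leftToMax i i')).hom x,
        (A.map (IsFiltered.rightToMax i i')).hom y), ?_⟩
      exact Prod.ext ((RingHom.congr_fun (hT2 _) x).trans hx)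
        ((RingHom.congr_fun (hT3 _) y).trans hy))
  have hlift : ∀ (l : ℕ) (F : Fin l → (colimit C : CommRingCat.{u}))
      (x : Fin l → (colimit A : CommRingCat.{u})), ∃ (i : J) (G : Fin l → C.obj i)
      (y : Fin l → A.obj i), (∀ m, Φ i (G m) = F m) ∧ ∀ m, Ψ i (y m) = x m := by
    intro l F x
    obtain ⟨i, y, hy⟩ := hfin l (fun m => (F m, x m))
    exact ⟨i, fun m => (y m).1, fun m => (y m).2, fun m => congrArg Prod.fst (hy m),
      fun m => congrArg Prod.snd (hy m)⟩
  have hflat : g.Flat :=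
    H4_ringHom_flat_of_system g (fun j => C.obj j) (fun j => A.obj j) gj
      (fun j => (h j).flat) Φ Ψ hcomm hlift heq
  apply H4_ringHom_faithfullyFlat_of_flat_of_map_ne_top g hflat
  intro m hm htop
  -- every element of the extended ideal comes from a stage
  have key : ∀ x ∈ Ideal.map g m, ∃ (i : J) (z : A.obj i), Ψ i z = x ∧
      z ∈ Ideal.map (gj i) (Ideal.comap (Φ i) m) := by
    have hmove : ∀ {i k : J} (a : i ⟶ k) (z : A.obj i),
        z ∈ Ideal.map (gj i) (Ideal.comap (Φ i) m) →
        (A.map a).hom z ∈ Ideal.map (gj k) (Ideal.comap (Φ k) m) := by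
      intro i k a z hz
      have h1 : Ideal.map (gj i) (Ideal.comap (Φ i) m) ≤
          Ideal.comap (A.map a).hom (Ideal.map (gj k) (Ideal.comap (Φ k) m)) := by
        rw [Ideal.map_le_iff_le_comap]
        intro r hr
        rw [Ideal.mem_comap, Ideal.mem_comap, ← RingHom.comp_apply, ← hT1 a, RingHom.comp_apply]
        apply Ideal.mem_map_of_mem
        rw [Ideal.mem_comap, ← RingHom.comp_apply, hT2 a]
        exact hr
      exact h1 hz
    intro x hx
    induction hx using Submodule.span_induction with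
    | mem x hx =>
      obtain ⟨r, hr, rfl⟩ := hx
      obtain ⟨i, y, rfl⟩ := hrepC r
      refine ⟨i, gj i y, (RingHom.congr_fun (hcomm i) y).symm, ?_⟩
      exact Ideal.mem_map_of_mem _ hr
    | zero =>
      obtain ⟨i⟩ := IsFiltered.nonempty (C := J)
      exact ⟨i, 0, map_zero _, zero_mem _⟩
    | add x y _ _ hx hy =>
      obtain ⟨i, z, rfl, hz⟩ := hx
      obtain ⟨i', z', rfl, hz'⟩ := hy
      refine ⟨IsFiltered.max i i', (A.map (IsFiltered.leftToMax i i')).hom z +
        (A.map (IsFiltered.rightToMax i i')).hom z', ?_, ?_⟩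
      · rw [map_add]
        congr 1
        · exact RingHom.congr_fun (hT3 _) z
        · exact RingHom.congr_fun (hT3 _) z'
      · exact add_mem (hmove _ z hz) (hmove _ z' hz')
    | smul s x _ hx =>
      obtain ⟨i, z, rfl, hz⟩ := hx
      obtain ⟨i', s', rfl⟩ := hrepA s
      refine ⟨IsFiltered.max i i', (A.map (IsFiltered.rightToMax i i')).hom s' *
        (A.map (IsFiltered.leftToMax i i')).hom z, ?_, ?_⟩
      · rw [map_mul, smul_eq_mul]
        congr 1
        · exact RingHom.congr_fun (hT3 _) s'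
        · exact RingHom.congr_fun (hT3 _) z
      · exact Ideal.mul_mem_left _ _ (hmove _ z hz)
  obtain ⟨i, z, hz1, hz2⟩ := key 1 (by rw [htop]; trivial)
  obtain ⟨k, a, hk⟩ := heqA i z 1 (by rw [hz1, map_one])
  rw [map_one] at hk
  have hmove' : (A.map a).hom z ∈ Ideal.map (gj k) (Ideal.comap (Φ k) m) := by
    have h1 : Ideal.map (gj i) (Ideal.comap (Φ i) m) ≤
        Ideal.comap (A.map a).hom (Ideal.map (gj k) (Ideal.comap (Φ k) m)) := by
      rw [Ideal.map_le_iff_le_comap]
      intro r hr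
      rw [Ideal.mem_comap, Ideal.mem_comap, ← RingHom.comp_apply, ← hT1 a, RingHom.comp_apply]
      apply Ideal.mem_map_of_mem
      rw [Ideal.mem_comap, ← RingHom.comp_apply, hT2 a]
      exact hr
    exact h1 hz2
  rw [hk] at hmove'
  have hne : Ideal.comap (Φ k) m ≠ ⊤ := by
    intro h1
    have h2 : (1 : C.obj k) ∈ Ideal.comap (Φ k) m := by rw [h1]; trivial
    rw [Ideal.mem_comap, map_one] at h2
    exact hm.ne_top ((Ideal.eq_top_iff_one _).mpr h2)
  exact H4_ringHom_faithfullyFlat_map_ne_top (gj k) (h k) _ hne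
    ((Ideal.eq_top_iff_one _).mpr hmove')

end Groth.Agent.H4
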