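import Mathlib

/-! A filtered colimit (in `CommRingCat`) of henselian local rings along local homomorphisms is a
henselian local ring. -/

set_option autoImplicit false
universe u

open CategoryTheory CategoryTheory.Limits

namespace Groth.Agent.H4

theorem H4_henselian_of_isFilteredColimit {J : Type u} [SmallCategory J] [IsFiltered J]
    (F : J ⥤ CommRingCat.{u})
    (hF : ∀ j, HenselianLocalRing (F.obj j)) (hloc : ∀ (i j : J) (a : i ⟶ j), IsLocalHom (F.map a).hom)
    (c : Cocone F) (hc : IsColimit c) : HenselianLocalRing c.pt := by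
  classical
  let φ : ∀ j, F.obj j →+* c.pt := fun j => (c.ι.app j).hom
  let t : ∀ {i j : J} (_ : i ⟶ j), F.obj i →+* F.obj j := fun a => (F.map a).hom
  -- basic facts
  have hnat : ∀ {i j : J} (a : i ⟶ j) (y : F.obj i), φ j (t a y) = φ i y := by
    intro i j a y
    show (c.ι.app j).hom ((F.map a).hom y) = (c.ι.app i).hom y
    rw [← c.w a]
    rfl
  have hrep : ∀ (x : c.pt) (k : J), ∃ (j : J) (_ : k ⟶ j) (y : F.obj j), φ j y = x := by
    intro x k
    obtain ⟨j, a, y, hy⟩ := Concrete.exists_hom_ι_eq_of_isColimit F hc x k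
    exact ⟨j, a, y, hy⟩
  have heq : ∀ {i : J} (x y : F.obj i), φ i x = φ i y → ∃ (j : J) (a : i ⟶ j), t a x = t a y := by
    intro i x y h
    exact (IsColimit.eq_iff' hc x y).mp h
  haveI : ∀ j, IsLocalRing (F.obj j) := fun j => (hF j).toIsLocalRing
  -- units come from units
  have hunit : ∀ {i : J} (x : F.obj i), IsUnit (φ i x) → IsUnit x := by
    intro i x h
    obtain ⟨z, hz⟩ := h.exists_right_inv
    obtain ⟨j, a, y, rfl⟩ := hrep z i
    have h1 : φ j (t a x * y) = φ j 1 := by
      rw [map_mul, hnat, hz, map_one]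
    obtain ⟨k, b, h2⟩ := heq _ _ h1
    rw [map_mul, map_one] at h2
    have h3 : IsUnit (t b (t a x)) := IsUnit.of_mul_eq_one _ h2
    haveI := hloc j k b
    haveI := hloc i j a
    exact isUnit_of_map_unit (t a) x (isUnit_of_map_unit (t b) _ h3)
  obtain ⟨j₀⟩ : Nonempty J := IsFiltered.nonempty
  haveI hnt : Nontrivial c.pt := by
    refine ⟨⟨0, 1, ?_⟩⟩
    intro h01
    have h1 : φ j₀ 0 = φ j₀ 1 := by rw [map_zero, map_one, h01]
    obtain ⟨j, a, h2⟩ := heq _ _ h1
    rw [map_zero, map_one] at h2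
    exact zero_ne_one h2
  haveI hlocal : IsLocalRing c.pt := by
    apply IsLocalRing.of_isUnit_or_isUnit_of_isUnit_add
    intro a b hab
    obtain ⟨i, -, x, rfl⟩ := hrep a j₀
    obtain ⟨j, f, y, rfl⟩ := hrep b i
    rw [← hnat f x] at hab ⊢
    rw [← map_add] at hab
    have := hunit _ hab
    rcases IsLocalRing.isUnit_or_isUnit_of_isUnit_add this with h | h
    · exact Or.inl (h.map _)
    · exact Or.inr (h.map _)
  -- finite sets come from a common stage
  have hfin : ∀ (s : Finset c.pt), ∃ (j : J), ∀ x ∈ s, x ∈ Set.range (φ j) := by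
    intro s
    induction s using Finset.induction_on with
    | empty => exact ⟨j₀, fun x hx => by simp at hx⟩
    | insert x s _ ih =>
      obtain ⟨j, hj⟩ := ih
      obtain ⟨k, a, y, hy⟩ := hrep x j
      refine ⟨k, fun x' hx' => ?_⟩
      rcases Finset.mem_insert.mp hx' with rfl | hx's
      · exact ⟨y, hy⟩
      · obtain ⟨y', hy'⟩ := hj x' hx's
        exact ⟨t a y', by rw [hnat, hy']⟩
  refine { hlocal with is_henselian := ?_ }
  intro f hf a₀ h₁ h₂
  obtain ⟨j, hj⟩ := hfin (insert a₀ (f.support.image f.coeff))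
  have hlift : f ∈ Polynomial.lifts (φ j) := by
    rw [Polynomial.lifts_iff_coeff_lifts]
    intro n
    by_cases hn : f.coeff n = 0
    · rw [hn]; exact ⟨0, map_zero _⟩
    · exact hj _ (Finset.mem_insert_of_mem (Finset.mem_image_of_mem _
        (Polynomial.mem_support_iff.mpr hn)))
  obtain ⟨p, hpf, -, hp⟩ := Polynomial.lifts_and_natDegree_eq_and_monic hlift hf
  obtain ⟨y, hy⟩ := hj a₀ (Finset.mem_insert_self _ _)
  subst hpf hy
  rw [Polynomial.eval_map, Polynomial.eval₂_hom] at h₁
  rw [Polynomial.derivative_map, Polynomial.eval_map, Polynomial.eval₂_hom] at h₂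
  have h₁' : p.eval y ∈ IsLocalRing.maximalIdeal (F.obj j) := by
    intro hu
    exact h₁ (hu.map _)
  have h₂' : IsUnit (p.derivative.eval y) := hunit _ h₂
  obtain ⟨a, hroot, hmem⟩ := (hF j).is_henselian p hp y h₁' h₂'
  refine ⟨φ j a, ?_, ?_⟩
  · rw [Polynomial.IsRoot, Polynomial.eval_map, Polynomial.eval₂_hom, hroot, map_zero]
  · rw [← map_sub]
    intro hu
    exact hmem (hunit _ hu)

end Groth.Agent.H4
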