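import Mathlib
import Groth.Agent.Lib.helper5.SchemeNoeth

set_option autoImplicit false
universe u
open AlgebraicGeometry CategoryTheory CategoryTheory.Limits Topology TopologicalSpace

namespace Groth.Agent.H4

theorem H4_finite_clopens_of_noetherianSpace (T : Type u) [TopologicalSpace T] [NoetherianSpace T] :
    {C : Set T | IsClopen C}.Finite := by
  have hfin := NoetherianSpace.finite_irreducibleComponents (α := T)
  have : {C : Set T | IsClopen C} ⊆
      (fun S : Set (Set T) => ⋃₀ S) '' (𝒫 (irreducibleComponents T)) := by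
    intro C hC
    refine ⟨{Z | Z ∈ irreducibleComponents T ∧ Z ⊆ C}, fun Z hZ => hZ.1, ?_⟩
    apply Set.Subset.antisymm
    · exact Set.sUnion_subset (fun Z hZ => hZ.2)
    · intro x hx
      obtain ⟨Z, hZ, hxZ⟩ := exists_mem_irreducibleComponents_subset_of_isIrreducible {x}
        isIrreducible_singleton
      refine ⟨Z, ⟨hZ, ?_⟩, hxZ rfl⟩
      exact hZ.1.2.isPreconnected.subset_isClopen hC ⟨x, hxZ rfl, hx⟩
  exact (hfin.finite_subsets.image _).subset this

theorem H4_finite_homs_to_unramified {X S Y : Scheme.{u}} [IsNoetherian S] [IsNoetherian Y]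
    (π : X ⟶ S) [FormallyUnramified π] [LocallyOfFiniteType π] [QuasiCompact π] [IsSeparated π]
    (h : Y ⟶ S) : Set.Finite {f : Y ⟶ X | f ≫ π = h} := by
  let P := pullback π h
  let g : P ⟶ Y := pullback.snd π h
  haveI : FormallyUnramified g :=
    MorphismProperty.IsStableUnderBaseChange.of_isPullback (P := @FormallyUnramified.{u})
      (IsPullback.of_hasPullback π h) inferInstance
  haveI : IsLocallyNoetherian P := H5_isLocallyNoetherian_of_lft g
  haveI : CompactSpace P := QuasiCompact.compactSpace_of_compactSpace g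
  haveI : IsNoetherian P := {}
  haveI : NoetherianSpace P := inferInstance
  let σ : {f : Y ⟶ X | f ≫ π = h} → (Y ⟶ P) :=
    fun f => pullback.lift f.1 (𝟙 Y) (by rw [f.2]; simp)
  have hσg : ∀ f, σ f ≫ g = 𝟙 Y := fun f => pullback.lift_snd _ _ _
  have hσf : ∀ f, σ f ≫ pullback.fst π h = f.1 := fun f => pullback.lift_fst _ _ _
  have hopen : ∀ f, IsOpenImmersion (σ f) := by
    intro f
    haveI : Mono (σ f) := (SplitMono.mk g (hσg f)).mono
    haveI : Etale (σ f ≫ g) := by rw [hσg f]; infer_instance
    haveI : Etale (σ f) := Etale.of_comp (σ f) g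
    exact IsOpenImmersion.of_flat_of_mono (σ f)
  have hclosed : ∀ f, IsClosedImmersion (σ f) := by
    intro f
    haveI : IsClosedImmersion (σ f ≫ g) := by rw [hσg f]; infer_instance
    exact IsClosedImmersion.of_comp (σ f) g
  let R : {f : Y ⟶ X | f ≫ π = h} → Set P := fun f => Set.range (σ f).base
  have hR : ∀ f, R f ∈ {C : Set P | IsClopen C} := fun f =>
    ⟨(σ f).isClosedEmbedding.isClosed_range, (σ f).isOpenEmbedding.isOpen_range⟩
  have hinj : Function.Injective R := by
    intro f f' hff'
    haveI := hopen f; haveI := hopen f'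
    have hle : Set.range (σ f).base ⊆ Set.range (σ f').base := hff'.le
    have h1 : IsOpenImmersion.lift (σ f') (σ f) hle ≫ σ f' = σ f := IsOpenImmersion.lift_fac _ _ _
    have h2 : IsOpenImmersion.lift (σ f') (σ f) hle = 𝟙 Y := by
      have := congrArg (· ≫ g) h1
      simp only [Category.assoc, hσg, Category.comp_id] at this
      exact this
    rw [h2, Category.id_comp] at h1
    apply Subtype.ext
    rw [← hσf f, ← hσf f', h1]
  haveI : Finite {C : Set P | IsClopen C} := (H4_finite_clopens_of_noetherianSpace P).to_subtype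
  apply Set.finite_coe_iff.mp
  exact Finite.of_injective (fun f => (⟨R f, hR f⟩ : {C : Set P | IsClopen C}))
    (fun a b hab => hinj (Subtype.ext_iff.mp hab))

end Groth.Agent.H4
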