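import Mathlib
import Groth.Agent.Lib.helper4.TensorKer

/-! A finite algebra over a local ring whose special fibre is a field is local with that
residue field. -/

set_option autoImplicit false
universe u

open TensorProduct

namespace Groth.Agent.H4

theorem H4_local_of_fibre_field {R E l : Type u} [CommRing R] [IsLocalRing R] [CommRing E]
    [Algebra R E] [Module.Finite R E] [Field l] [Algebra (IsLocalRing.ResidueField R) l]
    (Φ : (IsLocalRing.ResidueField R) ⊗[R] E ≃ₐ[IsLocalRing.ResidueField R] l) :
    ∃ (_ : IsLocalRing E) (_ : IsLocalHom (algebraMap R E)),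
      Nonempty (IsLocalRing.ResidueField E ≃ₐ[IsLocalRing.ResidueField R] l) := by
  classical
  let k := IsLocalRing.ResidueField R
  let π : E →+* l := (Φ : k ⊗[R] E →+* l).comp
    (Algebra.TensorProduct.includeRight : E →ₐ[R] k ⊗[R] E).toRingHom
  have hπ : ∀ e, π e = Φ (1 ⊗ₜ e) := fun e => rfl
  have hsurj : Function.Surjective π := by
    intro y
    obtain ⟨t, rfl⟩ := Φ.surjective y
    suffices h : ∃ e : E, (1 : k) ⊗ₜ[R] e = t by
      obtain ⟨e, rfl⟩ := h
      exact ⟨e, rfl⟩
    induction t using TensorProduct.induction_on with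
    | zero => exact ⟨0, by simp⟩
    | tmul x e =>
      obtain ⟨r, rfl⟩ := IsLocalRing.residue_surjective x
      refine ⟨r • e, ?_⟩
      rw [TensorProduct.tmul_smul, TensorProduct.smul_tmul']
      congr 1
      rw [Algebra.smul_def, mul_one]
      rfl
    | add a b ha hb =>
      obtain ⟨e₁, rfl⟩ := ha
      obtain ⟨e₂, rfl⟩ := hb
      exact ⟨e₁ + e₂, by rw [TensorProduct.tmul_add]⟩
  have hmax : (RingHom.ker π).IsMaximal := RingHom.ker_isMaximal_of_surjective π hsurj
  have hkerR : RingHom.ker (algebraMap R k) = IsLocalRing.maximalIdeal R :=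
    IsLocalRing.ker_residue
  have hker : ∀ e, e ∈ RingHom.ker π ↔
      e ∈ (IsLocalRing.maximalIdeal R) • (⊤ : Submodule R E) := by
    intro e
    constructor
    · intro he
      rw [RingHom.mem_ker, hπ, map_eq_zero_iff _ Φ.injective] at he
      have := H4_mem_smul_top_of_one_tmul_eq_zero (B := R) (C := k) (M := E)
        IsLocalRing.residue_surjective e he
      rwa [hkerR] at this
    · intro he
      refine Submodule.smul_induction_on he ?_ ?_
      · intro r hr n _
        rw [RingHom.mem_ker, hπ, TensorProduct.tmul_smul, TensorProduct.smul_tmul']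
        have : r • (1 : k) = 0 := by
          rw [Algebra.smul_def, mul_one]
          exact (IsLocalRing.residue_eq_zero_iff r).mpr hr
        rw [this, TensorProduct.zero_tmul, map_zero]
      · intro x y hx hy
        exact (RingHom.ker π).add_mem hx hy
  have hmE : ∀ r ∈ IsLocalRing.maximalIdeal R, ∀ e : E, algebraMap R E r * e ∈ RingHom.ker π := by
    intro r hr e
    rw [hker, ← Algebra.smul_def]
    exact Submodule.smul_mem_smul hr Submodule.mem_top
  haveI : Algebra.IsIntegral R E := Algebra.IsIntegral.of_finite R E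
  have huniq : ∀ N : Ideal E, N.IsMaximal → N = RingHom.ker π := by
    intro N hN
    have hNm : (N.comap (algebraMap R E)).IsMaximal := Ideal.isMaximal_comap_of_isIntegral_of_isMaximal N
    have hNm' : N.comap (algebraMap R E) = IsLocalRing.maximalIdeal R :=
      IsLocalRing.eq_maximalIdeal hNm
    have hle : RingHom.ker π ≤ N := by
      intro e he
      rw [hker] at he
      refine Submodule.smul_induction_on he ?_ ?_
      · intro r hr n _
        have : algebraMap R E r ∈ N := by
          have : r ∈ N.comap (algebraMap R E) := by rw [hNm']; exact hr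
          exact this
        rw [Algebra.smul_def]
        exact N.mul_mem_right _ this
      · intro x y hx hy
        exact N.add_mem hx hy
    exact (hmax.eq_of_le hN.ne_top hle).symm
  have hloc : IsLocalRing E := IsLocalRing.of_unique_max_ideal ⟨RingHom.ker π, hmax, huniq⟩
  have hmaxE : IsLocalRing.maximalIdeal E = RingHom.ker π := huniq _ (IsLocalRing.maximalIdeal.isMaximal E)
  have hlochom : IsLocalHom (algebraMap R E) := by
    constructor
    intro r hr
    by_contra hn
    have hrm : r ∈ IsLocalRing.maximalIdeal R := hn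
    have := hmE r hrm 1
    rw [mul_one] at this
    exact hmax.ne_top (Ideal.eq_top_of_isUnit_mem _ this hr)
  refine ⟨hloc, hlochom, ?_⟩
  let ε : IsLocalRing.ResidueField E ≃+* l :=
    (Ideal.quotEquivOfEq hmaxE).trans (RingHom.quotientKerEquivOfSurjective hsurj)
  have hε : ∀ e : E, ε (IsLocalRing.residue E e) = π e := fun e => rfl
  refine ⟨AlgEquiv.ofRingEquiv (f := ε) ?_⟩
  intro x
  obtain ⟨r, rfl⟩ := IsLocalRing.residue_surjective x
  have h1 : algebraMap (IsLocalRing.ResidueField R) (IsLocalRing.ResidueField E)
      (IsLocalRing.residue R r) = IsLocalRing.residue E (algebraMap R E r) := rfl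
  rw [h1, hε, hπ]
  have h2 : (1 : k) ⊗ₜ[R] (algebraMap R E r) = (IsLocalRing.residue R r) ⊗ₜ[R] (1 : E) := by
    rw [Algebra.algebraMap_eq_smul_one, TensorProduct.tmul_smul, TensorProduct.smul_tmul']
    congr 1
    rw [Algebra.smul_def, mul_one]
    rfl
  rw [h2]
  have h3 : (IsLocalRing.residue R r) ⊗ₜ[R] (1 : E) =
      algebraMap k (k ⊗[R] E) (IsLocalRing.residue R r) := rfl
  rw [h3, AlgEquiv.commutes]

end Groth.Agent.H4
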