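import Mathlib

/-! Short exact sequences with flat cokernel stay left exact after tensoring with anything. -/

set_option autoImplicit false
universe u v1 v2 v3 v4

open scoped TensorProduct

namespace Groth.Agent.H4

/-- If `0 → M' → M → M'' → 0` is exact with `M''` flat then `N ⊗ M' → N ⊗ M` is injective for every
module `N` (vanishing of `Tor₁(N, M'')`). -/
theorem H4_lTensor_injective_of_flat_coker {R : Type u} [CommRing R]
    {M' : Type v1} {M : Type v2} {M'' : Type v3}
    [AddCommGroup M'] [Module R M'] [AddCommGroup M] [Module R M] [AddCommGroup M''] [Module R M'']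
    (f : M' →ₗ[R] M) (g : M →ₗ[R] M'') (hf : Function.Injective f) (hg : Function.Surjective g)
    (hfg : Function.Exact f g) [Module.Flat R M'']
    (N : Type v4) [AddCommGroup N] [Module R N] :
    Function.Injective (f.lTensor N) := by
  classical
  let F := N →₀ R
  let π : F →ₗ[R] N := Finsupp.linearCombination R id
  have hπ : Function.Surjective π := fun n =>
    ⟨Finsupp.single n 1, by
      change Finsupp.linearCombination R id (Finsupp.single n 1) = n
      rw [Finsupp.linearCombination_single, one_smul, id]⟩
  let K := LinearMap.ker π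
  let ι : K →ₗ[R] F := K.subtype
  have hι : Function.Injective ι := K.injective_subtype
  have hιπ : Function.Exact (ι : K → F) (π : F → N) := LinearMap.exact_subtype_ker_map π
  have hFinj : Function.Injective (f.lTensor F) :=
    Module.Flat.lTensor_preserves_injective_linearMap f hf
  have hM''inj : Function.Injective (ι.rTensor M'') :=
    Module.Flat.rTensor_preserves_injective_linearMap ι hι
  have hrowM : Function.Exact (ι.rTensor M) (π.rTensor M) := by
    have := @rTensor_exact R K F N _ _ _ _ _ _ _ ι π M _ _ hιπ hπ
    exact this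
  have hcolK : Function.Exact (f.lTensor K) (g.lTensor K) := by
    have := @lTensor_exact R M' M M'' _ _ _ _ _ _ _ f g K _ _ hfg hg
    exact this
  rw [injective_iff_map_eq_zero]
  intro x hx
  obtain ⟨y, rfl⟩ := LinearMap.rTensor_surjective M' hπ x
  have h2 : (π.rTensor M) ((f.lTensor F) y) = 0 := by
    rw [← LinearMap.comp_apply, LinearMap.rTensor_comp_lTensor, ← LinearMap.lTensor_comp_rTensor,
      LinearMap.comp_apply]
    exact hx
  obtain ⟨z, hz⟩ := (hrowM _).1 h2
  have h4 : (ι.rTensor M'') ((g.lTensor K) z) = 0 := by
    rw [← LinearMap.comp_apply, LinearMap.rTensor_comp_lTensor, ← LinearMap.lTensor_comp_rTensor,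
      LinearMap.comp_apply, hz, ← LinearMap.comp_apply, ← LinearMap.lTensor_comp]
    have : g ∘ₗ f = 0 := hfg.linearMap_comp_eq_zero
    rw [this, LinearMap.lTensor_zero, LinearMap.zero_apply]
  have h4' : (g.lTensor K) z = 0 := by
    apply hM''inj
    rw [h4, map_zero]
  obtain ⟨w, hw⟩ := (hcolK _).1 h4'
  have h6 : (ι.rTensor M') w = y := by
    apply hFinj
    rw [← LinearMap.comp_apply, LinearMap.lTensor_comp_rTensor, ← LinearMap.rTensor_comp_lTensor,
      LinearMap.comp_apply, hw, hz]
  rw [← h6, ← LinearMap.comp_apply, ← LinearMap.rTensor_comp]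
  have : π ∘ₗ ι = 0 := hιπ.linearMap_comp_eq_zero
  rw [this, LinearMap.rTensor_zero, LinearMap.zero_apply]

end Groth.Agent.H4
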