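import Mathlib

set_option autoImplicit false
universe u
open AlgebraicGeometry CategoryTheory Topology

namespace Groth.Agent.H4

theorem H4_closure_singleton_mem_irreducibleComponents_iff {T : Type u} [TopologicalSpace T]
    [T0Space T] [QuasiSober T] (x : T) :
    closure ({x} : Set T) ∈ irreducibleComponents T ↔ ∀ x' : T, x' ⤳ x → x' = x := by
  constructor
  · intro h x' hx'
    have h1 : closure ({x} : Set T) ⊆ closure {x'} := hx'.closure_subset
    have h2 : closure ({x'} : Set T) ⊆ closure {x} :=
      h.2 isIrreducible_singleton.closure h1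
    have h3 : x ⤳ x' := specializes_iff_mem_closure.mpr (h2 (subset_closure rfl))
    exact (hx'.antisymm h3).eq
  · intro h
    refine ⟨isIrreducible_singleton.closure, ?_⟩
    intro Z hZ hxZ
    obtain ⟨z, hz⟩ := QuasiSober.sober hZ.closure isClosed_closure
    have hxz : z ⤳ x := by
      rw [specializes_iff_mem_closure, hz.def]
      exact subset_closure (hxZ (subset_closure rfl))
    have : z = x := h z hxz
    subst this
    show Z ⊆ closure {z}
    rw [hz.def]
    exact subset_closure

theorem H4_mem_genericFibre_iff_of_flat_lqf {X Y : Scheme.{u}} [IrreducibleSpace ↥Y] (f : X ⟶ Y)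
    [Flat f] [LocallyQuasiFinite f] (x : X) :
    f.base x = genericPoint Y ↔ closure ({x} : Set ↥X) ∈ irreducibleComponents ↥X := by
  rw [H4_closure_singleton_mem_irreducibleComponents_iff]
  constructor
  · intro hx x' hx'
    have h1 : f.base x' ⤳ f.base x := hx'.map f.continuous
    have h2 : f.base x ⤳ f.base x' := by rw [hx]; exact genericPoint_specializes _
    have h3 : f.base x' = f.base x := (h1.antisymm h2).eq
    have hdisc := f.isDiscrete_preimage_singleton (f.base x)
    rw [isDiscrete_iff_forall_mem_exists_isOpen] at hdisc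
    obtain ⟨u, hu, hux⟩ := hdisc x rfl
    have hxu : x ∈ u := (hux.ge rfl).1
    have hx'u : x' ∈ u := hx'.mem_open hu hxu
    have : x' ∈ u ∩ f.base ⁻¹' {f.base x} := ⟨hx'u, h3⟩
    rw [hux] at this
    exact this
  · intro h
    have hgen := Flat.generalizingMap f
    obtain ⟨x', hx', hfx'⟩ := hgen (genericPoint_specializes (f.base x))
    have := h x' hx'
    subst this
    exact hfx'

theorem H4_preimage_irreducibleComponent_of_flat {X Y : Scheme.{u}} (f : X ⟶ Y) [Flat f]
    (Y' : Set ↥Y) (hY' : Y' ∈ irreducibleComponents ↥Y) :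
    f.base ⁻¹' Y' = ⋃₀ {Z : Set ↥X | Z ∈ irreducibleComponents ↥X ∧ f.base '' Z ⊆ Y'} := by
  apply Set.Subset.antisymm
  · intro x hx
    have hcl : IsClosed Y' := isClosed_of_mem_irreducibleComponents Y' hY'
    obtain ⟨η, hη⟩ := QuasiSober.sober hY'.1 hcl
    have h1 : η ⤳ f.base x := by
      rw [specializes_iff_mem_closure, hη.def]; exact hx
    obtain ⟨x', hx', hfx'⟩ := Flat.generalizingMap f h1
    obtain ⟨Z, hZ, hx'Z⟩ := exists_mem_irreducibleComponents_subset_of_isIrreducible
      (closure {x'}) isIrreducible_singleton.closure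
    have hZcl : IsClosed Z := isClosed_of_mem_irreducibleComponents Z hZ
    obtain ⟨ξ, hξ⟩ := QuasiSober.sober hZ.1 hZcl
    have h2 : ξ ⤳ x' := by
      rw [specializes_iff_mem_closure, hξ.def]; exact hx'Z (subset_closure rfl)
    have h3 : f.base ξ ⤳ η := by
      have := h2.map f.continuous
      rwa [hfx'] at this
    -- closure {f ξ} ⊇ Y' irreducible, so equal
    have h4 : Y' ⊆ closure {f.base ξ} := by
      rw [← hη.def]; exact h3.closure_subset
    have h5 : closure {f.base ξ} ⊆ Y' := hY'.2 isIrreducible_singleton.closure h4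
    refine ⟨Z, ⟨hZ, ?_⟩, ?_⟩
    · rintro _ ⟨z, hz, rfl⟩
      apply h5
      have : ξ ⤳ z := by rw [specializes_iff_mem_closure, hξ.def]; exact hz
      exact specializes_iff_mem_closure.mp (this.map f.continuous)
    · exact hx'Z (specializes_iff_mem_closure.mp hx')
  · rintro x ⟨Z, ⟨-, hZ⟩, hxZ⟩
    exact hZ ⟨x, hxZ, rfl⟩

end Groth.Agent.H4
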