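import Mathlib
import Groth.Agent.Lib.helper4.IndEtaleSys2
import Groth.Agent.Lib.helper4.IndEtaleBC
import Groth.Agent.Lib.helper4.IndEtaleHens
import Groth.Agent.Lib.helper4.WeaklyEtaleSpec
import Groth.Agent.Lib.helper4.SmoothReduced

set_option autoImplicit false
universe u
open TensorProduct IsLocalRing

namespace Groth.Agent.H4

/-- An ind-étale algebra over a reduced ring is reduced. -/
theorem H4_indEtale_isReduced (A B : Type u) [CommRing A] [CommRing B] [Algebra A B] [IsReduced A]
    (h : EtPBC.IsIndEtale A B) : IsReduced B := by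
  obtain ⟨J, _, _, G, _, _, φ, tr, het, htr, hrep, heq, -⟩ := H4_isIndEtale_exists_system' A B h
  constructor
  intro x hx
  obtain ⟨n, hn⟩ := hx
  obtain ⟨j, y, rfl⟩ := hrep x
  have h1 : φ j (y ^ n) = φ j 0 := by rw [map_pow, hn, map_zero]
  obtain ⟨l, a, h2⟩ := heq j _ _ h1
  rw [map_pow, map_zero] at h2
  haveI := het l
  haveI : IsReduced (G l) := H4_isReduced_of_smooth A (G l)
  have h3 : tr a y = 0 := IsReduced.eq_zero _ ⟨n, h2⟩
  rw [← htr j l a y, h3, map_zero]

theorem H4_geomReduced_iff_strictHenselization (k : Type u) [Field k]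
    (A : Type u) [CommRing A] [IsLocalRing A] [Algebra k A]
    (R : Type u) [CommRing R] [IsLocalRing R] [Algebra A R] [IsLocalHom (algebraMap A R)]
    [Hensel.IsStrictHenselization A R] [Algebra k R] [IsScalarTower k A R] :
    (∀ (K : Type u) [Field K] [Algebra k K], IsReduced (TensorProduct k K A)) ↔
      ∀ (K : Type u) [Field K] [Algebra k K], IsReduced (TensorProduct k K R) := by
  have hind := H4_strictHenselization_isIndEtale A R
  haveI := H4_weaklyEtale_of_isIndEtale A R hind
  haveI : Module.Flat A R := Algebra.WeaklyEtale.flat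
  haveI : Module.FaithfullyFlat A R := Module.FaithfullyFlat.of_flat_of_isLocalHom
  constructor
  · intro h K _ _
    haveI := h K
    haveI hA' : IsReduced (A ⊗[k] K) :=
      isReduced_of_injective (Algebra.TensorProduct.comm k A K).toRingHom
        (Algebra.TensorProduct.comm k A K).injective
    have hbc : EtPBC.IsIndEtale (A ⊗[k] K) ((A ⊗[k] K) ⊗[A] R) :=
      H4_isIndEtale_baseChange A R (A ⊗[k] K) hind
    haveI h1 : IsReduced ((A ⊗[k] K) ⊗[A] R) := H4_indEtale_isReduced _ _ hbc
    haveI h2 : IsReduced (R ⊗[A] (A ⊗[k] K)) :=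
      isReduced_of_injective (Algebra.TensorProduct.comm A R (A ⊗[k] K)).toRingHom
        (Algebra.TensorProduct.comm A R (A ⊗[k] K)).injective
    haveI h3 : IsReduced (R ⊗[k] K) :=
      isReduced_of_injective (Algebra.TensorProduct.cancelBaseChange k A A R K).symm.toRingHom
        (Algebra.TensorProduct.cancelBaseChange k A A R K).symm.injective
    exact isReduced_of_injective (Algebra.TensorProduct.comm k K R).toRingHom
      (Algebra.TensorProduct.comm k K R).injective
  · intro h K _ _
    haveI := h K
    let g : K ⊗[k] A →ₐ[k] K ⊗[k] R :=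
      Algebra.TensorProduct.map (AlgHom.id k K) (IsScalarTower.toAlgHom k A R)
    refine isReduced_of_injective g.toRingHom ?_
    have hinj : Function.Injective (IsScalarTower.toAlgHom k A R).toLinearMap :=
      FaithfulSMul.algebraMap_injective A R
    have hg : ∀ x, g x = LinearMap.lTensor K (IsScalarTower.toAlgHom k A R).toLinearMap x := by
      intro x
      induction x using TensorProduct.induction_on with
      | zero => simp
      | tmul a b => simp [g]
      | add a b ha hb => rw [map_add, map_add, ha, hb]
    have hl := Module.Flat.lTensor_preserves_injective_linearMap (M := K)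
      (IsScalarTower.toAlgHom k A R).toLinearMap hinj
    intro x y hxy
    apply hl
    rw [← hg, ← hg]
    exact hxy

end Groth.Agent.H4
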