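import Mathlib

set_option autoImplicit false
universe u

open Topology Set Function

namespace H4

/-- A copy of `X` with the discrete topology. -/
def H4_Xd (X : Type u) : Type u := X

instance (X : Type u) : TopologicalSpace (H4_Xd X) := ⊥

instance (X : Type u) : DiscreteTopology (H4_Xd X) := ⟨rfl⟩

/-- An endomorphism of an irreducible cover compatible with the projection is the identity. -/
theorem H4_irred_endo_eq_id {E X : Type u} [TopologicalSpace E] [TopologicalSpace X] [T2Space E]
    (ρ : E → X) (hρs : Surjective ρ)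
    (hmin : ∀ F : Set E, IsClosed F → F ≠ univ → ρ '' F ≠ univ)
    (h : E → E) (hh : Continuous h) (hρh : ∀ e, ρ (h e) = ρ e) : ∀ e, h e = e := by
  intro x
  by_contra hx
  obtain ⟨G₁, G₂, hG₁, hG₂, hx₁, hx₂, hdisj⟩ := t2_separation hx
  -- G = G₂ ∩ h⁻¹ G₁ is an open nhd of x with h G ⊆ G₁ disjoint from G
  let G : Set E := G₂ ∩ h ⁻¹' G₁
  have hGo : IsOpen G := hG₂.inter (hG₁.preimage hh)
  have hxG : x ∈ G := ⟨hx₂, hx₁⟩
  have hGh : ∀ e ∈ G, h e ∉ G := by
    intro e he he'
    exact (Set.disjoint_left.1 hdisj) he.2 he'.1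
  have hF : ρ '' Gᶜ = univ := by
    rw [Set.eq_univ_iff_forall]
    intro y
    obtain ⟨e, rfl⟩ := hρs y
    by_cases he : e ∈ G
    · exact ⟨h e, hGh e he, hρh e⟩
    · exact ⟨e, he, rfl⟩
  refine hmin Gᶜ hGo.isClosed_compl ?_ hF
  intro hGc
  have : x ∈ Gᶜ := by rw [hGc]; trivial
  exact this hxG

theorem H4_gleason_exists (X : Type u) [TopologicalSpace X] [CompactSpace X] [T2Space X] :
    ∃ (X' : Type u) (_ : TopologicalSpace X') (_ : CompactSpace X') (_ : T2Space X')
        (_ : ExtremallyDisconnected X') (p : X' → X), Continuous p ∧ Function.Surjective p ∧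
        ∀ E : Set X', IsClosed E → E ≠ Set.univ → p '' E ≠ Set.univ := by
  let D := StoneCech (H4_Xd X)
  let f : H4_Xd X → X := fun x => x
  have hf : Continuous f := continuous_of_discreteTopology
  let π : D → X := stoneCechExtend hf
  have hπ : Continuous π := continuous_stoneCechExtend hf
  have hπs : Function.Surjective π := fun x =>
    ⟨stoneCechUnit (x : H4_Xd X), stoneCechExtend_stoneCechUnit hf x⟩
  obtain ⟨E, hEc, hEonto, hEmin⟩ := exists_compact_surjective_zorn_subset hπ hπs
  let ρ : E → X := E.domRestrict π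
  have hρ : Continuous ρ := hπ.continuousOn.domRestrict
  have hρs : Function.Surjective ρ := fun a => by
    rcases (hEonto ▸ mem_univ a : a ∈ π '' E) with ⟨d, ⟨hd, rfl⟩⟩; exact ⟨⟨d, hd⟩, rfl⟩
  have hmin : ∀ F : Set E, IsClosed F → F ≠ univ → ρ '' F ≠ univ := fun F hF hF' => hEmin F hF' hF
  -- retraction of D onto E
  have hDproj : CompactT2.Projective D := StoneCech.projective
  obtain ⟨r, hr, hρr⟩ := hDproj (f := π) (g := ρ) hπ hρ hρs
  have hrid : ∀ e : E, r (e : D) = e := by
    apply H4_irred_endo_eq_id ρ hρs hmin (fun e => r (e : D)) (hr.comp continuous_subtype_val)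
    intro e
    exact congrFun hρr (e : D)
  have hEproj : CompactT2.Projective E := by
    intro Y Z _ _ _ _ _ _ φ g hφ hg hgs
    obtain ⟨k, hk, hgk⟩ := hDproj (f := φ ∘ r) (g := g) (hφ.comp hr) hg hgs
    refine ⟨k ∘ Subtype.val, hk.comp continuous_subtype_val, ?_⟩
    funext e
    have := congrFun hgk (e : D)
    simp only [Function.comp_apply] at this ⊢
    rw [this, hrid e]
  exact ⟨E, inferInstance, hEc, inferInstance, hEproj.extremallyDisconnected, ρ, hρ, hρs, hmin⟩

theorem H4_gleason_unique (X : Type u) [TopologicalSpace X] [CompactSpace X] [T2Space X]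
    (X' X'' : Type u) [TopologicalSpace X'] [CompactSpace X'] [T2Space X']
    [ExtremallyDisconnected X']
    [TopologicalSpace X''] [CompactSpace X''] [T2Space X''] [ExtremallyDisconnected X'']
    (p : X' → X) (q : X'' → X)
    (hp : Continuous p) (_hps : Function.Surjective p)
    (hpmin : ∀ E : Set X', IsClosed E → E ≠ Set.univ → p '' E ≠ Set.univ)
    (hq : Continuous q) (hqs : Function.Surjective q)
    (hqmin : ∀ E : Set X'', IsClosed E → E ≠ Set.univ → q '' E ≠ Set.univ) :
    ∃ h : X' ≃ₜ X'', q ∘ h = p := by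
  have hproj : CompactT2.Projective X' := CompactT2.ExtremallyDisconnected.projective
  obtain ⟨h, hh, hqh⟩ := hproj (f := p) (g := q) hp hq hqs
  have hps : p '' univ = univ := Set.image_univ_of_surjective _hps
  have hsurj : Function.Surjective h := by
    rw [← Set.range_eq_univ]
    by_contra hne
    have hcl : IsClosed (Set.range h) := (isCompact_range hh).isClosed
    apply hqmin _ hcl hne
    rw [← Set.range_comp, hqh, Set.range_eq_univ]
    exact _hps
  have hzorn : ∀ E₀ : Set X', E₀ ≠ univ → IsClosed E₀ → h '' E₀ ≠ univ := by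
    intro E₀ hE₀ hE₀cl hE
    apply hpmin E₀ hE₀cl hE₀
    rw [← hqh, Set.image_comp, hE, Set.image_univ_of_surjective hqs]
  refine ⟨ExtremallyDisconnected.homeoCompactToT2 hh hsurj hzorn, ?_⟩
  rw [← hqh]
  rfl

end H4
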