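import Mathlib
import Groth.Agent.Lib.helper3.AsD
import Groth.Agent.Lib.helper4.IndEtaleSys2
import Groth.Agent.Lib.helper4.IndEtaleHens
import Groth.Agent.Lib.helper4.WeaklyEtaleSpec
import Groth.Agent.Lib.helper4.HensNoeth

set_option autoImplicit false
universe u
open IsLocalRing TensorProduct

namespace Groth.Agent.H4

/-- Incomparability of primes in the fibres of an ind-étale algebra. -/
theorem H4_indEtale_eq_of_le_of_comap_eq (R U : Type u) [CommRing R] [CommRing U] [Algebra R U]
    (hind : EtPBC.IsIndEtale R U) (Q P : Ideal U) [Q.IsPrime] [P.IsPrime] (hle : Q ≤ P)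
    (hcomap : Q.comap (algebraMap R U) = P.comap (algebraMap R U)) : Q = P := by
  obtain ⟨J, _, _, G, hG, hGalg, φ, tr, het, hcomp, hsurj, hinj, huniv⟩ :=
    H4_isIndEtale_exists_system' R U hind
  refine le_antisymm hle fun x hx => ?_
  obtain ⟨j, b, rfl⟩ := hsurj x
  haveI := het j
  haveI : Algebra.QuasiFinite R (G j) := inferInstance
  haveI : (Q.comap (φ j).toRingHom).IsPrime := Ideal.comap_isPrime _ _
  haveI : (P.comap (φ j).toRingHom).IsPrime := Ideal.comap_isPrime _ _
  have h1 : Q.comap (φ j).toRingHom = P.comap (φ j).toRingHom := by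
    refine Algebra.QuasiFinite.eq_of_le_of_under_eq (R := R) _ _ (Ideal.comap_mono hle) ?_
    show (Q.comap (φ j).toRingHom).comap (algebraMap R (G j)) =
      (P.comap (φ j).toRingHom).comap (algebraMap R (G j))
    rw [Ideal.comap_comap, Ideal.comap_comap]
    have : (φ j).toRingHom.comp (algebraMap R (G j)) = algebraMap R U := (φ j).comp_algebraMap
    rw [this, hcomap]
  have h2 : b ∈ P.comap (φ j).toRingHom := hx
  rw [← h1] at h2
  exact h2

/-- Associated primes along a flat map of Noetherian rings with incomparable fibres. -/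
theorem H4_mem_associatedPrimes_iff_of_flat_incomparable (R S : Type u) [CommRing R]
    [IsNoetherianRing R] [CommRing S] [IsNoetherianRing S] [Algebra R S] [Module.Flat R S]
    (hinc : ∀ (Q P : Ideal S) [Q.IsPrime] [P.IsPrime], Q ≤ P →
      Q.comap (algebraMap R S) = P.comap (algebraMap R S) → Q = P)
    (P : Ideal S) [P.IsPrime] :
    P ∈ associatedPrimes S S ↔ P.comap (algebraMap R S) ∈ associatedPrimes R R := by
  have hmain := Groth.Agent.H3LocCrit.main2069 (R := R) (S := S) (M := R) (N := S)
  have heq : associatedPrimes S (S ⊗[R] R) = associatedPrimes S S :=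
    LinearEquiv.AssociatedPrimes.eq (TensorProduct.AlgebraTensorModule.rid R S S)
  rw [← heq, hmain]
  simp only [Set.mem_iUnion]
  constructor
  · rintro ⟨p, hp, hP⟩
    haveI : p.IsPrime := IsAssociatedPrime.isPrime hp
    rw [← LinearEquiv.AssociatedPrimes.eq
      (Groth.Agent.H3LocCrit.tensorQuotEquivQuotMapS (S := S) (N := S) p)] at hP
    have := Groth.Agent.H3LocCrit.comap_eq_of_mem_ass_tensor_quot p P hP
    rwa [this]
  · intro hp
    refine ⟨P.comap (algebraMap R S), hp, ?_⟩
    set p := P.comap (algebraMap R S) with hp_def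
    have hI : (p.map (algebraMap R S) • ⊤ : Submodule S S) = p.map (algebraMap R S) := by
      simp
    rw [hI]
    apply Module.associatedPrimes.minimalPrimes_annihilator_subset_associatedPrimes S
      (S ⧸ p.map (algebraMap R S))
    rw [Ideal.annihilator_quotient]
    refine ⟨⟨inferInstance, Ideal.map_comap_le⟩, ?_⟩
    rintro Q ⟨hQprime, hQle⟩ hQP
    haveI := hQprime
    have hQc : Q.comap (algebraMap R S) = P.comap (algebraMap R S) := by
      apply le_antisymm (Ideal.comap_mono hQP)
      rw [← hp_def, ← Ideal.map_le_iff_le_comap]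
      exact hQle
    exact (hinc Q P hQP hQc).ge

theorem H4_mem_associatedPrimes_henselization_iff (R S : Type u)
    [CommRing R] [IsLocalRing R] [IsNoetherianRing R] [CommRing S] [IsLocalRing S] [Algebra R S]
    [IsLocalHom (algebraMap R S)] [Hensel.IsHenselization R S] (P : Ideal S) [P.IsPrime] :
    P ∈ associatedPrimes S S ↔ P.comap (algebraMap R S) ∈ associatedPrimes R R := by
  have hind := H4_henselization_isIndEtale R S
  haveI := H4_weaklyEtale_of_isIndEtale R S hind
  haveI : Module.Flat R S := Algebra.WeaklyEtale.flat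
  haveI : IsNoetherianRing S := (H4_henselization_isNoetherianRing_iff R S).mp inferInstance
  exact H4_mem_associatedPrimes_iff_of_flat_incomparable R S
    (fun Q P _ _ hle hc => H4_indEtale_eq_of_le_of_comap_eq R S hind Q P hle hc) P

end Groth.Agent.H4
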