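import Mathlib
import Groth.Agent.Lib.helper4.HensNoeth

set_option autoImplicit false
universe u
open TensorProduct

namespace Groth.Agent.H4

/-- Any map from the henselization to the completion over `R` is flat and local. -/
theorem H4_henselization_to_completion_flat_local (R : Type u) [CommRing R] [IsLocalRing R]
    [IsNoetherianRing R]
    (S : Type u) [CommRing S] [IsLocalRing S] [Algebra R S] [IsLocalHom (algebraMap R S)]
    [hS : Hensel.IsHenselization R S]
    (ψ : S →+* AdicCompletion (IsLocalRing.maximalIdeal R) R)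
    (hψ : ψ.comp (algebraMap R S) = algebraMap R (AdicCompletion (IsLocalRing.maximalIdeal R) R)) :
    ψ.Flat ∧ IsLocalHom ψ := by
  let Rh := AdicCompletion (IsLocalRing.maximalIdeal R) R
  let gA : S →ₐ[R] Rh := { ψ with commutes' := fun r => RingHom.congr_fun hψ r }
  have hflat : gA.toRingHom.Flat :=
    H4_flat_of_indEtale_of_flat (H4_henselization_isIndEtale R S) gA
  refine ⟨hflat, ?_⟩
  constructor
  intro x hx
  by_contra hx'
  have h1 : x ∈ IsLocalRing.maximalIdeal S := hx'
  rw [← (H4_henselization_map_maximalIdeal (R := R) (S := S)).1] at h1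
  have h2 : ψ x ∈ ((IsLocalRing.maximalIdeal R).map (algebraMap R S)).map ψ :=
    Ideal.mem_map_of_mem _ h1
  rw [Ideal.map_map, hψ] at h2
  have h4 := IsLocalRing.map_maximalIdeal_le (algebraMap R Rh) h2
  exact h4 hx

theorem H4_minimalPrimes_mapsTo_of_flat {S T : Type*} [CommRing S] [CommRing T]
    [Algebra S T] [Module.Flat S T] :
    Set.MapsTo (Ideal.comap (algebraMap S T)) (minimalPrimes T) (minimalPrimes S) := by
  intro Q hQ
  haveI hQp : Q.IsPrime := hQ.1.1
  refine ⟨⟨inferInstance, bot_le⟩, ?_⟩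
  rintro p ⟨hp, -⟩ hle
  haveI := hp
  haveI : Q.LiesOver (Q.comap (algebraMap S T)) := ⟨rfl⟩
  obtain ⟨P, hPQ, hPp, hPo⟩ := Ideal.exists_ideal_le_liesOver_of_le (p := p)
    (q := Q.comap (algebraMap S T)) Q hle
  have h1 : Q ≤ P := hQ.2 ⟨hPp, bot_le⟩ hPQ
  have h2 : P = Q := le_antisymm hPQ h1
  subst h2
  rw [hPo.over]

theorem H4_minimalPrimes_surjOn_of_faithfullyFlat {S T : Type*} [CommRing S] [CommRing T]
    [Algebra S T] [Module.FaithfullyFlat S T] :
    Set.SurjOn (Ideal.comap (algebraMap S T)) (minimalPrimes T) (minimalPrimes S) := by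
  intro q hq
  haveI hqp : q.IsPrime := hq.1.1
  obtain ⟨Q', hQ'p, hQ'o⟩ := Ideal.exists_isPrime_liesOver_of_faithfullyFlat (B := T) q
  obtain ⟨Q, hQ, hQle⟩ := Ideal.exists_minimalPrimes_le (I := ⊥) (J := Q') bot_le
  refine ⟨Q, hQ, ?_⟩
  haveI : Q.IsPrime := hQ.1.1
  have h1 : Q.comap (algebraMap S T) ≤ q := by
    rw [hQ'o.over]
    exact Ideal.comap_mono hQle
  exact le_antisymm h1 (hq.2 ⟨inferInstance, bot_le⟩ h1)

theorem H4_minimalPrimes_completion_henselization (A S : Type u) [CommRing A] [IsLocalRing A]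
    [IsNoetherianRing A] [CommRing S] [IsLocalRing S] [Algebra A S]
    [IsLocalHom (algebraMap A S)] [Hensel.IsHenselization A S]
    (ψ : S →+* AdicCompletion (IsLocalRing.maximalIdeal A) A)
    (hψ : ψ.comp (algebraMap A S) =
      algebraMap A (AdicCompletion (IsLocalRing.maximalIdeal A) A)) :
    Set.MapsTo (Ideal.comap ψ) (minimalPrimes (AdicCompletion (IsLocalRing.maximalIdeal A) A))
      (minimalPrimes S) ∧
    Set.SurjOn (Ideal.comap ψ) (minimalPrimes (AdicCompletion (IsLocalRing.maximalIdeal A) A))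
      (minimalPrimes S) := by
  obtain ⟨hflat, hloc⟩ := H4_henselization_to_completion_flat_local A S ψ hψ
  algebraize [ψ]
  haveI : IsLocalHom (algebraMap S (AdicCompletion (IsLocalRing.maximalIdeal A) A)) := hloc
  haveI : Module.Flat S (AdicCompletion (IsLocalRing.maximalIdeal A) A) := hflat
  haveI : Module.FaithfullyFlat S (AdicCompletion (IsLocalRing.maximalIdeal A) A) :=
    Module.FaithfullyFlat.of_flat_of_isLocalHom
  exact ⟨H4_minimalPrimes_mapsTo_of_flat, H4_minimalPrimes_surjOn_of_faithfullyFlat⟩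

end Groth.Agent.H4
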