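import Mathlib
import Groth.Agent.Lib.helper4.IndEtaleSys2
import Groth.Agent.Lib.helper4.HensColimPairs
import Groth.Agent.Lib.helper4.WeaklyEtaleSpec
import Groth.Agent.Lib.helper4.IndEtaleHens
import Groth.Agent.Lib.helper4.HenselizationBasic
import Groth.Agent.Lib.helper4.StrictHenselizationProps
import Groth.Agent.Lib.helper4.RegFlat

set_option autoImplicit false
universe u
open IsLocalRing

namespace Groth.Agent.H4

/-- An ind-étale local algebra `U` over a Noetherian local ring `R` with `𝔪_R U = 𝔪_U` is
`𝔪_U`-adically separated. -/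
theorem H4_indEtale_local_separated (R U : Type u) [CommRing R] [IsLocalRing R]
    [IsNoetherianRing R] [CommRing U] [IsLocalRing U] [Algebra R U]
    (hind : EtPBC.IsIndEtale R U)
    (h : (maximalIdeal R).map (algebraMap R U) = maximalIdeal U)
    (x : U) (hx : ∀ n : ℕ, x ∈ (maximalIdeal U) ^ n) : x = 0 := by
  haveI := H4_weaklyEtale_of_isIndEtale R U hind
  haveI : Module.Flat R U := Algebra.WeaklyEtale.flat
  obtain ⟨J, _, _, G, hG, hGalg, φ, tr, het, hcomp, hsurj, hinj, huniv⟩ :=
    H4_isIndEtale_exists_system' R U hind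
  obtain ⟨j, a, rfl⟩ := hsurj x
  haveI := het j
  haveI : Algebra.FiniteType R (G j) := inferInstance
  haveI : IsNoetherianRing (G j) := Algebra.FiniteType.isNoetherianRing R (G j)
  have hflat : (φ j).toRingHom.Flat := H4_flat_of_etale_of_flat (φ j)
  letI algBU : Algebra (G j) U := (φ j).toRingHom.toAlgebra
  haveI : IsScalarTower R (G j) U := IsScalarTower.of_algebraMap_eq (fun r => ((φ j).commutes r).symm)
  haveI : Module.Flat (G j) U := hflat
  set q : Ideal (G j) := (maximalIdeal U).comap (algebraMap (G j) U) with hq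
  haveI : q.IsPrime := Ideal.comap_isPrime _ _
  have hunits : ∀ y : q.primeCompl, IsUnit (algebraMap (G j) U y) := by
    rintro ⟨y, hy⟩
    by_contra hnu
    exact hy ((IsLocalRing.mem_maximalIdeal _).mpr hnu)
  let g : Localization.AtPrime q →+* U := IsLocalization.lift (M := q.primeCompl) hunits
  letI algQU : Algebra (Localization.AtPrime q) U := g.toAlgebra
  haveI : IsScalarTower (G j) (Localization.AtPrime q) U :=
    IsScalarTower.of_algebraMap_eq (fun b => (IsLocalization.lift_eq hunits b).symm)
  haveI : Module.Flat (Localization.AtPrime q) U :=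
    (Module.flat_iff_of_isLocalization (Localization.AtPrime q) q.primeCompl U).mpr inferInstance
  haveI : IsLocalHom (algebraMap (Localization.AtPrime q) U) := by
    constructor
    intro y hy
    obtain ⟨b, s, rfl⟩ := IsLocalization.exists_mk'_eq q.primeCompl y
    have h1 : algebraMap (Localization.AtPrime q) U (IsLocalization.mk' _ b s) *
        algebraMap (G j) U s = algebraMap (G j) U b := by
      rw [IsScalarTower.algebraMap_apply (G j) (Localization.AtPrime q) U s, ← map_mul,
        IsLocalization.mk'_spec, ← IsScalarTower.algebraMap_apply]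
    have h2 : IsUnit (algebraMap (G j) U b) := h1 ▸ hy.mul (hunits s)
    have h3 : b ∉ q := fun hb => (IsLocalRing.mem_maximalIdeal _).mp hb h2
    exact IsLocalization.AtPrime.isUnit_mk'_iff (Localization.AtPrime q) q b s |>.mpr h3
  haveI : Module.FaithfullyFlat (Localization.AtPrime q) U :=
    Module.FaithfullyFlat.of_flat_of_isLocalHom
  haveI : IsScalarTower R (Localization.AtPrime q) U :=
    IsScalarTower.of_algebraMap_eq (fun r => by
      rw [IsScalarTower.algebraMap_apply R (G j) (Localization.AtPrime q),
        ← IsScalarTower.algebraMap_apply (G j) (Localization.AtPrime q) U,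
        ← IsScalarTower.algebraMap_apply R (G j) U])
  set I' : Ideal (Localization.AtPrime q) :=
    (maximalIdeal R).map (algebraMap R (Localization.AtPrime q)) with hI'
  have hI'map : I'.map (algebraMap (Localization.AtPrime q) U) = maximalIdeal U := by
    rw [hI', Ideal.map_map, ← IsScalarTower.algebraMap_eq, h]
  have hI'top : I' ≠ ⊤ := by
    intro htop
    rw [htop, Ideal.map_top] at hI'map
    exact (IsLocalRing.maximalIdeal.isMaximal U).ne_top hI'map.symm
  set a' := algebraMap (G j) (Localization.AtPrime q) a with ha'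
  have hxa : (φ j) a = algebraMap (Localization.AtPrime q) U a' := by
    rw [ha', ← IsScalarTower.algebraMap_apply]; rfl
  have hmem : ∀ n, a' ∈ I' ^ n := by
    intro n
    have h1 := hx n
    rw [hxa, ← hI'map, ← Ideal.map_pow] at h1
    have h2 : a' ∈ ((I' ^ n).map (algebraMap (Localization.AtPrime q) U)).comap
        (algebraMap (Localization.AtPrime q) U) := h1
    rwa [Ideal.comap_map_eq_self_of_faithfullyFlat] at h2
  have hbot : a' ∈ (⨅ n, I' ^ n : Ideal (Localization.AtPrime q)) := by
    rw [Ideal.mem_iInf]; exact hmem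
  rw [Ideal.iInf_pow_eq_bot_of_isLocalRing I' hI'top] at hbot
  rw [hxa, (Ideal.mem_bot).mp hbot, map_zero]


/-- A flat local algebra `U` over a DVR `R` with `𝔪_R U = 𝔪_U` which is separated is a DVR. -/
theorem H4_dvr_of_flat_local_separated (R U : Type u) [CommRing R] [IsDomain R]
    [IsDiscreteValuationRing R] [CommRing U] [IsLocalRing U] [Algebra R U] [Module.Flat R U]
    (h : (maximalIdeal R).map (algebraMap R U) = maximalIdeal U)
    (hsep : ∀ x : U, (∀ n : ℕ, x ∈ (maximalIdeal U) ^ n) → x = 0) :
    ∃ _ : IsDomain U, IsDiscreteValuationRing U := by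
  obtain ⟨π, hπ⟩ := IsDiscreteValuationRing.exists_irreducible R
  have hmR : maximalIdeal R = Ideal.span {π} := hπ.maximalIdeal_eq
  set ϖ := algebraMap R U π with hϖ
  have hmU : maximalIdeal U = Ideal.span {ϖ} := by
    rw [← h, hmR, Ideal.map_span, Set.image_singleton]
  have hreg : ∀ u : U, ϖ * u = 0 → u = 0 := by
    have h1 : IsSMulRegular R π := by
      intro a b hab
      exact mul_left_cancel₀ hπ.ne_zero hab
    have h2 : IsSMulRegular U ϖ := h1.of_flat
    intro u hu
    apply h2
    show ϖ * u = ϖ * 0
    rw [mul_zero]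
    exact hu
  have hregpow : ∀ (n : ℕ) (u : U), ϖ ^ n * u = 0 → u = 0 := by
    intro n
    induction n with
    | zero => intro u hu; simpa using hu
    | succ n ih =>
      intro u hu
      rw [pow_succ, mul_assoc] at hu
      exact hreg u (ih _ hu)
  have hfact : ∀ x : U, x ≠ 0 → ∃ (n : ℕ) (u : Uˣ), x = ϖ ^ n * u := by
    intro x hx0
    have hex : ∃ n, x ∉ (maximalIdeal U) ^ n := by
      by_contra hall
      push Not at hall
      exact hx0 (hsep x hall)
    classical
    have hn := Nat.find_spec hex
    have hmin := fun m => Nat.find_min hex (m := m)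
    set n := Nat.find hex with hn_def
    have hn0 : n ≠ 0 := by
      intro h0
      rw [h0, pow_zero, Ideal.one_eq_top] at hn
      exact hn Submodule.mem_top
    obtain ⟨k, hk⟩ := Nat.exists_eq_succ_of_ne_zero hn0
    have hxk : x ∈ (maximalIdeal U) ^ k := by
      by_contra hc
      exact hmin k (by omega) hc
    rw [hmU, Ideal.span_singleton_pow, Ideal.mem_span_singleton'] at hxk
    obtain ⟨y, hy⟩ := hxk
    have hyu : IsUnit y := by
      by_contra hnu
      have hym : y ∈ maximalIdeal U := (IsLocalRing.mem_maximalIdeal _).mpr hnu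
      apply hn
      have hmem : x ∈ maximalIdeal U ^ k * maximalIdeal U := by
        rw [← hy, mul_comm y]
        refine Ideal.mul_mem_mul ?_ hym
        rw [hmU, Ideal.span_singleton_pow]; exact Ideal.mem_span_singleton_self _
      rw [hk, pow_succ]
      exact hmem
    exact ⟨k, hyu.unit, by rw [← hy, mul_comm]; rfl⟩
  haveI hdom : IsDomain U := by
    haveI : NoZeroDivisors U := by
      constructor
      intro x y hxy
      by_contra hne
      push Not at hne
      obtain ⟨a, u, rfl⟩ := hfact x hne.1
      obtain ⟨b, v, rfl⟩ := hfact y hne.2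
      have h1 : ϖ ^ (a + b) * ((u : U) * (v : U)) = 0 := by
        rw [← hxy, pow_add]; ring
      have h2 := hregpow _ _ h1
      exact (u * v).ne_zero (by simpa using h2)
    exact NoZeroDivisors.to_isDomain U
  refine ⟨hdom, ?_⟩
  have hϖ0 : ϖ ≠ 0 := by
    intro h0
    have := hreg 1 (by rw [h0, zero_mul])
    exact one_ne_zero this
  have hprime : Prime ϖ := by
    rw [← Ideal.span_singleton_prime hϖ0, ← hmU]
    infer_instance
  refine IsDiscreteValuationRing.ofHasUnitMulPowIrreducibleFactorization ⟨ϖ, hprime.irreducible, ?_⟩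
  intro x hx0
  obtain ⟨n, u, hu⟩ := hfact x hx0
  exact ⟨n, u, hu.symm⟩


/-- Descent of the DVR property along a flat local homomorphism with `𝔪_R U = 𝔪_U`. -/
theorem H4_dvr_descends (R U : Type u) [CommRing R] [IsLocalRing R] [IsNoetherianRing R]
    [CommRing U] [IsLocalRing U] [Algebra R U] [IsLocalHom (algebraMap R U)] [Module.Flat R U]
    (h : (maximalIdeal R).map (algebraMap R U) = maximalIdeal U)
    [IsDomain U] [IsDiscreteValuationRing U] : ∃ _ : IsDomain R, IsDiscreteValuationRing R := by
  haveI : Module.FaithfullyFlat R U := Module.FaithfullyFlat.of_flat_of_isLocalHom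
  have hinj : Function.Injective (algebraMap R U) := FaithfulSMul.algebraMap_injective R U
  haveI : IsDomain R := hinj.isDomain _
  refine ⟨inferInstance, ?_⟩
  haveI : IsNoetherianRing U := inferInstance
  have hle := H4_spanFinrank_maximalIdeal_le_of_faithfullyFlat R U h
  have h1 : (maximalIdeal U).spanFinrank ≤ 1 := by
    obtain ⟨ϖ, hϖ⟩ := IsDiscreteValuationRing.exists_irreducible U
    rw [hϖ.maximalIdeal_eq]
    exact (Submodule.spanFinrank_singleton hϖ.ne_zero).le
  have h2 : (maximalIdeal R).spanFinrank ≤ 1 := hle.trans h1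
  have hfg : (maximalIdeal R).FG := IsNoetherian.noetherian _
  have hprinc : (maximalIdeal R).IsPrincipal := by
    rcases Nat.le_one_iff_eq_zero_or_eq_one.mp h2 with h0 | h1'
    · rw [(Submodule.spanFinrank_eq_zero_iff_eq_bot hfg).mp h0]
      infer_instance
    · exact ((Submodule.spanFinrank_eq_one_iff _).mp h1').1
  have hnf : ¬ IsField R := by
    intro hf
    have hbot : maximalIdeal R = ⊥ := IsLocalRing.isField_iff_maximalIdeal_eq.mp hf
    rw [hbot, Ideal.map_bot] at h
    exact IsDiscreteValuationRing.not_a_field U h.symm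
  exact ((IsDiscreteValuationRing.TFAE R hnf).out 0 4).mpr hprinc


theorem H4_dvr_iff_of_indEtale_local (R U : Type u) [CommRing R] [IsLocalRing R]
    [IsNoetherianRing R] [CommRing U] [IsLocalRing U] [Algebra R U]
    [IsLocalHom (algebraMap R U)] (hind : EtPBC.IsIndEtale R U)
    (h : (maximalIdeal R).map (algebraMap R U) = maximalIdeal U) :
    (∃ _ : IsDomain R, IsDiscreteValuationRing R) ↔ (∃ _ : IsDomain U, IsDiscreteValuationRing U) := by
  haveI := H4_weaklyEtale_of_isIndEtale R U hind
  haveI : Module.Flat R U := Algebra.WeaklyEtale.flat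
  constructor
  · rintro ⟨hd, hdvr⟩
    exact H4_dvr_of_flat_local_separated R U h (H4_indEtale_local_separated R U hind h)
  · rintro ⟨hd, hdvr⟩
    exact H4_dvr_descends R U h

theorem H4_dvr_iff_henselization_iff_strict (R S T : Type u)
    [CommRing R] [IsLocalRing R] [IsNoetherianRing R] [CommRing S] [IsLocalRing S] [Algebra R S]
    [IsLocalHom (algebraMap R S)] [Hensel.IsHenselization R S] [CommRing T] [IsLocalRing T]
    [Algebra R T] [IsLocalHom (algebraMap R T)] [Hensel.IsStrictHenselization R T] :
    ((∃ _ : IsDomain R, IsDiscreteValuationRing R) ↔ (∃ _ : IsDomain S, IsDiscreteValuationRing S)) ∧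
      ((∃ _ : IsDomain R, IsDiscreteValuationRing R) ↔
        (∃ _ : IsDomain T, IsDiscreteValuationRing T)) :=
  ⟨H4_dvr_iff_of_indEtale_local R S (H4_henselization_isIndEtale R S)
      (H4_henselization_map_maximalIdeal (R := R) (S := S)).1,
    H4_dvr_iff_of_indEtale_local R T (H4_strictHenselization_isIndEtale R T)
      (H4_strictHenselization_map_maximalIdeal (R := R) T)⟩

end Groth.Agent.H4
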