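import Mathlib
import Groth.Agent.Lib.helper4.HenselizationProps
import Groth.Agent.Lib.helper4.StrictHenselizationProps

/-! Krull dimension of the (strict) henselization. -/

set_option autoImplicit false
universe u

namespace Groth.Agent.H4

theorem H4_ringKrullDim_le_of_faithfullyFlat (R S : Type u) [CommRing R] [CommRing S]
    [Algebra R S] [Module.FaithfullyFlat R S] : ringKrullDim R ≤ ringKrullDim S := by
  unfold ringKrullDim Order.krullDim
  apply iSup_le
  intro l
  obtain ⟨P, hP⟩ := PrimeSpectrum.comap_surjective_of_faithfullyFlat (B := S) l.last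
  haveI : P.asIdeal.LiesOver l.last.asIdeal := ⟨by rw [← hP]; rfl⟩
  obtain ⟨L, hlen, -, -⟩ := Ideal.exists_ltSeries_of_hasGoingDown l P.asIdeal
  rw [← hlen]
  exact le_iSup (fun p : LTSeries (PrimeSpectrum S) => (p.length : WithBot ℕ∞)) L

/-- If no two comparable distinct primes of `S` contract to the same prime of `R`, then
`dim S ≤ dim R`. -/
theorem H4_ringKrullDim_le_of_inc (R S : Type u) [CommRing R] [CommRing S] [Algebra R S]
    (hinc : ∀ (P P' : Ideal S) [P.IsPrime] [P'.IsPrime], P ≤ P' → P.under R = P'.under R → P = P') :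
    ringKrullDim S ≤ ringKrullDim R := by
  apply Order.krullDim_le_of_strictMono (PrimeSpectrum.comap (algebraMap R S))
  intro P P' hlt
  have hle : PrimeSpectrum.comap (algebraMap R S) P ≤ PrimeSpectrum.comap (algebraMap R S) P' := by
    intro r hr
    exact hlt.le hr
  refine lt_of_le_of_ne hle ?_
  intro heq
  have h1 : P.asIdeal = P'.asIdeal := hinc P.asIdeal P'.asIdeal hlt.le
    (congrArg PrimeSpectrum.asIdeal heq)
  exact hlt.ne (PrimeSpectrum.ext h1)

theorem H4_Hens_inc (R : Type u) [CommRing R] [IsLocalRing R]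
    (P P' : Ideal (H4_Hens R)) [P.IsPrime] [P'.IsPrime] (hle : P ≤ P')
    (hu : P.under R = P'.under R) : P = P' := by
  apply le_antisymm hle
  intro x hx
  obtain ⟨i, y, rfl⟩ := Ring.DirectLimit.exists_of x
  change H4_of R i y ∈ P' at hx
  change H4_of R i y ∈ P
  haveI : (P.comap (H4_of R i)).IsPrime := Ideal.comap_isPrime _ _
  haveI : (P'.comap (H4_of R i)).IsPrime := Ideal.comap_isPrime _ _
  haveI : Algebra.QuasiFinite R i.G :=
    inferInstanceAs (Algebra.QuasiFinite R (Localization.AtPrime i.q))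
  have hcomap : ∀ Q : Ideal (H4_Hens R), (Q.comap (H4_of R i)).under R = Q.under R := by
    intro Q
    ext r
    simp only [Ideal.under_def, Ideal.mem_comap]
    rw [H4_of_algebraMap]
  have h1 : P.comap (H4_of R i) = P'.comap (H4_of R i) :=
    Algebra.QuasiFinite.eq_of_le_of_under_eq (R := R) _ _ (Ideal.comap_mono hle)
      (by rw [hcomap, hcomap, hu])
  have h2 : y ∈ P'.comap (H4_of R i) := hx
  rw [← h1] at h2
  exact h2

theorem H4_Hens_ringKrullDim (R : Type u) [CommRing R] [IsLocalRing R] :
    ringKrullDim (H4_Hens R) = ringKrullDim R :=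
  le_antisymm (H4_ringKrullDim_le_of_inc R _ (fun P P' _ _ => H4_Hens_inc R P P'))
    (H4_ringKrullDim_le_of_faithfullyFlat R _)

theorem H4K_Hens_inc (R K : Type u) [CommRing R] [IsLocalRing R] [Field K] [Algebra R K]
    [hK : Fact (RingHom.ker (algebraMap R K) = IsLocalRing.maximalIdeal R)]
    (P P' : Ideal (H4K_Hens R K)) [P.IsPrime] [P'.IsPrime] (hle : P ≤ P')
    (hu : P.under R = P'.under R) : P = P' := by
  apply le_antisymm hle
  intro x hx
  obtain ⟨i, y, rfl⟩ := Ring.DirectLimit.exists_of x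
  change H4K_of R K i y ∈ P' at hx
  change H4K_of R K i y ∈ P
  haveI : (P.comap (H4K_of R K i)).IsPrime := Ideal.comap_isPrime _ _
  haveI : (P'.comap (H4K_of R K i)).IsPrime := Ideal.comap_isPrime _ _
  haveI : Algebra.QuasiFinite R i.G :=
    inferInstanceAs (Algebra.QuasiFinite R (Localization.AtPrime i.q))
  have hcomap : ∀ Q : Ideal (H4K_Hens R K), (Q.comap (H4K_of R K i)).under R = Q.under R := by
    intro Q
    ext r
    simp only [Ideal.under_def, Ideal.mem_comap]
    rw [H4K_of_algebraMap]
  have h1 : P.comap (H4K_of R K i) = P'.comap (H4K_of R K i) :=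
    Algebra.QuasiFinite.eq_of_le_of_under_eq (R := R) _ _ (Ideal.comap_mono hle)
      (by rw [hcomap, hcomap, hu])
  have h2 : y ∈ P'.comap (H4K_of R K i) := hx
  rw [← h1] at h2
  exact h2

theorem H4K_Hens_ringKrullDim (R K : Type u) [CommRing R] [IsLocalRing R] [Field K] [Algebra R K]
    [hK : Fact (RingHom.ker (algebraMap R K) = IsLocalRing.maximalIdeal R)] :
    ringKrullDim (H4K_Hens R K) = ringKrullDim R :=
  le_antisymm (H4_ringKrullDim_le_of_inc R _ (fun P P' _ _ => H4K_Hens_inc R K P P'))
    (H4_ringKrullDim_le_of_faithfullyFlat R _)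

attribute [local instance] H4_ksep_algebra in
theorem H4_SHens_ringKrullDim (R : Type u) [CommRing R] [IsLocalRing R] :
    ringKrullDim (H4_SHens R) = ringKrullDim R :=
  H4K_Hens_ringKrullDim R (H4_ksep R)

end Groth.Agent.H4
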