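import Mathlib
import Groth.Agent.Lib.helper4.HenselizationProps
import Groth.Agent.Lib.helper4.StrictHenselizationProps

/-! The henselization and strict henselization are formally étale. -/

set_option autoImplicit false
universe u

namespace Groth.Agent.H4

/-- A colimit (in the sense of the universal property for algebra maps) of formally étale algebras
is formally étale. -/
theorem H4_formallyEtale_of_colimit {ι : Type u} [Preorder ι] (R : Type u) [CommRing R]
    (G : ι → Type u) [∀ i, CommRing (G i)] [∀ i, Algebra R (G i)]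
    [∀ i, Algebra.FormallyEtale R (G i)]
    (f : ∀ i j, i ≤ j → G i →ₐ[R] G j)
    (L : Type u) [CommRing L] [Algebra R L] (of : ∀ i, G i →ₐ[R] L)
    (hof : ∀ i j h, (of j).comp (f i j h) = of i)
    (hlift : ∀ (B : Type u) [CommRing B] [Algebra R B] (g : ∀ i, G i →ₐ[R] B),
      (∀ i j h, (g j).comp (f i j h) = g i) → ∃ φ : L →ₐ[R] B, ∀ i, φ.comp (of i) = g i)
    (hext : ∀ (B : Type u) [CommRing B] [Algebra R B] (φ ψ : L →ₐ[R] B),
      (∀ i, φ.comp (of i) = ψ.comp (of i)) → φ = ψ) :
    Algebra.FormallyEtale R L := by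
  rw [Algebra.FormallyEtale.iff_comp_bijective]
  intro B _ _ I hI
  constructor
  · intro φ ψ h
    apply hext
    intro i
    apply (Algebra.FormallyEtale.comp_bijective R (G i) I hI).injective
    show (Ideal.Quotient.mkₐ R I).comp (φ.comp (of i)) = (Ideal.Quotient.mkₐ R I).comp (ψ.comp (of i))
    have h' : (Ideal.Quotient.mkₐ R I).comp φ = (Ideal.Quotient.mkₐ R I).comp ψ := h
    rw [← AlgHom.comp_assoc, ← AlgHom.comp_assoc, h']
  · intro χ
    have hex : ∀ i, ∃ g : G i →ₐ[R] B, (Ideal.Quotient.mkₐ R I).comp g = χ.comp (of i) := fun i =>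
      (Algebra.FormallyEtale.comp_bijective R (G i) I hI).surjective (χ.comp (of i))
    choose g hg using hex
    have hcompat : ∀ i j h, (g j).comp (f i j h) = g i := by
      intro i j h
      apply (Algebra.FormallyEtale.comp_bijective R (G i) I hI).injective
      show (Ideal.Quotient.mkₐ R I).comp ((g j).comp (f i j h)) = (Ideal.Quotient.mkₐ R I).comp (g i)
      rw [← AlgHom.comp_assoc, hg, hg, AlgHom.comp_assoc, hof]
    obtain ⟨φ, hφ⟩ := hlift B g hcompat
    refine ⟨φ, ?_⟩
    apply hext
    intro i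
    show ((Ideal.Quotient.mkₐ R I).comp φ).comp (of i) = χ.comp (of i)
    rw [AlgHom.comp_assoc, hφ, hg]

instance H4_G_formallyEtale (R : Type u) [CommRing R] [IsLocalRing R] (i : H4_Nbhd R) :
    Algebra.FormallyEtale R i.G := by
  haveI : Algebra.FormallyEtale i.C i.G := Algebra.FormallyEtale.of_isLocalization i.q.primeCompl
  exact Algebra.FormallyEtale.comp R i.C i.G

instance H4_Hens_formallyEtale (R : Type u) [CommRing R] [IsLocalRing R] :
    Algebra.FormallyEtale R (H4_Hens R) := by
  refine H4_formallyEtale_of_colimit R (fun i : H4_Nbhd R => i.G) (fun i j h => H4_trans i j h)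
    (H4_Hens R) (H4_ofₐ R) ?_ ?_ ?_
  · intro i j h
    ext x
    exact H4_of_f R h x
  · intro B _ _ g hg
    let φ₀ : H4_Hens R →+* B :=
      Ring.DirectLimit.lift (fun i : H4_Nbhd R => i.G) (fun i j h => H4_f R i j h) B
        (fun i => (g i).toRingHom) (fun i j h x => AlgHom.congr_fun (hg i j h) x)
    have hφ₀ : ∀ i x, φ₀ (H4_of R i x) = g i x := fun i x =>
      Ring.DirectLimit.lift_of _ _ _ _ _
    refine ⟨{ φ₀ with commutes' := fun r => ?_ }, ?_⟩
    · show φ₀ (algebraMap R (H4_Hens R) r) = algebraMap R B r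
      rw [← H4_of_algebraMap R (Classical.arbitrary _), hφ₀, AlgHom.commutes]
    · intro i
      ext x
      exact hφ₀ i x
  · intro B _ _ φ ψ h
    have : (φ : H4_Hens R →+* B) = (ψ : H4_Hens R →+* B) := by
      apply Ring.DirectLimit.hom_ext
      intro i
      ext x
      exact AlgHom.congr_fun (h i) x
    ext x
    exact RingHom.congr_fun this x

instance H4K_G_formallyEtale (R K : Type u) [CommRing R] [IsLocalRing R] [Field K] [Algebra R K]
    (i : H4K_Nbhd R K) : Algebra.FormallyEtale R i.G := by
  haveI : Algebra.FormallyEtale i.C i.G := Algebra.FormallyEtale.of_isLocalization i.q.primeCompl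
  exact Algebra.FormallyEtale.comp R i.C i.G

instance H4K_Hens_formallyEtale (R K : Type u) [CommRing R] [IsLocalRing R] [Field K] [Algebra R K]
    [hK : Fact (RingHom.ker (algebraMap R K) = IsLocalRing.maximalIdeal R)] :
    Algebra.FormallyEtale R (H4K_Hens R K) := by
  refine H4_formallyEtale_of_colimit R (fun i : H4K_Nbhd R K => i.G)
    (fun i j h => H4K_trans i j h) (H4K_Hens R K) (H4K_ofₐ R K) ?_ ?_ ?_
  · intro i j h
    ext x
    exact H4K_of_f R K h x
  · intro B _ _ g hg
    let φ₀ : H4K_Hens R K →+* B :=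
      Ring.DirectLimit.lift (fun i : H4K_Nbhd R K => i.G) (fun i j h => H4K_f R K i j h) B
        (fun i => (g i).toRingHom) (fun i j h x => AlgHom.congr_fun (hg i j h) x)
    have hφ₀ : ∀ i x, φ₀ (H4K_of R K i x) = g i x := fun i x =>
      Ring.DirectLimit.lift_of _ _ _ _ _
    refine ⟨{ φ₀ with commutes' := fun r => ?_ }, ?_⟩
    · show φ₀ (algebraMap R (H4K_Hens R K) r) = algebraMap R B r
      rw [← H4K_of_algebraMap R K (Classical.arbitrary _), hφ₀, AlgHom.commutes]
    · intro i
      ext x
      exact hφ₀ i x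
  · intro B _ _ φ ψ h
    have : (φ : H4K_Hens R K →+* B) = (ψ : H4K_Hens R K →+* B) := by
      apply Ring.DirectLimit.hom_ext
      intro i
      ext x
      exact AlgHom.congr_fun (h i) x
    ext x
    exact RingHom.congr_fun this x

attribute [local instance] H4_ksep_algebra in
theorem H4_SHens_formallyEtale (R : Type u) [CommRing R] [IsLocalRing R] :
    Algebra.FormallyEtale R (H4_SHens R) :=
  H4K_Hens_formallyEtale R (H4_ksep R)

end Groth.Agent.H4
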