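import Mathlib
import Groth.Prelude.Def_Hensel

/-!
# Henselization of a local ring generated by a henselization and a ring

Abstract form of: `S_q^h` is the henselization of `(R_p^h ⊗_R S)_Q`.
-/

namespace Groth.Agent.H4

universe u

open IsLocalRing

section

variable (R S : Type u) [CommRing R] [CommRing S] [Algebra R S]
  (p : Ideal R) [p.IsPrime] (q : Ideal S) [q.IsPrime] [q.LiesOver p]
  (Rh : Type u) [CommRing Rh] [IsLocalRing Rh] [Algebra (Localization.AtPrime p) Rh]
  [IsLocalHom (algebraMap (Localization.AtPrime p) Rh)]
  [Hensel.IsHenselization (Localization.AtPrime p) Rh]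
  (Sh : Type u) [CommRing Sh] [IsLocalRing Sh] [Algebra (Localization.AtPrime q) Sh]
  [IsLocalHom (algebraMap (Localization.AtPrime q) Sh)]
  [Hensel.IsHenselization (Localization.AtPrime q) Sh]
  (T : Type u) [CommRing T] (ιR : Rh →+* T) (ιS : S →+* T) (φ : T →+* Sh)

/-- Abstract form: if `T` is generated (in the sense of ring epimorphisms) by `R_p^h` and `S`,
compatibly over `R`, and `φ : T → S_q^h` restricts to the canonical map on `S`, then `S_q^h` is a
henselization of `T_Q`, with `Q = φ⁻¹(𝔪)`. -/
theorem H4_isHenselization_of_generated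
    (hgen : ∀ (C : Type u) [CommRing C] (a b : T →+* C), a.comp ιR = b.comp ιR →
      a.comp ιS = b.comp ιS → a = b)
    (hR : ιR.comp ((algebraMap (Localization.AtPrime p) Rh).comp
      (algebraMap R (Localization.AtPrime p))) = ιS.comp (algebraMap R S))
    (hS : φ.comp ιS = (algebraMap (Localization.AtPrime q) Sh).comp
      (algebraMap S (Localization.AtPrime q)))
    (Q : Ideal T) [Q.IsPrime] (hQ : Q = Ideal.comap φ (maximalIdeal Sh))
    (ψ : Localization.AtPrime Q →+* Sh) (hψ : ψ.comp (algebraMap T (Localization.AtPrime Q)) = φ) :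
    letI := ψ.toAlgebra
    ∃ _ : IsLocalHom (algebraMap (Localization.AtPrime Q) Sh),
      Hensel.IsHenselization (Localization.AtPrime Q) Sh := by
  letI := ψ.toAlgebra
  have hpq : p = q.comap (algebraMap R S) := Ideal.LiesOver.over
  -- membership in `Q`
  have hmemQ : ∀ t : T, t ∈ Q ↔ ¬ IsUnit (φ t) := by
    intro t
    rw [hQ, Ideal.mem_comap, mem_maximalIdeal, mem_nonunits_iff]
  have hψa : ∀ t : T, ψ (algebraMap T (Localization.AtPrime Q) t) = φ t := fun t =>
    RingHom.congr_fun hψ t
  -- `ψ` is local
  have hψloc : IsLocalHom ψ := by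
    constructor
    intro x hx
    obtain ⟨t, s, rfl⟩ := IsLocalization.exists_mk'_eq Q.primeCompl x
    rw [IsLocalization.AtPrime.isUnit_mk'_iff (Localization.AtPrime Q) Q]
    intro ht
    have h1 : IsUnit (ψ (algebraMap T (Localization.AtPrime Q) t)) := by
      have h2 : algebraMap T (Localization.AtPrime Q) t =
          IsLocalization.mk' (Localization.AtPrime Q) t s * algebraMap T _ (s : T) := by
        rw [IsLocalization.mk'_spec]
      rw [h2, map_mul]
      refine hx.mul ?_
      exact (IsLocalization.map_units (Localization.AtPrime Q) s).map ψ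
    rw [hψa] at h1
    exact (hmemQ t).1 ht h1
  have hloc : IsLocalHom (algebraMap (Localization.AtPrime Q) Sh) := hψloc
  refine ⟨hloc, ?_⟩
  -- the local map `R_p → S_q`
  set ρ : Localization.AtPrime p →+* Localization.AtPrime q :=
    Localization.localRingHom p q (algebraMap R S) hpq with hρ
  have hρloc : IsLocalHom ρ := Localization.isLocalHom_localRingHom p q _ hpq
  -- `φ ∘ ιR ∘ (R_p → R_p^h) = (S_q → S_q^h) ∘ ρ`
  have hφR : (φ.comp ιR).comp (algebraMap (Localization.AtPrime p) Rh) =
      (algebraMap (Localization.AtPrime q) Sh).comp ρ := by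
    refine IsLocalization.ringHom_ext p.primeCompl ?_
    ext r
    have h1 := RingHom.congr_fun hR r
    have h2 := RingHom.congr_fun hS (algebraMap R S r)
    simp only [RingHom.coe_comp, Function.comp_apply] at h1 h2 ⊢
    rw [h1, h2, hρ, Localization.localRingHom_to_map]
  refine { henselian := Hensel.IsHenselization.henselian (R := Localization.AtPrime q), universal := ?_ }
  intro C _ _ f hf
  haveI := hf
  -- the map `S → C`
  set fS : S →+* C := (f.comp (algebraMap T (Localization.AtPrime Q))).comp ιS with hfS
  have hunitS : ∀ s : S, s ∉ q → IsUnit (algebraMap T (Localization.AtPrime Q) (ιS s)) := by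
    intro s hs
    have h1 : ιS s ∈ Q.primeCompl := by
      show ιS s ∉ Q
      rw [hmemQ]
      push Not
      have h2 := RingHom.congr_fun hS s
      simp only [RingHom.coe_comp, Function.comp_apply] at h2
      rw [h2]
      exact (IsLocalization.map_units (Localization.AtPrime q) (⟨s, hs⟩ : q.primeCompl)).map _
    exact IsLocalization.map_units (Localization.AtPrime Q) (⟨ιS s, h1⟩ : Q.primeCompl)
  have hfSunit : ∀ s : q.primeCompl, IsUnit (fS s) := fun s => (hunitS s s.2).map f
  set fSq : Localization.AtPrime q →+* C := IsLocalization.lift (M := q.primeCompl) hfSunit with hfSq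
  have hfSq_eq : ∀ s : S, fSq (algebraMap S (Localization.AtPrime q) s) = fS s := fun s =>
    IsLocalization.lift_eq _ _
  have hfSqloc : IsLocalHom fSq := by
    constructor
    intro x hx
    obtain ⟨s, t, rfl⟩ := IsLocalization.exists_mk'_eq q.primeCompl x
    rw [IsLocalization.AtPrime.isUnit_mk'_iff (Localization.AtPrime q) q]
    intro hs
    have h1 : IsUnit (fS s) := by
      rw [← hfSq_eq]
      have h2 : algebraMap S (Localization.AtPrime q) s =
          IsLocalization.mk' (Localization.AtPrime q) s t * algebraMap S _ (t : S) := by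
        rw [IsLocalization.mk'_spec]
      rw [h2, map_mul]
      refine hx.mul ?_
      rw [hfSq_eq]
      exact hfSunit t
    -- `f (alg (ιS s))` unit ⇒ `alg (ιS s)` unit ⇒ `ιS s ∉ Q` ⇒ `φ (ιS s)` unit ⇒ ...
    have h2 : IsUnit (algebraMap T (Localization.AtPrime Q) (ιS s)) := hf.map_nonunit _ h1
    have h3 : IsUnit (φ (ιS s)) := by
      rw [← hψa]; exact h2.map ψ
    have h4 := RingHom.congr_fun hS s
    simp only [RingHom.coe_comp, Function.comp_apply] at h4
    rw [h4] at h3
    have h5 : IsUnit (algebraMap S (Localization.AtPrime q) s) :=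
      IsLocalHom.map_nonunit (f := algebraMap (Localization.AtPrime q) Sh) _ h3
    have h6 := (IsLocalization.AtPrime.isUnit_to_map_iff (Localization.AtPrime q) q s).1 h5
    exact h6 hs
  obtain ⟨g, hg, hguniq⟩ := Hensel.IsHenselization.universal (R := Localization.AtPrime q)
    (S := Sh) C fSq hfSqloc
  have hgS : ∀ s : S, g (φ (ιS s)) = fS s := by
    intro s
    have h4 := RingHom.congr_fun hS s
    simp only [RingHom.coe_comp, Function.comp_apply] at h4
    rw [h4, ← hfSq_eq]
    exact RingHom.congr_fun hg _
  refine ⟨g, ?_, ?_⟩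
  · -- `g ∘ ψ = f`
    show g.comp ψ = f
    refine IsLocalization.ringHom_ext Q.primeCompl ?_
    rw [RingHom.comp_assoc, hψ]
    refine hgen C _ _ ?_ ?_
    · -- on `R_p^h`
      set v : Rh →+* C := (f.comp (algebraMap T (Localization.AtPrime Q))).comp ιR with hv
      set u : Rh →+* C := (g.comp φ).comp ιR with hu
      have huv : u.comp (algebraMap (Localization.AtPrime p) Rh) =
          v.comp (algebraMap (Localization.AtPrime p) Rh) := by
        refine IsLocalization.ringHom_ext p.primeCompl ?_
        ext r
        have h1 := RingHom.congr_fun hR r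
        simp only [RingHom.coe_comp, Function.comp_apply] at h1
        simp only [hu, hv, RingHom.coe_comp, Function.comp_apply]
        rw [h1, hgS]
        rfl
      have hvloc : IsLocalHom (v.comp (algebraMap (Localization.AtPrime p) Rh)) := by
        constructor
        intro x hx
        have h1 : IsUnit (algebraMap T (Localization.AtPrime Q)
            (ιR (algebraMap (Localization.AtPrime p) Rh x))) := hf.map_nonunit _ hx
        have h2 : IsUnit (φ (ιR (algebraMap (Localization.AtPrime p) Rh x))) := by
          rw [← hψa]; exact h1.map ψ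
        have h3 := RingHom.congr_fun hφR x
        simp only [RingHom.coe_comp, Function.comp_apply] at h3
        rw [h3] at h2
        have h4 : IsUnit (ρ x) :=
          IsLocalHom.map_nonunit (f := algebraMap (Localization.AtPrime q) Sh) _ h2
        exact hρloc.map_nonunit _ h4
      obtain ⟨w, -, hwuniq⟩ := Hensel.IsHenselization.universal (R := Localization.AtPrime p)
        (S := Rh) C (v.comp (algebraMap (Localization.AtPrime p) Rh)) hvloc
      exact (hwuniq u huv).trans (hwuniq v rfl).symm
    · ext s
      simp only [RingHom.coe_comp, Function.comp_apply]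
      exact hgS s
  · intro g' hg'
    refine hguniq g' ?_
    refine IsLocalization.ringHom_ext q.primeCompl ?_
    ext s
    simp only [RingHom.coe_comp, Function.comp_apply]
    rw [hfSq_eq]
    have h4 := RingHom.congr_fun hS s
    simp only [RingHom.coe_comp, Function.comp_apply] at h4
    rw [← h4, ← hψa]
    exact RingHom.congr_fun hg' _

end

end Groth.Agent.H4
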