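import Mathlib
import Groth.Prelude.Def_Hensel
import Groth.Agent.Lib.helper4.HensGenerated
import Groth.Agent.Lib.helper4.HenselizationProps

/-!
# `S_q^h` is the henselization of `(R_p^h ⊗_R S)_Q`
-/

open TensorProduct

namespace Groth.Agent.H4

universe u

theorem H4_hens_tensor_at_prime (R : Type u) [CommRing R] (S : Type u)
    [CommRing S] [Algebra R S] (p : Ideal R) [p.IsPrime] (q : Ideal S) [q.IsPrime] [q.LiesOver p]
    (Rh : Type u) [CommRing Rh] [IsLocalRing Rh] [Algebra (Localization.AtPrime p) Rh]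
    [IsLocalHom (algebraMap (Localization.AtPrime p) Rh)]
    [Hensel.IsHenselization (Localization.AtPrime p) Rh] [Algebra R Rh]
    [IsScalarTower R (Localization.AtPrime p) Rh]
    (Sh : Type u) [CommRing Sh] [IsLocalRing Sh] [Algebra (Localization.AtPrime q) Sh]
    [IsLocalHom (algebraMap (Localization.AtPrime q) Sh)]
    [Hensel.IsHenselization (Localization.AtPrime q) Sh] [Algebra S Sh]
    [IsScalarTower S (Localization.AtPrime q) Sh] [Algebra R Sh] [IsScalarTower R S Sh]
    [Algebra Rh Sh] [IsScalarTower R Rh Sh]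
    (Q : Ideal (Rh ⊗[R] S)) [Q.IsPrime]
    (hQ : Q = Ideal.comap (Algebra.TensorProduct.lift (IsScalarTower.toAlgHom R Rh Sh)
      (IsScalarTower.toAlgHom R S Sh) (fun _ _ => Commute.all _ _)) (IsLocalRing.maximalIdeal Sh))
    (E : Type u) [CommRing E] [IsLocalRing E]
    [Algebra (Localization.AtPrime Q) E] [IsLocalHom (algebraMap (Localization.AtPrime Q) E)]
    [Hensel.IsHenselization (Localization.AtPrime Q) E] :
    ∃ e : E ≃+* Sh, ∀ d : Rh ⊗[R] S,
      e (algebraMap (Localization.AtPrime Q) E (algebraMap (Rh ⊗[R] S) _ d)) =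
        (Algebra.TensorProduct.lift (IsScalarTower.toAlgHom R Rh Sh) (IsScalarTower.toAlgHom R S Sh)
          (fun _ _ => Commute.all _ _)) d := by
  classical
  set φ : Rh ⊗[R] S →ₐ[R] Sh := Algebra.TensorProduct.lift (IsScalarTower.toAlgHom R Rh Sh)
    (IsScalarTower.toAlgHom R S Sh) (fun _ _ => Commute.all _ _) with hφ
  have hQ' : Q = Ideal.comap φ.toRingHom (IsLocalRing.maximalIdeal Sh) := hQ
  have hmemQ : ∀ t : Rh ⊗[R] S, φ.toRingHom t ∈ IsLocalRing.maximalIdeal Sh → t ∈ Q := by
    intro t ht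
    rw [hQ']
    exact ht
  have hunit : ∀ y : Q.primeCompl, IsUnit (φ.toRingHom (y : Rh ⊗[R] S)) := by
    intro y
    have h1 : (y : Rh ⊗[R] S) ∉ Q := y.2
    have h2 : ¬ (φ.toRingHom (y : Rh ⊗[R] S) ∈ IsLocalRing.maximalIdeal Sh) := by
      intro h3
      exact h1 (hmemQ _ h3)
    rw [IsLocalRing.mem_maximalIdeal, mem_nonunits_iff] at h2
    push Not at h2
    exact h2
  set ψ : Localization.AtPrime Q →+* Sh := IsLocalization.lift (M := Q.primeCompl) hunit with hψ
  have hψa : ψ.comp (algebraMap (Rh ⊗[R] S) (Localization.AtPrime Q)) = φ.toRingHom :=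
    IsLocalization.lift_comp _
  have hgen : ∀ (C : Type u) [CommRing C] (a b : Rh ⊗[R] S →+* C),
      a.comp (Algebra.TensorProduct.includeLeftRingHom : Rh →+* Rh ⊗[R] S) =
        b.comp (Algebra.TensorProduct.includeLeftRingHom : Rh →+* Rh ⊗[R] S) →
      a.comp (Algebra.TensorProduct.includeRight : S →ₐ[R] Rh ⊗[R] S).toRingHom =
        b.comp (Algebra.TensorProduct.includeRight : S →ₐ[R] Rh ⊗[R] S).toRingHom → a = b := by
    intro C _ a b h1 h2
    refine RingHom.ext fun t => ?_
    induction t using TensorProduct.induction_on with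
    | zero => simp
    | tmul r s =>
      have h3 : r ⊗ₜ[R] s = (Algebra.TensorProduct.includeLeftRingHom : Rh →+* Rh ⊗[R] S) r *
          (Algebra.TensorProduct.includeRight : S →ₐ[R] Rh ⊗[R] S).toRingHom s := by
        simp
      rw [h3, map_mul, map_mul]
      have h4 := RingHom.congr_fun h1 r
      have h5 := RingHom.congr_fun h2 s
      simp only [RingHom.coe_comp, Function.comp_apply] at h4 h5
      rw [h4, h5]
    | add x y hx hy => rw [map_add, map_add, hx, hy]
  have hR : (Algebra.TensorProduct.includeLeftRingHom : Rh →+* Rh ⊗[R] S).comp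
      ((algebraMap (Localization.AtPrime p) Rh).comp (algebraMap R (Localization.AtPrime p))) =
      (Algebra.TensorProduct.includeRight : S →ₐ[R] Rh ⊗[R] S).toRingHom.comp (algebraMap R S) := by
    ext r
    simp only [RingHom.coe_comp, Function.comp_apply, Algebra.TensorProduct.includeLeftRingHom_apply,
      AlgHom.toRingHom_eq_coe, RingHom.coe_coe, Algebra.TensorProduct.includeRight_apply]
    rw [← IsScalarTower.algebraMap_apply R (Localization.AtPrime p) Rh,
      Algebra.algebraMap_eq_smul_one, Algebra.algebraMap_eq_smul_one (A := S),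
      TensorProduct.smul_tmul]
  have hS : φ.toRingHom.comp (Algebra.TensorProduct.includeRight : S →ₐ[R] Rh ⊗[R] S).toRingHom =
      (algebraMap (Localization.AtPrime q) Sh).comp (algebraMap S (Localization.AtPrime q)) := by
    ext s
    simp only [RingHom.coe_comp, Function.comp_apply, AlgHom.toRingHom_eq_coe, RingHom.coe_coe,
      Algebra.TensorProduct.includeRight_apply]
    rw [hφ, Algebra.TensorProduct.lift_tmul, map_one, one_mul,
      ← IsScalarTower.algebraMap_apply S (Localization.AtPrime q) Sh]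
    rfl
  have hmain := Groth.Agent.H4.H4_isHenselization_of_generated R S p q Rh Sh (Rh ⊗[R] S)
    (Algebra.TensorProduct.includeLeftRingHom : Rh →+* Rh ⊗[R] S)
    (Algebra.TensorProduct.includeRight : S →ₐ[R] Rh ⊗[R] S).toRingHom φ.toRingHom
    hgen hR hS Q hQ' ψ hψa
  letI : Algebra (Localization.AtPrime Q) Sh := ψ.toAlgebra
  obtain ⟨hloc, hH⟩ := hmain
  obtain ⟨e1⟩ := Groth.Agent.H4.H4_henselization_equiv (R := Localization.AtPrime Q) E
  obtain ⟨e2⟩ := Groth.Agent.H4.H4_henselization_equiv (R := Localization.AtPrime Q) Sh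
  refine ⟨(e1.trans e2.symm).toRingEquiv, ?_⟩
  intro d
  have h1 : (e1.trans e2.symm) (algebraMap (Localization.AtPrime Q) E
      (algebraMap (Rh ⊗[R] S) (Localization.AtPrime Q) d)) =
      algebraMap (Localization.AtPrime Q) Sh (algebraMap (Rh ⊗[R] S) (Localization.AtPrime Q) d) :=
    AlgEquiv.commutes _ _
  have h2 : algebraMap (Localization.AtPrime Q) Sh
      (algebraMap (Rh ⊗[R] S) (Localization.AtPrime Q) d) = φ d :=
    RingHom.congr_fun hψa d
  exact h1.trans h2

end Groth.Agent.H4
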