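import Mathlib
import Groth.Agent.Lib.helper4.IdemFinite
import Groth.Agent.Lib.helper4.FiniteEtaleHom
import Groth.Agent.Lib.helper4.EtalePairs

/-! Quasi-finite algebras over a Henselian local ring: splitting off a finite part at a prime. -/

set_option autoImplicit false
universe u

open TensorProduct

namespace Groth.Agent.H4

set_option maxHeartbeats 1000000 in
/-- Over a Henselian local ring, a prime over the maximal ideal at which a finite type algebra is
quasi-finite is cut out by an idempotent `e` with `S e` finite over `R`. -/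
theorem H4_quasiFiniteAt_idem (R : Type u) [CommRing R] [HenselianLocalRing R] (S : Type u)
    [CommRing S] [Algebra R S] [Algebra.FiniteType R S] (q : Ideal S) [q.IsPrime]
    [hqm : q.LiesOver (IsLocalRing.maximalIdeal R)] [Algebra.QuasiFiniteAt R q] :
    ∃ e : S, IsIdempotentElem e ∧ e ∉ q ∧ H4_IdemFG R e ∧
      ∀ q' : Ideal S, q'.IsPrime → q'.LiesOver (IsLocalRing.maximalIdeal R) → e ∉ q' → q' = q := by
  classical
  obtain ⟨R', _, _, _, P, _, hPm, e', he', P', _, hP'P, hP'q, heP', hκ, hfin, huniq⟩ :=
    Algebra.exists_etale_isIdempotentElem_forall_liesOver_eq (R := R) (S := S)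
      (IsLocalRing.maximalIdeal R) q
  have hκ' : Function.Bijective (Ideal.ResidueField.map (IsLocalRing.maximalIdeal R) P
      (algebraMap R R') (P.over_def (IsLocalRing.maximalIdeal R))) := hκ
  obtain ⟨χ₀, hχ₀⟩ := H4_pair_char (IsLocalRing.maximalIdeal R) P
    (P.over_def (IsLocalRing.maximalIdeal R)) hκ'
  -- identify κ(m) with the residue field
  let j : (IsLocalRing.maximalIdeal R).ResidueField →ₐ[R] IsLocalRing.ResidueField R :=
    Ideal.ResidueField.liftₐ (IsLocalRing.maximalIdeal R)
      (Algebra.ofId R (IsLocalRing.ResidueField R))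
      (fun x hx => by
        rw [RingHom.mem_ker]
        exact (IsLocalRing.residue_eq_zero_iff x).mpr hx)
      (fun x hx => by
        show IsUnit (IsLocalRing.residue R x)
        rw [isUnit_iff_ne_zero, Ne, IsLocalRing.residue_eq_zero_iff]
        exact hx)
  let χ : R' →ₐ[R] IsLocalRing.ResidueField R := j.comp χ₀
  have hχ : ∀ a, χ a = 0 ↔ a ∈ P := by
    intro a
    show j (χ₀ a) = 0 ↔ _
    have hj : Function.Injective j := j.toRingHom.injective
    rw [map_eq_zero_iff j hj, ← hχ₀, RingHom.mem_ker]
  obtain ⟨σ, hσ⟩ := H4_etale_exists_lift_of_residue (R := R) (S := R) (A := R') χ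
  have hσP : ∀ a, σ a ∈ IsLocalRing.maximalIdeal R ↔ a ∈ P := by
    intro a
    rw [← IsLocalRing.residue_eq_zero_iff, hσ, hχ]
  let θ : R' ⊗[R] S →ₐ[R] S :=
    Algebra.TensorProduct.productMap ((Algebra.ofId R S).comp σ) (AlgHom.id R S)
  have hθ : ∀ a s, θ (a ⊗ₜ s) = algebraMap R S (σ a) * s := fun a s => by
    simp [θ, Algebra.ofId_apply]
  have hθR' : ∀ (a : R') (y : R' ⊗[R] S), θ (a • y) = σ a • θ y := by
    intro a y
    have : a • y = (a ⊗ₜ[R] (1 : S)) * y := by
      rw [Algebra.smul_def]; rfl
    rw [this, map_mul, hθ, mul_one, Algebra.smul_def]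
  have hθincl : ∀ s : S, θ ((1 : R') ⊗ₜ[R] s) = s := by
    intro s
    rw [hθ, map_one, map_one, one_mul]
  have hmq : ∀ r : R, algebraMap R S r ∈ q ↔ r ∈ IsLocalRing.maximalIdeal R := by
    intro r
    rw [hqm.over, Ideal.under_def, Ideal.mem_comap]
  -- primes of `S` over `m` pull back to primes over `P`
  have hover : ∀ q' : Ideal S, q'.IsPrime → q'.LiesOver (IsLocalRing.maximalIdeal R) →
      (q'.comap θ.toRingHom).LiesOver P := by
    intro q' _ hq'
    constructor
    ext a
    rw [Ideal.under_def, Ideal.mem_comap, Ideal.mem_comap]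
    show a ∈ P ↔ θ (a ⊗ₜ[R] (1 : S)) ∈ q'
    rw [hθ, mul_one, ← hσP]
    rw [hq'.over, Ideal.under_def, Ideal.mem_comap]
  have hcomapincl : ∀ q' : Ideal S,
      (q'.comap θ.toRingHom).comap Algebra.TensorProduct.includeRight.toRingHom = q' := by
    intro q'
    ext s
    rw [Ideal.mem_comap, Ideal.mem_comap]
    show θ ((1 : R') ⊗ₜ[R] s) ∈ q' ↔ _
    rw [hθincl]
  -- the pulled back prime of `q` is `P'`
  have hQ : q.comap θ.toRingHom = P' := by
    haveI : (q.comap θ.toRingHom).IsPrime := Ideal.comap_isPrime _ _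
    haveI := hover q inferInstance hqm
    exact Ideal.eq_of_comap_eq_comap_of_bijective_residueFieldMap hκ _ _
      ((hcomapincl q).trans hP'q.symm)
  refine ⟨θ e', he'.map θ, ?_, ?_, ?_⟩
  · intro he
    apply heP'
    rw [← hQ]
    exact he
  · -- finiteness
    have h1 : H4_IdemFG R' e' := H4_idemFG_of_finite_away he'
    obtain ⟨G, hG⟩ := h1
    refine ⟨G.image θ, ?_⟩
    apply le_antisymm
    · rw [Submodule.span_le]
      intro x hx
      rw [Finset.coe_image] at hx
      obtain ⟨g, hg, rfl⟩ := hx
      have hg' : g ∈ ((Ideal.span {e'} : Ideal (R' ⊗[R] S)).restrictScalars R') := by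
        rw [← hG]; exact Submodule.subset_span hg
      rw [Submodule.restrictScalars_mem, Ideal.mem_span_singleton'] at hg'
      obtain ⟨b, rfl⟩ := hg'
      show θ (b * e') ∈ (Ideal.span {θ e'} : Ideal S)
      rw [map_mul]
      exact Ideal.mul_mem_left _ _ (Ideal.mem_span_singleton_self _)
    · intro x hx
      rw [Submodule.restrictScalars_mem, Ideal.mem_span_singleton'] at hx
      obtain ⟨s, rfl⟩ := hx
      have hmem : ((1 : R') ⊗ₜ[R] s) * e' ∈ Submodule.span R' (G : Set (R' ⊗[R] S)) := by
        rw [hG, Submodule.restrictScalars_mem]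
        exact Ideal.mul_mem_left _ _ (Ideal.mem_span_singleton_self _)
      have key : ∀ y ∈ Submodule.span R' (G : Set (R' ⊗[R] S)),
          θ y ∈ Submodule.span R ((G.image θ : Finset S) : Set S) := by
        intro y hy
        induction hy using Submodule.span_induction with
        | mem y hy =>
          apply Submodule.subset_span
          rw [Finset.coe_image]
          exact ⟨y, hy, rfl⟩
        | zero => rw [map_zero]; exact Submodule.zero_mem _
        | add y z _ _ hy hz => rw [map_add]; exact Submodule.add_mem _ hy hz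
        | smul a y _ hy => rw [hθR']; exact Submodule.smul_mem _ _ hy
      have := key _ hmem
      rwa [map_mul, hθincl] at this
  · intro q' hq'p hq'm heq'
    haveI : (q'.comap θ.toRingHom).IsPrime := Ideal.comap_isPrime _ _
    have h1 := huniq (q'.comap θ.toRingHom) inferInstance (hover q' hq'p hq'm) heq'
    rw [← hcomapincl q', h1, hP'q]

end Groth.Agent.H4
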