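import Mathlib
import Groth.Agent.Lib.helper4.QuasiFiniteHensel

/-! Over a Henselian local ring, the local ring of a finite type algebra at a prime over the
maximal ideal at which it is quasi-finite is a finite module. -/

set_option autoImplicit false
universe u

namespace Groth.Agent.H4

theorem H4_finite_localization_of_quasiFiniteAt (R : Type u) [CommRing R] [HenselianLocalRing R]
    (T : Type u) [CommRing T] [Algebra R T] [Algebra.FiniteType R T] (Q : Ideal T) [Q.IsPrime]
    [Q.LiesOver (IsLocalRing.maximalIdeal R)] [Algebra.QuasiFiniteAt R Q] :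
    Module.Finite R (Localization.AtPrime Q) := by
  classical
  obtain ⟨e, he, heQ, hfg, huniq⟩ := H4_quasiFiniteAt_idem R T Q
  haveI hfin : Module.Finite R (T ⧸ Ideal.span ({1 - e} : Set T)) :=
    H4_finite_quotient_of_idemFG hfg
  have hunit_e : IsUnit (algebraMap T (Localization.AtPrime Q) e) :=
    IsLocalization.map_units (Localization.AtPrime Q) (⟨e, heQ⟩ : Q.primeCompl)
  have hzero : algebraMap T (Localization.AtPrime Q) (1 - e) = 0 := by
    have h1 : algebraMap T (Localization.AtPrime Q) (1 - e) *
        algebraMap T (Localization.AtPrime Q) e = 0 := by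
      rw [← map_mul]
      have : (1 - e) * e = 0 := by
        have h2 : e * e = e := he
        ring_nf
        rw [pow_two, h2]; ring
      rw [this, map_zero]
    exact (hunit_e.mul_left_eq_zero).1 h1
  have hker : ∀ a ∈ Ideal.span ({1 - e} : Set T),
      (IsScalarTower.toAlgHom R T (Localization.AtPrime Q)) a = 0 := by
    intro a ha
    obtain ⟨c, rfl⟩ := Ideal.mem_span_singleton'.1 ha
    show algebraMap T (Localization.AtPrime Q) (c * (1 - e)) = 0
    rw [map_mul, hzero, mul_zero]
  let L : (T ⧸ Ideal.span ({1 - e} : Set T)) →ₐ[R] Localization.AtPrime Q :=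
    Ideal.Quotient.liftₐ _ (IsScalarTower.toAlgHom R T (Localization.AtPrime Q)) hker
  have hL : ∀ t : T, L (Ideal.Quotient.mk _ t) = algebraMap T (Localization.AtPrime Q) t :=
    fun t => rfl
  -- elements outside `Q` are units modulo `1 - e`
  have hunit : ∀ s : T, s ∉ Q → IsUnit (Ideal.Quotient.mk (Ideal.span ({1 - e} : Set T)) s) := by
    intro s hs
    by_contra hnu
    obtain ⟨M', hM', hsM'⟩ := exists_max_ideal_of_mem_nonunits hnu
    haveI := hM'
    haveI : Algebra.IsIntegral R (T ⧸ Ideal.span ({1 - e} : Set T)) := Algebra.IsIntegral.of_finite _ _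
    have hMmax : (M'.comap (algebraMap R (T ⧸ Ideal.span ({1 - e} : Set T)))).IsMaximal :=
      Ideal.isMaximal_comap_of_isIntegral_of_isMaximal M'
    have hMeq := IsLocalRing.eq_maximalIdeal hMmax
    set M : Ideal T := M'.comap (Ideal.Quotient.mk (Ideal.span ({1 - e} : Set T))) with hM
    haveI : M.IsPrime := Ideal.IsPrime.comap _
    have hMlies : M.LiesOver (IsLocalRing.maximalIdeal R) := by
      constructor
      rw [← hMeq, Ideal.under_def, hM, Ideal.comap_comap]
      rfl
    have heM : e ∉ M := by
      intro heM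
      have h1 : (1 - e) ∈ M := by
        rw [hM, Ideal.mem_comap]
        have : Ideal.Quotient.mk (Ideal.span ({1 - e} : Set T)) (1 - e) = 0 :=
          Ideal.Quotient.eq_zero_iff_mem.2 (Ideal.mem_span_singleton_self _)
        rw [this]; exact Ideal.zero_mem _
      have h2 : (1 : T) ∈ M := by
        have := Ideal.add_mem _ h1 heM
        simpa using this
      exact (Ideal.IsPrime.ne_top ‹M.IsPrime›) ((Ideal.eq_top_iff_one _).2 h2)
    have hMQ := huniq M inferInstance hMlies heM
    apply hs
    rw [← hMQ, hM, Ideal.mem_comap]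
    exact hsM'
  refine Module.Finite.of_surjective L.toLinearMap ?_
  intro x
  obtain ⟨t, s, rfl⟩ := IsLocalization.exists_mk'_eq Q.primeCompl x
  obtain ⟨s', hs'⟩ := (hunit s s.2).exists_right_inv
  obtain ⟨s'', rfl⟩ := Ideal.Quotient.mk_surjective s'
  refine ⟨Ideal.Quotient.mk _ (t * s''), ?_⟩
  show L (Ideal.Quotient.mk _ (t * s'')) = _
  rw [hL, eq_comm, IsLocalization.mk'_eq_iff_eq_mul, ← map_mul]
  have h1 : L (Ideal.Quotient.mk _ ((s : T) * s'')) = 1 := by
    rw [map_mul, hs', map_one]
  rw [hL] at h1
  have h2 : t * s'' * (s : T) = t * ((s : T) * s'') := by ring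
  rw [h2, map_mul, h1, mul_one]

end Groth.Agent.H4
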