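import Mathlib
import Groth.Prelude.Def_Hensel
import Groth.Agent.Lib.helper4.StrictHenselizationProps

/-!
# Strict henselization of a local ring generated by a strict henselization and a ring

Abstract form of: `S_q^{sh}` is the strict henselization of `(R_p^{sh} ⊗_R S)_Q`.
-/

namespace Groth.Agent.H4

universe u

open IsLocalRing

/-- If `𝔪_R S = 𝔪_S` and `β ∘ (R → S)` is local then `β` is local. -/
theorem H4_isLocalHom_of_comp {R S C : Type u} [CommRing R] [IsLocalRing R] [CommRing S]
    [IsLocalRing S] [Algebra R S] [CommRing C] [IsLocalRing C]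
    (hm : (maximalIdeal R).map (algebraMap R S) = maximalIdeal S) (β : S →+* C)
    (h : IsLocalHom (β.comp (algebraMap R S))) : IsLocalHom β := by
  have h1 : maximalIdeal S ≤ (maximalIdeal C).comap β := by
    rw [← hm, Ideal.map_le_iff_le_comap]
    intro x hx
    rw [Ideal.mem_comap, Ideal.mem_comap, mem_maximalIdeal, mem_nonunits_iff]
    intro hu
    exact hx (h.map_nonunit x hu)
  constructor
  intro s hs
  by_contra hns
  have h2 : s ∈ maximalIdeal S := hns
  have h3 := h1 h2
  rw [Ideal.mem_comap, mem_maximalIdeal, mem_nonunits_iff] at h3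
  exact h3 hs

section

variable (R S : Type u) [CommRing R] [CommRing S] [Algebra R S]
  (p : Ideal R) [p.IsPrime] (q : Ideal S) [q.IsPrime] [q.LiesOver p]
  (Rh : Type u) [CommRing Rh] [IsLocalRing Rh] [Algebra (Localization.AtPrime p) Rh]
  [IsLocalHom (algebraMap (Localization.AtPrime p) Rh)]
  [Hensel.IsStrictHenselization (Localization.AtPrime p) Rh]
  (Sh : Type u) [CommRing Sh] [IsLocalRing Sh] [Algebra (Localization.AtPrime q) Sh]
  [IsLocalHom (algebraMap (Localization.AtPrime q) Sh)]
  [Hensel.IsStrictHenselization (Localization.AtPrime q) Sh]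
  (T : Type u) [CommRing T] (ιR : Rh →+* T) (ιS : S →+* T) (φ : T →+* Sh)

theorem H4_isStrictHenselization_of_generated
    (hgen : ∀ (C : Type u) [CommRing C] (a b : T →+* C), a.comp ιR = b.comp ιR →
      a.comp ιS = b.comp ιS → a = b)
    (hR : ιR.comp ((algebraMap (Localization.AtPrime p) Rh).comp
      (algebraMap R (Localization.AtPrime p))) = ιS.comp (algebraMap R S))
    (hS : φ.comp ιS = (algebraMap (Localization.AtPrime q) Sh).comp
      (algebraMap S (Localization.AtPrime q)))
    (Q : Ideal T) [Q.IsPrime] (hQ : Q = Ideal.comap φ (maximalIdeal Sh))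
    (ψ : Localization.AtPrime Q →+* Sh) (hψ : ψ.comp (algebraMap T (Localization.AtPrime Q)) = φ) :
    letI := ψ.toAlgebra
    ∃ _ : IsLocalHom (algebraMap (Localization.AtPrime Q) Sh),
      Hensel.IsStrictHenselization (Localization.AtPrime Q) Sh := by
  letI algDSh : Algebra (Localization.AtPrime Q) Sh := ψ.toAlgebra
  have hpq : p = q.comap (algebraMap R S) := Ideal.LiesOver.over
  have hmemQ : ∀ t : T, t ∈ Q ↔ ¬ IsUnit (φ t) := by
    intro t
    rw [hQ, Ideal.mem_comap, mem_maximalIdeal, mem_nonunits_iff]
  have hψa : ∀ t : T, ψ (algebraMap T (Localization.AtPrime Q) t) = φ t := fun t =>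
    RingHom.congr_fun hψ t
  have hψloc : IsLocalHom ψ := by
    constructor
    intro x hx
    obtain ⟨t, s, rfl⟩ := IsLocalization.exists_mk'_eq Q.primeCompl x
    rw [IsLocalization.AtPrime.isUnit_mk'_iff (Localization.AtPrime Q) Q]
    intro ht
    have h1 : IsUnit (ψ (algebraMap T (Localization.AtPrime Q) t)) := by
      have h2 : algebraMap T (Localization.AtPrime Q) t =
          IsLocalization.mk' (Localization.AtPrime Q) t s * algebraMap T _ (s : T) := by
        rw [IsLocalization.mk'_spec]
      rw [h2, map_mul]
      refine hx.mul ?_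
      exact (IsLocalization.map_units (Localization.AtPrime Q) s).map ψ
    rw [hψa] at h1
    exact (hmemQ t).1 ht h1
  haveI hloc : IsLocalHom (algebraMap (Localization.AtPrime Q) Sh) := hψloc
  refine ⟨hloc, ?_⟩
  set ρ : Localization.AtPrime p →+* Localization.AtPrime q :=
    Localization.localRingHom p q (algebraMap R S) hpq with hρ
  have hρloc : IsLocalHom ρ := Localization.isLocalHom_localRingHom p q _ hpq
  have hφR : (φ.comp ιR).comp (algebraMap (Localization.AtPrime p) Rh) =
      (algebraMap (Localization.AtPrime q) Sh).comp ρ := by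
    refine IsLocalization.ringHom_ext p.primeCompl ?_
    ext r
    have h1 := RingHom.congr_fun hR r
    have h2 := RingHom.congr_fun hS (algebraMap R S r)
    simp only [RingHom.coe_comp, Function.comp_apply] at h1 h2 ⊢
    rw [h1, h2, hρ, Localization.localRingHom_to_map]
  -- the map `α : S_q → D`
  have hunitS : ∀ s : q.primeCompl, IsUnit (((algebraMap T (Localization.AtPrime Q)).comp ιS) s) := by
    intro s
    have h1 : ιS s ∈ Q.primeCompl := by
      show ιS s ∉ Q
      rw [hmemQ]
      push Not
      have h2 := RingHom.congr_fun hS s
      simp only [RingHom.coe_comp, Function.comp_apply] at h2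
      rw [h2]
      exact (IsLocalization.map_units (Localization.AtPrime q) s).map _
    exact IsLocalization.map_units (Localization.AtPrime Q) (⟨ιS s, h1⟩ : Q.primeCompl)
  set α : Localization.AtPrime q →+* Localization.AtPrime Q :=
    IsLocalization.lift (M := q.primeCompl) hunitS with hα
  have hα_eq : ∀ s : S, α (algebraMap S (Localization.AtPrime q) s) =
      algebraMap T (Localization.AtPrime Q) (ιS s) := fun s => IsLocalization.lift_eq _ _
  have hψα : ψ.comp α = algebraMap (Localization.AtPrime q) Sh := by
    refine IsLocalization.ringHom_ext q.primeCompl ?_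
    ext s
    simp only [RingHom.coe_comp, Function.comp_apply]
    rw [hα_eq, hψa]
    exact RingHom.congr_fun hS s
  have hαloc : IsLocalHom α := by
    constructor
    intro x hx
    have h1 : IsUnit (ψ (α x)) := hx.map ψ
    have h2 : ψ (α x) = algebraMap (Localization.AtPrime q) Sh x := RingHom.congr_fun hψα x
    rw [h2] at h1
    exact IsLocalHom.map_nonunit (f := algebraMap (Localization.AtPrime q) Sh) _ h1
  letI algSqD : Algebra (Localization.AtPrime q) (Localization.AtPrime Q) := α.toAlgebra
  haveI hαloc' : IsLocalHom (algebraMap (Localization.AtPrime q) (Localization.AtPrime Q)) := hαloc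
  haveI htower : IsScalarTower (Localization.AtPrime q) (Localization.AtPrime Q) Sh :=
    IsScalarTower.of_algebraMap_eq fun x => (RingHom.congr_fun hψα x).symm
  have hsepcl : IsSepClosure (ResidueField (Localization.AtPrime q)) (ResidueField Sh) :=
    Hensel.IsStrictHenselization.isSepClosure
  refine { henselian := Hensel.IsStrictHenselization.henselian (R := Localization.AtPrime q)
           isSepClosure := ?_
           universal := ?_ }
  · haveI := hsepcl.separable
    exact ⟨hsepcl.sep_closed, Algebra.isSeparable_tower_top_of_isSeparable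
      (F := ResidueField (Localization.AtPrime q)) (L := ResidueField (Localization.AtPrime Q))
      (E := ResidueField Sh)⟩
  intro C _ _ f hf τ hτ
  -- the composite `S_q → C`
  have hfαloc : IsLocalHom (f.comp α) := RingHom.isLocalHom_comp _ _
  have hτ' : τ.comp (ResidueField.map (algebraMap (Localization.AtPrime q) Sh)) =
      ResidueField.map (f.comp α) := by
    have h1 : ResidueField.map (algebraMap (Localization.AtPrime q) Sh) =
        (ResidueField.map (algebraMap (Localization.AtPrime Q) Sh)).comp (ResidueField.map α) := by
      rw [← ResidueField.map_comp]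
      congr 1
      exact hψα.symm
    rw [h1, ← RingHom.comp_assoc, hτ, ← ResidueField.map_comp]
  obtain ⟨g, ⟨hg1, hg2⟩, hguniq⟩ := Hensel.IsStrictHenselization.universal
    (R := Localization.AtPrime q) (S := Sh) C (f.comp α) τ hτ'
  have hgS : ∀ s : S, g (φ (ιS s)) = f (algebraMap T (Localization.AtPrime Q) (ιS s)) := by
    intro s
    have h4 := RingHom.congr_fun hS s
    simp only [RingHom.coe_comp, Function.comp_apply] at h4
    rw [h4, ← hα_eq]
    exact RingHom.congr_fun hg1 _
  have hτres : ∀ d : Localization.AtPrime Q, τ (residue Sh (ψ d)) = residue C (f d) := by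
    intro d
    have h1 := RingHom.congr_fun hτ (residue _ d)
    simp only [RingHom.comp_apply, ResidueField.map_residue] at h1
    exact h1
  refine ⟨g, ⟨?_, hg2⟩, ?_⟩
  · show g.comp ψ = f
    refine IsLocalization.ringHom_ext Q.primeCompl ?_
    rw [RingHom.comp_assoc, hψ]
    refine hgen C _ _ ?_ ?_
    · set v : Rh →+* C := (f.comp (algebraMap T (Localization.AtPrime Q))).comp ιR with hv
      set u : Rh →+* C := (g.comp φ).comp ιR with hu
      have huv : u.comp (algebraMap (Localization.AtPrime p) Rh) =
          v.comp (algebraMap (Localization.AtPrime p) Rh) := by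
        refine IsLocalization.ringHom_ext p.primeCompl ?_
        ext r
        have h1 := RingHom.congr_fun hR r
        simp only [RingHom.coe_comp, Function.comp_apply] at h1
        simp only [hu, hv, RingHom.coe_comp, Function.comp_apply]
        rw [h1, hgS]
      haveI hvloc : IsLocalHom (v.comp (algebraMap (Localization.AtPrime p) Rh)) := by
        constructor
        intro x hx
        have h1 : IsUnit (algebraMap T (Localization.AtPrime Q)
            (ιR (algebraMap (Localization.AtPrime p) Rh x))) := hf.map_nonunit _ hx
        have h2 : IsUnit (φ (ιR (algebraMap (Localization.AtPrime p) Rh x))) := by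
          rw [← hψa]; exact h1.map ψ
        have h3 := RingHom.congr_fun hφR x
        simp only [RingHom.coe_comp, Function.comp_apply] at h3
        rw [h3] at h2
        have h4 : IsUnit (ρ x) :=
          IsLocalHom.map_nonunit (f := algebraMap (Localization.AtPrime q) Sh) _ h2
        exact hρloc.map_nonunit _ h4
      haveI hvl : IsLocalHom v := H4_isLocalHom_of_comp
        (H4_strictHenselization_map_maximalIdeal (R := Localization.AtPrime p) Rh) v hvloc
      have hτ0 : (ResidueField.map v).comp
          (ResidueField.map (algebraMap (Localization.AtPrime p) Rh)) =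
          ResidueField.map (v.comp (algebraMap (Localization.AtPrime p) Rh)) := by
        rw [← ResidueField.map_comp]
      obtain ⟨w, -, hwuniq⟩ := Hensel.IsStrictHenselization.universal
        (R := Localization.AtPrime p) (S := Rh) C
        (v.comp (algebraMap (Localization.AtPrime p) Rh)) (ResidueField.map v) hτ0
      have hu' : u = w := by
        refine hwuniq u ⟨huv, ?_⟩
        intro x
        rw [ResidueField.map_residue]
        simp only [hu, hv, RingHom.coe_comp, Function.comp_apply]
        rw [hg2, ← hψa, hτres]
      have hv' : v = w := by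
        refine hwuniq v ⟨rfl, ?_⟩
        intro x
        rw [ResidueField.map_residue]
      exact hu'.trans hv'.symm
    · ext s
      simp only [RingHom.coe_comp, Function.comp_apply]
      exact hgS s
  · rintro g' ⟨hg'1, hg'2⟩
    refine hguniq g' ⟨?_, hg'2⟩
    rw [← hψα, ← RingHom.comp_assoc]
    congr 1

end

end Groth.Agent.H4
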