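import Mathlib
import Groth.Prelude.Def_Hensel
import Groth.Agent.Lib.helper4.QuasiFiniteHensLocal
import Groth.Agent.Lib.helper4.HensTensorPrime
import Groth.Agent.Lib.helper4.SHensTensorPrime
import Groth.Agent.S0505
import Groth.Agent.Lib.helper4.HenselizationBasic

/-!
# Finiteness of `R_p^h → S_q^h` for `R → S` quasi-finite at `q`
-/

open TensorProduct

namespace Groth.Agent.H4

universe u

/-- Core: `(R^h ⊗_R S)_Q` is a finite `R^h`-module. -/
theorem H4_finite_tensor_localization (R : Type u) [CommRing R] (S : Type u)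
    [CommRing S] [Algebra R S] [Algebra.FiniteType R S] (q : Ideal S) [q.IsPrime]
    [Algebra.QuasiFiniteAt R q]
    (Rh : Type u) [CommRing Rh] [HenselianLocalRing Rh] [Algebra R Rh]
    (Sh : Type u) [CommRing Sh] [IsLocalRing Sh] [Algebra S Sh] [Algebra R Sh] [IsScalarTower R S Sh]
    [Algebra Rh Sh] [IsScalarTower R Rh Sh] [IsLocalHom (algebraMap Rh Sh)]
    (hq : q = (IsLocalRing.maximalIdeal Sh).comap (algebraMap S Sh))
    (Q : Ideal (Rh ⊗[R] S)) [Q.IsPrime]
    (hQ : Q = Ideal.comap (Algebra.TensorProduct.lift (IsScalarTower.toAlgHom R Rh Sh)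
      (IsScalarTower.toAlgHom R S Sh) (fun _ _ => Commute.all _ _)) (IsLocalRing.maximalIdeal Sh)) :
    Module.Finite Rh (Localization.AtPrime Q) := by
  set φ : Rh ⊗[R] S →ₐ[R] Sh := Algebra.TensorProduct.lift (IsScalarTower.toAlgHom R Rh Sh)
    (IsScalarTower.toAlgHom R S Sh) (fun _ _ => Commute.all _ _) with hφ
  have hmemQ : ∀ t : Rh ⊗[R] S, t ∈ Q ↔ φ t ∈ IsLocalRing.maximalIdeal Sh := by
    intro t
    rw [hQ]
    rfl
  haveI hlies : Q.LiesOver (IsLocalRing.maximalIdeal Rh) := by
    constructor
    ext r
    rw [Ideal.under_def, Ideal.mem_comap, hmemQ]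
    have h1 : φ (algebraMap Rh (Rh ⊗[R] S) r) = algebraMap Rh Sh r := by
      rw [Algebra.TensorProduct.algebraMap_apply, hφ, Algebra.TensorProduct.lift_tmul]
      simp
    rw [h1]
    have h3 : IsLocalHom (algebraMap Rh Sh) := inferInstance
    have h2 := ((IsLocalRing.local_hom_TFAE (algebraMap Rh Sh)).out 0 4).1 h3
    rw [← h2, Ideal.mem_comap]
  haveI hqf : Algebra.QuasiFiniteAt Rh Q := by
    refine Algebra.QuasiFiniteAt.baseChange q Q ?_
    ext s
    rw [Ideal.mem_comap, hmemQ, hq, Ideal.mem_comap]
    have h1 : φ ((Algebra.TensorProduct.includeRight : S →ₐ[R] Rh ⊗[R] S).toRingHom s) =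
        algebraMap S Sh s := by
      simp [hφ]
    rw [h1]
  exact H4_finite_localization_of_quasiFiniteAt Rh (Rh ⊗[R] S) Q

/-- A henselian local ring is its own henselization. -/
theorem H4_isHenselization_self (D : Type u) [CommRing D] [HenselianLocalRing D]
    [IsLocalHom (algebraMap D D)] : Hensel.IsHenselization D D where
  henselian := inferInstance
  universal := by
    intro C _ _ f _
    refine ⟨f, ?_, ?_⟩
    · ext x; rfl
    · intro g hg
      ext x
      exact RingHom.congr_fun hg x

/-- `q` is the preimage of the maximal ideal of a (strict) henselization of `S_q`. -/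
theorem H4_comap_maximalIdeal_of_tower {S : Type u} [CommRing S] (q : Ideal S) [q.IsPrime]
    (Sh : Type u) [CommRing Sh] [IsLocalRing Sh] [Algebra (Localization.AtPrime q) Sh]
    [IsLocalHom (algebraMap (Localization.AtPrime q) Sh)] [Algebra S Sh]
    [IsScalarTower S (Localization.AtPrime q) Sh] :
    q = (IsLocalRing.maximalIdeal Sh).comap (algebraMap S Sh) := by
  have h3 : IsLocalHom (algebraMap (Localization.AtPrime q) Sh) := inferInstance
  have h2 := ((IsLocalRing.local_hom_TFAE (algebraMap (Localization.AtPrime q) Sh)).out 0 4).1 h3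
  rw [IsScalarTower.algebraMap_eq S (Localization.AtPrime q) Sh, ← Ideal.comap_comap, h2]
  exact (IsLocalization.AtPrime.comap_maximalIdeal (Localization.AtPrime q) q).symm

/-- The canonical map `R_p^h → S_q^h` is local as soon as `𝔪_{R_p} R_p^h = 𝔪`. -/
theorem H4_isLocalHom_hens_map (R : Type u) [CommRing R] (S : Type u)
    [CommRing S] [Algebra R S] (p : Ideal R) [p.IsPrime] (q : Ideal S) [q.IsPrime] [q.LiesOver p]
    (Rh : Type u) [CommRing Rh] [IsLocalRing Rh] [Algebra (Localization.AtPrime p) Rh]
    [Algebra R Rh] [IsScalarTower R (Localization.AtPrime p) Rh]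
    (hm : (IsLocalRing.maximalIdeal (Localization.AtPrime p)).map
      (algebraMap (Localization.AtPrime p) Rh) = IsLocalRing.maximalIdeal Rh)
    (Sh : Type u) [CommRing Sh] [IsLocalRing Sh] [Algebra (Localization.AtPrime q) Sh]
    [IsLocalHom (algebraMap (Localization.AtPrime q) Sh)] [Algebra S Sh]
    [IsScalarTower S (Localization.AtPrime q) Sh] [Algebra R Sh] [IsScalarTower R S Sh]
    [Algebra Rh Sh] [IsScalarTower R Rh Sh] : IsLocalHom (algebraMap Rh Sh) := by
  have hpq : p = q.comap (algebraMap R S) := Ideal.LiesOver.over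
  refine H4_isLocalHom_of_comp hm (algebraMap Rh Sh) ?_
  have h1 : (algebraMap Rh Sh).comp (algebraMap (Localization.AtPrime p) Rh) =
      (algebraMap (Localization.AtPrime q) Sh).comp
        (Localization.localRingHom p q (algebraMap R S) hpq) := by
    refine IsLocalization.ringHom_ext p.primeCompl ?_
    ext r
    simp only [RingHom.coe_comp, Function.comp_apply]
    rw [Localization.localRingHom_to_map, ← IsScalarTower.algebraMap_apply R (Localization.AtPrime p) Rh,
      ← IsScalarTower.algebraMap_apply R Rh Sh, ← IsScalarTower.algebraMap_apply S (Localization.AtPrime q) Sh,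
      ← IsScalarTower.algebraMap_apply R S Sh]
  rw [h1]
  haveI := Localization.isLocalHom_localRingHom p q (algebraMap R S) hpq
  exact RingHom.isLocalHom_comp _ _

theorem H4_finite_hens_of_quasiFiniteAt (R : Type u) [CommRing R] (S : Type u)
    [CommRing S] [Algebra R S] [Algebra.FiniteType R S] (p : Ideal R) [p.IsPrime] (q : Ideal S)
    [q.IsPrime] [q.LiesOver p] [Algebra.QuasiFiniteAt R q]
    (Rh : Type u) [CommRing Rh] [IsLocalRing Rh] [Algebra (Localization.AtPrime p) Rh]
    [IsLocalHom (algebraMap (Localization.AtPrime p) Rh)]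
    [Hensel.IsHenselization (Localization.AtPrime p) Rh] [Algebra R Rh]
    [IsScalarTower R (Localization.AtPrime p) Rh]
    (Sh : Type u) [CommRing Sh] [IsLocalRing Sh] [Algebra (Localization.AtPrime q) Sh]
    [IsLocalHom (algebraMap (Localization.AtPrime q) Sh)]
    [Hensel.IsHenselization (Localization.AtPrime q) Sh] [Algebra S Sh]
    [IsScalarTower S (Localization.AtPrime q) Sh] [Algebra R Sh] [IsScalarTower R S Sh]
    [Algebra Rh Sh] [IsScalarTower R Rh Sh] : Module.Finite Rh Sh := by
  classical
  haveI hRh : HenselianLocalRing Rh :=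
    Hensel.IsHenselization.henselian (R := Localization.AtPrime p)
  haveI hloc : IsLocalHom (algebraMap Rh Sh) := H4_isLocalHom_hens_map R S p q Rh
    (H4_henselization_map_maximalIdeal (R := Localization.AtPrime p) (S := Rh)).1 Sh
  have hq := H4_comap_maximalIdeal_of_tower q Sh
  set φ : Rh ⊗[R] S →ₐ[R] Sh := Algebra.TensorProduct.lift (IsScalarTower.toAlgHom R Rh Sh)
    (IsScalarTower.toAlgHom R S Sh) (fun _ _ => Commute.all _ _) with hφ
  set Q : Ideal (Rh ⊗[R] S) := Ideal.comap φ (IsLocalRing.maximalIdeal Sh) with hQ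
  haveI hfin : Module.Finite Rh (Localization.AtPrime Q) :=
    H4_finite_tensor_localization R S q Rh Sh hq Q rfl
  haveI hD : HenselianLocalRing (Localization.AtPrime Q) :=
    Groth.Agent.S0505.result Rh (Localization.AtPrime Q)
  haveI : IsLocalHom (algebraMap (Localization.AtPrime Q) (Localization.AtPrime Q)) :=
    ⟨fun a h => h⟩
  haveI := H4_isHenselization_self (Localization.AtPrime Q)
  obtain ⟨e, he⟩ := H4_hens_tensor_at_prime R S p q Rh Sh Q rfl (Localization.AtPrime Q)
  let L : Localization.AtPrime Q →ₗ[Rh] Sh :=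
    { toFun := e
      map_add' := map_add e
      map_smul' := by
        intro r x
        rw [Algebra.smul_def, map_mul, RingHom.id_apply, Algebra.smul_def]
        congr 1
        rw [IsScalarTower.algebraMap_apply Rh (Rh ⊗[R] S) (Localization.AtPrime Q)]
        have h1 := he (algebraMap Rh (Rh ⊗[R] S) r)
        rw [Algebra.algebraMap_self, RingHom.id_apply] at h1
        rw [h1, Algebra.TensorProduct.algebraMap_apply, Algebra.TensorProduct.lift_tmul]
        simp }
  exact Module.Finite.of_surjective L e.surjective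

/-- A strictly henselian local ring is its own strict henselization. -/
theorem H4_isStrictHenselization_self (D : Type u) [CommRing D] [HenselianLocalRing D]
    [IsSepClosed (IsLocalRing.ResidueField D)]
    [IsLocalHom (algebraMap D D)] : Hensel.IsStrictHenselization D D where
  henselian := inferInstance
  isSepClosure := by
    refine @IsSepClosure.mk _ _ _ _ (IsLocalRing.ResidueField.instAlgebra) ?_ ?_
    · infer_instance
    · refine @Algebra.IsSeparable.mk _ _ _ _ (IsLocalRing.ResidueField.instAlgebra) ?_
      intro x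
      obtain ⟨d, rfl⟩ := IsLocalRing.residue_surjective x
      have h1 := IsLocalRing.ResidueField.algebraMap_residue (R := D) (S := D) d
      have h2 : IsLocalRing.residue D d = _ := h1.symm
      rw [h2]
      exact @isSeparable_algebraMap (IsLocalRing.ResidueField D) _ (IsLocalRing.ResidueField D) _
        (IsLocalRing.ResidueField.instAlgebra) _
  universal := by
    intro C _ _ f _ τ hτ
    refine ⟨f, ⟨?_, ?_⟩, ?_⟩
    · ext x; rfl
    · intro x
      have h1 := RingHom.congr_fun hτ (IsLocalRing.residue D x)
      simp only [RingHom.comp_apply, IsLocalRing.ResidueField.map_residue] at h1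
      exact h1.symm
    · rintro g ⟨hg, -⟩
      ext x
      exact RingHom.congr_fun hg x

theorem H4_finite_shens_of_quasiFiniteAt (R : Type u) [CommRing R] (S : Type u)
    [CommRing S] [Algebra R S] [Algebra.FiniteType R S] (p : Ideal R) [p.IsPrime] (q : Ideal S)
    [q.IsPrime] [q.LiesOver p] [Algebra.QuasiFiniteAt R q]
    (Rh : Type u) [CommRing Rh] [IsLocalRing Rh] [Algebra (Localization.AtPrime p) Rh]
    [IsLocalHom (algebraMap (Localization.AtPrime p) Rh)]
    [Hensel.IsStrictHenselization (Localization.AtPrime p) Rh] [Algebra R Rh]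
    [IsScalarTower R (Localization.AtPrime p) Rh]
    (Sh : Type u) [CommRing Sh] [IsLocalRing Sh] [Algebra (Localization.AtPrime q) Sh]
    [IsLocalHom (algebraMap (Localization.AtPrime q) Sh)]
    [Hensel.IsStrictHenselization (Localization.AtPrime q) Sh] [Algebra S Sh]
    [IsScalarTower S (Localization.AtPrime q) Sh] [Algebra R Sh] [IsScalarTower R S Sh]
    [Algebra Rh Sh] [IsScalarTower R Rh Sh] [IsLocalHom (algebraMap Rh Sh)] :
    Module.Finite Rh Sh ∧
      Module.Finite (IsLocalRing.ResidueField Rh) (IsLocalRing.ResidueField Sh) ∧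
      IsPurelyInseparable (IsLocalRing.ResidueField Rh) (IsLocalRing.ResidueField Sh) := by
  classical
  haveI hRh : HenselianLocalRing Rh :=
    Hensel.IsStrictHenselization.henselian (R := Localization.AtPrime p)
  haveI hsc : IsSepClosed (IsLocalRing.ResidueField Rh) :=
    (Hensel.IsStrictHenselization.isSepClosure (R := Localization.AtPrime p) (S := Rh)).sep_closed
  have hq := H4_comap_maximalIdeal_of_tower q Sh
  set φ : Rh ⊗[R] S →ₐ[R] Sh := Algebra.TensorProduct.lift (IsScalarTower.toAlgHom R Rh Sh)
    (IsScalarTower.toAlgHom R S Sh) (fun _ _ => Commute.all _ _) with hφ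
  set Q : Ideal (Rh ⊗[R] S) := Ideal.comap φ (IsLocalRing.maximalIdeal Sh) with hQ
  haveI hfin : Module.Finite Rh (Localization.AtPrime Q) :=
    H4_finite_tensor_localization R S q Rh Sh hq Q rfl
  haveI hD : HenselianLocalRing (Localization.AtPrime Q) :=
    Groth.Agent.S0505.result Rh (Localization.AtPrime Q)
  haveI hlocD : IsLocalHom (algebraMap Rh (Localization.AtPrime Q)) := by
    haveI : Algebra.IsIntegral Rh (Localization.AtPrime Q) := Algebra.IsIntegral.of_finite _ _
    have h1 : ((IsLocalRing.maximalIdeal (Localization.AtPrime Q)).comap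
        (algebraMap Rh (Localization.AtPrime Q))).IsMaximal :=
      Ideal.isMaximal_comap_of_isIntegral_of_isMaximal _
    exact ((IsLocalRing.local_hom_TFAE (algebraMap Rh (Localization.AtPrime Q))).out 0 4).mpr
      (IsLocalRing.eq_maximalIdeal h1)
  haveI hfinres : Module.Finite (IsLocalRing.ResidueField Rh)
      (IsLocalRing.ResidueField (Localization.AtPrime Q)) :=
    Module.Finite.of_restrictScalars_finite Rh _ _
  haveI hscD : IsSepClosed (IsLocalRing.ResidueField (Localization.AtPrime Q)) :=
    Algebra.IsAlgebraic.isSepClosed (F := IsLocalRing.ResidueField Rh)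
  haveI : IsLocalHom (algebraMap (Localization.AtPrime Q) (Localization.AtPrime Q)) :=
    ⟨fun a h => h⟩
  haveI := H4_isStrictHenselization_self (Localization.AtPrime Q)
  obtain ⟨e, he⟩ := H4_shens_tensor_at_prime R S p q Rh Sh Q rfl (Localization.AtPrime Q)
  let L : Localization.AtPrime Q →ₗ[Rh] Sh :=
    { toFun := e
      map_add' := map_add e
      map_smul' := by
        intro r x
        rw [Algebra.smul_def, map_mul, RingHom.id_apply, Algebra.smul_def]
        congr 1
        rw [IsScalarTower.algebraMap_apply Rh (Rh ⊗[R] S) (Localization.AtPrime Q)]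
        have h1 := he (algebraMap Rh (Rh ⊗[R] S) r)
        rw [Algebra.algebraMap_self, RingHom.id_apply] at h1
        rw [h1, Algebra.TensorProduct.algebraMap_apply, Algebra.TensorProduct.lift_tmul]
        simp }
  haveI hfinSh : Module.Finite Rh Sh := Module.Finite.of_surjective L e.surjective
  haveI hfinres' : Module.Finite (IsLocalRing.ResidueField Rh) (IsLocalRing.ResidueField Sh) :=
    Module.Finite.of_restrictScalars_finite Rh _ _
  exact ⟨hfinSh, hfinres', inferInstance⟩

end Groth.Agent.H4
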