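import Mathlib
import Groth.Agent.Lib.helper4.QuasiFiniteHensel
import Groth.Agent.Lib.helper4.FiniteLocalProd

set_option autoImplicit false
universe u
open Polynomial IsLocalRing

namespace Groth.Agent.H4

/-- The prime of `AdjoinRoot f` attached to an irreducible factor of the reduction of `f`. -/
theorem H4_adjoinRoot_prime_of_irreducible {R : Type u} [CommRing R] [IsLocalRing R] (f : R[X])
    (ρ : (ResidueField R)[X]) (hρ : Irreducible ρ) (hdvd : ρ ∣ f.map (residue R)) :
    ∃ q : Ideal (AdjoinRoot f), q.IsPrime ∧ q.LiesOver (maximalIdeal R) ∧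
      ∀ P : R[X], AdjoinRoot.mk f P ∈ q ↔ ρ ∣ P.map (residue R) := by
  haveI : Fact (Irreducible ρ) := ⟨hρ⟩
  have h0 : f.eval₂ ((AdjoinRoot.of ρ).comp (residue R)) (AdjoinRoot.root ρ) = 0 := by
    rw [← Polynomial.eval₂_map, ← AdjoinRoot.algebraMap_eq, ← Polynomial.aeval_def,
      AdjoinRoot.aeval_eq, AdjoinRoot.mk_eq_zero]
    exact hdvd
  let ψ : AdjoinRoot f →+* AdjoinRoot ρ :=
    AdjoinRoot.lift ((AdjoinRoot.of ρ).comp (residue R)) (AdjoinRoot.root ρ) h0
  have hψ : ∀ P : R[X], ψ (AdjoinRoot.mk f P) = AdjoinRoot.mk ρ (P.map (residue R)) := by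
    intro P
    rw [AdjoinRoot.lift_mk, ← Polynomial.eval₂_map, ← AdjoinRoot.algebraMap_eq,
      ← Polynomial.aeval_def, AdjoinRoot.aeval_eq]
  refine ⟨RingHom.ker ψ, RingHom.ker_isPrime ψ, ⟨?_⟩, ?_⟩
  · ext r
    rw [Ideal.under_def, Ideal.mem_comap, RingHom.mem_ker, AdjoinRoot.algebraMap_eq,
      ← AdjoinRoot.mk_C, hψ, Polynomial.map_C, AdjoinRoot.mk_C]
    constructor
    · intro hr
      rw [(residue_eq_zero_iff r).mpr hr, map_zero]
    · intro hr
      have := AdjoinRoot.coe_injective' (f := ρ) (hr.trans (map_zero _).symm)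
      exact (residue_eq_zero_iff r).mp this
  · intro P
    rw [RingHom.mem_ker, hψ, AdjoinRoot.mk_eq_zero]

/-- `AdjoinRoot f` is quasi-finite over a local ring when the reduction of `f` is nonzero. -/
theorem H4_adjoinRoot_quasiFinite {R : Type u} [CommRing R] [IsLocalRing R] (f : R[X])
    (hf : f.map (residue R) ≠ 0) : Algebra.QuasiFinite R (AdjoinRoot f) := by
  constructor
  intro P hP
  -- a coefficient outside the maximal ideal
  obtain ⟨n, hn⟩ : ∃ n, f.coeff n ∉ maximalIdeal R := by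
    by_contra hcon
    push Not at hcon
    apply hf
    ext n
    rw [Polynomial.coeff_map, Polynomial.coeff_zero, residue_eq_zero_iff]
    exact hcon n
  have hnP : f.coeff n ∉ P := fun h => hn (IsLocalRing.le_maximalIdeal hP.ne_top h)
  let t : P.Fiber (AdjoinRoot f) := (1 : P.ResidueField) ⊗ₜ[R] AdjoinRoot.root f
  have halg : IsAlgebraic P.ResidueField t := by
    refine ⟨f.map (algebraMap R P.ResidueField), ?_, ?_⟩
    · intro h0
      have := congrArg (fun p => p.coeff n) h0
      simp only [Polynomial.coeff_map, Polynomial.coeff_zero] at this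
      exact hnP ((Ideal.algebraMap_residueField_eq_zero).mp this)
    · rw [Polynomial.aeval_map_algebraMap]
      have h1 : t = (Algebra.TensorProduct.includeRight :
          AdjoinRoot f →ₐ[R] P.Fiber (AdjoinRoot f)) (AdjoinRoot.root f) := rfl
      rw [h1, Polynomial.aeval_algHom_apply, AdjoinRoot.aeval_eq, AdjoinRoot.mk_self, map_zero]
  have hint : IsIntegral P.ResidueField t := halg.isIntegral
  have htop : Algebra.adjoin P.ResidueField ({t} : Set (P.Fiber (AdjoinRoot f))) = ⊤ := by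
    have h2 := Algebra.TensorProduct.adjoin_one_tmul_image_eq_top (A := P.ResidueField)
      (R := R) (B := AdjoinRoot f) (s := {AdjoinRoot.root f})
      (AdjoinRoot.adjoinRoot_eq_top (f := f))
    simpa using h2
  haveI : Module.Finite P.ResidueField
      (Algebra.adjoin P.ResidueField ({t} : Set (P.Fiber (AdjoinRoot f)))) :=
    Algebra.finite_adjoin_simple_of_isIntegral hint
  rw [htop] at this
  exact Module.Finite.equiv (Subalgebra.topEquiv (R := P.ResidueField)
    (A := P.Fiber (AdjoinRoot f))).toLinearEquiv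


theorem H4_coeff_mem_of_map_eq_zero {R : Type u} [CommRing R] [IsLocalRing R] (M : R[X])
    (h : M.map (residue R) = 0) (n : ℕ) : M.coeff n ∈ maximalIdeal R := by
  have := congrArg (fun p => p.coeff n) h
  simp only [Polynomial.coeff_map, Polynomial.coeff_zero] at this
  exact (residue_eq_zero_iff _).mp this

set_option maxHeartbeats 800000 in
/-- Core case of Hensel factorization: lifting a prime-power factor. -/
theorem H4_factor_lift_prime_pow {R : Type u} [CommRing R] [HenselianLocalRing R] (f : R[X])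
    (π₀ h₁ : (ResidueField R)[X]) (hπ : Irreducible π₀) (hπm : π₀.Monic) (i : ℕ) (hi : 0 < i)
    (hc : IsCoprime π₀ h₁) (hf : f.map (residue R) = π₀ ^ i * h₁) :
    ∃ g h : R[X], f = g * h ∧ g.Monic ∧ g.map (residue R) = π₀ ^ i ∧
      h.map (residue R) = h₁ := by
  classical
  have hsurj : Function.Surjective (Polynomial.map (residue R)) :=
    Polynomial.map_surjective _ residue_surjective
  have hh₁ : h₁ ≠ 0 := by
    rintro rfl
    exact hπ.not_isUnit (isCoprime_zero_right.mp hc)
  set g₀ := π₀ ^ i with hg₀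
  have hg₀m : g₀.Monic := hπm.pow i
  have hg₀ne : g₀ ≠ 0 := hg₀m.ne_zero
  have hf0 : f.map (residue R) ≠ 0 := by rw [hf]; exact mul_ne_zero hg₀ne hh₁
  have hπdvd : π₀ ∣ f.map (residue R) := by
    rw [hf]; exact dvd_mul_of_dvd_left (dvd_pow_self π₀ hi.ne') _
  haveI := H4_adjoinRoot_quasiFinite f hf0
  obtain ⟨q, hqp, hqm, hq⟩ := H4_adjoinRoot_prime_of_irreducible f π₀ hπ hπdvd
  haveI := hqp
  haveI := hqm
  obtain ⟨e, hei, heq, hefg, heuniq⟩ := H4_quasiFiniteAt_idem R (AdjoinRoot f) q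
  obtain ⟨E, rfl⟩ := AdjoinRoot.mk_surjective e
  set Eb := E.map (residue R) with hEb
  have hEπ : ¬ π₀ ∣ Eb := fun h => heq ((hq E).mpr h)
  -- `h₁ ∣ Eb`
  have hidem : f ∣ E * E - E := by
    rw [← AdjoinRoot.mk_eq_mk, map_mul]; exact hei
  have hidem' : h₁ ∣ Eb * (Eb - 1) := by
    have h1 := Polynomial.map_dvd (residue R) hidem
    rw [Polynomial.map_sub, Polynomial.map_mul, hf] at h1
    have h2 : Eb * (Eb - 1) = Eb * Eb - Eb := by ring
    rw [h2]
    exact (dvd_mul_left h₁ g₀).trans h1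
  have hcop2 : IsCoprime h₁ (Eb - 1) := by
    apply isCoprime_of_prime_dvd
    · rintro ⟨h, -⟩; exact hh₁ h
    · intro ρ hρ hρh hρE
      have hρf : ρ ∣ f.map (residue R) := by rw [hf]; exact dvd_mul_of_dvd_right hρh _
      obtain ⟨q', hq'p, hq'm, hq'⟩ := H4_adjoinRoot_prime_of_irreducible f ρ hρ.irreducible hρf
      have heq' : AdjoinRoot.mk f E ∉ q' := by
        intro h
        have h1 : ρ ∣ Eb := (hq' E).mp h
        have h2 : ρ ∣ 1 := by
          have := dvd_sub h1 hρE
          simpa using this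
        exact hρ.not_isUnit (isUnit_of_dvd_one h2)
      have hqq := heuniq q' hq'p hq'm heq'
      obtain ⟨Pl, hPl⟩ := hsurj π₀
      have h3 : AdjoinRoot.mk f Pl ∈ q := (hq Pl).mpr (by rw [hPl])
      rw [← hqq] at h3
      have h4 : ρ ∣ π₀ := by
        have := (hq' Pl).mp h3
        rwa [hPl] at this
      have hassoc := (hρ.irreducible.dvd_irreducible_iff_associated hπ).mp h4
      have h5 : π₀ ∣ h₁ := hassoc.dvd_iff_dvd_left.mp hρh
      exact hπ.not_isUnit (hc.isUnit_of_dvd' dvd_rfl h5)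
  have hh₁E : h₁ ∣ Eb := hcop2.dvd_of_dvd_mul_right hidem'
  -- a monic lift of `g₀`
  obtain ⟨G₀, hG₀map, hG₀deg, hG₀m⟩ := Polynomial.lifts_and_natDegree_eq_and_monic
    (p := g₀) ((Polynomial.mem_lifts _).mpr (hsurj g₀)) hg₀m
  set d := g₀.natDegree with hd
  have hdpos : 0 < d := by
    rw [hd, hg₀, hπm.natDegree_pow]
    exact Nat.mul_pos hi hπ.natDegree_pos
  have hG₀ne1 : G₀ ≠ 1 := by
    intro h; rw [h, Polynomial.natDegree_one] at hG₀deg; omega
  -- `E * G₀` is congruent to a polynomial with coefficients in the maximal ideal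
  obtain ⟨M, hMcoeff, hMmk⟩ : ∃ M : R[X], (∀ n, M.coeff n ∈ maximalIdeal R) ∧
      AdjoinRoot.mk f (E * G₀) = AdjoinRoot.mk f M := by
    obtain ⟨a, ha⟩ := hh₁E
    obtain ⟨W, hW⟩ := hsurj a
    refine ⟨E * G₀ - f * W, H4_coeff_mem_of_map_eq_zero _ ?_, ?_⟩
    · rw [Polynomial.map_sub, Polynomial.map_mul, Polynomial.map_mul, hG₀map, hf, hW, ← hEb, ha]
      ring
    · rw [map_sub, map_mul (AdjoinRoot.mk f) f W, AdjoinRoot.mk_self, zero_mul, sub_zero]
  set S := AdjoinRoot f
  set x : S := AdjoinRoot.root f with hx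
  set e : S := AdjoinRoot.mk f E with he
  have hmkP : ∀ P : R[X], AdjoinRoot.mk f P = Polynomial.aeval x P := fun P =>
    (AdjoinRoot.aeval_eq P).symm
  -- Nakayama
  let N : Submodule R S := (Ideal.span {e} : Ideal S).restrictScalars R
  let v : Fin d → S := fun j => e * x ^ (j : ℕ)
  let N' : Submodule R S := Submodule.span R (Set.range v)
  have hmemN : ∀ s : S, s * e ∈ N := fun s => by
    show s * e ∈ (Ideal.span {e} : Ideal S)
    exact Ideal.mul_mem_left _ _ (Ideal.mem_span_singleton_self e)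
  have hNN : N ≤ N' ⊔ maximalIdeal R • N := by
    intro y hy
    obtain ⟨s, rfl⟩ := Ideal.mem_span_singleton'.mp (show y ∈ (Ideal.span {e} : Ideal S) from hy)
    obtain ⟨P, rfl⟩ := AdjoinRoot.mk_surjective s
    have hP : P = P %ₘ G₀ + G₀ * (P /ₘ G₀) := (Polynomial.modByMonic_add_div P G₀).symm
    have hdeg : (P %ₘ G₀).natDegree < d := by
      rw [← hG₀deg]; exact Polynomial.natDegree_modByMonic_lt P hG₀m hG₀ne1
    have hsplit : AdjoinRoot.mk f P * e = AdjoinRoot.mk f (P %ₘ G₀) * e +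
        AdjoinRoot.mk f (P /ₘ G₀) * e * AdjoinRoot.mk f M := by
      have h1 : e * AdjoinRoot.mk f G₀ = e * AdjoinRoot.mk f M := by
        have : e * AdjoinRoot.mk f G₀ = AdjoinRoot.mk f (E * G₀) := by rw [map_mul]
        calc e * AdjoinRoot.mk f G₀ = e * (e * AdjoinRoot.mk f G₀) := by
              rw [← mul_assoc, hei.eq]
          _ = e * AdjoinRoot.mk f M := by rw [this, hMmk]
      conv_lhs => rw [hP]
      rw [map_add, map_mul, add_mul]
      congr 1
      calc AdjoinRoot.mk f G₀ * AdjoinRoot.mk f (P /ₘ G₀) * e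
          = AdjoinRoot.mk f (P /ₘ G₀) * (e * AdjoinRoot.mk f G₀) := by ring
        _ = AdjoinRoot.mk f (P /ₘ G₀) * (e * AdjoinRoot.mk f M) := by rw [h1]
        _ = _ := by ring
    rw [hsplit]
    apply Submodule.add_mem_sup
    · rw [hmkP, Polynomial.aeval_eq_sum_range' hdeg, Finset.sum_mul, Finset.sum_range]
      apply Submodule.sum_mem
      intro j _
      rw [smul_mul_assoc]
      apply Submodule.smul_mem
      apply Submodule.subset_span
      exact ⟨j, by simp only [v]; ring⟩
    · rw [hmkP M, Polynomial.aeval_eq_sum_range, Finset.mul_sum]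
      apply Submodule.sum_mem
      intro j _
      rw [mul_smul_comm]
      apply Submodule.smul_mem_smul (hMcoeff j)
      have : AdjoinRoot.mk f (P /ₘ G₀) * e * x ^ j = (AdjoinRoot.mk f (P /ₘ G₀) * x ^ j) * e := by
        ring
      rw [this]
      exact hmemN _
  have hNle : N ≤ N' := Submodule.le_of_le_smul_of_le_jacobson_bot hefg
    (IsLocalRing.maximalIdeal_le_jacobson ⊥) hNN
  -- the monic polynomial `g`
  have hxd : x ^ d * e ∈ N' := hNle (hmemN _)
  obtain ⟨c, hc'⟩ := (Submodule.mem_span_range_iff_exists_fun R).mp hxd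
  let g : R[X] := X ^ d - ∑ j : Fin d, C (c j) * X ^ (j : ℕ)
  have hgm : g.Monic := Polynomial.monic_X_pow_sub (Polynomial.degree_sum_fin_lt c)
  have hgdeg : g.natDegree = d := by
    have h1 : g.degree = d := by
      simp only [g]
      rw [Polynomial.degree_sub_eq_left_of_degree_lt]
      · exact Polynomial.degree_X_pow d
      · rw [Polynomial.degree_X_pow]; exact Polynomial.degree_sum_fin_lt c
    exact Polynomial.natDegree_eq_of_degree_eq_some h1
  have hge : e * AdjoinRoot.mk f g = 0 := by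
    simp only [g, map_sub, map_pow, map_sum, map_mul, AdjoinRoot.mk_X, AdjoinRoot.mk_C]
    rw [mul_sub, mul_comm e (x ^ d), ← hc', Finset.mul_sum, ← Finset.sum_sub_distrib]
    apply Finset.sum_eq_zero
    intro j _
    simp only [v, Algebra.smul_def]
    rw [AdjoinRoot.algebraMap_eq, ← hx]
    ring
  have hfEg : f ∣ E * g := by
    rw [← AdjoinRoot.mk_eq_zero, map_mul]; exact hge
  -- `g` reduces to `g₀`
  have hcopE : IsCoprime g₀ Eb := (hπ.coprime_iff_not_dvd.mpr hEπ).pow_left
  have hgmap : g.map (residue R) = g₀ := by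
    have h1 : g₀ ∣ Eb * g.map (residue R) := by
      have := Polynomial.map_dvd (residue R) hfEg
      rw [Polynomial.map_mul, hf] at this
      exact (dvd_mul_right g₀ h₁).trans this
    have h2 : g₀ ∣ g.map (residue R) := hcopE.dvd_of_dvd_mul_left h1
    exact Polynomial.eq_of_monic_of_dvd_of_natDegree_le hg₀m (hgm.map _) h2
      (by rw [hgm.natDegree_map, hgdeg])
  -- `g ∣ f`
  obtain ⟨a, ha⟩ := hfEg
  have hab : Eb = h₁ * a.map (residue R) := by
    have := congrArg (Polynomial.map (residue R)) ha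
    rw [Polynomial.map_mul, Polynomial.map_mul, hgmap, hf] at this
    have h2 : g₀ * Eb = g₀ * (h₁ * a.map (residue R)) := by
      rw [mul_comm g₀ Eb, this]; ring
    exact mul_left_cancel₀ hg₀ne h2
  have hcopa : IsCoprime g₀ (a.map (residue R)) := by
    rw [hab] at hcopE
    exact hcopE.of_mul_right_right
  obtain ⟨ub, vb, huv⟩ := hcopa
  obtain ⟨U, hU⟩ := hsurj ub
  obtain ⟨V, hV⟩ := hsurj vb
  haveI : Module.Finite R (AdjoinRoot g) := hgm.finite_adjoinRoot
  have hM' : ∀ n, (U * g + V * a - 1).coeff n ∈ maximalIdeal R := by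
    apply H4_coeff_mem_of_map_eq_zero
    rw [Polynomial.map_sub, Polynomial.map_add, Polynomial.map_mul, Polynomial.map_mul,
      hU, hV, hgmap, Polynomial.map_one, huv, sub_self]
  have hjac : AdjoinRoot.mk g (U * g + V * a - 1) ∈ Ideal.jacobson (⊥ : Ideal (AdjoinRoot g)) := by
    apply H4_map_maximalIdeal_le_jacobson R (AdjoinRoot g)
    rw [← AdjoinRoot.aeval_eq, Polynomial.aeval_eq_sum_range]
    apply Ideal.sum_mem
    intro j _
    rw [Algebra.smul_def]
    exact Ideal.mul_mem_right _ _ (Ideal.mem_map_of_mem _ (hM' j))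
  have hunit : IsUnit (AdjoinRoot.mk g (V * a)) := by
    have h1 := (Ideal.mem_jacobson_bot.mp hjac) 1
    have h2 : AdjoinRoot.mk g (U * g + V * a - 1) * 1 + 1 = AdjoinRoot.mk g (V * a) := by
      simp only [map_sub, map_add, map_mul, AdjoinRoot.mk_self, map_one]
      ring
    rwa [h2] at h1
  have hunita : IsUnit (AdjoinRoot.mk g a) := by
    rw [map_mul] at hunit
    exact isUnit_of_mul_isUnit_right hunit
  have hgf : g ∣ f := by
    rw [← AdjoinRoot.mk_eq_zero]
    have h1 : AdjoinRoot.mk g f * AdjoinRoot.mk g a = 0 := by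
      rw [← map_mul, ← ha, map_mul, AdjoinRoot.mk_self, mul_zero]
    exact (hunita.mul_left_eq_zero).mp h1
  obtain ⟨h, hh⟩ := hgf
  refine ⟨g, h, hh, hgm, hgmap, ?_⟩
  have := congrArg (Polynomial.map (residue R)) hh
  rw [Polynomial.map_mul, hgmap, hf] at this
  exact (mul_left_cancel₀ hg₀ne this).symm


/-- Hensel factorization for a not necessarily monic polynomial over a henselian local ring. -/
theorem H4_factor_lift {R : Type u} [CommRing R] [HenselianLocalRing R] :
    ∀ (n : ℕ) (f : R[X]) (g₀ h₀ : (ResidueField R)[X]), g₀.natDegree = n → g₀.Monic →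
      IsCoprime g₀ h₀ → f.map (residue R) = g₀ * h₀ →
      ∃ g h : R[X], f = g * h ∧ g.Monic ∧ g.map (residue R) = g₀ ∧
        h.map (residue R) = h₀ := by
  intro n
  induction n using Nat.strong_induction_on with
  | _ n ih =>
    intro f g₀ h₀ hn hg hc hf
    by_cases hg1 : g₀ = 1
    · subst hg1
      exact ⟨1, f, by simp, monic_one, by simp, by simpa using hf⟩
    have hnu : ¬ IsUnit g₀ := fun hu => hg1 (hg.eq_one_of_isUnit hu)
    obtain ⟨π₀, hπm, hπ, hπdvd⟩ := Polynomial.exists_monic_irreducible_factor g₀ hnu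
    have hfin : FiniteMultiplicity π₀ g₀ := FiniteMultiplicity.of_not_isUnit hπ.not_isUnit hg.ne_zero
    obtain ⟨g₁, hsplit, hg₁⟩ := hfin.exists_eq_pow_mul_and_not_dvd
    set i := multiplicity π₀ g₀ with hi
    have hipos : 0 < i := by
      rcases Nat.eq_zero_or_pos i with h0 | h0
      · exfalso
        rw [h0, pow_zero, one_mul] at hsplit
        exact hg₁ (hsplit ▸ hπdvd)
      · exact h0
    have hπim : (π₀ ^ i).Monic := hπm.pow i
    have hg₁m : g₁.Monic := hπim.of_mul_monic_left (hsplit ▸ hg)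
    have hdeg : g₁.natDegree < n := by
      rw [← hn, hsplit, hπim.natDegree_mul hg₁m, hπm.natDegree_pow]
      have := Nat.mul_pos hipos hπ.natDegree_pos
      omega
    have hcπ : IsCoprime π₀ h₀ := IsCoprime.of_isCoprime_of_dvd_left hc hπdvd
    have hcg₁ : IsCoprime g₁ h₀ :=
      IsCoprime.of_isCoprime_of_dvd_left hc (Dvd.intro_left _ hsplit.symm)
    have hcπg : IsCoprime π₀ (g₁ * h₀) :=
      IsCoprime.mul_right (hπ.coprime_iff_not_dvd.mpr hg₁) hcπ
    have hf' : f.map (residue R) = π₀ ^ i * (g₁ * h₀) := by rw [hf, hsplit]; ring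
    obtain ⟨G, f₁, hfG, hGm, hGmap, hf₁map⟩ :=
      H4_factor_lift_prime_pow f π₀ (g₁ * h₀) hπ hπm i hipos hcπg hf'
    obtain ⟨g', h, hf₁, hg'm, hg'map, hhmap⟩ := ih g₁.natDegree hdeg f₁ g₁ h₀ rfl hg₁m hcg₁ hf₁map
    refine ⟨G * g', h, ?_, hGm.mul hg'm, ?_, hhmap⟩
    · rw [hfG, hf₁]; ring
    · rw [Polynomial.map_mul, hGmap, hg'map, ← hsplit]

end Groth.Agent.H4
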