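import Mathlib

/-!
# A local ring over which finite type algebras split off their finite part is henselian
-/

set_option autoImplicit false
universe u

open Polynomial IsLocalRing

namespace Groth.Agent.H4

/-- Over a local ring, if `r • x = 0` in a flat module and `x ∉ 𝔪 M` then `r = 0`. -/
theorem H4_eq_zero_of_smul_eq_zero_of_flat {R M : Type u} [CommRing R] [IsLocalRing R]
    [AddCommGroup M] [Module R M] [Module.Flat R M] (r : R) (x : M) (h : r • x = 0)
    (hx : x ∉ (maximalIdeal R) • (⊤ : Submodule R M)) : r = 0 := by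
  obtain ⟨k, a, y, hxy, ha⟩ := Module.Flat.isTrivialRelation_of_sum_smul_eq_zero
    (ι := Unit) (f := fun _ => r) (x := fun _ => x) (by simpa using h)
  by_contra hr
  apply hx
  have hxy' : x = ∑ j, a () j • y j := hxy ()
  rw [hxy']
  refine Submodule.sum_mem _ fun j _ => ?_
  refine Submodule.smul_mem_smul ?_ Submodule.mem_top
  rw [mem_maximalIdeal, mem_nonunits_iff]
  intro hu
  have h1 : ∑ i : Unit, r * a i j = 0 := ha j
  simp only [Finset.univ_unique, Finset.sum_singleton] at h1
  exact hr ((hu.mul_left_eq_zero).1 h1)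

set_option maxHeartbeats 1000000 in
theorem H4_henselian_of_split (R : Type u) [CommRing R] [IsLocalRing R]
    (h : ∀ (S : Type u) [CommRing S] [Algebra R S] [Algebra.FiniteType R S],
      ∃ e : S, IsIdempotentElem e ∧ Module.Finite R (S ⧸ Ideal.span ({1 - e} : Set S)) ∧
        ∀ (q : Ideal (S ⧸ Ideal.span ({e} : Set S))) [q.IsPrime],
          q.LiesOver (IsLocalRing.maximalIdeal R) → ¬ Algebra.QuasiFiniteAt R q) :
    HenselianLocalRing R := by
  classical
  refine { ‹IsLocalRing R› with is_henselian := ?_ }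
  intro f hf a₀ h₁ h₂
  set g : R[X] := f /ₘ (X - C a₀) with hg
  have hfg : f = (X - C a₀) * g + C (f.eval a₀) := by
    have h3 := Polynomial.modByMonic_add_div f (X - C a₀)
    rw [modByMonic_X_sub_C_eq_C_eval] at h3
    rw [hg]
    conv_lhs => rw [← h3]
    ring
  have hg0 : g.eval a₀ = f.derivative.eval a₀ := by
    have h3 : derivative f = derivative ((X - C a₀) * g + C (f.eval a₀)) := by rw [← hfg]
    rw [h3]
    simp [derivative_mul]
  -- the standard étale pair
  let P : StandardEtalePair R := ⟨f, hf, g * derivative f, ⟨g, 0, 1, by ring⟩⟩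
  have hPf : P.f = f := rfl
  have hPg : P.g = g * derivative f := rfl
  have hmap : P.HasMap (residue R a₀) := by
    constructor
    · show aeval (algebraMap R (ResidueField R) a₀) f = 0
      rw [aeval_algebraMap_apply_eq_algebraMap_eval]
      exact (residue_eq_zero_iff _).2 h₁
    · show IsUnit (aeval (algebraMap R (ResidueField R) a₀) (g * derivative f))
      rw [aeval_algebraMap_apply_eq_algebraMap_eval, eval_mul, hg0]
      exact (h₂.mul h₂).map _
  let ev : P.Ring →ₐ[R] ResidueField R := P.lift _ hmap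
  have hevX : ev P.X = residue R a₀ := P.lift_X _ hmap
  have hev_alg : ∀ r : R, ev (algebraMap R P.Ring r) = residue R r := fun r => ev.commutes r
  set mS : Ideal P.Ring := (maximalIdeal R).map (algebraMap R P.Ring) with hmS
  -- `X - a₀ ∈ 𝔪 S'`
  have hXf : aeval P.X f = 0 := (P.hasMap_X).1
  have hXg : IsUnit (aeval P.X g) := by
    have h3 : IsUnit (aeval P.X (g * derivative f)) := (P.hasMap_X).2
    rw [map_mul] at h3
    exact isUnit_of_mul_isUnit_left h3
  have hX : P.X - algebraMap R P.Ring a₀ ∈ mS := by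
    have h3 : aeval P.X f = (P.X - algebraMap R P.Ring a₀) * aeval P.X g +
        algebraMap R P.Ring (f.eval a₀) := by
      conv_lhs => rw [hfg]
      simp
    rw [hXf] at h3
    obtain ⟨v, hv⟩ := hXg
    have h4 : P.X - algebraMap R P.Ring a₀ = - (algebraMap R P.Ring (f.eval a₀)) * (↑v⁻¹ : P.Ring) := by
      have h5 : (P.X - algebraMap R P.Ring a₀) * (v : P.Ring) = - algebraMap R P.Ring (f.eval a₀) := by
        rw [hv]; linear_combination -h3
      rw [← h5, mul_assoc, Units.mul_inv, mul_one]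
    rw [h4]
    exact Ideal.mul_mem_right _ _ (Ideal.neg_mem_iff _ |>.2 (Ideal.mem_map_of_mem _ h₁))
  -- `S' = R + 𝔪 S'`
  have hzero : ∀ a ∈ maximalIdeal R, (Algebra.ofId R (P.Ring ⧸ mS)) a = 0 := by
    intro a ha
    show algebraMap R (P.Ring ⧸ mS) a = 0
    rw [IsScalarTower.algebraMap_apply R P.Ring (P.Ring ⧸ mS), Ideal.Quotient.algebraMap_eq,
      Ideal.Quotient.eq_zero_iff_mem]
    exact Ideal.mem_map_of_mem _ ha
  let ι : ResidueField R →ₐ[R] P.Ring ⧸ mS :=
    Ideal.Quotient.liftₐ (maximalIdeal R) (Algebra.ofId R (P.Ring ⧸ mS)) hzero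
  have hι : ∀ r : R, ι (residue R r) = algebraMap R (P.Ring ⧸ mS) r := fun r => rfl
  have hθ : (Ideal.Quotient.mkₐ R mS) = ι.comp ev := by
    apply P.hom_ext
    rw [AlgHom.comp_apply, hevX, hι, Ideal.Quotient.mkₐ_eq_mk,
      IsScalarTower.algebraMap_apply R P.Ring (P.Ring ⧸ mS), Ideal.Quotient.algebraMap_eq,
      Ideal.Quotient.eq]
    exact hX
  have hZ : ∀ s : P.Ring, ∃ r : R, s - algebraMap R P.Ring r ∈ mS := by
    intro s
    obtain ⟨r, hr⟩ := residue_surjective (ev s)
    refine ⟨r, ?_⟩
    rw [← Ideal.Quotient.eq]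
    have h3 := AlgHom.congr_fun hθ s
    have h4 := AlgHom.congr_fun hθ (algebraMap R P.Ring r)
    rw [AlgHom.comp_apply] at h3 h4
    rw [hev_alg, hr] at h4
    rw [Ideal.Quotient.mkₐ_eq_mk] at h3 h4
    rw [h3, h4]
  have hle : mS ≤ RingHom.ker ev.toRingHom := by
    rw [hmS, Ideal.map_le_iff_le_comap]
    intro a ha
    rw [Ideal.mem_comap, RingHom.mem_ker]
    show ev (algebraMap R P.Ring a) = 0
    rw [hev_alg]
    exact (residue_eq_zero_iff _).2 ha
  have hmS_ker : mS = RingHom.ker ev.toRingHom := by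
    apply le_antisymm hle
    intro s hs
    rw [RingHom.mem_ker] at hs
    obtain ⟨r, hr⟩ := hZ s
    have h3 : ev (s - algebraMap R P.Ring r) = 0 := hle hr
    rw [map_sub, hev_alg] at h3
    have h4 : ev s = 0 := hs
    rw [h4, zero_sub, neg_eq_zero, residue_eq_zero_iff] at h3
    have h5 : s = (s - algebraMap R P.Ring r) + algebraMap R P.Ring r := by ring
    rw [h5]
    exact Ideal.add_mem _ hr (Ideal.mem_map_of_mem _ h3)
  have hevsurj : Function.Surjective ev.toRingHom := by
    intro y
    obtain ⟨r, rfl⟩ := residue_surjective y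
    exact ⟨algebraMap R P.Ring r, hev_alg r⟩
  haveI hmSmax : mS.IsMaximal := by
    rw [hmS_ker]
    exact RingHom.ker_isMaximal_of_surjective _ hevsurj
  have hmS_comap : mS.comap (algebraMap R P.Ring) = maximalIdeal R := by
    ext a
    rw [Ideal.mem_comap, hmS_ker, RingHom.mem_ker]
    show ev (algebraMap R P.Ring a) = 0 ↔ _
    rw [hev_alg, residue_eq_zero_iff]
  -- apply the hypothesis
  obtain ⟨e, he, hfin, hnq⟩ := h P.Ring
  have heP : e ∉ mS := by
    intro hemem
    have hker : RingHom.ker (Ideal.Quotient.mk (Ideal.span ({e} : Set P.Ring))) ≤ mS := by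
      rw [Ideal.mk_ker, Ideal.span_le]
      intro x hx
      rw [Set.mem_singleton_iff] at hx
      rw [hx]; exact hemem
    set q' : Ideal (P.Ring ⧸ Ideal.span ({e} : Set P.Ring)) :=
      mS.map (Ideal.Quotient.mk (Ideal.span ({e} : Set P.Ring))) with hq'
    haveI hq'prime : q'.IsPrime :=
      Ideal.map_isPrime_of_surjective Ideal.Quotient.mk_surjective hker
    have hcomap : q'.comap (Ideal.Quotient.mk (Ideal.span ({e} : Set P.Ring))) = mS := by
      rw [hq', Ideal.comap_map_of_surjective _ Ideal.Quotient.mk_surjective]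
      have : Ideal.comap (Ideal.Quotient.mk (Ideal.span ({e} : Set P.Ring))) ⊥ ≤ mS := hker
      exact sup_eq_left.2 this
    have hlies : q'.LiesOver (maximalIdeal R) := by
      constructor
      rw [Ideal.under_def, IsScalarTower.algebraMap_eq R P.Ring
        (P.Ring ⧸ Ideal.span ({e} : Set P.Ring)), ← Ideal.comap_comap,
        Ideal.Quotient.algebraMap_eq, hcomap, hmS_comap]
    exact hnq q' hlies inferInstance
  -- `A = S' / (1 - e)`
  have hsurj : Function.Surjective (algebraMap R (P.Ring ⧸ Ideal.span ({1 - e} : Set P.Ring))) := by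
    have hle2 : (⊤ : Submodule R (P.Ring ⧸ Ideal.span ({1 - e} : Set P.Ring))) ≤
        LinearMap.range (Algebra.linearMap R (P.Ring ⧸ Ideal.span ({1 - e} : Set P.Ring))) := by
      apply Submodule.le_of_le_smul_of_le_jacobson_bot (I := maximalIdeal R)
        (Module.Finite.fg_top) (maximalIdeal_le_jacobson _)
      intro a _
      obtain ⟨s, rfl⟩ := Ideal.Quotient.mk_surjective a
      obtain ⟨r, hr⟩ := hZ s
      have h3 : Ideal.Quotient.mk (Ideal.span ({1 - e} : Set P.Ring)) (s - algebraMap R P.Ring r) ∈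
          (maximalIdeal R) • (⊤ : Submodule R (P.Ring ⧸ Ideal.span ({1 - e} : Set P.Ring))) := by
        rw [Ideal.smul_top_eq_map]
        show _ ∈ Ideal.map (algebraMap R (P.Ring ⧸ Ideal.span ({1 - e} : Set P.Ring))) (maximalIdeal R)
        rw [IsScalarTower.algebraMap_eq R P.Ring (P.Ring ⧸ Ideal.span ({1 - e} : Set P.Ring)),
          ← Ideal.map_map]
        exact Ideal.mem_map_of_mem _ hr
      have h4 : Ideal.Quotient.mk (Ideal.span ({1 - e} : Set P.Ring)) s =
          algebraMap R (P.Ring ⧸ Ideal.span ({1 - e} : Set P.Ring)) r +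
            Ideal.Quotient.mk (Ideal.span ({1 - e} : Set P.Ring)) (s - algebraMap R P.Ring r) := by
        rw [map_sub]
        rw [IsScalarTower.algebraMap_apply R P.Ring (P.Ring ⧸ Ideal.span ({1 - e} : Set P.Ring)),
          Ideal.Quotient.algebraMap_eq]
        ring
      rw [h4]
      exact Submodule.add_mem_sup ⟨r, rfl⟩ h3
    intro a
    obtain ⟨r, hr⟩ := hle2 (Submodule.mem_top (x := a))
    exact ⟨r, hr⟩
  have hinj : Function.Injective (algebraMap R (P.Ring ⧸ Ideal.span ({1 - e} : Set P.Ring))) := by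
    rw [injective_iff_map_eq_zero]
    intro r hr
    rw [IsScalarTower.algebraMap_apply R P.Ring (P.Ring ⧸ Ideal.span ({1 - e} : Set P.Ring)),
      Ideal.Quotient.algebraMap_eq, Ideal.Quotient.eq_zero_iff_mem, Ideal.mem_span_singleton'] at hr
    obtain ⟨c, hc⟩ := hr
    have h3 : r • e = 0 := by
      rw [Algebra.smul_def, ← hc]
      have : (1 - e) * e = 0 := by
        have h2 : e * e = e := he
        ring_nf
        rw [pow_two, h2]; ring
      rw [mul_assoc, this, mul_zero]
    haveI : Module.Flat R P.Ring := inferInstance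
    refine H4_eq_zero_of_smul_eq_zero_of_flat r e h3 ?_
    rw [Ideal.smul_top_eq_map]
    exact heP
  -- the root
  obtain ⟨a, ha⟩ := hsurj (Ideal.Quotient.mk _ P.X)
  refine ⟨a, ?_, ?_⟩
  · apply hinj
    rw [map_zero, ← aeval_algebraMap_apply_eq_algebraMap_eval, ha]
    have h3 : aeval (Ideal.Quotient.mk (Ideal.span ({1 - e} : Set P.Ring)) P.X) f =
        Ideal.Quotient.mk (Ideal.span ({1 - e} : Set P.Ring)) (aeval P.X f) := by
      rw [← Ideal.Quotient.mkₐ_eq_mk R, aeval_algHom_apply]
    rw [h3, hXf, map_zero]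
  · have h3 : algebraMap R (P.Ring ⧸ Ideal.span ({1 - e} : Set P.Ring)) (a - a₀) ∈
        Ideal.map (algebraMap R (P.Ring ⧸ Ideal.span ({1 - e} : Set P.Ring))) (maximalIdeal R) := by
      rw [map_sub, ha, IsScalarTower.algebraMap_apply R P.Ring
        (P.Ring ⧸ Ideal.span ({1 - e} : Set P.Ring)) a₀, Ideal.Quotient.algebraMap_eq, ← map_sub,
        IsScalarTower.algebraMap_eq R P.Ring (P.Ring ⧸ Ideal.span ({1 - e} : Set P.Ring)),
        ← Ideal.map_map]
      exact Ideal.mem_map_of_mem _ hX
    rw [Ideal.mem_map_iff_of_surjective _ hsurj] at h3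
    obtain ⟨i, hi, hia⟩ := h3
    rw [← hinj hia]
    exact hi

end Groth.Agent.H4
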