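import Mathlib
import Groth.Agent.Lib.helper4.HenselOfSplit
import Groth.Agent.Lib.helper4.QuasiFiniteHensLocal

/-!
# Henselian iff local rings at quasi-finite primes over the closed point are finite
-/

set_option autoImplicit false
universe u

open Polynomial IsLocalRing

namespace Groth.Agent.H4

set_option maxHeartbeats 1000000 in
theorem H4_stdEtale_data (R : Type u) [CommRing R] [IsLocalRing R] (f : R[X]) (hf : f.Monic) (a₀ : R)
    (h₁ : f.eval a₀ ∈ maximalIdeal R) (h₂ : IsUnit (f.derivative.eval a₀)) :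
    ∃ P : StandardEtalePair R, P.f = f ∧
      ((maximalIdeal R).map (algebraMap R P.Ring)).IsMaximal ∧
      ((maximalIdeal R).map (algebraMap R P.Ring)).comap (algebraMap R P.Ring) = maximalIdeal R ∧
      P.X - algebraMap R P.Ring a₀ ∈ (maximalIdeal R).map (algebraMap R P.Ring) ∧
      ∀ s : P.Ring, ∃ r : R, s - algebraMap R P.Ring r ∈ (maximalIdeal R).map (algebraMap R P.Ring) := by
  classical
  set g : R[X] := f /ₘ (X - C a₀) with hg
  have hfg : f = (X - C a₀) * g + C (f.eval a₀) := by
    have h3 := Polynomial.modByMonic_add_div f (X - C a₀)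
    rw [modByMonic_X_sub_C_eq_C_eval] at h3
    rw [hg]
    conv_lhs => rw [← h3]
    ring
  have hg0 : g.eval a₀ = f.derivative.eval a₀ := by
    have h3 : derivative f = derivative ((X - C a₀) * g + C (f.eval a₀)) := by rw [← hfg]
    rw [h3]
    simp [derivative_mul]
  -- the standard étale pair
  let P : StandardEtalePair R := ⟨f, hf, g * derivative f, ⟨g, 0, 1, by ring⟩⟩
  have hPf : P.f = f := rfl
  have hPg : P.g = g * derivative f := rfl
  have hmap : P.HasMap (residue R a₀) := by
    constructor
    · show aeval (algebraMap R (ResidueField R) a₀) f = 0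
      rw [aeval_algebraMap_apply_eq_algebraMap_eval]
      exact (residue_eq_zero_iff _).2 h₁
    · show IsUnit (aeval (algebraMap R (ResidueField R) a₀) (g * derivative f))
      rw [aeval_algebraMap_apply_eq_algebraMap_eval, eval_mul, hg0]
      exact (h₂.mul h₂).map _
  let ev : P.Ring →ₐ[R] ResidueField R := P.lift _ hmap
  have hevX : ev P.X = residue R a₀ := P.lift_X _ hmap
  have hev_alg : ∀ r : R, ev (algebraMap R P.Ring r) = residue R r := fun r => ev.commutes r
  set mS : Ideal P.Ring := (maximalIdeal R).map (algebraMap R P.Ring) with hmS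
  -- `X - a₀ ∈ 𝔪 S'`
  have hXf : aeval P.X f = 0 := (P.hasMap_X).1
  have hXg : IsUnit (aeval P.X g) := by
    have h3 : IsUnit (aeval P.X (g * derivative f)) := (P.hasMap_X).2
    rw [map_mul] at h3
    exact isUnit_of_mul_isUnit_left h3
  have hX : P.X - algebraMap R P.Ring a₀ ∈ mS := by
    have h3 : aeval P.X f = (P.X - algebraMap R P.Ring a₀) * aeval P.X g +
        algebraMap R P.Ring (f.eval a₀) := by
      conv_lhs => rw [hfg]
      simp
    rw [hXf] at h3
    obtain ⟨v, hv⟩ := hXg
    have h4 : P.X - algebraMap R P.Ring a₀ = - (algebraMap R P.Ring (f.eval a₀)) * (↑v⁻¹ : P.Ring) := by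
      have h5 : (P.X - algebraMap R P.Ring a₀) * (v : P.Ring) = - algebraMap R P.Ring (f.eval a₀) := by
        rw [hv]; linear_combination -h3
      rw [← h5, mul_assoc, Units.mul_inv, mul_one]
    rw [h4]
    exact Ideal.mul_mem_right _ _ (Ideal.neg_mem_iff _ |>.2 (Ideal.mem_map_of_mem _ h₁))
  -- `S' = R + 𝔪 S'`
  have hzero : ∀ a ∈ maximalIdeal R, (Algebra.ofId R (P.Ring ⧸ mS)) a = 0 := by
    intro a ha
    show algebraMap R (P.Ring ⧸ mS) a = 0
    rw [IsScalarTower.algebraMap_apply R P.Ring (P.Ring ⧸ mS), Ideal.Quotient.algebraMap_eq,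
      Ideal.Quotient.eq_zero_iff_mem]
    exact Ideal.mem_map_of_mem _ ha
  let ι : ResidueField R →ₐ[R] P.Ring ⧸ mS :=
    Ideal.Quotient.liftₐ (maximalIdeal R) (Algebra.ofId R (P.Ring ⧸ mS)) hzero
  have hι : ∀ r : R, ι (residue R r) = algebraMap R (P.Ring ⧸ mS) r := fun r => rfl
  have hθ : (Ideal.Quotient.mkₐ R mS) = ι.comp ev := by
    apply P.hom_ext
    rw [AlgHom.comp_apply, hevX, hι, Ideal.Quotient.mkₐ_eq_mk,
      IsScalarTower.algebraMap_apply R P.Ring (P.Ring ⧸ mS), Ideal.Quotient.algebraMap_eq,
      Ideal.Quotient.eq]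
    exact hX
  have hZ : ∀ s : P.Ring, ∃ r : R, s - algebraMap R P.Ring r ∈ mS := by
    intro s
    obtain ⟨r, hr⟩ := residue_surjective (ev s)
    refine ⟨r, ?_⟩
    rw [← Ideal.Quotient.eq]
    have h3 := AlgHom.congr_fun hθ s
    have h4 := AlgHom.congr_fun hθ (algebraMap R P.Ring r)
    rw [AlgHom.comp_apply] at h3 h4
    rw [hev_alg, hr] at h4
    rw [Ideal.Quotient.mkₐ_eq_mk] at h3 h4
    rw [h3, h4]
  have hle : mS ≤ RingHom.ker ev.toRingHom := by
    rw [hmS, Ideal.map_le_iff_le_comap]
    intro a ha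
    rw [Ideal.mem_comap, RingHom.mem_ker]
    show ev (algebraMap R P.Ring a) = 0
    rw [hev_alg]
    exact (residue_eq_zero_iff _).2 ha
  have hmS_ker : mS = RingHom.ker ev.toRingHom := by
    apply le_antisymm hle
    intro s hs
    rw [RingHom.mem_ker] at hs
    obtain ⟨r, hr⟩ := hZ s
    have h3 : ev (s - algebraMap R P.Ring r) = 0 := hle hr
    rw [map_sub, hev_alg] at h3
    have h4 : ev s = 0 := hs
    rw [h4, zero_sub, neg_eq_zero, residue_eq_zero_iff] at h3
    have h5 : s = (s - algebraMap R P.Ring r) + algebraMap R P.Ring r := by ring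
    rw [h5]
    exact Ideal.add_mem _ hr (Ideal.mem_map_of_mem _ h3)
  have hevsurj : Function.Surjective ev.toRingHom := by
    intro y
    obtain ⟨r, rfl⟩ := residue_surjective y
    exact ⟨algebraMap R P.Ring r, hev_alg r⟩
  haveI hmSmax : mS.IsMaximal := by
    rw [hmS_ker]
    exact RingHom.ker_isMaximal_of_surjective _ hevsurj
  have hmS_comap : mS.comap (algebraMap R P.Ring) = maximalIdeal R := by
    ext a
    rw [Ideal.mem_comap, hmS_ker, RingHom.mem_ker]
    show ev (algebraMap R P.Ring a) = 0 ↔ _
    rw [hev_alg, residue_eq_zero_iff]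
  exact ⟨P, rfl, hmSmax, hmS_comap, hX, hZ⟩

set_option maxHeartbeats 1000000 in
theorem H4_henselian_of_finite_localization (R : Type u) [CommRing R] [IsLocalRing R]
    (h : ∀ (S : Type u) [CommRing S] [Algebra R S] [Algebra.FiniteType R S] (q : Ideal S) [q.IsPrime],
      q.LiesOver (maximalIdeal R) → Algebra.QuasiFiniteAt R q →
        Module.Finite R (Localization.AtPrime q)) :
    HenselianLocalRing R := by
  classical
  refine { ‹IsLocalRing R› with is_henselian := ?_ }
  intro f hf a₀ h₁ h₂
  obtain ⟨P, hPf, hmax, hcomap, hX, hZ⟩ := H4_stdEtale_data R f hf a₀ h₁ h₂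
  set mS : Ideal P.Ring := (maximalIdeal R).map (algebraMap R P.Ring) with hmS
  haveI := hmax
  haveI hprime : mS.IsPrime := hmax.isPrime
  have hlies : mS.LiesOver (maximalIdeal R) := ⟨hcomap.symm⟩
  haveI hfinD : Module.Finite R (Localization.AtPrime mS) := h P.Ring mS hlies inferInstance
  have hmapD : Ideal.map (algebraMap P.Ring (Localization.AtPrime mS)) mS =
      Ideal.map (algebraMap R (Localization.AtPrime mS)) (maximalIdeal R) := by
    show Ideal.map _ (Ideal.map (algebraMap R P.Ring) (maximalIdeal R)) = _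
    rw [Ideal.map_map, ← IsScalarTower.algebraMap_eq]
  -- every element of `D` is in `R + 𝔪 D`
  have hZD : ∀ x : Localization.AtPrime mS, ∃ r : R, x - algebraMap R (Localization.AtPrime mS) r ∈
      Ideal.map (algebraMap R (Localization.AtPrime mS)) (maximalIdeal R) := by
    intro x
    obtain ⟨s, t, rfl⟩ := IsLocalization.exists_mk'_eq mS.primeCompl x
    obtain ⟨rs, hrs⟩ := hZ s
    obtain ⟨rt, hrt⟩ := hZ (t : P.Ring)
    have hrtu : IsUnit rt := by
      by_contra hnu
      have h3 : rt ∈ maximalIdeal R := hnu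
      have h4 : (t : P.Ring) ∈ mS := by
        have h5 : (t : P.Ring) = ((t : P.Ring) - algebraMap R P.Ring rt) + algebraMap R P.Ring rt := by
          ring
        rw [h5]
        exact Ideal.add_mem _ hrt (Ideal.mem_map_of_mem _ h3)
      exact t.2 h4
    obtain ⟨v, hv⟩ := hrtu
    refine ⟨rs * (↑v⁻¹ : R), ?_⟩
    have hunit : IsUnit (algebraMap P.Ring (Localization.AtPrime mS) (t : P.Ring)) :=
      IsLocalization.map_units _ t
    have h3 : (IsLocalization.mk' (Localization.AtPrime mS) s t -
        algebraMap R (Localization.AtPrime mS) (rs * (↑v⁻¹ : R))) *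
        algebraMap P.Ring (Localization.AtPrime mS) (t : P.Ring) =
        algebraMap P.Ring (Localization.AtPrime mS)
          ((s - algebraMap R P.Ring rs) - algebraMap R P.Ring (rs * (↑v⁻¹ : R)) *
            ((t : P.Ring) - algebraMap R P.Ring rt)) := by
      rw [sub_mul, IsLocalization.mk'_spec, IsScalarTower.algebraMap_apply R P.Ring
        (Localization.AtPrime mS) (rs * (↑v⁻¹ : R)), ← map_mul, ← map_sub]
      congr 1
      have h6 : algebraMap R P.Ring (rs * (↑v⁻¹ : R)) * algebraMap R P.Ring rt =
          algebraMap R P.Ring rs := by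
        rw [← map_mul, ← hv, mul_assoc, Units.inv_mul, mul_one]
      linear_combination (-1 : P.Ring) * h6
    have h4 : (IsLocalization.mk' (Localization.AtPrime mS) s t -
        algebraMap R (Localization.AtPrime mS) (rs * (↑v⁻¹ : R))) *
        algebraMap P.Ring (Localization.AtPrime mS) (t : P.Ring) ∈
        Ideal.map (algebraMap R (Localization.AtPrime mS)) (maximalIdeal R) := by
      rw [h3, ← hmapD]
      refine Ideal.mem_map_of_mem _ ?_
      exact Ideal.sub_mem _ hrs (Ideal.mul_mem_left _ _ hrt)
    obtain ⟨w, hw⟩ := hunit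
    have h5 := Ideal.mul_mem_right (↑w⁻¹ : Localization.AtPrime mS) _ h4
    rw [mul_assoc, ← hw, Units.mul_inv, mul_one] at h5
    exact h5
  have hsurj : Function.Surjective (algebraMap R (Localization.AtPrime mS)) := by
    have hle2 : (⊤ : Submodule R (Localization.AtPrime mS)) ≤
        LinearMap.range (Algebra.linearMap R (Localization.AtPrime mS)) := by
      apply Submodule.le_of_le_smul_of_le_jacobson_bot (I := maximalIdeal R)
        (Module.Finite.fg_top) (maximalIdeal_le_jacobson _)
      intro x _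
      obtain ⟨r, hr⟩ := hZD x
      have h3 : x - algebraMap R (Localization.AtPrime mS) r ∈
          (maximalIdeal R) • (⊤ : Submodule R (Localization.AtPrime mS)) := by
        rw [Ideal.smul_top_eq_map]
        exact hr
      have h4 : x = algebraMap R (Localization.AtPrime mS) r +
          (x - algebraMap R (Localization.AtPrime mS) r) := by ring
      rw [h4]
      exact Submodule.add_mem_sup ⟨r, rfl⟩ h3
    intro a
    obtain ⟨r, hr⟩ := hle2 (Submodule.mem_top (x := a))
    exact ⟨r, hr⟩
  have hinj : Function.Injective (algebraMap R (Localization.AtPrime mS)) := by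
    rw [injective_iff_map_eq_zero]
    intro r hr
    rw [IsScalarTower.algebraMap_apply R P.Ring (Localization.AtPrime mS),
      IsLocalization.map_eq_zero_iff mS.primeCompl] at hr
    obtain ⟨t, ht⟩ := hr
    have h3 : r • (t : P.Ring) = 0 := by
      rw [Algebra.smul_def, mul_comm]; exact ht
    haveI : Module.Flat R P.Ring := inferInstance
    refine H4_eq_zero_of_smul_eq_zero_of_flat r (t : P.Ring) h3 ?_
    rw [Ideal.smul_top_eq_map]
    exact t.2
  have hXf : aeval P.X f = 0 := by
    have := (P.hasMap_X).1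
    rw [hPf] at this
    exact this
  obtain ⟨a, ha⟩ := hsurj (algebraMap P.Ring (Localization.AtPrime mS) P.X)
  refine ⟨a, ?_, ?_⟩
  · apply hinj
    rw [map_zero, ← aeval_algebraMap_apply_eq_algebraMap_eval, ha, aeval_algebraMap_apply, hXf,
      map_zero]
  · have h3 : algebraMap R (Localization.AtPrime mS) (a - a₀) ∈
        Ideal.map (algebraMap R (Localization.AtPrime mS)) (maximalIdeal R) := by
      rw [map_sub, ha, IsScalarTower.algebraMap_apply R P.Ring (Localization.AtPrime mS) a₀,
        ← map_sub, ← hmapD]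
      exact Ideal.mem_map_of_mem _ hX
    rw [Ideal.mem_map_iff_of_surjective _ hsurj] at h3
    obtain ⟨i, hi, hia⟩ := h3
    rw [← hinj hia]
    exact hi

end Groth.Agent.H4
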