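import Mathlib
import Groth.Prelude.Def_Hens2

/-! A pair `(A, I)` is henselian iff `(A, √I)` is; henselizations of pairs only depend on `V(I)`. -/

set_option autoImplicit false
universe u
open Polynomial

namespace Groth.Agent.H4

theorem H4_isUnit_of_isUnit_mk {A : Type*} [CommRing A] (K : Ideal A)
    (hK : K ≤ Ideal.jacobson ⊥) {x : A} (h : IsUnit (Ideal.Quotient.mk K x)) : IsUnit x :=
  (isLocalHom_of_le_jacobson_bot K hK).map_nonunit x h

theorem H4_radical_le_jacobson_bot {A : Type*} [CommRing A] {I : Ideal A}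
    (h : I ≤ Ideal.jacobson ⊥) : I.radical ≤ Ideal.jacobson ⊥ := by
  calc I.radical ≤ (Ideal.jacobson (⊥ : Ideal A)).radical := Ideal.radical_mono h
    _ ≤ Ideal.jacobson (Ideal.jacobson ⊥) := Ideal.radical_le_jacobson
    _ = Ideal.jacobson ⊥ := Ideal.jacobson_idem

theorem H4_henselianRing_radical {A : Type*} [CommRing A] (I : Ideal A) (h : HenselianRing A I) :
    HenselianRing A I.radical := by
  have hjac := H4_radical_le_jacobson_bot h.jac
  refine ⟨hjac, ?_⟩
  intro f hf a₀ h₁ h₂
  have Q : ∀ k : ℕ, ∀ a : A, f.eval a ∈ I.radical → IsUnit (f.derivative.eval a) →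
      (f.eval a) ^ (2 ^ k) ∈ I → ∃ α, f.IsRoot α ∧ α - a ∈ I.radical := by
    intro k
    induction k with
    | zero =>
      intro a _ hu hI
      rw [pow_zero, pow_one] at hI
      obtain ⟨α, hα, hαa⟩ := h.is_henselian f hf a hI (hu.map _)
      exact ⟨α, hα, Ideal.le_radical hαa⟩
    | succ k ih =>
      intro a ha hu hI
      obtain ⟨u, hu'⟩ := hu.exists_right_inv
      obtain ⟨y, hy⟩ : ∃ y : A, y = -(f.eval a * u) := ⟨_, rfl⟩
      obtain ⟨c, hc⟩ := f.binomExpansion a y
      obtain ⟨z, hz⟩ := f.derivative.evalSubFactor (a + y) a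
      have hb : f.eval (a + y) = c * u ^ 2 * (f.eval a) ^ 2 := by
        rw [hc, hy]; linear_combination (-(f.eval a)) * hu'
      have hy_mem : y ∈ I.radical := by
        rw [hy]; exact neg_mem (Ideal.mul_mem_right _ _ ha)
      have hb_rad : f.eval (a + y) ∈ I.radical := by
        rw [hb]
        exact Ideal.mul_mem_left _ _ (Ideal.pow_mem_of_mem _ ha 2 (by norm_num))
      have hbu : IsUnit (f.derivative.eval (a + y)) := by
        apply H4_isUnit_of_isUnit_mk I.radical hjac
        have h3 : Ideal.Quotient.mk I.radical (f.derivative.eval (a + y)) =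
            Ideal.Quotient.mk I.radical (f.derivative.eval a) := by
          rw [Ideal.Quotient.eq, hz, add_sub_cancel_left]
          exact Ideal.mul_mem_left _ _ hy_mem
        rw [h3]; exact hu.map _
      have hbI : (f.eval (a + y)) ^ (2 ^ k) ∈ I := by
        rw [hb, mul_pow, ← pow_mul, ← pow_succ']
        exact Ideal.mul_mem_left _ _ hI
      obtain ⟨α, hα, hαb⟩ := ih (a + y) hb_rad hbu hbI
      refine ⟨α, hα, ?_⟩
      have h4 : α - a = (α - (a + y)) + y := by ring
      rw [h4]; exact Ideal.add_mem _ hαb hy_mem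
  have hu₀ : IsUnit (f.derivative.eval a₀) := H4_isUnit_of_isUnit_mk I.radical hjac h₂
  obtain ⟨n, hn⟩ := h₁
  have h5 : (f.eval a₀) ^ (2 ^ n) ∈ I := I.pow_mem_of_pow_mem hn (Nat.lt_two_pow_self).le
  exact Q n a₀ ⟨n, hn⟩ hu₀ h5

theorem H4_henselianRing_of_radical {A : Type*} [CommRing A] (I : Ideal A)
    (h : HenselianRing A I.radical) : HenselianRing A I := by
  have hjac : I ≤ Ideal.jacobson ⊥ := Ideal.le_radical.trans h.jac
  refine ⟨hjac, ?_⟩
  intro f hf a₀ h₁ h₂
  have hu₀ : IsUnit (f.derivative.eval a₀) := H4_isUnit_of_isUnit_mk I hjac h₂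
  obtain ⟨α, hα, hαa⟩ := h.is_henselian f hf a₀ (Ideal.le_radical h₁) (hu₀.map _)
  refine ⟨α, hα, ?_⟩
  obtain ⟨c, hc⟩ := f.binomExpansion a₀ (α - a₀)
  rw [add_sub_cancel, hα] at hc
  have hw : IsUnit (f.derivative.eval a₀ + c * (α - a₀)) := by
    apply H4_isUnit_of_isUnit_mk I.radical h.jac
    have h3 : Ideal.Quotient.mk I.radical (f.derivative.eval a₀ + c * (α - a₀)) =
        Ideal.Quotient.mk I.radical (f.derivative.eval a₀) := by
      rw [Ideal.Quotient.eq, add_sub_cancel_left]
      exact Ideal.mul_mem_left _ _ hαa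
    rw [h3]; exact hu₀.map _
  obtain ⟨w', hw'⟩ := hw.exists_right_inv
  have h4 : α - a₀ = -(f.eval a₀) * w' := by
    linear_combination -(α - a₀) * hw' - w' * hc
  rw [h4]
  exact Ideal.mul_mem_right _ _ (neg_mem h₁)

theorem H4_henselianRing_iff_of_radical_eq {A : Type*} [CommRing A] {I J : Ideal A}
    (h : I.radical = J.radical) : HenselianRing A I ↔ HenselianRing A J := by
  constructor
  · intro hI
    apply H4_henselianRing_of_radical
    rw [← h]
    exact H4_henselianRing_radical I hI
  · intro hJ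
    apply H4_henselianRing_of_radical
    rw [h]
    exact H4_henselianRing_radical J hJ

theorem H4_map_radical_eq {A : Type*} [CommRing A] {I J : Ideal A}
    (h : I.radical = J.radical) {C : Type*} [CommRing C] (φ : A →+* C) :
    (I.map φ).radical = (J.map φ).radical := by
  have key : ∀ K : Ideal A, (K.map φ).radical = (K.radical.map φ).radical := fun K =>
    le_antisymm (Ideal.radical_mono (Ideal.map_mono Ideal.le_radical))
      ((Ideal.radical_mono (Ideal.map_radical_le φ)).trans (Ideal.radical_idem _).le)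
  rw [key I, key J, h]

theorem H4_isPairHenselization_of_radical_eq {A : Type u} [CommRing A] {I J : Ideal A}
    (h : I.radical = J.radical) (B : Type u) [CommRing B] [Algebra A B]
    (hB : Hens2.IsPairHenselization A I B) : Hens2.IsPairHenselization A J B := by
  refine ⟨(H4_henselianRing_iff_of_radical_eq (H4_map_radical_eq h _)).mp hB.1, ?_⟩
  intro C _ K f hK hJK
  have hK' : HenselianRing C K.radical := H4_henselianRing_radical K hK
  refine hB.2 C K.radical f hK' ?_
  calc I.map f ≤ (I.map f).radical := Ideal.le_radical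
    _ = (J.map f).radical := H4_map_radical_eq h f
    _ ≤ K.radical := Ideal.radical_mono hJK

end Groth.Agent.H4
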