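import Mathlib
set_option autoImplicit false
universe u
open CategoryTheory CategoryTheory.Limits AlgebraicGeometry TopologicalSpace

namespace Groth.Agent.H4

theorem H4_isIso_liftCoborder_of_dense {A : Type u} [CommRing A] [IsDomain A] {E : Scheme.{u}}
    (e : E ⟶ Spec (CommRingCat.of A)) [IsImmersion e] (D : Set ↥(Spec (CommRingCat.of A)))
    (hD : Dense D) (hDe : D ⊆ Set.range e) : IsIso e.liftCoborder := by
  have hsurj : Surjective e.liftCoborder := by
    refine ⟨fun v => ?_⟩
    have hcl : IsClosed (Set.range e.liftCoborder) :=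
      e.liftCoborder.isClosedEmbedding.isClosed_range
    obtain ⟨C, hC, hCeq⟩ :=
      (e.coborderRange.ι.isOpenEmbedding.isInducing.isClosed_iff).mp hcl
    have hDC : D ⊆ C := by
      intro p hp
      obtain ⟨z, hz⟩ := hDe hp
      have h1 : e.liftCoborder z ∈ e.coborderRange.ι ⁻¹' C := by rw [hCeq]; exact ⟨z, rfl⟩
      have h2 : e.coborderRange.ι (e.liftCoborder z) = p := by
        rw [← hz]
        exact congrArg (fun g : E ⟶ Spec (CommRingCat.of A) => g z) e.liftCoborder_ι
      exact h2 ▸ h1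
    have hCuniv : C = Set.univ :=
      Set.eq_univ_of_univ_subset (hD.closure_eq ▸ closure_minimal hDC hC)
    have hv : v ∈ e.coborderRange.ι ⁻¹' C := by rw [hCuniv]; trivial
    rw [hCeq] at hv
    exact hv
  exact isIso_of_isClosedImmersion_of_surjective _

theorem H4_denseLift_of_isImmersion {X Y : Scheme.{u}} (f : Y ⟶ X) [IsImmersion f]
    (A : Type u) [CommRing A] [IsDomain A] (s : Spec (CommRingCat.of A) ⟶ X)
    (D : Set ↥(Spec (CommRingCat.of A))) (hD : Dense D)
    (hpt : ∀ p ∈ D, ∃ l : Spec ((Spec (CommRingCat.of A)).residueField p) ⟶ Y,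
      l ≫ f = (Spec (CommRingCat.of A)).fromSpecResidueField p ≫ s) :
    ∃ U : (Spec (CommRingCat.of A)).Opens, (U : Set ↥(Spec (CommRingCat.of A))).Nonempty ∧
      ∃ l : (U : Scheme.{u}) ⟶ Y, l ≫ f = U.ι ≫ s := by
  let e : pullback f s ⟶ Spec (CommRingCat.of A) := pullback.snd f s
  have hDe : D ⊆ Set.range e := by
    intro p hp
    obtain ⟨l, hl⟩ := hpt p hp
    let l' := pullback.lift l ((Spec (CommRingCat.of A)).fromSpecResidueField p) hl
    have hl' : l' ≫ e = (Spec (CommRingCat.of A)).fromSpecResidueField p :=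
      pullback.lift_snd _ _ _
    have hmem : p ∈ Set.range ((Spec (CommRingCat.of A)).fromSpecResidueField p) := by
      rw [Scheme.range_fromSpecResidueField]; rfl
    obtain ⟨z, hz⟩ := hmem
    refine ⟨l' z, ?_⟩
    show (l' ≫ e) z = p
    exact (congrArg (fun g : Spec ((Spec (CommRingCat.of A)).residueField p) ⟶
      Spec (CommRingCat.of A) => g z) hl').trans hz
  have hiso := H4_isIso_liftCoborder_of_dense e D hD hDe
  refine ⟨e.coborderRange, ?_, inv e.liftCoborder ≫ pullback.fst f s, ?_⟩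
  · haveI : Nonempty ↥(Spec (CommRingCat.of A)) :=
      inferInstanceAs (Nonempty (PrimeSpectrum A))
    obtain ⟨p, hp⟩ := hD.nonempty
    exact ⟨p, subset_coborder (hDe hp)⟩
  · rw [Category.assoc, pullback.condition, IsIso.inv_comp_eq, ← Category.assoc,
      e.liftCoborder_ι]

theorem H4_valuativeLift_of_isImmersion {X Y : Scheme.{u}} (f : Y ⟶ X) [IsImmersion f]
    (S : ValuativeCommSq f)
    (h0 : ∃ l₀ : Spec (CommRingCat.of (IsLocalRing.ResidueField S.R)) ⟶ Y,
      l₀ ≫ f = Spec.map (CommRingCat.ofHom (IsLocalRing.residue S.R)) ≫ S.i₂) :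
    S.commSq.HasLift := by
  obtain ⟨l₀, hl₀⟩ := h0
  let e : pullback f S.i₂ ⟶ Spec (CommRingCat.of S.R) := pullback.snd f S.i₂
  let g₁ := pullback.lift S.i₁ (Spec.map (CommRingCat.ofHom (algebraMap S.R S.K))) S.commSq.w
  have hg₁ : g₁ ≫ e = Spec.map (CommRingCat.ofHom (algebraMap S.R S.K)) :=
    pullback.lift_snd _ _ _
  let g₀ := pullback.lift l₀ (Spec.map (CommRingCat.ofHom (IsLocalRing.residue S.R))) hl₀
  have hg₀ : g₀ ≫ e = Spec.map (CommRingCat.ofHom (IsLocalRing.residue S.R)) :=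
    pullback.lift_snd _ _ _
  have hgen : (⟨⊥, Ideal.isPrime_bot⟩ : PrimeSpectrum S.R) ∈ Set.range e := by
    let z : Spec (CommRingCat.of S.K) := (⟨⊥, Ideal.isPrime_bot⟩ : PrimeSpectrum S.K)
    refine ⟨g₁ z, ?_⟩
    show (g₁ ≫ e) z = _
    rw [hg₁]
    apply PrimeSpectrum.ext
    show Ideal.comap (algebraMap S.R S.K) ⊥ = ⊥
    exact Ideal.comap_bot_of_injective _ (IsFractionRing.injective S.R S.K)
  have hcl : IsLocalRing.closedPoint S.R ∈ Set.range e := by
    let z : Spec (CommRingCat.of (IsLocalRing.ResidueField S.R)) :=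
      (⟨⊥, Ideal.isPrime_bot⟩ : PrimeSpectrum (IsLocalRing.ResidueField S.R))
    refine ⟨g₀ z, ?_⟩
    show (g₀ ≫ e) z = _
    rw [hg₀]
    exact IsLocalRing.PrimeSpectrum.comap_residue S.R z
  have hrange : Set.range e = Set.univ := by
    obtain ⟨U, Z, hU, hZ, hUZ⟩ := e.isLocallyClosed_range
    have hZu : Z = Set.univ := by
      apply Set.eq_univ_of_univ_subset
      have h1 : (⟨⊥, Ideal.isPrime_bot⟩ : PrimeSpectrum S.R) ∈ Z := (hUZ ▸ hgen).2
      have h2 : closure {(⟨⊥, Ideal.isPrime_bot⟩ : PrimeSpectrum S.R)} = Set.univ := by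
        rw [PrimeSpectrum.closure_singleton]; simp
      intro x _
      have hx : (x : PrimeSpectrum S.R) ∈
          closure {(⟨⊥, Ideal.isPrime_bot⟩ : PrimeSpectrum S.R)} := by
        rw [h2]; exact Set.mem_univ x
      exact hZ.closure_subset_iff.mpr (Set.singleton_subset_iff.mpr h1) hx
    have hUu : U = Set.univ := by
      apply Set.eq_univ_of_univ_subset
      intro x _
      exact (IsLocalRing.specializes_closedPoint x).mem_open hU (hUZ ▸ hcl).1
    rw [hUZ, hZu, hUu, Set.inter_univ]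
  have hci : IsClosedImmersion e :=
    .of_isPreimmersion e (by rw [hrange]; exact isClosed_univ)
  have hs : Surjective e := ⟨fun x => by
    have : x ∈ Set.range e := by rw [hrange]; exact Set.mem_univ x
    exact this⟩
  have hiso : IsIso e := isIso_of_isClosedImmersion_of_surjective e
  haveI : Mono f := inferInstance
  refine ⟨⟨⟨inv e ≫ pullback.fst f S.i₂, ?_, ?_⟩⟩⟩
  · rw [← cancel_mono f]
    simp only [Category.assoc]
    rw [pullback.condition, IsIso.inv_hom_id_assoc]
    exact S.commSq.w.symm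
  · rw [Category.assoc, pullback.condition, IsIso.inv_hom_id_assoc]

end Groth.Agent.H4
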