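import Mathlib
import Groth.Agent.Lib.helper4.IndEtaleSys2
import Groth.Agent.Lib.helper4.FiniteEtaleHom
import Groth.Agent.Lib.helper4.EtaleHensel

set_option autoImplicit false
universe u
open CategoryTheory CategoryTheory.Limits TensorProduct

namespace Groth.Agent.H4

section

variable {R T K : Type u} [CommRing R] [CommRing T] [HenselianLocalRing T] [Field K]
  [Algebra R T] [Algebra R K] (u : T →ₐ[R] K) (hu : Function.Surjective u)
  (hku : RingHom.ker u.toRingHom = IsLocalRing.maximalIdeal T)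

include hku in
theorem H4_residue_eq_of_u_eq {x y : T} (h : u x = u y) :
    IsLocalRing.residue T x = IsLocalRing.residue T y := by
  have h1 : x - y ∈ RingHom.ker u.toRingHom := by
    rw [RingHom.mem_ker]
    show u (x - y) = 0
    rw [map_sub, h, sub_self]
  rw [hku] at h1
  rw [← sub_eq_zero, ← map_sub]
  exact (IsLocalRing.residue_eq_zero_iff _).mpr h1

include hu hku in
/-- Étale algebras lift uniquely along `u`. -/
theorem H4_etale_lift_along_u {E : Type u} [CommRing E] [Algebra R E] [Algebra.Etale R E]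
    (χ : E →ₐ[R] K) : ∃ g : E →ₐ[R] T, ∀ a, u (g a) = χ a := by
  have hker : RingHom.ker u = IsLocalRing.maximalIdeal T := hku
  let ū : IsLocalRing.ResidueField T ≃ₐ[R] K :=
    (Ideal.quotientEquivAlgOfEq R hker.symm).trans (Ideal.quotientKerAlgEquivOfSurjective hu)
  have hū : ∀ t, ū (IsLocalRing.residue T t) = u t := fun t => rfl
  obtain ⟨g, hg⟩ := H4_etale_exists_lift_of_residue (S := T)
    ((ū.symm : K →ₐ[R] IsLocalRing.ResidueField T).comp χ)
  refine ⟨g, fun a => ?_⟩
  rw [← hū, hg]
  exact ū.apply_symm_apply _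

include hku in
theorem H4_etale_lift_along_u_unique {E : Type u} [CommRing E] [Algebra R E] [Algebra.Etale R E]
    (g g' : E →ₐ[R] T) (h : ∀ a, u (g a) = u (g' a)) : g = g' :=
  H4_etale_algHom_ext_of_residue g g' (fun a => H4_residue_eq_of_u_eq u hku (h a))

include hu hku in
/-- Ind-étale algebras lift uniquely along `u`. -/
theorem H4_indEtale_lift_along_u {S : Type u} [CommRing S] [Algebra R S]
    (hS : EtPBC.IsIndEtale R S) (χ : S →ₐ[R] K) :
    ∃! g : S →ₐ[R] T, ∀ a, u (g a) = χ a := by
  obtain ⟨J, _, _, G, _, _, φ, tr, het, htr, hrep, -, hdesc⟩ :=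
    H4_isIndEtale_exists_system' R S hS
  haveI := het
  choose ψ hψ using fun j => H4_etale_lift_along_u u hu hku (χ.comp (φ j))
  have hcompat : ∀ (i j : J) (a : i ⟶ j) (x : G i), ψ j (tr a x) = ψ i x := by
    intro i j a x
    have h1 : (ψ j).comp (tr a) = ψ i := by
      apply H4_etale_lift_along_u_unique u hku
      intro y
      show u (ψ j (tr a y)) = u (ψ i y)
      rw [hψ, hψ]
      show χ (φ j (tr a y)) = χ (φ i y)
      rw [htr]
    exact AlgHom.congr_fun h1 x
  obtain ⟨g, hg⟩ := hdesc T ψ hcompat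
  refine ⟨g, ?_, ?_⟩
  · intro s
    obtain ⟨j, x, rfl⟩ := hrep s
    rw [hg, hψ]
    rfl
  · intro g' hg'
    ext s
    obtain ⟨j, x, rfl⟩ := hrep s
    have h1 : g'.comp (φ j) = g.comp (φ j) := by
      apply H4_etale_lift_along_u_unique u hku
      intro y
      show u (g' (φ j y)) = u (g (φ j y))
      rw [hg', hg, hψ]
      rfl
    exact AlgHom.congr_fun h1 x

end

/-- Uniqueness of henselian local ind-étale algebras with given residue field. -/
theorem H4_henselian_indEtale_unique (R S S' K : Type u) [CommRing R] [CommRing S]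
    [CommRing S'] [Field K] [HenselianLocalRing S] [HenselianLocalRing S'] [Algebra R S]
    [Algebra R S'] [Algebra R K] (hS : EtPBC.IsIndEtale R S) (hS' : EtPBC.IsIndEtale R S')
    (u : S →ₐ[R] K) (u' : S' →ₐ[R] K) (hu : Function.Surjective u)
    (hu' : Function.Surjective u')
    (hku : RingHom.ker u.toRingHom = IsLocalRing.maximalIdeal S)
    (hku' : RingHom.ker u'.toRingHom = IsLocalRing.maximalIdeal S') :
    ∃! e : S ≃ₐ[R] S', u'.comp (e : S →ₐ[R] S') = u := by
  obtain ⟨g, hg, hguniq⟩ := H4_indEtale_lift_along_u u' hu' hku' hS u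
  obtain ⟨g', hg', -⟩ := H4_indEtale_lift_along_u u hu hku hS' u'
  obtain ⟨i, -, hiuniq⟩ := H4_indEtale_lift_along_u u hu hku hS u
  obtain ⟨i', -, hi'uniq⟩ := H4_indEtale_lift_along_u u' hu' hku' hS' u'
  have h1 : g'.comp g = AlgHom.id R S := by
    rw [hiuniq (g'.comp g) (fun a => by
      show u (g' (g a)) = u a
      rw [hg', hg]), hiuniq (AlgHom.id R S) (fun a => rfl)]
  have h2 : g.comp g' = AlgHom.id R S' := by
    rw [hi'uniq (g.comp g') (fun a => by
      show u' (g (g' a)) = u' a
      rw [hg, hg']), hi'uniq (AlgHom.id R S') (fun a => rfl)]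
  refine ⟨AlgEquiv.ofAlgHom g g' h2 h1, ?_, ?_⟩
  · ext a
    exact hg a
  · intro e he
    ext a
    have h3 : (e : S →ₐ[R] S') = g := hguniq _ (fun a => AlgHom.congr_fun he a)
    exact AlgHom.congr_fun h3 a

end Groth.Agent.H4
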