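import Mathlib

set_option autoImplicit false
universe u
open AlgebraicGeometry CategoryTheory CategoryTheory.Limits Topology TopologicalSpace

namespace Groth.Agent.H4

theorem H4_isReduced_subscheme_vanishingIdeal {Y : Scheme.{u}} (Z : Closeds Y) :
    AlgebraicGeometry.IsReduced (Scheme.IdealSheafData.vanishingIdeal Z).subscheme := by
  let I := Scheme.IdealSheafData.vanishingIdeal Z
  haveI : ∀ U, AlgebraicGeometry.IsReduced (I.subschemeCover.openCover.X U) := by
    intro U
    have hrad : (I.ideal U).IsRadical := by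
      show (PrimeSpectrum.vanishingIdeal _).IsRadical
      exact PrimeSpectrum.isRadical_vanishingIdeal _
    haveI : _root_.IsReduced (Γ(Y, U.1) ⧸ I.ideal U) :=
      (Ideal.isRadical_iff_quotient_reduced _).mp hrad
    show AlgebraicGeometry.IsReduced (Spec (.of (Γ(Y, U.1) ⧸ I.ideal U)))
    infer_instance
  exact IsReduced.of_openCover (X := I.subscheme) I.subschemeCover.openCover

theorem H4_irreducibleSpace_of_isEmbedding {T W : Type u} [TopologicalSpace T]
    [TopologicalSpace W] (e : T → W) (he : IsEmbedding e) (h : IsIrreducible (Set.range e)) :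
    IrreducibleSpace T := by
  haveI : Nonempty T := by
    obtain ⟨_, t, rfl⟩ := h.1
    exact ⟨t⟩
  haveI : PreirreducibleSpace T := by
    constructor
    intro u v hu hv hune hvne
    obtain ⟨u', hu', rfl⟩ := he.isInducing.isOpen_iff.mp hu
    obtain ⟨v', hv', rfl⟩ := he.isInducing.isOpen_iff.mp hv
    obtain ⟨a, -, ha⟩ := hune
    obtain ⟨b, -, hb⟩ := hvne
    obtain ⟨_, ⟨t, rfl⟩, htu, htv⟩ := h.2 u' v' hu' hv' ⟨e a, ⟨a, rfl⟩, ha⟩ ⟨e b, ⟨b, rfl⟩, hb⟩
    exact ⟨t, trivial, htu, htv⟩
  exact ⟨inferInstance⟩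

theorem H4_factor_through_integral_component {X Y : Scheme.{u}} (f : X ⟶ Y)
    [AlgebraicGeometry.IsReduced X] [IrreducibleSpace X] :
    ∃ (Z : Closeds Y) (_ : (Z : Set Y) ∈ irreducibleComponents Y)
      (_ : IsIntegral (Scheme.IdealSheafData.vanishingIdeal Z).subscheme)
      (g : X ⟶ (Scheme.IdealSheafData.vanishingIdeal Z).subscheme),
      g ≫ (Scheme.IdealSheafData.vanishingIdeal Z).subschemeι = f := by
  have hirr : IsIrreducible (f.base '' Set.univ) :=
    (IrreducibleSpace.isIrreducible_univ X).image f.base f.continuous.continuousOn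
  obtain ⟨Z, hZ, hfZ⟩ := exists_mem_irreducibleComponents_subset_of_isIrreducible _ hirr
  let Zc : Closeds Y := ⟨Z, isClosed_of_mem_irreducibleComponents Z hZ⟩
  let I := Scheme.IdealSheafData.vanishingIdeal Zc
  haveI := H4_isReduced_subscheme_vanishingIdeal Zc
  have hrange : Set.range I.subschemeι.base = Z := by
    rw [I.range_subschemeι]
    exact Scheme.IdealSheafData.coe_support_vanishingIdeal Zc
  haveI : IrreducibleSpace I.subscheme :=
    H4_irreducibleSpace_of_isEmbedding I.subschemeι.base I.subschemeι.isEmbedding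
      (by rw [hrange]; exact hZ.1)
  have hint : IsIntegral I.subscheme := isIntegral_of_irreducibleSpace_of_isReduced _
  have hker : I.subschemeι.ker ≤ f.ker := by
    rw [I.ker_subschemeι, ← Scheme.IdealSheafData.map_bot f]
    have h1 : (⊥ : X.IdealSheafData) = Scheme.IdealSheafData.vanishingIdeal ⊤ := by
      rw [Scheme.IdealSheafData.vanishingIdeal_top, Scheme.nilradical_eq_bot]
    rw [h1, Scheme.IdealSheafData.map_vanishingIdeal]
    apply Scheme.IdealSheafData.vanishingIdeal_antimono
    show closure (f.base '' ((⊤ : Closeds X) : Set X)) ⊆ Z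
    exact closure_minimal hfZ (isClosed_of_mem_irreducibleComponents Z hZ)
  exact ⟨Zc, hZ, hint, IsClosedImmersion.lift I.subschemeι f hker,
    IsClosedImmersion.lift_fac _ _ _⟩

end Groth.Agent.H4
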