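import Mathlib

set_option autoImplicit false
universe u v

namespace Groth.Agent.H4

/-- In an inverse system of sets with surjective transition maps, every element extends to a
compatible family. -/
theorem H4_invsys_extend : ∀ (n : ℕ) (X : ℕ → Type v) (f : ∀ n, X (n + 1) → X n)
    (_ : ∀ n, Function.Surjective (f n)) (y : X n),
    ∃ z : ∀ k, X k, (∀ k, f k (z (k + 1)) = z k) ∧ z n = y := by
  intro n
  induction n with
  | zero =>
    intro X f hf y
    let z : ∀ k, X k := fun k => Nat.rec y (fun k zk => (hf k zk).choose) k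
    refine ⟨z, fun k => ?_, rfl⟩
    exact (hf k (z k)).choose_spec
  | succ n ih =>
    intro X f hf y
    obtain ⟨z', hz', hy⟩ := ih (fun k => X (k + 1)) (fun k => f (k + 1)) (fun k => hf (k + 1)) y
    refine ⟨fun k => match k with
      | 0 => f 0 (z' 0)
      | k + 1 => z' k, fun k => ?_, hy⟩
    match k with
    | 0 => rfl
    | k + 1 => exact hz' k

section

variable {A : Type u} [CommRing A] (I : Ideal A)
  {M : ℕ → Type v} [∀ n, AddCommGroup (M n)] [∀ n, Module A (M n)]
  (f : ∀ n, M (n + 1) →ₗ[A] M n)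
  {L : Type v} [AddCommGroup L] [Module A L] (π : ∀ n, L →ₗ[A] M n)

include f in
theorem H4_invlim_pi_surjective (hf : ∀ n, Function.Surjective (f n))
    (hπ : ∀ n, f n ∘ₗ π (n + 1) = π n)
    (hlift : ∀ y : (∀ n, M n), (∀ n, f n (y (n + 1)) = y n) → ∃ x : L, ∀ n, π n x = y n)
    (n : ℕ) : Function.Surjective (π n) := by
  intro y
  obtain ⟨z, hz, hy⟩ := H4_invsys_extend n M (fun n => f n) hf y
  obtain ⟨x, hx⟩ := hlift z hz
  exact ⟨x, by rw [hx n, hy]⟩

theorem H4_smul_eq_zero (hk : ∀ n, I ^ (n + 1) • (⊤ : Submodule A (M n)) = ⊥)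
    (n : ℕ) (a : A) (ha : a ∈ I ^ (n + 1)) (y : M n) : a • y = 0 := by
  have : a • y ∈ I ^ (n + 1) • (⊤ : Submodule A (M n)) :=
    Submodule.smul_mem_smul ha Submodule.mem_top
  rw [hk n] at this
  exact this

include f in
theorem H4_ker_pi_mono (hπ : ∀ n, f n ∘ₗ π (n + 1) = π n) (n k : ℕ) :
    LinearMap.ker (π (n + k)) ≤ LinearMap.ker (π n) := by
  induction k with
  | zero => exact le_rfl
  | succ k ih =>
    intro x hx
    apply ih
    rw [LinearMap.mem_ker] at hx ⊢
    have := LinearMap.congr_fun (hπ (n + k)) x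
    rw [LinearMap.comp_apply] at this
    rw [← this]
    show f (n + k) (π (n + (k + 1)) x) = 0
    rw [hx, map_zero]

include f in
/-- The images of the chosen lifts generate every `M n`. -/
theorem H4_span_top (hk : ∀ n, I ^ (n + 1) • (⊤ : Submodule A (M n)) = ⊥)
    (hker : ∀ n, LinearMap.ker (f n) = I ^ (n + 1) • (⊤ : Submodule A (M (n + 1))))
    (hπ : ∀ n, f n ∘ₗ π (n + 1) = π n)
    {r : ℕ} (x : Fin r → L) (h0 : Submodule.span A (Set.range fun i => π 0 (x i)) = ⊤) (n : ℕ) :
    Submodule.span A (Set.range fun i => π n (x i)) = ⊤ := by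
  induction n with
  | zero => exact h0
  | succ n ih =>
    set N := Submodule.span A (Set.range fun i => π (n + 1) (x i)) with hN
    have hmap : N.map (f n) = ⊤ := by
      rw [hN, Submodule.map_span, ← Set.range_comp, ← ih]
      congr 2
      funext i
      exact LinearMap.congr_fun (hπ n) (x i)
    have hsup : N ⊔ LinearMap.ker (f n) = ⊤ := by
      rw [eq_top_iff]
      intro y _
      have hy : f n y ∈ N.map (f n) := by rw [hmap]; trivial
      obtain ⟨w, hw, hwy⟩ := hy
      have : y = w + (y - w) := by abel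
      rw [this]
      refine Submodule.add_mem_sup hw ?_
      rw [LinearMap.mem_ker, map_sub, hwy, sub_self]
    rw [hker n] at hsup
    set J := I ^ (n + 1) with hJ
    have hJJ : J • (J • (⊤ : Submodule A (M (n + 1)))) = ⊥ := by
      rw [← Submodule.mul_smul, eq_bot_iff, ← hk (n + 1)]
      refine Submodule.smul_mono_left ?_
      rw [hJ, ← pow_add]
      exact Ideal.pow_le_pow_right (by omega)
    have hJtop : J • (⊤ : Submodule A (M (n + 1))) ≤ N := by
      calc J • (⊤ : Submodule A (M (n + 1))) = J • (N ⊔ J • ⊤) := by rw [hsup]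
        _ = J • N ⊔ J • (J • ⊤) := Submodule.smul_sup _ _ _
        _ = J • N := by rw [hJJ, sup_bot_eq]
        _ ≤ N := Submodule.smul_le_right
    rw [eq_top_iff, ← hsup]
    exact sup_le le_rfl hJtop

include f in
/-- One approximation step. -/
theorem H4_approx_step
    (hker : ∀ n, LinearMap.ker (f n) = I ^ (n + 1) • (⊤ : Submodule A (M (n + 1))))
    (hπ : ∀ n, f n ∘ₗ π (n + 1) = π n)
    {r : ℕ} (x : Fin r → L)
    (hspan : ∀ n, Submodule.span A (Set.range fun i => π n (x i)) = ⊤)
    (n : ℕ) (y : L) (hy : y ∈ LinearMap.ker (π n)) :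
    ∃ b : Fin r → A, (∀ i, b i ∈ I ^ (n + 1)) ∧ y - ∑ i, b i • x i ∈ LinearMap.ker (π (n + 1)) := by
  have h1 : π (n + 1) y ∈ LinearMap.ker (f n) := by
    rw [LinearMap.mem_ker]
    have := LinearMap.congr_fun (hπ n) y
    rw [LinearMap.comp_apply] at this
    rw [this]
    exact hy
  rw [hker n, ← hspan (n + 1), Submodule.mem_ideal_smul_span_iff_exists_sum] at h1
  obtain ⟨a, ha, hsum⟩ := h1
  refine ⟨fun i => a i, ha, ?_⟩
  rw [LinearMap.mem_ker, map_sub, map_sum, sub_eq_zero, ← hsum, Finsupp.sum_fintype]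
  · refine Finset.sum_congr rfl fun i _ => ?_
    rw [map_smul]
  · intro i
    exact zero_smul _ _

include f in
/-- Elements of `ker π_n` are `I^{n+1}`-combinations of the chosen lifts. -/
theorem H4_ker_combination [IsAdicComplete I A]
    (hk : ∀ n, I ^ (n + 1) • (⊤ : Submodule A (M n)) = ⊥)
    (hker : ∀ n, LinearMap.ker (f n) = I ^ (n + 1) • (⊤ : Submodule A (M (n + 1))))
    (hπ : ∀ n, f n ∘ₗ π (n + 1) = π n)
    (hinj : ∀ x : L, (∀ n, π n x = 0) → x = 0)
    {r : ℕ} (x : Fin r → L)
    (hspan : ∀ n, Submodule.span A (Set.range fun i => π n (x i)) = ⊤)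
    (n : ℕ) (y : L) (hy : y ∈ LinearMap.ker (π n)) :
    ∃ c : Fin r → A, (∀ i, c i ∈ I ^ (n + 1)) ∧ y = ∑ i, c i • x i := by
  classical
  -- recursive construction of partial sums
  let T : ℕ → Type u := fun k =>
    {s : Fin r → A // y - ∑ i, s i • x i ∈ LinearMap.ker (π (n + k))}
  have hstep : ∀ k (t : T k), ∃ t' : T (k + 1), ∀ i, t'.1 i - t.1 i ∈ I ^ (n + k + 1) := by
    intro k t
    obtain ⟨b, hb, hb'⟩ := H4_approx_step I f π hker hπ x hspan (n + k) _ t.2
    refine ⟨⟨fun i => t.1 i + b i, ?_⟩, fun i => ?_⟩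
    · have : y - ∑ i, (t.1 i + b i) • x i = y - ∑ i, t.1 i • x i - ∑ i, b i • x i := by
        simp only [add_smul, Finset.sum_add_distrib]
        abel
      rw [this]
      exact hb'
    · simp only [add_sub_cancel_left]
      exact hb i
  let t0 : T 0 := ⟨fun _ => 0, by simpa using hy⟩
  let seq : ∀ k, T k := fun k => Nat.rec t0 (fun k t => (hstep k t).choose) k
  have hseq : ∀ k i, (seq (k + 1)).1 i - (seq k).1 i ∈ I ^ (n + k + 1) := fun k =>
    (hstep k (seq k)).choose_spec
  -- Cauchy property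
  have hcauchy : ∀ i k j, (seq (k + j)).1 i - (seq k).1 i ∈ I ^ (n + k + 1) := by
    intro i k j
    induction j with
    | zero => simp
    | succ j ih =>
      have h1 := hseq (k + j) i
      have h2 : I ^ (n + (k + j) + 1) ≤ I ^ (n + k + 1) := Ideal.pow_le_pow_right (by omega)
      have : (seq (k + (j + 1))).1 i - (seq k).1 i =
          ((seq (k + j + 1)).1 i - (seq (k + j)).1 i) + ((seq (k + j)).1 i - (seq k).1 i) := by
        change (seq (k + j + 1)).1 i - (seq k).1 i = _
        abel
      rw [this]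
      exact Ideal.add_mem _ (h2 h1) ih
  -- limits
  have hlim : ∀ i, ∃ c : A, ∀ k, c - (seq k).1 i ∈ I ^ (n + k + 1) := by
    intro i
    obtain ⟨c, hc⟩ := IsPrecomplete.prec' (I := I) (M := A) (fun k => (seq k).1 i) (by
      intro m l hml
      obtain ⟨j, rfl⟩ := Nat.exists_eq_add_of_le hml
      rw [SModEq.comm, SModEq.sub_mem, smul_eq_mul, Ideal.mul_top]
      exact Ideal.pow_le_pow_right (by omega) (hcauchy i m j))
    refine ⟨c, fun k => ?_⟩
    have h1 := hc (n + k + 1)
    rw [SModEq.comm, SModEq.sub_mem, smul_eq_mul, Ideal.mul_top] at h1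
    have h2 := hcauchy i k (n + 1)
    have : c - (seq k).1 i = (c - (seq (n + k + 1)).1 i) +
        ((seq (k + (n + 1))).1 i - (seq k).1 i) := by
      have e : n + k + 1 = k + (n + 1) := by omega
      rw [e]; abel
    rw [this]
    exact Ideal.add_mem _ h1 h2
  choose c hc using hlim
  refine ⟨c, fun i => ?_, ?_⟩
  · have := hc i 0
    simpa [seq, t0] using this
  · rw [← sub_eq_zero]
    apply hinj
    intro m
    have h1 : y - ∑ i, c i • x i = (y - ∑ i, (seq m).1 i • x i) -
        ∑ i, (c i - (seq m).1 i) • x i := by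
      simp only [sub_smul, Finset.sum_sub_distrib]
      abel
    rw [h1, map_sub]
    have h2 : π m (y - ∑ i, (seq m).1 i • x i) = 0 := by
      have h3 := (seq m).2
      have h4 : LinearMap.ker (π (n + m)) ≤ LinearMap.ker (π m) := by
        rw [add_comm]
        exact H4_ker_pi_mono f π hπ m n
      exact h4 h3
    rw [h2, zero_sub, neg_eq_zero, map_sum]
    refine Finset.sum_eq_zero fun i _ => ?_
    rw [map_smul]
    refine H4_smul_eq_zero I hk m _ ?_ _
    exact Ideal.pow_le_pow_right (by omega) (hc i m)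

include f in
theorem H4_invlim_main [IsAdicComplete I A]
    (hf : ∀ n, Function.Surjective (f n))
    (hk : ∀ n, I ^ (n + 1) • (⊤ : Submodule A (M n)) = ⊥)
    (hker : ∀ n, LinearMap.ker (f n) = I ^ (n + 1) • (⊤ : Submodule A (M (n + 1))))
    (hπ : ∀ n, f n ∘ₗ π (n + 1) = π n)
    (hinj : ∀ x : L, (∀ n, π n x = 0) → x = 0)
    (hlift : ∀ y : (∀ n, M n), (∀ n, f n (y (n + 1)) = y n) → ∃ x : L, ∀ n, π n x = y n)
    (h0 : Module.Finite A (M 0)) :
    Module.Finite A L ∧ IsAdicComplete I L ∧
      ∀ n, Function.Surjective (π n) ∧ LinearMap.ker (π n) = I ^ (n + 1) • (⊤ : Submodule A L) := by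
  classical
  have hsurj := H4_invlim_pi_surjective f π hf hπ hlift
  obtain ⟨r, s, hs⟩ := Module.Finite.exists_fin (R := A) (M := M 0)
  let x : Fin r → L := fun i => (hsurj 0 (s i)).choose
  have hx : ∀ i, π 0 (x i) = s i := fun i => (hsurj 0 (s i)).choose_spec
  have h0' : Submodule.span A (Set.range fun i => π 0 (x i)) = ⊤ := by
    have : (fun i => π 0 (x i)) = s := funext hx
    rw [this, hs]
  have hspan := H4_span_top I f π hk hker hπ x h0'
  have hcomb := H4_ker_combination I f π hk hker hπ hinj x hspan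
  have hkerπ : ∀ n, LinearMap.ker (π n) = I ^ (n + 1) • (⊤ : Submodule A L) := by
    intro n
    apply le_antisymm
    · intro y hy
      obtain ⟨c, hc, rfl⟩ := hcomb n y hy
      exact Submodule.sum_mem _ fun i _ => Submodule.smul_mem_smul (hc i) Submodule.mem_top
    · rw [Submodule.smul_le]
      intro a ha y _
      rw [LinearMap.mem_ker, map_smul]
      exact H4_smul_eq_zero I hk n a ha _
  have hfin : Module.Finite A L := by
    refine ⟨⟨Finset.univ.image x, ?_⟩⟩
    rw [eq_top_iff]
    intro y _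
    have h1 : π 0 y ∈ Submodule.span A (Set.range fun i => π 0 (x i)) := by rw [h0']; trivial
    have h2 : Submodule.span A (Set.range fun i => π 0 (x i)) =
        (Submodule.span A (Set.range x)).map (π 0) := by
      rw [Submodule.map_span, ← Set.range_comp]; rfl
    rw [h2] at h1
    obtain ⟨w, hw, hwy⟩ := h1
    have h3 : y - w ∈ LinearMap.ker (π 0) := by
      rw [LinearMap.mem_ker, map_sub, hwy, sub_self]
    obtain ⟨c, -, hc⟩ := hcomb 0 (y - w) h3
    have h4 : y = w + ∑ i, c i • x i := by rw [← hc]; abel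
    rw [h4, Finset.coe_image, Finset.coe_univ, Set.image_univ]
    refine Submodule.add_mem _ hw (Submodule.sum_mem _ fun i _ => ?_)
    exact Submodule.smul_mem _ _ (Submodule.subset_span ⟨i, rfl⟩)
  refine ⟨hfin, ?_, fun n => ⟨hsurj n, hkerπ n⟩⟩
  -- completeness
  have hmem : ∀ (n : ℕ) (y : L), y ∈ I ^ (n + 1) • (⊤ : Submodule A L) ↔ π n y = 0 := by
    intro n y
    rw [← hkerπ n, LinearMap.mem_ker]
  refine { toIsHausdorff := ⟨?_⟩, toIsPrecomplete := ⟨?_⟩ }
  · intro y hy
    apply hinj
    intro n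
    rw [← hmem]
    have := hy (n + 1)
    rwa [SModEq.sub_mem, sub_zero] at this
  · intro z hz
    -- compatible family
    have hcompat : ∀ n, f n (π (n + 1) (z (n + 2))) = π n (z (n + 1)) := by
      intro n
      have h1 := LinearMap.congr_fun (hπ n) (z (n + 2))
      rw [LinearMap.comp_apply] at h1
      rw [h1]
      have h2 : z (n + 1) ≡ z (n + 2) [SMOD (I ^ (n + 1) • ⊤ : Submodule A L)] :=
        hz (Nat.le_succ (n + 1))
      rw [SModEq.sub_mem, hmem, map_sub, sub_eq_zero] at h2
      exact h2.symm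
    obtain ⟨w, hw⟩ := hlift (fun n => π n (z (n + 1))) hcompat
    refine ⟨w, fun n => ?_⟩
    rcases Nat.eq_zero_or_pos n with rfl | hn
    · rw [pow_zero, Ideal.one_eq_top, Submodule.top_smul]
      exact SModEq.top
    · obtain ⟨m, rfl⟩ : ∃ m, n = m + 1 := ⟨n - 1, by omega⟩
      rw [SModEq.sub_mem]
      have h1 : z (m + 1) - z (m + 2) ∈ I ^ (m + 1) • (⊤ : Submodule A L) := by
        rw [← SModEq.sub_mem]
        exact hz (Nat.le_succ (m + 1))
      have h2 : z (m + 2) - w ∈ I ^ (m + 1) • (⊤ : Submodule A L) := by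
        have h3 : z (m + 2) - w ∈ I ^ (m + 2) • (⊤ : Submodule A L) := by
          rw [hmem, map_sub, hw (m + 1), sub_self]
        exact Submodule.smul_mono_left (Ideal.pow_le_pow_right (Nat.le_succ _)) h3
      have : z (m + 1) - w = (z (m + 1) - z (m + 2)) + (z (m + 2) - w) := by abel
      rw [this]
      exact Submodule.add_mem _ h1 h2

end

end Groth.Agent.H4
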