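import Mathlib

set_option autoImplicit false
universe u v w

namespace Groth.Agent.H4

open scoped IntermediateField.algebraAdjoinAdjoin

/-- If `x` is algebraically independent over `k` and `K` is separable algebraic over `k(x)`,
then `dx` is a basis of `Ω[K/k]`. -/
theorem H4_kaehler_basis_of_sep {k : Type u} {K : Type v} [Field k] [Field K] [Algebra k K]
    {ι : Type w} (x : ι → K) (hx : AlgebraicIndependent k x)
    [Algebra.IsSeparable (IntermediateField.adjoin k (Set.range x)) K] :
    ∃ b : Module.Basis ι K (Ω[K⁄k]), ∀ i, b i = KaehlerDifferential.D k K (x i) := by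
  classical
  let e : MvPolynomial ι k ≃ₐ[k] Algebra.adjoin k (Set.range x) := hx.aevalEquiv
  letI algPS : Algebra (MvPolynomial ι k) (Algebra.adjoin k (Set.range x)) :=
    e.toAlgHom.toRingHom.toAlgebra
  letI algPE : Algebra (MvPolynomial ι k) (IntermediateField.adjoin k (Set.range x)) :=
    ((algebraMap (Algebra.adjoin k (Set.range x)) (IntermediateField.adjoin k (Set.range x))).comp
      e.toAlgHom.toRingHom).toAlgebra
  letI algPK : Algebra (MvPolynomial ι k) K := (MvPolynomial.aeval x).toAlgebra
  haveI : IsScalarTower k (MvPolynomial ι k) K :=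
    IsScalarTower.of_algebraMap_eq (fun r => ((MvPolynomial.aeval x).commutes r).symm)
  haveI : IsScalarTower (MvPolynomial ι k) (Algebra.adjoin k (Set.range x))
      (IntermediateField.adjoin k (Set.range x)) :=
    IsScalarTower.of_algebraMap_eq (fun r => rfl)
  haveI : IsScalarTower (MvPolynomial ι k) (IntermediateField.adjoin k (Set.range x)) K :=
    IsScalarTower.of_algebraMap_eq (fun r => (hx.algebraMap_aevalEquiv r).symm)
  haveI h1 : Algebra.FormallyEtale (MvPolynomial ι k) (Algebra.adjoin k (Set.range x)) := by
    let e' : MvPolynomial ι k ≃ₐ[MvPolynomial ι k] Algebra.adjoin k (Set.range x) :=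
      { e.toRingEquiv with commutes' := fun r => rfl }
    exact Algebra.FormallyEtale.of_equiv e'
  haveI h2 : Algebra.FormallyEtale (Algebra.adjoin k (Set.range x))
      (IntermediateField.adjoin k (Set.range x)) :=
    Algebra.FormallyEtale.of_isLocalization (nonZeroDivisors (Algebra.adjoin k (Set.range x)))
  haveI h3 : Algebra.FormallyEtale (MvPolynomial ι k) (IntermediateField.adjoin k (Set.range x)) :=
    Algebra.FormallyEtale.comp (MvPolynomial ι k) (Algebra.adjoin k (Set.range x))
      (IntermediateField.adjoin k (Set.range x))
  haveI h4 : Algebra.FormallyEtale (IntermediateField.adjoin k (Set.range x)) K :=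
    Algebra.FormallyEtale.of_isSeparable _ _
  haveI h5 : Algebra.FormallyEtale (MvPolynomial ι k) K :=
    Algebra.FormallyEtale.comp (MvPolynomial ι k) (IntermediateField.adjoin k (Set.range x)) K
  let eK := KaehlerDifferential.tensorKaehlerEquivOfFormallyEtale k (MvPolynomial ι k) K
  let b := ((KaehlerDifferential.mvPolynomialBasis k ι).baseChange K).map eK
  refine ⟨b, fun i => ?_⟩
  simp only [b, Module.Basis.map_apply, Module.Basis.baseChange_apply,
    KaehlerDifferential.mvPolynomialBasis_apply, eK,
    KaehlerDifferential.tensorKaehlerEquivOfFormallyEtale_apply,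
    KaehlerDifferential.mapBaseChange_tmul, one_smul, KaehlerDifferential.map_D]
  congr 1
  exact MvPolynomial.aeval_X x i

end Groth.Agent.H4

namespace Groth.Agent.H4

/-- For a finitely generated field extension of a perfect field, the dimension of the Kähler
differentials is the cardinality of any (finite) transcendence basis. -/
theorem H4_finrank_kaehler_eq_card {k : Type u} {F : Type v} [Field k] [PerfectField k] [Field F]
    [Algebra k F] [Algebra.EssFiniteType k F] {ι : Type w} [Finite ι] (x : ι → F)
    (hx : IsTranscendenceBasis k x) : Module.finrank F (Ω[F⁄k]) = Nat.card ι := by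
  classical
  obtain ⟨s, hs, hsep⟩ := exists_isTranscendenceBasis_and_isSeparable_of_perfectField k F
  have hr : (s : Set F) = Set.range ((↑) : s → F) := Subtype.range_coe.symm
  rw [hr] at hsep
  obtain ⟨b, -⟩ := H4_kaehler_basis_of_sep ((↑) : s → F) hs.1
  rw [Module.finrank_eq_nat_card_basis b]
  have h1 := hs.lift_cardinalMk_eq hx
  have h2 := congrArg Cardinal.toNat h1
  simpa [Nat.card] using h2

end Groth.Agent.H4
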