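import Mathlib
import Groth.Prelude.Def_LambdaRing

set_option autoImplicit false
set_option linter.unusedSectionVars false
universe u
open Finset

namespace Groth.Agent.H4

open LambdaRing

section Lam
variable {K : Type u} [CommRing K] [LambdaOps K]

theorem H4_lam_zero_arg (k : ℕ) (hk : 1 ≤ k) : LambdaOps.lam k (0 : K) = 0 := by
  induction k using Nat.strong_induction_on with
  | _ k ih =>
    obtain ⟨k', rfl⟩ : ∃ j, k = j + 1 := ⟨k - 1, by omega⟩
    have h := LambdaOps.lam_add (k' + 1) (0 : K) 0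
    rw [add_zero, Finset.sum_range_succ, Finset.sum_range_succ'] at h
    have hmid : ∑ i ∈ range k', LambdaOps.lam (i + 1) (0 : K) * LambdaOps.lam (k' + 1 - (i + 1)) 0 = 0 := by
      apply Finset.sum_eq_zero
      intro i hi
      rw [Finset.mem_range] at hi
      rw [ih (i + 1) (by omega) (by omega), zero_mul]
    rw [hmid, LambdaOps.lam_zero, Nat.sub_zero, Nat.sub_self, LambdaOps.lam_zero] at h
    linear_combination -h

theorem H4_lam_succ_add_one (h1 : ∀ k : ℕ, 2 ≤ k → LambdaOps.lam k (1 : K) = 0) (i : ℕ) (z : K) :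
    LambdaOps.lam (i + 1) (z + 1) = LambdaOps.lam (i + 1) z + LambdaOps.lam i z := by
  rw [LambdaOps.lam_add, Finset.sum_range_succ, Finset.sum_range_succ]
  have hrest : ∑ j ∈ range i, LambdaOps.lam j z * LambdaOps.lam (i + 1 - j) (1 : K) = 0 := by
    apply Finset.sum_eq_zero
    intro j hj
    rw [Finset.mem_range] at hj
    rw [h1 (i + 1 - j) (by omega), mul_zero]
  rw [hrest, Nat.sub_self, LambdaOps.lam_zero, show i + 1 - i = 1 by omega, LambdaOps.lam_one]
  ring

theorem H4_lam_natCast (h1 : ∀ k : ℕ, 2 ≤ k → LambdaOps.lam k (1 : K) = 0) (m i : ℕ) :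
    LambdaOps.lam i (m : K) = (Nat.choose m i : K) := by
  induction m generalizing i with
  | zero =>
    rcases i with _ | i
    · simp [LambdaOps.lam_zero]
    · rw [Nat.cast_zero, H4_lam_zero_arg (i + 1) (by omega)]
      simp
  | succ m ih =>
    rcases i with _ | i
    · simp [LambdaOps.lam_zero]
    · rw [Nat.cast_succ, H4_lam_succ_add_one h1, ih, ih, Nat.choose_succ_succ]
      push_cast
      ring

theorem H4_alt_sum_lam (h1 : ∀ k : ℕ, 2 ≤ k → LambdaOps.lam k (1 : K) = 0) (n : ℕ) (z : K) :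
    ∑ i ∈ range (n + 1), (-1 : K) ^ i * LambdaOps.lam i (z + 1) = (-1 : K) ^ n * LambdaOps.lam n z := by
  induction n with
  | zero => simp [LambdaOps.lam_zero]
  | succ n ih =>
    rw [Finset.sum_range_succ, ih, H4_lam_succ_add_one h1]
    ring

theorem H4_gamma_eq_lam (h1 : ∀ k : ℕ, 2 ≤ k → LambdaOps.lam k (1 : K) = 0) (n : ℕ) (x : K) :
    gamma n x = LambdaOps.lam n (x + (n : K) - 1) := by
  rcases n with _ | m
  · simp [gamma, LambdaOps.lam_zero]
  · have hx : x + ((m + 1 : ℕ) : K) - 1 = x + (m : K) := by push_cast; ring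
    rw [hx, LambdaOps.lam_add]
    unfold gamma
    rw [if_neg (Nat.succ_ne_zero m)]
    refine Finset.sum_congr rfl fun j hj => ?_
    rw [Finset.mem_range] at hj
    rw [H4_lam_natCast h1]
    rcases j with _ | j
    · simp
    · rw [if_neg (Nat.succ_ne_zero j)]
      have : m + 1 - (j + 1) = m - j := by omega
      rw [this, Nat.choose_symm (by omega : j ≤ m)]
      simp [mul_comm]

/-- `λ^(k+1)(w + y) = λ^(k+1)(w) + y λ^k(w)` when `λ^j(y) = 0` for `j ≥ 2`. -/
theorem H4_lam_succ_add_line (y : K) (hy : ∀ j : ℕ, 2 ≤ j → LambdaOps.lam j y = 0) (i : ℕ) (z : K) :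
    LambdaOps.lam (i + 1) (z + y) = LambdaOps.lam (i + 1) z + y * LambdaOps.lam i z := by
  rw [LambdaOps.lam_add, Finset.sum_range_succ, Finset.sum_range_succ]
  have hrest : ∑ j ∈ range i, LambdaOps.lam j z * LambdaOps.lam (i + 1 - j) y = 0 := by
    apply Finset.sum_eq_zero
    intro j hj
    rw [Finset.mem_range] at hj
    rw [hy (i + 1 - j) (by omega), mul_zero]
  rw [hrest, Nat.sub_self, LambdaOps.lam_zero, show i + 1 - i = 1 by omega, LambdaOps.lam_one]
  ring

theorem H4_gamma_succ_add_line_sub_one (h1 : ∀ k : ℕ, 2 ≤ k → LambdaOps.lam k (1 : K) = 0)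
    (y : K) (hy : ∀ j : ℕ, 2 ≤ j → LambdaOps.lam j y = 0) (k : ℕ) (z : K) :
    gamma (k + 1) (z + y - 1) = gamma (k + 1) z + (y - 1) * gamma k z := by
  rw [H4_gamma_eq_lam h1, H4_gamma_eq_lam h1, H4_gamma_eq_lam h1]
  rcases k with _ | k
  · simp only [zero_add, LambdaOps.lam_one, LambdaOps.lam_zero]
    push_cast
    ring
  · have e1 : z + y - 1 + ((k + 1 + 1 : ℕ) : K) - 1 = (z + (k : K)) + y := by push_cast; ring
    have e2 : z + ((k + 1 + 1 : ℕ) : K) - 1 = (z + (k : K)) + 1 := by push_cast; ring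
    have e3 : z + ((k + 1 : ℕ) : K) - 1 = z + (k : K) := by push_cast; ring
    rw [e1, e2, e3, H4_lam_succ_add_line y hy, H4_lam_succ_add_one h1]
    ring

theorem H4_gamma_zero_arg (k : ℕ) (hk : 1 ≤ k) : gamma k (0 : K) = 0 := by
  unfold gamma
  rw [if_neg (by omega)]
  apply Finset.sum_eq_zero
  intro j _
  rcases j with _ | j
  · simp
  · rw [if_neg (Nat.succ_ne_zero j), H4_lam_zero_arg (j + 1) (by omega), mul_zero]

theorem H4_gamma_sum_line (h1 : ∀ k : ℕ, 2 ≤ k → LambdaOps.lam k (1 : K) = 0)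
    {ι : Type*} [DecidableEq ι] (y : ι → K)
    (hy : ∀ (i : ι) (j : ℕ), 2 ≤ j → LambdaOps.lam j (y i) = 0) (s : Finset ι) :
    ∀ k : ℕ, gamma k (∑ i ∈ s, y i - (s.card : K)) = ∑ t ∈ s.powersetCard k, ∏ i ∈ t, (y i - 1) := by
  induction s using Finset.induction_on with
  | empty =>
    intro k
    rcases k with _ | k
    · simp [gamma]
    · simp only [Finset.sum_empty, Finset.card_empty, Nat.cast_zero, sub_zero]
      rw [H4_gamma_zero_arg (k + 1) (by omega), Finset.powersetCard_eq_empty.2 (by simp)]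
      simp
  | insert a s ha ih =>
    intro k
    rcases k with _ | k
    · simp [gamma]
    · rw [Finset.sum_insert ha, Finset.card_insert_of_notMem ha]
      have e : y a + ∑ i ∈ s, y i - ((s.card + 1 : ℕ) : K) = (∑ i ∈ s, y i - (s.card : K)) + y a - 1 := by
        push_cast; ring
      rw [e, H4_gamma_succ_add_line_sub_one h1 (y a) (hy a), ih, ih,
        Finset.powersetCard_succ_insert ha, Finset.sum_union, Finset.sum_image]
      · congr 1
        rw [Finset.mul_sum]
        refine Finset.sum_congr rfl fun t ht => ?_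
        rw [Finset.mem_powersetCard] at ht
        rw [Finset.prod_insert (fun h => ha (ht.1 h))]
      · intro t ht t' ht' htt
        rw [Finset.mem_coe, Finset.mem_powersetCard] at ht ht'
        have h1' : a ∉ t := fun h => ha (ht.1 h)
        have h2' : a ∉ t' := fun h => ha (ht'.1 h)
        rw [← Finset.erase_insert h1', htt, Finset.erase_insert h2']
      · rw [Finset.disjoint_left]
        intro t ht ht'
        rw [Finset.mem_powersetCard] at ht
        rw [Finset.mem_image] at ht'
        obtain ⟨t', _, rfl⟩ := ht'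
        exact ha (ht.1 (Finset.mem_insert_self a t'))

theorem H4_lamSeries_add (x y : K) : lamSeries (x + y) = lamSeries x * lamSeries y := by
  ext n
  rw [PowerSeries.coeff_mul, Finset.Nat.sum_antidiagonal_eq_sum_range_succ_mk]
  simp only [lamSeries, PowerSeries.coeff_mk]
  exact LambdaOps.lam_add n x y

theorem H4_lamSeries_zero : lamSeries (0 : K) = 1 := by
  ext n
  rw [lamSeries, PowerSeries.coeff_mk, PowerSeries.coeff_one]
  rcases n with _ | n
  · simp [LambdaOps.lam_zero]
  · rw [H4_lam_zero_arg (n + 1) (by omega)]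
    simp

theorem H4_lamSeries_line (u : K) (hu : ∀ j : ℕ, 2 ≤ j → LambdaOps.lam j u = 0) :
    lamSeries u = 1 + PowerSeries.C u * PowerSeries.X := by
  ext i
  rw [lamSeries, PowerSeries.coeff_mk, map_add, PowerSeries.coeff_one, PowerSeries.coeff_C_mul,
    PowerSeries.coeff_X]
  rcases i with _ | _ | i
  · simp [LambdaOps.lam_zero]
  · simp [LambdaOps.lam_one]
  · rw [hu (i + 2) (by omega)]; simp

theorem H4_lamSeries_multiset_sum (s : Multiset K)
    (hs : ∀ u ∈ s, ∀ j : ℕ, 2 ≤ j → LambdaOps.lam j u = 0) :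
    lamSeries s.sum = (s.map fun u => 1 + PowerSeries.C u * PowerSeries.X).prod := by
  induction s using Multiset.induction_on with
  | empty => simp [H4_lamSeries_zero]
  | cons a s ih =>
    rw [Multiset.sum_cons, H4_lamSeries_add, Multiset.map_cons, Multiset.prod_cons,
      ih (fun u hu => hs u (Multiset.mem_cons_of_mem hu)),
      H4_lamSeries_line a (hs a (Multiset.mem_cons_self a s))]

/-- under the splitting property, the augmentation of `λ_t(e)` is `(1 + t)^(ε e)`. -/
theorem H4_map_aug_lamSeries (P : PosStructure K) (hK : HasSplitting K P) (e : K) (he : e ∈ P.pos)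
    (m : ℕ) (hm : P.aug e = m) :
    PowerSeries.map P.aug (lamSeries e) = (1 + PowerSeries.X) ^ m := by
  obtain ⟨C, hC, hsplit⟩ := hK
  obtain ⟨L', _, f, hf, s, hs, hsum⟩ := hsplit ⟨K, P⟩ hC e he
  have hline : ∀ u ∈ s, ∀ j : ℕ, 2 ≤ j → LambdaOps.lam j u = 0 := by
    intro u hu j hj
    obtain ⟨hpos, haug⟩ := hs u hu
    apply L'.posStr.lam_eq_zero u hpos
    rw [haug]
    exact_mod_cast hj
  have h1 : PowerSeries.map L'.posStr.aug (lamSeries s.sum) = (1 + PowerSeries.X) ^ (Multiset.card s) := by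
    rw [H4_lamSeries_multiset_sum s hline, map_multiset_prod, Multiset.map_map]
    have : ∀ u ∈ s, ((PowerSeries.map L'.posStr.aug) ∘ fun u => 1 + PowerSeries.C u * PowerSeries.X) u
        = (1 + PowerSeries.X : PowerSeries ℤ) := by
      intro u hu
      simp only [Function.comp_apply, map_add, map_one, map_mul, PowerSeries.map_C, PowerSeries.map_X]
      rw [(hs u hu).2]
      simp
    rw [Multiset.map_congr rfl this, Multiset.map_const', Multiset.prod_replicate]
  have hcard : (Multiset.card s : ℤ) = m := by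
    have : L'.posStr.aug s.sum = (Multiset.card s : ℤ) := by
      rw [map_multiset_sum]
      have : ∀ u ∈ s, L'.posStr.aug u = 1 := fun u hu => (hs u hu).2
      rw [Multiset.map_congr rfl this, Multiset.map_const', Multiset.sum_replicate]
      simp
    rw [← this, hsum, hf.aug_comp]
    exact hm
  have hcard' : Multiset.card s = m := by exact_mod_cast hcard
  have h2 : PowerSeries.map P.aug (lamSeries e) = PowerSeries.map L'.posStr.aug (lamSeries (f e)) := by
    ext n
    simp only [PowerSeries.coeff_map, lamSeries, PowerSeries.coeff_mk]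
    rw [← hf.isLambdaHom n e, hf.aug_comp]
  rw [h2, ← hsum, h1, hcard']

end Lam

end Groth.Agent.H4
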