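import Mathlib

/-! Lengths of quotients `R/(x)` in dimension one. -/

set_option autoImplicit false
set_option linter.style.haveILetI false
universe u

namespace Groth.Agent.H4

/-- `length R/(ab) ≤ length R/(a) + length R/(b)`, with equality when `a` is a nonzerodivisor. -/
theorem H4_length_quot_mul (R : Type u) [CommRing R] (a b : R) :
    Module.length R (R ⧸ Ideal.span ({a * b} : Set R)) ≤
        Module.length R (R ⧸ Ideal.span ({a} : Set R)) +
          Module.length R (R ⧸ Ideal.span ({b} : Set R)) ∧
      (a ∈ nonZeroDivisors R →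
        Module.length R (R ⧸ Ideal.span ({a * b} : Set R)) =
          Module.length R (R ⧸ Ideal.span ({a} : Set R)) +
            Module.length R (R ⧸ Ideal.span ({b} : Set R))) := by
  classical
  set Ia : Ideal R := Ideal.span {a} with hIa
  set Ib : Ideal R := Ideal.span {b} with hIb
  set Iab : Ideal R := Ideal.span {a * b} with hIab
  have hle : Iab ≤ Ia := by
    rw [hIab, Ideal.span_le, Set.singleton_subset_iff]
    exact Ideal.mul_mem_right _ _ (Ideal.subset_span rfl)
  let g : (R ⧸ Iab) →ₗ[R] (R ⧸ Ia) := Submodule.mapQ Iab Ia LinearMap.id hle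
  have hg : Function.Surjective g := by
    intro y
    obtain ⟨r, rfl⟩ := Submodule.Quotient.mk_surjective _ y
    exact ⟨Submodule.Quotient.mk r, rfl⟩
  let f₀ : R →ₗ[R] (R ⧸ Iab) := Iab.mkQ ∘ₗ LinearMap.lsmul R R a
  have hf₀ : Ib ≤ LinearMap.ker f₀ := by
    rw [hIb, Ideal.span_le, Set.singleton_subset_iff]
    change f₀ b = 0
    change Submodule.Quotient.mk (a • b) = 0
    rw [Submodule.Quotient.mk_eq_zero, smul_eq_mul]
    exact Ideal.subset_span rfl
  let f : (R ⧸ Ib) →ₗ[R] (R ⧸ Iab) := Submodule.liftQ Ib f₀ hf₀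
  have hf_mk : ∀ r : R, f (Submodule.Quotient.mk r) = Submodule.Quotient.mk (a * r) := fun r => rfl
  have hg_mk : ∀ r : R, g (Submodule.Quotient.mk r) = Submodule.Quotient.mk r := fun r => rfl
  have hexact : Function.Exact f g := by
    intro y
    constructor
    · intro hy
      obtain ⟨r, rfl⟩ := Submodule.Quotient.mk_surjective _ y
      rw [hg_mk, Submodule.Quotient.mk_eq_zero, hIa, Ideal.mem_span_singleton] at hy
      obtain ⟨c, rfl⟩ := hy
      exact ⟨Submodule.Quotient.mk c, hf_mk c⟩
    · rintro ⟨z, rfl⟩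
      obtain ⟨r, rfl⟩ := Submodule.Quotient.mk_surjective _ z
      rw [hf_mk, hg_mk, Submodule.Quotient.mk_eq_zero]
      exact Ideal.mul_mem_right _ _ (Ideal.subset_span rfl)
  -- range of f
  let K : Submodule R (R ⧸ Iab) := LinearMap.range f
  have hK : Function.Exact K.subtype g := by
    intro y
    rw [hexact y]
    constructor
    · rintro ⟨z, rfl⟩; exact ⟨⟨f z, z, rfl⟩, rfl⟩
    · rintro ⟨⟨_, z, rfl⟩, rfl⟩; exact ⟨z, rfl⟩
  have h1 : Module.length R (R ⧸ Iab) = Module.length R K + Module.length R (R ⧸ Ia) :=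
    Module.length_eq_add_of_exact K.subtype g K.injective_subtype hg hK
  have h2 : Module.length R K ≤ Module.length R (R ⧸ Ib) :=
    Module.length_le_of_surjective f.rangeRestrict f.surjective_rangeRestrict
  constructor
  · rw [h1, add_comm]
    exact add_le_add_right h2 _
  · intro ha
    have hinj : Function.Injective f := by
      rw [injective_iff_map_eq_zero]
      intro z hz
      obtain ⟨r, rfl⟩ := Submodule.Quotient.mk_surjective _ z
      rw [hf_mk, Submodule.Quotient.mk_eq_zero, hIab, Ideal.mem_span_singleton] at hz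
      obtain ⟨c, hc⟩ := hz
      rw [mul_assoc] at hc
      have : r = b * c := (mul_cancel_left_mem_nonZeroDivisors ha).1 hc
      rw [Submodule.Quotient.mk_eq_zero, hIb, Ideal.mem_span_singleton]
      exact ⟨c, this⟩
    rw [Module.length_eq_add_of_exact f g hinj hg hexact, add_comm]

/-- In a Noetherian ring of dimension at most one, `R/(x)` has finite length whenever `x` lies in no
minimal prime. -/
theorem H4_length_quot_ne_top (R : Type u) [CommRing R] [IsNoetherianRing R]
    (hdim : ringKrullDim R ≤ 1) (x : R) (hmin : ∀ p ∈ minimalPrimes R, x ∉ p) :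
    Module.length R (R ⧸ Ideal.span ({x} : Set R)) ≠ ⊤ := by
  classical
  set I : Ideal R := Ideal.span {x} with hI
  haveI : Ring.KrullDimLE 0 (R ⧸ I) := by
    refine Ring.KrullDimLE.mk₀ ?_
    intro J hJ
    set P : Ideal R := J.comap (Ideal.Quotient.mk I) with hP
    haveI hPprime : P.IsPrime := Ideal.comap_isPrime _ _
    have hxP : x ∈ P := by
      rw [hP, Ideal.mem_comap]
      have : Ideal.Quotient.mk I x = 0 :=
        (Ideal.Quotient.eq_zero_iff_mem).2 (Ideal.subset_span rfl)
      rw [this]; exact J.zero_mem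
    have hPmax : P.IsMaximal := by
      by_contra hnm
      obtain ⟨Q, hQmax, hPQ⟩ := Ideal.exists_le_maximal P hPprime.ne_top
      have hPQ' : P < Q := lt_of_le_of_ne hPQ (fun h => hnm (h ▸ hQmax))
      obtain ⟨P₀, hP₀, hP₀P⟩ := Ideal.exists_minimalPrimes_le (I := ⊥) (J := P) bot_le
      haveI : P₀.IsPrime := hP₀.1.1
      haveI : Q.IsPrime := hQmax.isPrime
      have hne : P₀ ≠ P := fun h => hmin P₀ hP₀ (h ▸ hxP)
      have hlt : P₀ < P := lt_of_le_of_ne hP₀P hne
      have h1 : P₀.height < P.height := Ideal.height_strict_mono_of_isPrime hlt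
      have h2 : P.height < Q.height := Ideal.height_strict_mono_of_isPrime hPQ'
      have h3 : (Q.height : WithBot ℕ∞) ≤ ringKrullDim R :=
        Ideal.height_le_ringKrullDim_of_ne_top hQmax.ne_top
      have h3' : (Q.height : WithBot ℕ∞) ≤ 1 := le_trans h3 hdim
      have h4 : Q.height ≤ 1 := by exact_mod_cast h3'
      have h5 : P.height < 1 := lt_of_lt_of_le h2 h4
      have h6 : P.height = 0 := Order.lt_one_iff.1 h5
      rw [h6] at h1
      exact not_lt_zero h1
    have hJ' : J = P.map (Ideal.Quotient.mk I) := by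
      rw [hP, Ideal.map_comap_of_surjective _ Ideal.Quotient.mk_surjective]
    rcases Ideal.map_eq_top_or_isMaximal_of_surjective (Ideal.Quotient.mk I)
      Ideal.Quotient.mk_surjective hPmax with h | h
    · exact absurd (hJ'.trans h) hJ.ne_top
    · rw [hJ']; exact h
  haveI : IsArtinianRing (R ⧸ I) := IsNoetherianRing.isArtinianRing_of_krullDimLE_zero
  haveI : IsArtinian R (R ⧸ I) :=
    isArtinian_of_surjective_algebraMap (S := R) (R := R ⧸ I) (M := R ⧸ I)
      Ideal.Quotient.mk_surjective
  rw [Module.length_ne_top_iff, isFiniteLength_iff_isNoetherian_isArtinian]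
  exact ⟨inferInstance, inferInstance⟩

end Groth.Agent.H4
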