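import Mathlib
import Groth.Prelude

set_option autoImplicit false
universe u
open TopologicalSpace Topology

namespace Groth.Agent.H4

section top
variable {X Y : Type*} [TopologicalSpace X] [TopologicalSpace Y]

/-- Dimension of a quasi-sober T0 space via chains of points. -/
theorem H4_topDim_eq_krullDim_points (Z : Type*) [TopologicalSpace Z] [QuasiSober Z] [T0Space Z] :
    topologicalKrullDim Z = @Order.krullDim Z (specializationOrder Z).toPreorder := by
  letI := specializationOrder Z
  exact Order.krullDim_eq_of_orderIso irreducibleSetEquivPoints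

/-- Lifting chains of points along a generalizing map. -/
theorem H4_lift_chain {f : X → Y} (hcont : Continuous f) (hgen : GeneralizingMap f) (U : Set X) (hU : IsOpen U) :
    ∀ (n : ℕ) (y : Fin (n + 1) → Y), (∀ i : Fin n, y i.succ ⤳ y i.castSucc ∧
        ¬ y i.castSucc ⤳ y i.succ) → ∀ x0 ∈ U, f x0 = y 0 →
      ∃ x : Fin (n + 1) → X, (∀ i, x i ∈ U) ∧ (∀ i, f (x i) = y i) ∧ x 0 = x0 ∧
        ∀ i : Fin n, x i.succ ⤳ x i.castSucc ∧ ¬ x i.castSucc ⤳ x i.succ := by
  intro n
  induction n with
  | zero =>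
    intro y _ x0 hx0 hfx0
    refine ⟨fun _ => x0, fun _ => hx0, fun i => ?_, rfl, fun i => i.elim0⟩
    have hi : i = 0 := Fin.ext (by have := i.2; omega)
    rw [hi]; exact hfx0
  | succ n ih =>
    intro y hy x0 hx0 hfx0
    have h01 := hy 0
    simp only [Fin.castSucc_zero, Fin.succ_zero_eq_one] at h01
    obtain ⟨x1, hx1, hfx1⟩ := hgen (a := x0) (b := y 1) (by rw [hfx0]; exact h01.1)
    have hx1U : x1 ∈ U := hx1.mem_open hU hx0
    obtain ⟨x', hx'U, hfx', hx'0, hx'⟩ := ih (fun i => y i.succ) (fun i => by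
      show y i.succ.succ ⤳ y i.castSucc.succ ∧ ¬ y i.castSucc.succ ⤳ y i.succ.succ
      rw [Fin.succ_castSucc]
      exact hy i.succ) x1 hx1U (by simpa using hfx1)
    refine ⟨Fin.cons x0 x', ?_, ?_, by simp, ?_⟩
    · intro i
      refine Fin.cases ?_ (fun j => ?_) i
      · simpa using hx0
      · simpa using hx'U j
    · intro i
      refine Fin.cases ?_ (fun j => ?_) i
      · simpa using hfx0
      · simpa using hfx' j
    · intro i
      refine Fin.cases ?_ (fun j => ?_) i
      · simp only [Fin.succ_zero_eq_one, Fin.castSucc_zero, Fin.cons_zero]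
        have h1 : (Fin.cons x0 x' : Fin (n + 2) → X) 1 = x1 := by
          rw [← Fin.succ_zero_eq_one, Fin.cons_succ, hx'0]
        rw [h1]
        refine ⟨hx1, fun h => h01.2 ?_⟩
        rw [← hfx0, ← hfx1]
        exact h.map hcont
      · have := hx' j
        rw [← Fin.succ_castSucc, Fin.cons_succ, Fin.cons_succ]
        exact this

/-- Open subsets and their images under a "topologically étale" map have the same dimension. -/
theorem H4_topDim_image_eq [QuasiSober X] [T0Space X] [QuasiSober Y] [T0Space Y] {f : X → Y}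
    (hcont : Continuous f) (hopen : IsOpenMap f) (hgen : GeneralizingMap f)
    (hfib : ∀ a b : X, a ⤳ b → f a = f b → a = b) (U : Set X) (hU : IsOpen U) :
    topologicalKrullDim ↥U = topologicalKrullDim ↥(f '' U) := by
  have hV : IsOpen (f '' U) := hopen U hU
  haveI : QuasiSober ↥U := hU.isOpenEmbedding_subtypeVal.quasiSober
  haveI : QuasiSober ↥(f '' U) := hV.isOpenEmbedding_subtypeVal.quasiSober
  rw [H4_topDim_eq_krullDim_points, H4_topDim_eq_krullDim_points]
  letI := specializationOrder ↥U
  letI := specializationOrder ↥(f '' U)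
  apply le_antisymm
  · let g : ↥U → ↥(f '' U) := fun a => ⟨f a, Set.mem_image_of_mem f a.2⟩
    apply Order.krullDim_le_of_strictMono g
    intro a b hab
    rw [lt_iff_le_not_ge] at hab ⊢
    obtain ⟨h1, h2⟩ := hab
    have h1' : (b : X) ⤳ (a : X) := (subtype_specializes_iff b a).mp h1
    refine ⟨(subtype_specializes_iff _ _).mpr (h1'.map hcont), fun h3 => h2 ?_⟩
    have h3' : f a ⤳ f b := (subtype_specializes_iff (g a) (g b)).mp h3
    have heq : f b = f a := ((h1'.map hcont).antisymm h3').eq
    have : (b : X) = a := hfib b a h1' heq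
    have hba : b = a := Subtype.ext this
    rw [hba]
  · apply iSup_le
    intro p
    obtain ⟨x0, hx0, hfx0⟩ := (p 0).2
    have hstep : ∀ i : Fin p.length, ((p i.succ : ↥(f '' U)) : Y) ⤳ (p i.castSucc : ↥(f '' U)) ∧
        ¬ ((p i.castSucc : ↥(f '' U)) : Y) ⤳ (p i.succ : ↥(f '' U)) := by
      intro i
      have := p.step i
      change p.toFun i.castSucc < p.toFun i.succ at this
      rw [lt_iff_le_not_ge] at this
      exact ⟨(subtype_specializes_iff _ _).mp this.1,
        fun h => this.2 ((subtype_specializes_iff _ _).mpr h)⟩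
    obtain ⟨x, hxU, -, -, hx⟩ := H4_lift_chain hcont hgen U hU p.length
      (fun i => ((p i : ↥(f '' U)) : Y)) hstep x0 hx0 hfx0
    let q : LTSeries ↥U := ⟨p.length, fun i => ⟨x i, hxU i⟩, fun i => by
      show (⟨x i.castSucc, hxU _⟩ : ↥U) < ⟨x i.succ, hxU _⟩
      rw [lt_iff_le_not_ge]
      exact ⟨(subtype_specializes_iff _ _).mpr (hx i).1,
        fun h => (hx i).2 ((subtype_specializes_iff _ _).mp h)⟩⟩
    exact Order.LTSeries.length_le_krullDim q

theorem H4_localDim_eq_of_topEtale [QuasiSober X] [T0Space X] [QuasiSober Y] [T0Space Y]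
    {f : X → Y} (hcont : Continuous f) (hopen : IsOpenMap f) (hgen : GeneralizingMap f)
    (hfib : ∀ a b : X, a ⤳ b → f a = f b → a = b) (x : X) :
    FlatMor.localDim X x = FlatMor.localDim Y (f x) := by
  unfold FlatMor.localDim
  apply le_antisymm
  · apply le_iInf
    rintro ⟨V, hV⟩
    let U : Opens X := ⟨f ⁻¹' V, V.2.preimage hcont⟩
    refine (iInf_le _ ⟨U, hV⟩).trans ?_
    show topologicalKrullDim ↥(f ⁻¹' (V : Set Y)) ≤ topologicalKrullDim ↥(V : Set Y)
    rw [H4_topDim_image_eq hcont hopen hgen hfib _ U.2]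
    exact (Topology.IsEmbedding.inclusion
      (Set.image_preimage_subset f (V : Set Y))).isInducing.topologicalKrullDim_le
  · apply le_iInf
    rintro ⟨U, hU⟩
    let V : Opens Y := ⟨f '' U, hopen U U.2⟩
    refine (iInf_le _ ⟨V, ⟨x, hU, rfl⟩⟩).trans ?_
    exact (H4_topDim_image_eq hcont hopen hgen hfib _ U.2).symm.le

end top

open AlgebraicGeometry in
theorem H4_localDim_eq_of_etale {U V : Scheme.{u}} (f : U ⟶ V) [Etale f] (x : U) :
    FlatMor.localDim U x = FlatMor.localDim V (f.base x) := by
  haveI : LocallyQuasiFinite f := by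
    rw [HasRingHomProperty.iff_appLE (P := @LocallyQuasiFinite)]
    intro W W' e
    have h := Etale.etale_appLE f W.2 W'.2 e
    algebraize [(f.appLE W W' e).hom]
    show Algebra.QuasiFinite _ _
    infer_instance
  apply H4_localDim_eq_of_topEtale f.base.hom.continuous
    (isOpenMap_of_generalizingMap f (Flat.generalizingMap f)) (Flat.generalizingMap f)
  intro a b hab hfab
  have hdisc := Scheme.Hom.isDiscrete_preimage_singleton f (f.base b)
  have ha : a ∈ f.base ⁻¹' {f.base b} := hfab
  have hb : b ∈ f.base ⁻¹' {f.base b} := rfl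
  haveI : DiscreteTopology ↥(f.base ⁻¹' {f.base b}) := hdisc.to_subtype
  have h1 : (⟨a, ha⟩ : ↥(f.base ⁻¹' {f.base b})) ⤳ ⟨b, hb⟩ :=
    (subtype_specializes_iff _ _).mpr hab
  exact congrArg Subtype.val h1.eq

end Groth.Agent.H4
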