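import Mathlib

set_option autoImplicit false
universe u v

namespace Groth.Agent.H4

/-- McCoy: if a nonzero `a` kills all `m × m` minors of `A : Matrix ι (Fin m) R`, the
homogeneous system `A v = 0` has a nonzero solution. -/
theorem H4_mccoy {R : Type u} [CommRing R] {ι : Type v} {m : ℕ}
    (M : Matrix ι (Fin m) R) (a : R) (ha : a ≠ 0)
    (hm : ∀ (f : Fin m → ι) (g : Fin m → Fin m), a * Matrix.det (M.submatrix f g) = 0) :
    ∃ v : Fin m → R, v ≠ 0 ∧ M.mulVec v = 0 := by
  classical
  have hex : ∃ r : ℕ, ∀ (f : Fin r → ι) (g : Fin r → Fin m),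
      a * Matrix.det (M.submatrix f g) = 0 := ⟨m, hm⟩
  have hr'0 : Nat.find hex ≠ 0 := by
    intro h0
    have h1 := Nat.find_spec hex
    rw [h0] at h1
    have h2 := h1 Fin.elim0 Fin.elim0
    rw [Matrix.det_fin_zero, mul_one] at h2
    exact ha h2
  have hr'm : Nat.find hex ≤ m := Nat.find_min' hex hm
  obtain ⟨r, hr⟩ : ∃ r, Nat.find hex = r + 1 := ⟨Nat.find hex - 1, by omega⟩
  have hPr1 : ∀ (f : Fin (r + 1) → ι) (g : Fin (r + 1) → Fin m),
      a * Matrix.det (M.submatrix f g) = 0 := hr ▸ Nat.find_spec hex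
  have hnPr : ¬ ∀ (f : Fin r → ι) (g : Fin r → Fin m),
      a * Matrix.det (M.submatrix f g) = 0 := Nat.find_min hex (by omega)
  push Not at hnPr
  obtain ⟨I, J, hIJ⟩ := hnPr
  obtain ⟨j', hj'⟩ : ∃ j' : Fin m, ∀ s, J s ≠ j' := by
    by_contra hcon
    push Not at hcon
    have hsurj : Function.Surjective J := fun j => hcon j
    have := Fintype.card_le_of_surjective J hsurj
    simp only [Fintype.card_fin] at this
    omega
  let cols' : Fin (r + 1) → Fin m := Fin.cons j' J
  let c : Fin (r + 1) → R := fun t =>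
    a * ((-1) ^ (t : ℕ) * Matrix.det (M.submatrix I (cols' ∘ t.succAbove)))
  refine ⟨fun j => ∑ t : Fin (r + 1), if cols' t = j then c t else 0, ?_, ?_⟩
  · intro hv
    have h1 := congrFun hv j'
    simp only [Pi.zero_apply] at h1
    rw [Fin.sum_univ_succ] at h1
    have h2 : ∀ s : Fin r, (if cols' s.succ = j' then c s.succ else 0) = 0 := by
      intro s
      rw [if_neg]
      show (Fin.cons j' J : Fin (r + 1) → Fin m) s.succ ≠ j'
      rw [Fin.cons_succ]
      exact hj' s
    rw [Finset.sum_congr rfl (fun s _ => h2 s), Finset.sum_const_zero, add_zero] at h1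
    have h3 : cols' 0 = j' := rfl
    rw [if_pos h3] at h1
    have h4 : cols' ∘ (0 : Fin (r + 1)).succAbove = J := by
      funext s
      simp [cols']
    simp only [c, h4] at h1
    apply hIJ
    simpa using h1
  · funext i
    simp only [Matrix.mulVec, dotProduct, Pi.zero_apply]
    have e1 : ∑ j : Fin m, M i j * ∑ t : Fin (r + 1), (if cols' t = j then c t else 0) =
        ∑ t : Fin (r + 1), M i (cols' t) * c t := by
      simp only [Finset.mul_sum]
      rw [Finset.sum_comm]
      refine Finset.sum_congr rfl fun t _ => ?_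
      simp only [mul_ite, mul_zero, Finset.sum_ite_eq, Finset.mem_univ, if_true]
    rw [e1]
    have e2 := Matrix.det_succ_row_zero (M.submatrix (Fin.cons i I : Fin (r + 1) → ι) cols')
    have e3 : ∑ t : Fin (r + 1), M i (cols' t) * c t =
        a * Matrix.det (M.submatrix (Fin.cons i I : Fin (r + 1) → ι) cols') := by
      rw [e2, Finset.mul_sum]
      refine Finset.sum_congr rfl fun t _ => ?_
      have e4 : (M.submatrix (Fin.cons i I : Fin (r + 1) → ι) cols').submatrix Fin.succ
          t.succAbove = M.submatrix I (cols' ∘ t.succAbove) := by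
        ext x y
        simp [Matrix.submatrix_apply]
      rw [e4]
      simp only [c, Matrix.submatrix_apply, Fin.cons_zero]
      ring
    rw [e3]
    exact hPr1 _ _

/-- Each maximal minor `d` of `A` admits `B` with `B * A = d • 1`. -/
theorem H4_minor_leftinv {R : Type u} [CommRing R] {ι : Type v} [Fintype ι] [DecidableEq ι]
    {m : ℕ} (A : Matrix ι (Fin m) R) (f : Fin m → ι) (g : Fin m → Fin m) :
    ∃ B : Matrix (Fin m) ι R, B * A = Matrix.det (A.submatrix f g) • (1 : Matrix (Fin m) (Fin m) R) := by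
  classical
  by_cases hg : Function.Injective g
  · have hgb : Function.Bijective g := Finite.injective_iff_bijective.1 hg
    let σ : Fin m ≃ Fin m := Equiv.ofBijective g hgb
    let N := A.submatrix f g
    refine ⟨Matrix.of fun j i => ∑ k : Fin m, if f k = i then N.adjugate (σ.symm j) k else 0, ?_⟩
    ext j j'
    have h1 : (N.adjugate * N) (σ.symm j) (σ.symm j') =
        (N.det • (1 : Matrix (Fin m) (Fin m) R)) (σ.symm j) (σ.symm j') := by
      rw [Matrix.adjugate_mul]
    rw [Matrix.mul_apply] at h1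
    rw [Matrix.mul_apply]
    have h2 : ∀ k, N k (σ.symm j') = A (f k) j' := by
      intro k
      show A (f k) (g (σ.symm j')) = _
      have : g (σ.symm j') = j' := σ.apply_symm_apply j'
      rw [this]
    simp only [h2] at h1
    have h3 : ∑ i : ι, (Matrix.of fun j i => ∑ k : Fin m,
        if f k = i then N.adjugate (σ.symm j) k else 0) j i * A i j' =
        ∑ k : Fin m, N.adjugate (σ.symm j) k * A (f k) j' := by
      simp only [Matrix.of_apply, Finset.sum_mul]
      rw [Finset.sum_comm]
      refine Finset.sum_congr rfl fun k _ => ?_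
      simp only [ite_mul, zero_mul, Finset.sum_ite_eq, Finset.mem_univ, if_true]
    rw [h3, h1]
    simp only [Matrix.smul_apply, Matrix.one_apply, σ.symm.injective.eq_iff]
    rfl
  · rw [Function.Injective] at hg
    push Not at hg
    obtain ⟨s, t, hst, hne⟩ := hg
    refine ⟨0, ?_⟩
    rw [Matrix.det_zero_of_column_eq hne (fun k => by simp [hst]), zero_smul, Matrix.zero_mul]

/-- Under property (P) (every proper f.g. ideal has nonzero annihilator), an injective
matrix map has a left inverse. -/
theorem H4_leftinv_of_injective {R : Type u} [CommRing R]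
    (hP : ∀ I : Ideal R, I.FG → I ≠ ⊤ → I.annihilator ≠ ⊥)
    {ι : Type v} [Fintype ι] [DecidableEq ι] {m : ℕ} (A : Matrix ι (Fin m) R)
    (hinj : Function.Injective A.mulVecLin) :
    ∃ B : Matrix (Fin m) ι R, B * A = 1 := by
  classical
  let I : Ideal R := Ideal.span (Set.range fun p : (Fin m → ι) × (Fin m → Fin m) =>
    Matrix.det (A.submatrix p.1 p.2))
  have hfg : I.FG := Submodule.fg_span (Set.finite_range _)
  have hI : ∀ x ∈ I, ∃ B : Matrix (Fin m) ι R, B * A = x • (1 : Matrix (Fin m) (Fin m) R) := by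
    intro x hx
    refine Submodule.span_induction (p := fun x _ => ∃ B : Matrix (Fin m) ι R,
      B * A = x • (1 : Matrix (Fin m) (Fin m) R)) ?_ ?_ ?_ ?_ hx
    · rintro _ ⟨⟨f, g⟩, rfl⟩
      exact H4_minor_leftinv A f g
    · exact ⟨0, by rw [Matrix.zero_mul, zero_smul]⟩
    · rintro x y _ _ ⟨B, hB⟩ ⟨C, hC⟩
      exact ⟨B + C, by rw [Matrix.add_mul, hB, hC, add_smul]⟩
    · rintro c x _ ⟨B, hB⟩
      exact ⟨c • B, by rw [Matrix.smul_mul, hB, smul_eq_mul, mul_smul]⟩
  have htop : I = ⊤ := by
    by_contra hne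
    have hann := hP I hfg hne
    obtain ⟨a, ha, ha0⟩ := Submodule.exists_mem_ne_zero_of_ne_bot hann
    have hkill : ∀ (f : Fin m → ι) (g : Fin m → Fin m),
        a * Matrix.det (A.submatrix f g) = 0 := by
      intro f g
      have := Submodule.mem_annihilator.1 ha (Matrix.det (A.submatrix f g))
        (Ideal.subset_span ⟨(f, g), rfl⟩)
      simpa [smul_eq_mul] using this
    obtain ⟨v, hv0, hv⟩ := H4_mccoy A a ha0 hkill
    apply hv0
    apply hinj
    rw [map_zero]
    exact hv
  obtain ⟨B, hB⟩ := hI 1 (htop ▸ Submodule.mem_top)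
  exact ⟨B, by rw [hB, one_smul]⟩

/-- Under property (P), an injective map between finite projective modules has a retraction. -/
theorem H4_retraction_of_injective {R : Type u} [CommRing R]
    (hP : ∀ I : Ideal R, I.FG → I ≠ ⊤ → I.annihilator ≠ ⊥)
    {N M : Type*} [AddCommGroup N] [Module R N] [Module.Finite R N] [Module.Projective R N]
    [AddCommGroup M] [Module R M] [Module.Finite R M] [Module.Projective R M]
    (u : N →ₗ[R] M) (hu : Function.Injective u) :
    ∃ ρ : M →ₗ[R] N, ρ ∘ₗ u = LinearMap.id := by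
  classical
  obtain ⟨a, sN, iN, -, hiN, hN⟩ := Module.Finite.exists_comp_eq_id_of_projective R N
  obtain ⟨b, sM, iM, -, hiM, hM⟩ := Module.Finite.exists_comp_eq_id_of_projective R M
  have hN' : ∀ n, sN (iN n) = n := fun n => LinearMap.congr_fun hN n
  -- û : R^a → (Fin b ⊕ Fin a → R)
  let e : ((Fin b → R) × (Fin a → R)) ≃ₗ[R] (Fin b ⊕ Fin a → R) :=
    (LinearEquiv.sumArrowLequivProdArrow (Fin b) (Fin a) R R).symm
  let û : (Fin a → R) →ₗ[R] (Fin b ⊕ Fin a → R) :=
    e.toLinearMap ∘ₗ LinearMap.prod (iM ∘ₗ u ∘ₗ sN) (LinearMap.id - iN ∘ₗ sN)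
  have hûinj : Function.Injective û := by
    rw [← LinearMap.ker_eq_bot, LinearMap.ker_eq_bot']
    intro x hx
    have h1 : LinearMap.prod (iM ∘ₗ u ∘ₗ sN) (LinearMap.id - iN ∘ₗ sN) x = 0 := by
      apply e.injective
      rw [map_zero]
      exact hx
    have h2 := congrArg Prod.fst h1
    have h3 := congrArg Prod.snd h1
    change iM (u (sN x)) = 0 at h2
    change x - iN (sN x) = 0 at h3
    have h4 : sN x = 0 := by
      apply hu
      apply hiM
      rw [h2, map_zero, map_zero]
    rw [h4, map_zero, sub_zero] at h3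
    exact h3
  let A : Matrix (Fin b ⊕ Fin a) (Fin a) R := LinearMap.toMatrix' û
  have hA : A.mulVecLin = û := Matrix.toLin'_toMatrix' û
  obtain ⟨B, hB⟩ := H4_leftinv_of_injective hP A (hA ▸ hûinj)
  have hBû : ∀ x, B.mulVecLin (û x) = x := by
    intro x
    rw [← hA]
    simp only [Matrix.mulVecLin_apply, Matrix.mulVec_mulVec, hB, Matrix.one_mulVec]
  refine ⟨sN ∘ₗ B.mulVecLin ∘ₗ e.toLinearMap ∘ₗ LinearMap.inl R _ _ ∘ₗ iM, ?_⟩
  ext n
  simp only [LinearMap.comp_apply, LinearMap.id_apply, LinearMap.inl_apply]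
  have h5 : û (iN n) = e (iM (u n), 0) := by
    change e (iM (u (sN (iN n))), iN n - iN (sN (iN n))) = _
    rw [hN', sub_self]
  have h6 := hBû (iN n)
  rw [h5] at h6
  simp only [LinearEquiv.coe_coe]
  rw [h6, hN']

/-- The cokernel of a split injection into a projective is projective. -/
theorem H4_coker_projective_of_retraction {R : Type u} [CommRing R]
    {N M : Type*} [AddCommGroup N] [Module R N]
    [AddCommGroup M] [Module R M] [Module.Projective R M]
    (u : N →ₗ[R] M) (ρ : M →ₗ[R] N) (hρ : ρ ∘ₗ u = LinearMap.id) :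
    Module.Projective R (M ⧸ LinearMap.range u) := by
  have hρ' : ∀ n, ρ (u n) = n := fun n => LinearMap.congr_fun hρ n
  refine Module.Projective.of_split
    ((LinearMap.range u).liftQ (LinearMap.id - u ∘ₗ ρ) ?_) (LinearMap.range u).mkQ ?_
  · rintro _ ⟨n, rfl⟩
    simp [hρ']
  · ext m
    simp only [LinearMap.comp_apply, Submodule.mkQ_apply, Submodule.liftQ_apply,
      LinearMap.sub_apply, LinearMap.id_apply, Submodule.Quotient.mk_sub]
    rw [sub_eq_self, Submodule.Quotient.mk_eq_zero]
    exact ⟨ρ m, rfl⟩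

end Groth.Agent.H4
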