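import Mathlib
import Groth.Agent.Lib.helper4.McCoy

set_option autoImplicit false
universe u v w

namespace Groth.Agent.H4

/-- Linear-map form of `H4_leftinv_of_injective` with arbitrary finite index types. -/
theorem H4_leftinv_lin {R : Type u} [CommRing R]
    (hP : ∀ I : Ideal R, I.FG → I ≠ ⊤ → I.annihilator ≠ ⊥)
    {κ : Type v} {ι : Type w} [Fintype κ] [DecidableEq κ] [Fintype ι] [DecidableEq ι]
    (f : (κ → R) →ₗ[R] (ι → R)) (hf : Function.Injective f) :
    ∃ g : (ι → R) →ₗ[R] (κ → R), g ∘ₗ f = LinearMap.id := by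
  classical
  let e : κ ≃ Fin (Fintype.card κ) := Fintype.equivFin κ
  let E : (Fin (Fintype.card κ) → R) ≃ₗ[R] (κ → R) := LinearEquiv.funCongrLeft R R e
  let f' : (Fin (Fintype.card κ) → R) →ₗ[R] (ι → R) := f ∘ₗ E.toLinearMap
  have hf' : Function.Injective f' := hf.comp E.injective
  let A : Matrix ι (Fin (Fintype.card κ)) R := LinearMap.toMatrix' f'
  have hA : A.mulVecLin = f' := Matrix.toLin'_toMatrix' f'
  obtain ⟨B, hB⟩ := H4_leftinv_of_injective hP A (hA ▸ hf')
  have hBf : ∀ x, B.mulVecLin (f' x) = x := by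
    intro x
    rw [← hA]
    simp only [Matrix.mulVecLin_apply, Matrix.mulVec_mulVec, hB, Matrix.one_mulVec]
  refine ⟨E.toLinearMap ∘ₗ B.mulVecLin, ?_⟩
  refine LinearMap.ext fun x => ?_
  have h1 : f x = f' (E.symm x) := by
    simp only [f', LinearMap.comp_apply, LinearEquiv.coe_coe, LinearEquiv.apply_symm_apply]
  simp only [LinearMap.comp_apply, LinearMap.id_apply, LinearEquiv.coe_coe]
  rw [h1, hBf, LinearEquiv.apply_symm_apply]

/-- Under (P), an injective map between free modules has "local retractions": for each finite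
set of basis vectors there is a map back fixing them. -/
theorem H4_free_local_retraction {R : Type u} [CommRing R]
    (hP : ∀ I : Ideal R, I.FG → I ≠ ⊤ → I.annihilator ≠ ⊥)
    {I : Type v} {J : Type w} (û : (I →₀ R) →ₗ[R] (J →₀ R)) (hinj : Function.Injective û)
    (I₀ : Finset I) :
    ∃ ρ : (J →₀ R) →ₗ[R] (I →₀ R), ∀ i ∈ I₀, ρ (û (Finsupp.single i 1)) = Finsupp.single i 1 := by
  classical
  let J₀ : Finset J := I₀.biUnion fun i => (û (Finsupp.single i 1)).support
  let ι₀ : (↥I₀ → R) →ₗ[R] (I →₀ R) :=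
    Fintype.linearCombination R (fun i : ↥I₀ => (Finsupp.single i.1 (1 : R) : I →₀ R))
  let π : (J →₀ R) →ₗ[R] (↥J₀ → R) := LinearMap.pi fun j => Finsupp.lapply j.1
  have hι₀ : ∀ (x : ↥I₀ → R) (i : ↥I₀), ι₀ x i.1 = x i := by
    intro x i
    simp only [ι₀, Fintype.linearCombination_apply, Finsupp.coe_finsetSum, Finset.sum_apply,
      Finsupp.smul_apply, smul_eq_mul]
    rw [Finset.sum_eq_single i]
    · simp
    · intro k _ hk
      rw [Finsupp.single_apply, if_neg, mul_zero]
      intro h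
      exact hk (Subtype.ext h)
    · intro h
      exact absurd (Finset.mem_univ i) h
  have hsupp : ∀ (x : ↥I₀ → R) (j : J), j ∉ J₀ → û (ι₀ x) j = 0 := by
    intro x j hj
    simp only [ι₀, Fintype.linearCombination_apply, map_sum, map_smul, Finsupp.coe_finsetSum,
      Finset.sum_apply, Finsupp.smul_apply, smul_eq_mul]
    refine Finset.sum_eq_zero fun i _ => ?_
    have : û (Finsupp.single i.1 1) j = 0 := by
      by_contra hne
      apply hj
      exact Finset.mem_biUnion.2 ⟨i.1, i.2, Finsupp.mem_support_iff.2 hne⟩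
    rw [this, mul_zero]
  have hcomp : Function.Injective (π ∘ₗ û ∘ₗ ι₀) := by
    rw [← LinearMap.ker_eq_bot, LinearMap.ker_eq_bot']
    intro x hx
    have h1 : û (ι₀ x) = 0 := by
      ext j
      by_cases hj : j ∈ J₀
      · have := congrFun hx ⟨j, hj⟩
        simpa [π] using this
      · rw [hsupp x j hj]; rfl
    have h2 : ι₀ x = 0 := hinj (by rw [h1, map_zero])
    funext i
    rw [← hι₀ x i, h2]; rfl
  obtain ⟨g, hg⟩ := H4_leftinv_lin hP (π ∘ₗ û ∘ₗ ι₀) hcomp
  refine ⟨ι₀ ∘ₗ g ∘ₗ π, ?_⟩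
  intro i hi
  have h3 : (Finsupp.single i (1 : R) : I →₀ R) = ι₀ (Pi.single ⟨i, hi⟩ 1) := by
    simp only [ι₀, Fintype.linearCombination_apply]
    rw [Finset.sum_eq_single ⟨i, hi⟩]
    · simp
    · intro k _ hk
      rw [Pi.single_eq_of_ne hk, zero_smul]
    · intro h
      exact absurd (Finset.mem_univ _) h
  have h4 := LinearMap.congr_fun hg (Pi.single ⟨i, hi⟩ 1)
  simp only [LinearMap.comp_apply, LinearMap.id_apply] at h4
  simp only [LinearMap.comp_apply]
  rw [h3, h4]

/-- Every tensor in `(I →₀ R) ⊗ Q` is fixed by `φ ⊗ Q` whenever `φ` fixes finitely many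
basis vectors (depending on the tensor). -/
theorem H4_tensor_finite_support {R : Type u} [CommRing R] {I : Type v}
    {Q : Type w} [AddCommGroup Q] [Module R Q] (z : TensorProduct R (I →₀ R) Q) :
    ∃ I₀ : Finset I, ∀ φ : (I →₀ R) →ₗ[R] (I →₀ R),
      (∀ i ∈ I₀, φ (Finsupp.single i 1) = Finsupp.single i 1) → φ.rTensor Q z = z := by
  classical
  induction z using TensorProduct.induction_on with
  | zero => exact ⟨∅, fun φ _ => map_zero _⟩
  | tmul x q =>
    refine ⟨x.support, fun φ hφ => ?_⟩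
    rw [LinearMap.rTensor_tmul]
    congr 1
    conv_lhs => rw [← Finsupp.sum_single x]
    conv_rhs => rw [← Finsupp.sum_single x]
    rw [Finsupp.sum, map_sum]
    refine Finset.sum_congr rfl fun i hi => ?_
    have : (Finsupp.single i (x i) : I →₀ R) = x i • Finsupp.single i 1 := by
      rw [Finsupp.smul_single, smul_eq_mul, mul_one]
    rw [this, map_smul, hφ i hi]
  | add z₁ z₂ h₁ h₂ =>
    obtain ⟨I₁, hI₁⟩ := h₁
    obtain ⟨I₂, hI₂⟩ := h₂
    refine ⟨I₁ ∪ I₂, fun φ hφ => ?_⟩
    rw [map_add, hI₁ φ (fun i hi => hφ i (Finset.mem_union_left _ hi)),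
      hI₂ φ (fun i hi => hφ i (Finset.mem_union_right _ hi))]

/-- Under (P), an injective map between free modules is universally injective. -/
theorem H4_free_univ_inj {R : Type u} [CommRing R]
    (hP : ∀ I : Ideal R, I.FG → I ≠ ⊤ → I.annihilator ≠ ⊥)
    {I : Type v} {J : Type w} (û : (I →₀ R) →ₗ[R] (J →₀ R)) (hinj : Function.Injective û)
    (Q : Type*) [AddCommGroup Q] [Module R Q] :
    Function.Injective (û.rTensor Q) := by
  rw [injective_iff_map_eq_zero]
  intro z hz
  obtain ⟨I₀, hI₀⟩ := H4_tensor_finite_support z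
  obtain ⟨ρ, hρ⟩ := H4_free_local_retraction hP û hinj I₀
  have h1 := hI₀ (ρ ∘ₗ û) (fun i hi => hρ i hi)
  rw [LinearMap.rTensor_comp_apply, hz, map_zero] at h1
  exact h1.symm

/-- Under (P), an injective map between projective modules is universally injective. -/
theorem H4_proj_univ_inj {R : Type u} [CommRing R]
    (hP : ∀ I : Ideal R, I.FG → I ≠ ⊤ → I.annihilator ≠ ⊥)
    {N : Type v} {M : Type w} [AddCommGroup N] [Module R N] [Module.Projective R N]
    [AddCommGroup M] [Module R M] [Module.Projective R M]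
    (u : N →ₗ[R] M) (hu : Function.Injective u)
    (Q : Type*) [AddCommGroup Q] [Module R Q] :
    Function.Injective (u.rTensor Q) := by
  classical
  obtain ⟨sN, hsN⟩ := Module.projective_def'.1 (inferInstance : Module.Projective R N)
  obtain ⟨sM, hsM⟩ := Module.projective_def'.1 (inferInstance : Module.Projective R M)
  set pN : (N →₀ R) →ₗ[R] N := Finsupp.linearCombination R id with hpN
  have hN' : ∀ n, pN (sN n) = n := fun n => LinearMap.congr_fun hsN n
  have hsMinj : Function.Injective sM := LinearMap.injective_of_comp_eq_id _ _ hsM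
  let E : ((M →₀ R) × (N →₀ R)) ≃ₗ[R] (M ⊕ N →₀ R) :=
    (Finsupp.sumFinsuppLEquivProdFinsupp R).symm
  let û : (N →₀ R) →ₗ[R] (M ⊕ N →₀ R) :=
    E.toLinearMap ∘ₗ LinearMap.prod (sM ∘ₗ u ∘ₗ pN) (LinearMap.id - sN ∘ₗ pN)
  have hûinj : Function.Injective û := by
    rw [← LinearMap.ker_eq_bot, LinearMap.ker_eq_bot']
    intro x hx
    have h1 : LinearMap.prod (sM ∘ₗ u ∘ₗ pN) (LinearMap.id - sN ∘ₗ pN) x = 0 := by
      apply E.injective
      rw [map_zero]
      exact hx
    have h2 := congrArg Prod.fst h1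
    have h3 := congrArg Prod.snd h1
    change sM (u (pN x)) = 0 at h2
    change x - sN (pN x) = 0 at h3
    have h4 : pN x = 0 := by
      apply hu
      apply hsMinj
      rw [h2, map_zero, map_zero]
    rw [h4, map_zero, sub_zero] at h3
    exact h3
  have hfree := H4_free_univ_inj hP û hûinj Q
  have hcomp : û ∘ₗ sN = (E.toLinearMap ∘ₗ LinearMap.inl R _ _ ∘ₗ sM) ∘ₗ u := by
    refine LinearMap.ext fun n => ?_
    change E (sM (u (pN (sN n))), sN n - sN (pN (sN n))) = E (sM (u n), 0)
    rw [hN', sub_self]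
  rw [injective_iff_map_eq_zero]
  intro z hz
  have h5 : (û.rTensor Q) ((sN.rTensor Q) z) = 0 := by
    rw [← LinearMap.rTensor_comp_apply, hcomp, LinearMap.rTensor_comp_apply, hz, map_zero]
  have h6 : (sN.rTensor Q) z = 0 := hfree (by rw [h5, map_zero])
  have h7 : (pN.rTensor Q) ((sN.rTensor Q) z) = z := by
    rw [← LinearMap.rTensor_comp_apply, hsN, LinearMap.rTensor_id_apply]
  rw [← h7, h6, map_zero]

end Groth.Agent.H4
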