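import Mathlib
import Groth.Agent.Lib.helper4.HensAss
import Groth.Agent.Lib.helper4.StrictHenselizationProps

set_option autoImplicit false
universe u
open IsLocalRing

namespace Groth.Agent.H4

/-- For a flat algebra with incomparable fibres, the minimal primes over `pS` are exactly the
primes lying over `p`. -/
theorem H4_mem_minimalPrimes_map_iff (A S : Type u) [CommRing A] [CommRing S] [Algebra A S]
    [Module.Flat A S]
    (hinc : ∀ (Q P : Ideal S) [Q.IsPrime] [P.IsPrime], Q ≤ P →
      Q.comap (algebraMap A S) = P.comap (algebraMap A S) → Q = P)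
    (p : Ideal A) [p.IsPrime] (P : Ideal S) :
    P ∈ (p.map (algebraMap A S)).minimalPrimes ↔
      P.IsPrime ∧ P.comap (algebraMap A S) = p := by
  constructor
  · intro hP
    haveI hPp : P.IsPrime := hP.1.1
    refine ⟨hPp, ?_⟩
    have hle : p ≤ P.comap (algebraMap A S) := Ideal.map_le_iff_le_comap.mp hP.1.2
    haveI : P.LiesOver (P.comap (algebraMap A S)) := ⟨rfl⟩
    obtain ⟨P', hP'P, hP'p, hP'o⟩ := Ideal.exists_ideal_le_liesOver_of_le (p := p)
      (q := P.comap (algebraMap A S)) P hle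
    have h1 : p.map (algebraMap A S) ≤ P' := by
      rw [Ideal.map_le_iff_le_comap]
      exact hP'o.over.le
    have h2 : P ≤ P' := hP.2 ⟨hP'p, h1⟩ hP'P
    have h3 : P' = P := le_antisymm hP'P h2
    rw [← h3]
    exact hP'o.over.symm
  · rintro ⟨hPp, hPc⟩
    refine ⟨⟨hPp, ?_⟩, ?_⟩
    · rw [Ideal.map_le_iff_le_comap, hPc]
    · rintro Q ⟨hQp, hQle⟩ hQP
      have hQc : Q.comap (algebraMap A S) = P.comap (algebraMap A S) := by
        apply le_antisymm (Ideal.comap_mono hQP)
        rw [hPc]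
        exact Ideal.map_le_iff_le_comap.mp hQle
      exact (hinc Q P hQP hQc).ge

theorem H4_strictHenselization_coheight_one_iff (A : Type u) [CommRing A] [IsNoetherianRing A]
    [IsLocalRing A] (S' : Type u) [CommRing S'] [IsLocalRing S'] [Algebra A S']
    [IsLocalHom (algebraMap A S')] [Hensel.IsStrictHenselization A S'] (p : Ideal A) [p.IsPrime] :
    (∃ P ∈ (p.map (algebraMap A S')).minimalPrimes, ringKrullDim (S' ⧸ P) = 1) ↔
      (∃ P : Ideal S', P.IsPrime ∧ P.comap (algebraMap A S') = p ∧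
        ringKrullDim (S' ⧸ P) = 1) := by
  have hind := H4_strictHenselization_isIndEtale A S'
  haveI := H4_weaklyEtale_of_isIndEtale A S' hind
  haveI : Module.Flat A S' := Algebra.WeaklyEtale.flat
  have key := H4_mem_minimalPrimes_map_iff A S'
    (fun Q P _ _ hle hc => H4_indEtale_eq_of_le_of_comap_eq A S' hind Q P hle hc) p
  constructor
  · rintro ⟨P, hP, hdim⟩
    obtain ⟨h1, h2⟩ := (key P).mp hP
    exact ⟨P, h1, h2, hdim⟩
  · rintro ⟨P, h1, h2, hdim⟩
    exact ⟨P, (key P).mpr ⟨h1, h2⟩, hdim⟩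

end Groth.Agent.H4
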