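import Mathlib

set_option autoImplicit false
universe u

namespace Groth.Agent.H4

/-- Finiteness of integral closure passes to localizations of the base. -/
theorem H4_intClosure_loc_finite {R S L : Type*} [CommRing R] [CommRing S] [CommRing L]
    (M : Submonoid R) [Algebra R S] [IsLocalization M S] [Algebra R L] [Algebra S L]
    [IsScalarTower R S L] (h : Module.Finite R (integralClosure R L)) :
    Module.Finite S (integralClosure S L) := by
  classical
  have h1 : (Subalgebra.toSubmodule (integralClosure R L)).FG := Module.Finite.iff_fg.1 h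
  obtain ⟨T, hT⟩ := h1
  have h2 : (Subalgebra.toSubmodule (integralClosure S L)).FG := by
    refine ⟨T, le_antisymm ?_ ?_⟩
    · rw [Submodule.span_le]
      intro t ht
      have h3 : t ∈ Subalgebra.toSubmodule (integralClosure R L) := by
        rw [← hT]; exact Submodule.subset_span ht
      have h4 : IsIntegral R t := h3
      exact h4.tower_top
    · intro x hx
      have hx' : IsIntegral S x := hx
      obtain ⟨m, hm⟩ := IsIntegral.exists_multiple_integral_of_isLocalization M x hx'
      have h5 : m • x ∈ Submodule.span R (T : Set L) := by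
        rw [hT]; exact hm
      have h6 : m • x ∈ Submodule.span S (T : Set L) :=
        Submodule.span_le_restrictScalars R S _ h5
      obtain ⟨c, hc⟩ := (IsLocalization.map_units S m).exists_left_inv
      have h7 : x = c • (m • x) := by
        rw [Submonoid.smul_def, Algebra.smul_def, Algebra.smul_def, ← mul_assoc,
          IsScalarTower.algebraMap_apply R S L, ← map_mul, hc, map_one, one_mul]
      rw [h7]
      exact Submodule.smul_mem _ _ h6
  exact Module.Finite.iff_fg.2 h2

end Groth.Agent.H4

namespace Groth.Agent.H4

open scoped Classical in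
/-- Per-chart statement for finiteness of integral closure on a principal open. -/
theorem H4_N1_cover_aux {R : Type*} [CommRing R] (g : R) (Rg : Type*) [CommRing Rg]
    [Algebra R Rg] [IsLocalization.Away g Rg] (L : Type*) [CommRing L] [Algebra R L]
    [Algebra Rg L] [IsScalarTower R Rg L] (h : Module.Finite Rg (integralClosure Rg L)) :
    ∃ T : Finset L, (∀ t ∈ T, IsIntegral R t) ∧
      ∀ x : L, IsIntegral R x → ∃ N : ℕ, g ^ N • x ∈ Submodule.span R (T : Set L) := by
  have h1 : (Subalgebra.toSubmodule (integralClosure Rg L)).FG := Module.Finite.iff_fg.1 h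
  obtain ⟨T₀, hT₀⟩ := h1
  have hex : ∀ b ∈ T₀, ∃ n : ℕ, IsIntegral R (g ^ n • b) := by
    intro b hb
    have hb' : IsIntegral Rg b := by
      have : b ∈ Subalgebra.toSubmodule (integralClosure Rg L) := by
        rw [← hT₀]; exact Submodule.subset_span hb
      exact this
    obtain ⟨⟨m, n, hn⟩, hm⟩ :=
      IsIntegral.exists_multiple_integral_of_isLocalization (Submonoid.powers g) b hb'
    refine ⟨n, ?_⟩
    have : g ^ n = m := hn
    rw [this]
    exact hm
  let n : L → ℕ := fun b => if hb : ∃ n : ℕ, IsIntegral R (g ^ n • b) then hb.choose else 0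
  have hn : ∀ b ∈ T₀, IsIntegral R (g ^ n b • b) := by
    intro b hb
    have := hex b hb
    simp only [n, dif_pos this]
    exact this.choose_spec
  refine ⟨T₀.image (fun b => g ^ n b • b), ?_, ?_⟩
  · intro t ht
    obtain ⟨b, hb, rfl⟩ := Finset.mem_image.1 ht
    exact hn b hb
  · intro x hx
    have hx1 : x ∈ Submodule.span Rg (T₀ : Set L) := by
      rw [hT₀]
      exact hx.tower_top
    have hsub : (T₀ : Set L) ⊆ Submodule.span Rg ((T₀.image (fun b => g ^ n b • b) : Finset L) : Set L) := by
      intro b hb
      have hunit : IsUnit (algebraMap R Rg (g ^ n b)) :=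
        IsLocalization.map_units Rg (⟨g ^ n b, n b, rfl⟩ : Submonoid.powers g)
      obtain ⟨c, hc⟩ := hunit.exists_left_inv
      have h7 : b = c • (g ^ n b • b) := by
        rw [Algebra.smul_def, Algebra.smul_def, ← mul_assoc,
          IsScalarTower.algebraMap_apply R Rg L, ← map_mul, hc, map_one, one_mul]
      rw [h7]
      refine Submodule.smul_mem _ _ (Submodule.subset_span ?_)
      exact Finset.mem_coe.2 (Finset.mem_image.2 ⟨b, hb, rfl⟩)
    have hx2 : x ∈ Submodule.span Rg ((T₀.image (fun b => g ^ n b • b) : Finset L) : Set L) :=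
      Submodule.span_le.2 hsub hx1
    obtain ⟨⟨t, N, hN⟩, ht⟩ :=
      multiple_mem_span_of_mem_localization_span (R := R) (Submonoid.powers g) Rg
        ((T₀.image (fun b => g ^ n b • b) : Finset L) : Set L) x hx2
    refine ⟨N, ?_⟩
    have : g ^ N = t := hN
    rw [this]
    exact ht

/-- Assembly: finiteness of the integral closure can be checked on a principal open cover. -/
theorem H4_N1_cover {R : Type*} [CommRing R] {ι : Type*} [Finite ι] (f : ι → R)
    (hf : Ideal.span (Set.range f) = ⊤) (L : Type*) [CommRing L] [Algebra R L]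
    (hT : ∀ i, ∃ T : Finset L, (∀ t ∈ T, IsIntegral R t) ∧
      ∀ x : L, IsIntegral R x → ∃ N : ℕ, f i ^ N • x ∈ Submodule.span R (T : Set L)) :
    Module.Finite R (integralClosure R L) := by
  classical
  haveI := Fintype.ofFinite ι
  choose T hT1 hT2 using hT
  have hmain : ∀ x ∈ Subalgebra.toSubmodule (integralClosure R L),
      x ∈ Submodule.span R ((Finset.univ.biUnion T : Finset L) : Set L) := by
    intro x hx
    have hx' : IsIntegral R x := hx
    choose N hN using fun i => hT2 i x hx'
    let K : ℕ := ∑ i, N i
    have hK : ∀ i, f i ^ K • x ∈ Submodule.span R ((Finset.univ.biUnion T : Finset L) : Set L) := by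
      intro i
      have hle : N i ≤ K := Finset.single_le_sum (f := N) (fun _ _ => Nat.zero_le _)
        (Finset.mem_univ i)
      have : f i ^ K • x = f i ^ (K - N i) • (f i ^ N i • x) := by
        rw [smul_smul, ← pow_add, Nat.sub_add_cancel hle]
      rw [this]
      refine Submodule.smul_mem _ _ (Submodule.span_mono ?_ (hN i))
      intro t ht
      exact Finset.mem_coe.2 (Finset.mem_biUnion.2 ⟨i, Finset.mem_univ i, ht⟩)
    have h1 : (1 : R) ∈ Ideal.span (Set.range fun i => f i ^ K) := by
      have := Ideal.span_pow_eq_top (Set.range f) hf K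
      rw [← Set.range_comp] at this
      have h2 : ((fun x : R => x ^ K) ∘ f) = fun i => f i ^ K := rfl
      rw [h2] at this
      rw [this]
      exact Submodule.mem_top
    obtain ⟨a, ha⟩ := (Ideal.mem_span_range_iff_exists_fun).1 h1
    have h3 : x = ∑ i, a i • (f i ^ K • x) := by
      simp only [smul_smul]
      rw [← Finset.sum_smul, ha, one_smul]
    rw [h3]
    exact Submodule.sum_mem _ (fun i _ => Submodule.smul_mem _ _ (hK i))
  have hfg : (Subalgebra.toSubmodule (integralClosure R L)).FG := by
    refine ⟨Finset.univ.biUnion T, le_antisymm ?_ ?_⟩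
    rotate_left
    · intro x hx
      exact hmain x hx
    · rw [Submodule.span_le]
      intro t ht
      obtain ⟨i, -, hi⟩ := Finset.mem_biUnion.1 (Finset.mem_coe.1 ht)
      exact hT1 i t hi
  exact Module.Finite.iff_fg.2 hfg

end Groth.Agent.H4
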