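import Mathlib

set_option autoImplicit false
universe u

namespace Groth.Agent.H4

/-- If every finite extension domain of `S` is N-1, then `S` is N-2. -/
theorem H4_N2_of_N1_finite_ext (S : Type u) [CommRing S] [IsDomain S]
    (h : ∀ (S' : Type u) [CommRing S'] [IsDomain S'] [Algebra S S'], Module.Finite S S' →
      Module.Finite S' (integralClosure S' (FractionRing S')))
    (L : Type u) [Field L] [Algebra S L] [Algebra (FractionRing S) L]
    [IsScalarTower S (FractionRing S) L] (hfd : FiniteDimensional (FractionRing S) L) :
    Module.Finite S (integralClosure S L) := by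
  classical
  haveI : Module.Finite (FractionRing S) L := hfd
  haveI : Algebra.IsAlgebraic (FractionRing S) L := inferInstance
  haveI : Algebra.IsAlgebraic S (FractionRing S) :=
    IsLocalization.isAlgebraic (FractionRing S) (nonZeroDivisors S)
  haveI : Algebra.IsAlgebraic S L := Algebra.IsAlgebraic.trans S (FractionRing S) L
  obtain ⟨s, hs⟩ := (Module.Finite.fg_top : (⊤ : Submodule (FractionRing S) L).FG)
  obtain ⟨y, hy0, hy⟩ := Algebra.IsAlgebraic.exists_integral_multiples S s
  have hinjSL : Function.Injective (algebraMap S L) := by
    rw [IsScalarTower.algebraMap_eq S (FractionRing S) L]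
    exact (algebraMap (FractionRing S) L).injective.comp (IsFractionRing.injective S _)
  let T : Finset L := s.image (fun x => y • x)
  have hTint : ∀ t ∈ (T : Set L), IsIntegral S t := by
    intro t ht
    obtain ⟨x, hx, rfl⟩ := Finset.mem_image.1 (Finset.mem_coe.1 ht)
    exact hy x hx
  let S' : Subalgebra S L := Algebra.adjoin S (T : Set L)
  have hfin : Module.Finite S S' :=
    Module.Finite.iff_fg.2 (fg_adjoin_of_finite (Finset.finite_toSet T) hTint)
  have hN1 := h S' hfin
  -- span of T over the fraction field is everything
  have hspanT : Submodule.span (FractionRing S) (T : Set L) = ⊤ := by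
    rw [eq_top_iff, ← hs, Submodule.span_le]
    intro x hx
    have hyK : algebraMap S (FractionRing S) y ≠ 0 := by
      rw [Ne, FaithfulSMul.algebraMap_eq_zero_iff]; exact hy0
    have : x = (algebraMap S (FractionRing S) y)⁻¹ • (y • x) := by
      rw [← algebraMap_smul (FractionRing S) y x, smul_smul, inv_mul_cancel₀ hyK, one_smul]
    rw [this]
    refine Submodule.smul_mem _ _ (Submodule.subset_span ?_)
    exact Finset.mem_coe.2 (Finset.mem_image.2 ⟨x, hx, rfl⟩)
  haveI : IsFractionRing S' L := by
    refine IsFractionRing.of_field S' L fun z => ?_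
    have hz : z ∈ Submodule.span (FractionRing S) (T : Set L) := by rw [hspanT]; trivial
    obtain ⟨⟨d, hd⟩, hdz⟩ := multiple_mem_span_of_mem_localization_span (R := S)
      (nonZeroDivisors S) (FractionRing S) (T : Set L) z hz
    have hd0 : d ≠ 0 := nonZeroDivisors.ne_zero hd
    have hmem : d • z ∈ S' := by
      have : Submodule.span S (T : Set L) ≤ Subalgebra.toSubmodule S' := by
        rw [Submodule.span_le]
        exact Algebra.subset_adjoin
      exact this hdz
    refine ⟨⟨d • z, hmem⟩, algebraMap S S' d, ?_⟩
    have hdL : algebraMap S L d ≠ 0 := by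
      rw [Ne, map_eq_zero_iff _ hinjSL]; exact hd0
    show z = (d • z) / algebraMap S L d
    rw [Algebra.smul_def, mul_div_cancel_left₀ _ hdL]
  let e : FractionRing S' ≃ₐ[S'] L := FractionRing.algEquiv S' L
  haveI := hN1
  have h2 : Module.Finite S' (integralClosure S' L) :=
    Module.Finite.equiv (e.mapIntegralClosure.toLinearEquiv)
  haveI : Module.Finite S (integralClosure S' L) := Module.Finite.trans S' _
  have hS'int : Algebra.IsIntegral S S' := Algebra.IsIntegral.of_finite S S'
  have heq : ∀ x : L, IsIntegral S' x ↔ IsIntegral S x := by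
    intro x
    constructor
    · intro hx
      exact isIntegral_trans x hx
    · intro hx
      exact hx.tower_top
  let φ : integralClosure S' L →ₗ[S] integralClosure S L :=
    { toFun := fun x => ⟨x.1, (heq x.1).1 x.2⟩
      map_add' := fun _ _ => rfl
      map_smul' := fun _ _ => rfl }
  have hφ : Function.Surjective φ := fun x => ⟨⟨x.1, (heq x.1).2 x.2⟩, rfl⟩
  exact Module.Finite.of_surjective φ hφ

end Groth.Agent.H4
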