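import Mathlib

set_option autoImplicit false
universe u v

open Polynomial IntermediateField

namespace Groth.Agent.H4

/-- In a finite normal extension `N/K`, elements fixed by all automorphisms are purely
inseparable over `K`. -/
theorem H4_fixed_mem_perfectClosure {K : Type u} {N : Type v} [Field K] [Field N] [Algebra K N]
    [FiniteDimensional K N] [Normal K N] (x : N) (hx : ∀ σ : Gal(N/K), σ x = x) :
    x ∈ perfectClosure K N := by
  classical
  rw [mem_perfectClosure_iff_natSepDegree_eq_one]
  have hint : IsIntegral K x := Algebra.IsIntegral.isIntegral x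
  rw [natSepDegree_eq_of_splits (minpoly K x) (Normal.splits inferInstance x)]
  have h1 : ((minpoly K x).aroots N).toFinset = {x} := by
    ext y
    simp only [Multiset.mem_toFinset, Finset.mem_singleton]
    constructor
    · intro hy
      have hy' : aeval y (minpoly K x) = 0 := (mem_aroots.1 hy).2
      obtain ⟨σ, hσ⟩ := minpoly.exists_algEquiv_of_root hint.isAlgebraic hy'
      have h2 : y = σ.symm x := by rw [← hσ, AlgEquiv.symm_apply_apply]
      rw [h2, hx]
    · rintro rfl
      exact mem_aroots.2 ⟨minpoly.ne_zero hint, minpoly.aeval K y⟩
  rw [h1, Finset.card_singleton]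

/-- A finite normal extension is separable over the relative perfect closure. -/
theorem H4_isSeparable_over_perfectClosure {K : Type u} {N : Type v} [Field K] [Field N]
    [Algebra K N] [FiniteDimensional K N] [Normal K N] :
    Algebra.IsSeparable (perfectClosure K N) N := by
  classical
  let G := Gal(N/K)
  let F₁ : Subfield N := FixedPoints.subfield G N
  haveI : IsGalois F₁ N := IsGalois.of_fixed_field N G
  have hsub : ∀ x : F₁, (x : N) ∈ perfectClosure K N := by
    intro x
    refine H4_fixed_mem_perfectClosure x.1 (fun σ => ?_)
    exact x.2 σ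
  let ι : F₁ →+* perfectClosure K N :=
    { toFun := fun x => ⟨x.1, hsub x⟩
      map_one' := rfl
      map_mul' := fun _ _ => rfl
      map_zero' := rfl
      map_add' := fun _ _ => rfl }
  refine ⟨fun y => ?_⟩
  have hsep : (minpoly F₁ y).Separable := Algebra.IsSeparable.isSeparable F₁ y
  have hsep' : ((minpoly F₁ y).map ι).Separable := hsep.map
  have hroot : aeval y ((minpoly F₁ y).map ι) = 0 := by
    have h1 : (algebraMap (perfectClosure K N) N).comp ι = algebraMap F₁ N := by
      ext x; rfl
    rw [aeval_def, eval₂_map, h1, ← aeval_def, minpoly.aeval]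
  exact hsep'.of_dvd (minpoly.dvd _ y hroot)

end Groth.Agent.H4
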