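import Mathlib
import Groth.Agent.Lib.helper4.PerfSep

set_option autoImplicit false
universe u

open IntermediateField

namespace Groth.Agent.H4

/-- Normal case: if the integral closure of `A` in the relative perfect closure of `K` in `N` is
finite, so is the integral closure of `A` in `N`. -/
theorem H4_intClosure_finite_of_normal (A : Type u) [CommRing A] [IsDomain A] [IsNoetherianRing A]
    (K : Type u) [Field K] [Algebra A K] [IsFractionRing A K]
    (N : Type u) [Field N] [Algebra K N] [Algebra A N] [IsScalarTower A K N]
    [FiniteDimensional K N] [Normal K N]
    (hpi : Module.Finite A (integralClosure A (perfectClosure K N))) :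
    Module.Finite A (integralClosure A N) := by
  classical
  let K' := perfectClosure K N
  let A' : Subalgebra A K' := integralClosure A K'
  haveI : FiniteDimensional K K' := inferInstance
  haveI : IsScalarTower A A' N := IsScalarTower.of_algebraMap_eq (fun a => rfl)
  haveI : IsIntegrallyClosed A' := integralClosure.isIntegrallyClosedOfFiniteExtension K
  haveI : IsFractionRing A' K' := integralClosure.isFractionRing_of_finite_extension K K'
  haveI : Module.Finite A A' := hpi
  haveI : IsNoetherianRing A' := IsNoetherianRing.of_finite A A'
  haveI : Algebra.IsSeparable K' N := H4_isSeparable_over_perfectClosure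
  haveI : FiniteDimensional K' N := inferInstance
  have h5 : Module.Finite A' (integralClosure A' N) :=
    IsIntegralClosure.finite A' K' N (integralClosure A' N)
  haveI := h5
  haveI : Module.Finite A (integralClosure A' N) := Module.Finite.trans A' _
  have hA'int : Algebra.IsIntegral A A' := inferInstance
  have heq : ∀ x : N, IsIntegral A' x ↔ IsIntegral A x := by
    intro x
    constructor
    · intro hx
      exact isIntegral_trans x hx
    · intro hx
      exact hx.tower_top
  let φ : integralClosure A' N →ₗ[A] integralClosure A N :=
    { toFun := fun x => ⟨x.1, (heq x.1).1 x.2⟩
      map_add' := fun _ _ => rfl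
      map_smul' := fun _ _ => rfl }
  have hφ : Function.Surjective φ := fun x => ⟨⟨x.1, (heq x.1).2 x.2⟩, rfl⟩
  exact Module.Finite.of_surjective φ hφ

/-- A Noetherian domain is N-2 as soon as its integral closures in finite purely inseparable
extensions of the fraction field are finite. -/
theorem H4_N2_of_purelyInseparable (A : Type u) [CommRing A] [IsDomain A] [IsNoetherianRing A]
    (h : ∀ (K' : Type u) [Field K'] [Algebra A K'] [Algebra (FractionRing A) K']
      [IsScalarTower A (FractionRing A) K'], FiniteDimensional (FractionRing A) K' →
      IsPurelyInseparable (FractionRing A) K' → Module.Finite A (integralClosure A K'))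
    (L : Type u) [Field L] [Algebra A L] [Algebra (FractionRing A) L]
    [IsScalarTower A (FractionRing A) L] (hfd : FiniteDimensional (FractionRing A) L) :
    Module.Finite A (integralClosure A L) := by
  classical
  haveI := hfd
  haveI : IsScalarTower A (FractionRing A) (AlgebraicClosure L) :=
    IsScalarTower.of_algebraMap_eq (fun a => by
      rw [IsScalarTower.algebraMap_apply A L (AlgebraicClosure L),
        IsScalarTower.algebraMap_apply A (FractionRing A) L,
        ← IsScalarTower.algebraMap_apply (FractionRing A) L (AlgebraicClosure L)])
  let N : IntermediateField (FractionRing A) (AlgebraicClosure L) :=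
    normalClosure (FractionRing A) L (AlgebraicClosure L)
  haveI : Normal (FractionRing A) N := normalClosure.normal _ _ _
  haveI : FiniteDimensional (FractionRing A) N := normalClosure.is_finiteDimensional _ _ _
  have hpi : Module.Finite A (integralClosure A (perfectClosure (FractionRing A) N)) :=
    h (perfectClosure (FractionRing A) N) inferInstance inferInstance
  have hN : Module.Finite A (integralClosure A N) :=
    H4_intClosure_finite_of_normal A (FractionRing A) N hpi
  haveI : IsScalarTower A L N := IsScalarTower.of_algebraMap_eq (fun a => by
    apply Subtype.ext
    exact IsScalarTower.algebraMap_apply A L (AlgebraicClosure L) a)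
  let ψ : integralClosure A L →ₐ[A] integralClosure A N :=
    (IsScalarTower.toAlgHom A L N).mapIntegralClosure
  have hψ : Function.Injective ψ := by
    intro x y hxy
    apply Subtype.ext
    have h1 : (ψ x : N) = (ψ y : N) := congrArg Subtype.val hxy
    exact (algebraMap L N).injective h1
  haveI := hN
  haveI : IsNoetherian A (integralClosure A N) := isNoetherian_of_isNoetherianRing_of_finite A _
  exact Module.Finite.of_injective ψ.toLinearMap hψ

end Groth.Agent.H4
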