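import Mathlib
import Groth.Agent.S9392
import Groth.Agent.S9398

set_option autoImplicit false
universe u

namespace Groth.Agent.H4

theorem H4_N2_quot_congr (B : Type u) [CommRing B] (q q' : Ideal B) [q.IsPrime] [q'.IsPrime]
    (h : q = q') (hN : CAlg.IsN2 (B ⧸ q)) : CAlg.IsN2 (B ⧸ q') := by
  subst h
  exact hN

/-- A localization of a Nagata ring is Nagata. -/
theorem H4_nagata_localization (A : Type u) [CommRing A] (hA : CAlg.IsNagata A) (S : Submonoid A)
    (B : Type u) [CommRing B] [Algebra A B] [IsLocalization S B] : CAlg.IsNagata B := by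
  haveI := hA.1
  refine ⟨IsLocalization.isNoetherianRing S B hA.1, ?_⟩
  intro q hq
  let p : Ideal A := q.comap (algebraMap A B)
  haveI hp : p.IsPrime := Ideal.comap_isPrime _ _
  have hmap : p.map (algebraMap A B) = q := IsLocalization.map_comap S B q
  haveI hq' : (p.map (algebraMap A B)).IsPrime := hmap ▸ hq
  have h1 : CAlg.IsN2 (A ⧸ p) := hA.2 p
  have h2 : CAlg.IsN2 (B ⧸ p.map (algebraMap A B)) :=
    Groth.Agent.S9392.result (A ⧸ p) (Algebra.algebraMapSubmonoid (A ⧸ p) S)
      (B ⧸ p.map (algebraMap A B)) h1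
  exact H4_N2_quot_congr B _ q hmap h2

/-- The Nagata property is invariant under ring isomorphisms. -/
theorem H4_nagata_of_ringEquiv (A B : Type u) [CommRing A] [CommRing B] (e : A ≃+* B)
    (hA : CAlg.IsNagata A) : CAlg.IsNagata B := by
  letI : Algebra A B := e.toRingHom.toAlgebra
  haveI : IsLocalization (⊥ : Submonoid A) B := by
    refine IsLocalization.of_le_isUnit_of_bijective ?_ e.bijective
    rintro _ ⟨x, hx, rfl⟩
    rw [SetLike.mem_coe, Submonoid.mem_bot] at hx
    subst hx
    rw [map_one]
    exact isUnit_one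
  exact H4_nagata_localization A hA ⊥ B

/-- Universally Japanese is invariant under ring isomorphisms. -/
theorem H4_univJap_of_ringEquiv (A B : Type u) [CommRing A] [CommRing B] (e : A ≃+* B)
    (hA : CAlg.IsUniversallyJapanese A) : CAlg.IsUniversallyJapanese B := by
  letI : Algebra A B := e.toRingHom.toAlgebra
  haveI : Algebra.FiniteType A B :=
    Algebra.FiniteType.of_surjective (Algebra.ofId A B) e.surjective
  exact Groth.Agent.S9398.result A hA B

end Groth.Agent.H4
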