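import Mathlib
import Groth.Prelude.Def_Pi1

set_option autoImplicit false
universe u
open AlgebraicGeometry CategoryTheory CategoryTheory.Limits Topology TopologicalSpace

namespace Groth.Agent.H4

theorem H4_isNormalScheme_iff_affineOpens {X : Scheme.{u}} [IsIntegral X] :
    Pi1.IsNormalScheme X ↔
      ∀ (U : X.Opens) [Nonempty U], IsAffineOpen U → IsIntegrallyClosed Γ(X, U) := by
  constructor
  · intro hN U _ hU
    haveI : IsDomain Γ(X, U) := inferInstance
    apply IsIntegrallyClosed.of_localization_maximal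
    intro p _ hp
    let y : PrimeSpectrum Γ(X, U) := ⟨p, hp.isPrime⟩
    have hy : hU.fromSpec.base y ∈ U := (hU.isoSpec.inv.base y).2
    letI : Algebra Γ(X, U) (X.presheaf.stalk (hU.fromSpec.base y)) :=
      TopCat.Presheaf.algebra_section_stalk X.presheaf ⟨_, hy⟩
    haveI : IsLocalization.AtPrime (X.presheaf.stalk (hU.fromSpec.base y)) p :=
      hU.isLocalization_stalk' y hy
    haveI := (hN (hU.fromSpec.base y)).2
    exact IsIntegrallyClosed.of_equiv (IsLocalization.algEquiv p.primeCompl
      (X.presheaf.stalk (hU.fromSpec.base y)) (Localization.AtPrime p)).toRingEquiv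
  · intro h x
    obtain ⟨U, hU, hxU, -⟩ := exists_isAffineOpen_mem_and_subset (X := X) (x := x) (U := ⊤) trivial
    haveI : Nonempty U := ⟨⟨x, hxU⟩⟩
    haveI : IsDomain Γ(X, U) := inferInstance
    haveI := h U hU
    letI : Algebra Γ(X, U) (X.presheaf.stalk x) :=
      TopCat.Presheaf.algebra_section_stalk X.presheaf ⟨x, hxU⟩
    haveI : IsLocalization.AtPrime (X.presheaf.stalk x) (hU.primeIdealOf ⟨x, hxU⟩).asIdeal :=
      hU.isLocalization_stalk ⟨x, hxU⟩
    have hle : (hU.primeIdealOf ⟨x, hxU⟩).asIdeal.primeCompl ≤ nonZeroDivisors Γ(X, U) :=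
      Ideal.primeCompl_le_nonZeroDivisors _
    refine ⟨?_, ?_⟩
    · exact IsLocalization.isDomain_of_le_nonZeroDivisors (R := Γ(X, U)) (X.presheaf.stalk x) hle
    · exact isIntegrallyClosed_of_isLocalization (R := Γ(X, U)) (X.presheaf.stalk x)
        (hU.primeIdealOf ⟨x, hxU⟩).asIdeal.primeCompl hle

end Groth.Agent.H4
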