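import Mathlib
import Groth.Prelude.Def_Pi1
import Groth.Agent.Lib.helper4.FEtIntegral
import Groth.Agent.Lib.helper4.IrrCover

set_option autoImplicit false
universe u
open AlgebraicGeometry CategoryTheory CategoryTheory.Limits Topology TopologicalSpace

namespace Groth.Agent.H4

theorem H4_irrComp_open_disjoint_of_locally_irreducible (T : Type u) [TopologicalSpace T]
    (h : ∀ t : T, ∃ W : Set T, IsOpen W ∧ t ∈ W ∧ IsIrreducible W) :
    (∀ Z ∈ irreducibleComponents T, IsOpen Z) ∧
      ∀ Z ∈ irreducibleComponents T, ∀ Z' ∈ irreducibleComponents T, Z ≠ Z' → Disjoint Z Z' := by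
  have key : ∀ Z ∈ irreducibleComponents T, ∀ z ∈ Z, ∀ W : Set T, IsOpen W → z ∈ W →
      IsIrreducible W → Z = closure W := by
    intro Z hZ z hz W hWo hzW hWi
    have h1 : Z ⊆ closure (Z ∩ W) := by
      intro a ha
      rw [mem_closure_iff]
      intro O hO haO
      obtain ⟨b, hbZ, hbO, hbW⟩ := hZ.1.2 O W hO hWo ⟨a, ha, haO⟩ ⟨z, hz, hzW⟩
      exact ⟨b, hbO, hbZ, hbW⟩
    have h2 : Z ⊆ closure W := h1.trans (closure_mono Set.inter_subset_right)
    exact le_antisymm h2 (hZ.2 hWi.closure h2)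
  constructor
  · intro Z hZ
    rw [isOpen_iff_mem_nhds]
    intro z hz
    obtain ⟨W, hWo, hzW, hWi⟩ := h z
    have := key Z hZ z hz W hWo hzW hWi
    exact Filter.mem_of_superset (hWo.mem_nhds hzW) (this ▸ subset_closure)
  · intro Z hZ Z' hZ' hne
    rw [Set.disjoint_iff]
    rintro z ⟨hz, hz'⟩
    obtain ⟨W, hWo, hzW, hWi⟩ := h z
    exact hne ((key Z hZ z hz W hWo hzW hWi).trans (key Z' hZ' z hz' W hWo hzW hWi).symm)

theorem H4_irrComp_open_disjoint_of_normal (X : Scheme.{u})
    (hfin : ∀ U : X.Opens, IsCompact (U : Set X) → (irreducibleComponents ↥U).Finite)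
    (hN : Pi1.IsNormalScheme X) :
    (∀ Z ∈ irreducibleComponents X, IsOpen Z) ∧
      ∀ Z ∈ irreducibleComponents X, ∀ Z' ∈ irreducibleComponents X, Z ≠ Z' → Disjoint Z Z' := by
  apply H4_irrComp_open_disjoint_of_locally_irreducible
  intro x
  obtain ⟨U, hU, hxU, -⟩ := exists_isAffineOpen_mem_and_subset (X := X) (x := x) (U := ⊤) trivial
  have hUfin : (irreducibleComponents (U : Type u)).Finite := hfin U hU.isCompact
  have hmin : (minimalPrimes Γ(X, U)).Finite := by
    have h1' : (irreducibleComponents (PrimeSpectrum Γ(X, U))).Finite :=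
      (H4_affineOpen_irr_iff U hU).mp hUfin
    haveI : Finite (irreducibleComponents (PrimeSpectrum Γ(X, U))) := h1'.to_subtype
    haveI : Finite (irreducibleComponents (PrimeSpectrum Γ(X, U)))ᵒᵈ :=
      inferInstanceAs (Finite (irreducibleComponents (PrimeSpectrum Γ(X, U))))
    haveI : Finite (minimalPrimes Γ(X, U)) :=
      Finite.of_equiv _ (minimalPrimes.equivIrreducibleComponents _).symm.toEquiv
    exact Set.finite_coe_iff.mp inferInstance
  have hdom : ∀ (m : Ideal Γ(X, U)) [m.IsMaximal], IsDomain (Localization.AtPrime m) := by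
    intro m hm
    let y : PrimeSpectrum Γ(X, U) := ⟨m, hm.isPrime⟩
    have hy : hU.fromSpec.base y ∈ U := (hU.isoSpec.inv.base y).2
    letI : Algebra Γ(X, U) (X.presheaf.stalk (hU.fromSpec.base y)) :=
      TopCat.Presheaf.algebra_section_stalk X.presheaf ⟨_, hy⟩
    haveI : IsLocalization.AtPrime (X.presheaf.stalk (hU.fromSpec.base y)) m :=
      hU.isLocalization_stalk' y hy
    haveI := (hN (hU.fromSpec.base y)).1
    exact (IsLocalization.algEquiv m.primeCompl
      (X.presheaf.stalk (hU.fromSpec.base y)) (Localization.AtPrime m)).symm.toMulEquiv.isDomain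
  obtain ⟨W', hW'o, hqW', hW'i⟩ :=
    H4_exists_open_irreducible_nhd Γ(X, U) hmin hdom (hU.primeIdealOf ⟨x, hxU⟩)
  refine ⟨hU.fromSpec.base '' W', hU.fromSpec.isOpenEmbedding.isOpenMap _ hW'o,
    ⟨_, hqW', hU.fromSpec_primeIdealOf ⟨x, hxU⟩⟩,
    hW'i.image _ hU.fromSpec.continuous.continuousOn⟩

end Groth.Agent.H4
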