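import Mathlib

set_option autoImplicit false
universe u

open Polynomial

namespace Groth.Agent.H4

theorem H4_det_aeval_prod_linear {K : Type u} [CommRing K] {n : ℕ}
    (A : Matrix (Fin n) (Fin n) K) (s : Multiset K) :
    (aeval A (s.map (fun r => X - C r)).prod).det =
      (s.map (fun r => (A - Matrix.scalar (Fin n) r).det)).prod := by
  induction s using Multiset.induction_on with
  | empty => simp
  | cons a s ih =>
    rw [Multiset.map_cons, Multiset.prod_cons, map_mul, Matrix.det_mul, ih, Multiset.map_cons,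
      Multiset.prod_cons]
    congr 2
    rw [map_sub, aeval_X, aeval_C]
    rfl

/-- Split case over a field. -/
theorem H4_det_aeval_split {K : Type u} [Field K] (P : K[X]) (hP : P.Splits)
    (m : ℕ) (hm : P.natDegree ≤ m) (n : ℕ) (A : Matrix (Fin n) (Fin n) K) :
    (aeval A P).det = (-1) ^ (n * m) * resultant P A.charpoly m n := by
  classical
  have hχn : A.charpoly.natDegree = n := by
    rw [Matrix.charpoly_natDegree_eq_dim, Fintype.card_fin]
  have hχc : A.charpoly.coeff n = 1 := by
    have := (Matrix.charpoly_monic A).coeff_natDegree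
    rwa [hχn] at this
  -- the resultant at exact degree
  have hres : resultant P A.charpoly P.natDegree n =
      P.leadingCoeff ^ n * (P.roots.map A.charpoly.eval).prod :=
    resultant_eq_prod_eval P A.charpoly n hχn.le hP
  obtain ⟨k, rfl⟩ := Nat.exists_eq_add_of_le hm
  rw [resultant_add_left_deg _ _ _ _ _ le_rfl, hχc, one_pow, mul_one, hres]
  -- compute the determinant
  have hdet : (aeval A P).det =
      P.leadingCoeff ^ n * (P.roots.map (fun r => (A - Matrix.scalar (Fin n) r).det)).prod := by
    conv_lhs => rw [hP.eq_prod_roots]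
    rw [map_mul, Matrix.det_mul, H4_det_aeval_prod_linear, aeval_C,
      Algebra.algebraMap_eq_smul_one, Matrix.det_smul, Matrix.det_one, mul_one, Fintype.card_fin]
  have hsign : ∀ r : K, (A - Matrix.scalar (Fin n) r).det = (-1) ^ n * A.charpoly.eval r := by
    intro r
    rw [Matrix.eval_charpoly, ← neg_sub, Matrix.det_neg, Fintype.card_fin]
  rw [hdet]
  simp only [hsign]
  rw [Multiset.prod_map_mul, Multiset.map_const', Multiset.prod_replicate,
    ← hP.natDegree_eq_card_roots]
  have e1 : ((-1 : K) ^ n) ^ P.natDegree = (-1) ^ (n * P.natDegree) := by rw [pow_mul]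
  have e2 : (-1 : K) ^ (n * (P.natDegree + k)) * (-1) ^ (n * k) = (-1) ^ (n * P.natDegree) := by
    rw [← pow_add, mul_add, add_assoc, ← two_mul, pow_add, pow_mul (-1 : K) 2, neg_one_sq,
      one_pow, mul_one]
  rw [e1, ← mul_assoc ((-1 : K) ^ (n * (P.natDegree + k))), e2]
  ring

/-- `det P(A) = ± Res(P, χ_A)` over any commutative ring. -/
theorem H4_det_aeval_eq_resultant {R : Type u} [CommRing R] (P : R[X]) :
    ∀ (m : ℕ), P.natDegree ≤ m → ∀ (n : ℕ) (A : Matrix (Fin n) (Fin n) R),
      (aeval A P).det = (-1) ^ (n * m) * resultant P A.charpoly m n := by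
  refine induction_of_Splits_of_injective_of_surjective P
    (P := fun {R} _ P => ∀ (m : ℕ), P.natDegree ≤ m → ∀ (n : ℕ) (A : Matrix (Fin n) (Fin n) R),
      (aeval A P).det = (-1) ^ (n * m) * resultant P A.charpoly m n) ?_ ?_ ?_
  · intro K _ P hP m hm n A
    exact H4_det_aeval_split P hP m hm n A
  · intro R S _ _ φ hφ P IH m hm n A
    have h1 := IH m (natDegree_map_le.trans hm) n (φ.mapMatrix A)
    have h2 : φ.mapMatrix (aeval A P) = aeval (φ.mapMatrix A) (P.map φ) := by
      refine map_aeval_eq_aeval_map ?_ P A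
      ext r i j
      simp [Matrix.algebraMap_matrix_apply, apply_ite φ]
    rw [← h2, ← RingHom.map_det, RingHom.mapMatrix_apply, Matrix.charpoly_map,
      resultant_map_map] at h1
    apply hφ
    rw [h1, map_mul, map_pow, map_neg, map_one]
  · intro R S _ _ φ hφ P IH m hm n A
    obtain ⟨Q, hQ, hQdeg⟩ := exists_natDegree_eq_of_mem_lifts
      ((lifts_iff_coeff_lifts P).2 (fun k => hφ (P.coeff k)))
    let A' : Matrix (Fin n) (Fin n) R := Matrix.of fun i j => (hφ (A i j)).choose
    have hA' : φ.mapMatrix A' = A := by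
      ext i j
      exact (hφ (A i j)).choose_spec
    have h1 := IH Q m (hQdeg ▸ hm) n A'
    have h2 : φ.mapMatrix (aeval A' Q) = aeval (φ.mapMatrix A') (Q.map φ) := by
      refine map_aeval_eq_aeval_map ?_ Q A'
      ext r i j
      simp [Matrix.algebraMap_matrix_apply, apply_ite φ]
    have h3 := congrArg φ h1
    rw [RingHom.map_det, h2, hA', hQ, map_mul, map_pow, map_neg, map_one, ← resultant_map_map,
      hQ, ← Matrix.charpoly_map, ← RingHom.mapMatrix_apply, hA'] at h3
    exact h3

/-- Norm from `R[T]/(χ)` of `P(T)` as a resultant. -/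
theorem H4_norm_adjoinRoot_eq_resultant {R : Type u} [CommRing R] [Nontrivial R] (χ : R[X])
    (hχ : χ.Monic) (P : R[X]) (m : ℕ) (hm : P.natDegree ≤ m) :
    Algebra.norm R (AdjoinRoot.mk χ P) =
      (-1) ^ (χ.natDegree * m) * resultant P χ m χ.natDegree := by
  classical
  let pb := AdjoinRoot.powerBasis' hχ
  have hmin : minpoly R pb.gen = χ := by
    symm
    refine minpoly.unique' R pb.gen hχ ?_ ?_
    · show aeval (AdjoinRoot.root χ) χ = 0
      rw [AdjoinRoot.aeval_eq, AdjoinRoot.mk_self]
    · intro q hq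
      by_cases hq0 : q = 0
      · exact Or.inl hq0
      · right
        show aeval (AdjoinRoot.root χ) q ≠ 0
        rw [AdjoinRoot.aeval_eq, Ne, AdjoinRoot.mk_eq_zero]
        exact hχ.not_dvd_of_degree_lt hq0 hq
  have hchar : (Algebra.leftMulMatrix pb.basis pb.gen).charpoly = χ := by
    rw [charpoly_leftMulMatrix, hmin]
  have hmk : AdjoinRoot.mk χ P = aeval pb.gen P := by
    show AdjoinRoot.mk χ P = aeval (AdjoinRoot.root χ) P
    rw [AdjoinRoot.aeval_eq]
  have hdim : pb.dim = χ.natDegree := rfl
  rw [Algebra.norm_eq_matrix_det pb.basis, hmk, ← Polynomial.aeval_algHom_apply,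
    H4_det_aeval_eq_resultant P m hm pb.dim (Algebra.leftMulMatrix pb.basis pb.gen), hchar, hdim]

end Groth.Agent.H4
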