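import Mathlib

set_option autoImplicit false
universe u

namespace Groth.Agent.H4

/-- "Normal ring" (all localizations at primes are integrally closed domains) passes to
localizations. -/
theorem H4_normal_localization (C : Type u) [CommRing C] (M : Submonoid C) (C' : Type u)
    [CommRing C'] [Algebra C C'] [IsLocalization M C']
    (h : ∀ (p : Ideal C) [p.IsPrime],
      IsDomain (Localization.AtPrime p) ∧ IsIntegrallyClosed (Localization.AtPrime p))
    (q : Ideal C') [q.IsPrime] :
    IsDomain (Localization.AtPrime q) ∧ IsIntegrallyClosed (Localization.AtPrime q) := by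
  haveI hloc : IsLocalization.AtPrime (Localization.AtPrime q) (q.comap (algebraMap C C')) :=
    IsLocalization.isLocalization_isLocalization_atPrime_isLocalization M
      (Localization.AtPrime q) q
  let e : Localization.AtPrime (q.comap (algebraMap C C')) ≃ₐ[C] Localization.AtPrime q :=
    IsLocalization.algEquiv (q.comap (algebraMap C C')).primeCompl _ _
  obtain ⟨h1, h2⟩ := h (q.comap (algebraMap C C'))
  refine ⟨?_, ?_⟩
  · exact e.symm.toMulEquiv.isDomain (Localization.AtPrime (q.comap (algebraMap C C')))
  · exact IsIntegrallyClosed.of_equiv e.toRingEquiv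

end Groth.Agent.H4
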