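import Mathlib

set_option autoImplicit false
universe u

namespace Groth.Agent.H4

/-- In a one-dimensional Noetherian local ring, an element killed in every localization at a minimal
prime is killed by a power of the maximal ideal. -/
theorem H4_onedim_ann (A : Type u) [CommRing A] [IsLocalRing A] [IsNoetherianRing A]
    (hdim : ringKrullDim A = 1) (x : A)
    (hx : ∀ p ∈ minimalPrimes A, ∃ s : A, s ∉ p ∧ s * x = 0) :
    ∃ k : ℕ, ∀ y ∈ IsLocalRing.maximalIdeal A ^ k, y * x = 0 := by
  set m := IsLocalRing.maximalIdeal A with hm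
  let I : Ideal A := LinearMap.ker (LinearMap.mulRight A x)
  have hI : ∀ y, y ∈ I ↔ y * x = 0 := by
    intro y
    simp [I, LinearMap.mem_ker]
  have hmh : m.height = 1 := by
    have h1 : (m.height : WithBot ℕ∞) = ringKrullDim A :=
      IsLocalRing.maximalIdeal_height_eq_ringKrullDim
    rw [hdim] at h1
    exact_mod_cast h1
  have hrad : m ≤ I.radical := by
    rw [Ideal.radical_eq_sInf]
    refine le_sInf ?_
    rintro J ⟨hIJ, hJ⟩
    haveI := hJ
    obtain ⟨p₀, hp₀, hp₀J⟩ := Ideal.exists_minimalPrimes_le (I := (⊥ : Ideal A)) (J := J) bot_le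
    haveI : p₀.IsPrime := hp₀.1.1
    obtain ⟨s, hs, hsx⟩ := hx p₀ hp₀
    have hne : p₀ ≠ J := by
      rintro rfl
      exact hs (hIJ ((hI s).2 hsx))
    have hlt : p₀ < J := lt_of_le_of_ne hp₀J hne
    have hJm : J ≤ m := IsLocalRing.le_maximalIdeal hJ.ne_top
    by_contra hcon
    have hJlt : J < m := lt_of_le_of_ne hJm (fun h => hcon (h ▸ le_rfl))
    have h1 : p₀.height < J.height := Ideal.height_strict_mono_of_isPrime_of_isPrime hlt
    have h2 : J.height < m.height := Ideal.height_strict_mono_of_isPrime_of_isPrime hJlt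
    rw [hmh, ENat.lt_one_iff_eq_zero] at h2
    rw [h2] at h1
    exact not_lt_zero' h1
  obtain ⟨k, hk⟩ := Ideal.exists_pow_le_of_le_radical_of_fg hrad (IsNoetherian.noetherian _)
  exact ⟨k, fun y hy => (hI y).1 (hk hy)⟩

/-- In a one-dimensional Noetherian local ring, an ideal contained in no minimal prime contains a
power of the maximal ideal. -/
theorem H4_onedim_pow_le (A : Type u) [CommRing A] [IsLocalRing A] [IsNoetherianRing A]
    (hdim : ringKrullDim A = 1) (I : Ideal A)
    (hx : ∀ p ∈ minimalPrimes A, ∃ s : A, s ∉ p ∧ s ∈ I) :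
    ∃ k : ℕ, IsLocalRing.maximalIdeal A ^ k ≤ I := by
  set m := IsLocalRing.maximalIdeal A with hm
  have hmh : m.height = 1 := by
    have h1 : (m.height : WithBot ℕ∞) = ringKrullDim A :=
      IsLocalRing.maximalIdeal_height_eq_ringKrullDim
    rw [hdim] at h1
    exact_mod_cast h1
  have hrad : m ≤ I.radical := by
    rw [Ideal.radical_eq_sInf]
    refine le_sInf ?_
    rintro J ⟨hIJ, hJ⟩
    haveI := hJ
    obtain ⟨p₀, hp₀, hp₀J⟩ := Ideal.exists_minimalPrimes_le (I := (⊥ : Ideal A)) (J := J) bot_le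
    haveI : p₀.IsPrime := hp₀.1.1
    obtain ⟨s, hs, hsx⟩ := hx p₀ hp₀
    have hne : p₀ ≠ J := by
      rintro rfl
      exact hs (hIJ hsx)
    have hlt : p₀ < J := lt_of_le_of_ne hp₀J hne
    have hJm : J ≤ m := IsLocalRing.le_maximalIdeal hJ.ne_top
    by_contra hcon
    have hJlt : J < m := lt_of_le_of_ne hJm (fun h => hcon (h ▸ le_rfl))
    have h1 : p₀.height < J.height := Ideal.height_strict_mono_of_isPrime_of_isPrime hlt
    have h2 : J.height < m.height := Ideal.height_strict_mono_of_isPrime_of_isPrime hJlt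
    rw [hmh, ENat.lt_one_iff_eq_zero] at h2
    rw [h2] at h1
    exact not_lt_zero' h1
  exact Ideal.exists_pow_le_of_le_radical_of_fg hrad (IsNoetherian.noetherian _)

theorem H4_finite_minIdx (A : Type u) [CommRing A] [IsNoetherianRing A] :
    Finite {p : PrimeSpectrum A // p.asIdeal ∈ minimalPrimes A} := by
  have hfin : (minimalPrimes A).Finite := minimalPrimes.finite_of_isNoetherianRing A
  haveI := hfin.to_subtype
  refine Finite.of_injective
    (fun p : {p : PrimeSpectrum A // p.asIdeal ∈ minimalPrimes A} =>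
      (⟨p.1.asIdeal, p.2⟩ : ↥(minimalPrimes A))) ?_
  intro p q h
  exact Subtype.ext (PrimeSpectrum.ext (congrArg Subtype.val h))

/-- In a one-dimensional Noetherian local ring, the cokernel of `A → ∏ A_p` (product over the
minimal primes) is torsion for powers of the maximal ideal. -/
theorem H4_onedim_prod_key (A : Type u) [CommRing A] [IsLocalRing A] [IsNoetherianRing A]
    (hdim : ringKrullDim A = 1)
    (ℓ : ∀ p : {p : PrimeSpectrum A // p.asIdeal ∈ minimalPrimes A},
      Localization.AtPrime p.1.asIdeal) :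
    ∃ N : ℕ, ∀ y ∈ IsLocalRing.maximalIdeal A ^ N,
      algebraMap A (∀ p : {p : PrimeSpectrum A // p.asIdeal ∈ minimalPrimes A},
        Localization.AtPrime p.1.asIdeal) y * ℓ ∈
      (algebraMap A (∀ p : {p : PrimeSpectrum A // p.asIdeal ∈ minimalPrimes A},
        Localization.AtPrime p.1.asIdeal)).range := by
  classical
  haveI := H4_finite_minIdx A
  haveI := Fintype.ofFinite {p : PrimeSpectrum A // p.asIdeal ∈ minimalPrimes A}
  let I : Ideal A :=
    { carrier := {y | algebraMap A (∀ p : {p : PrimeSpectrum A // p.asIdeal ∈ minimalPrimes A},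
        Localization.AtPrime p.1.asIdeal) y * ℓ ∈
        (algebraMap A (∀ p : {p : PrimeSpectrum A // p.asIdeal ∈ minimalPrimes A},
          Localization.AtPrime p.1.asIdeal)).range}
      add_mem' := by
        intro y z hy hz
        simp only [Set.mem_ofPred_eq] at hy hz ⊢
        rw [map_add, add_mul]
        exact Subring.add_mem _ hy hz
      zero_mem' := by
        simp only [Set.mem_ofPred_eq]
        rw [map_zero, zero_mul]
        exact Subring.zero_mem _
      smul_mem' := by
        intro c y hy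
        simp only [Set.mem_ofPred_eq] at hy ⊢
        rw [smul_eq_mul, map_mul, mul_assoc]
        exact Subring.mul_mem _ ⟨c, rfl⟩ hy }
  have hI : ∀ q ∈ minimalPrimes A, ∃ s : A, s ∉ q ∧ s ∈ I := by
    intro q hq
    obtain ⟨qi, hqi⟩ : ∃ qi : {p : PrimeSpectrum A // p.asIdeal ∈ minimalPrimes A},
        qi.1.asIdeal = q := ⟨⟨⟨q, hq.1.1⟩, hq⟩, rfl⟩
    subst hqi
    have hu : ∀ p : {p : PrimeSpectrum A // p.asIdeal ∈ minimalPrimes A}, p ≠ qi →
        ∃ w : A, w ∉ qi.1.asIdeal ∧ algebraMap A (Localization.AtPrime p.1.asIdeal) w = 0 := by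
      intro p hp
      have hnle : ¬ p.1.asIdeal ≤ qi.1.asIdeal := by
        intro hle
        have h1 : qi.1.asIdeal ≤ p.1.asIdeal := hq.2 ⟨p.1.2, bot_le⟩ hle
        exact hp (Subtype.ext (PrimeSpectrum.ext (le_antisymm hle h1)))
      obtain ⟨u, hup, huq⟩ := SetLike.not_le_iff_exists.1 hnle
      have hrad := IsLocalization.AtPrime.radical_map_of_mem_minimalPrimes
        (A := Localization.AtPrime p.1.asIdeal) p.1.asIdeal ⊥ p.2
      rw [Ideal.map_bot] at hrad
      have h2 : algebraMap A (Localization.AtPrime p.1.asIdeal) u ∈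
          (⊥ : Ideal (Localization.AtPrime p.1.asIdeal)).radical := by
        rw [hrad]; exact Ideal.mem_map_of_mem _ hup
      obtain ⟨k, hk⟩ := h2
      refine ⟨u ^ k, fun h => huq (Ideal.IsPrime.mem_of_pow_mem qi.1.2 k h), ?_⟩
      rw [map_pow]
      exact hk
    choose! w hwq hw0 using hu
    obtain ⟨⟨x, s⟩, hxs⟩ := IsLocalization.surj qi.1.asIdeal.primeCompl (ℓ qi)
    have hWq : (∏ p ∈ Finset.univ.erase qi, w p) ∉ qi.1.asIdeal := by
      intro h
      obtain ⟨p, hp, hpq⟩ := (Ideal.IsPrime.prod_mem_iff (hp := qi.1.2)).1 h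
      exact hwq p (Finset.ne_of_mem_erase hp) hpq
    have hW0 : ∀ p : {p : PrimeSpectrum A // p.asIdeal ∈ minimalPrimes A}, p ≠ qi →
        algebraMap A (Localization.AtPrime p.1.asIdeal) (∏ p ∈ Finset.univ.erase qi, w p) = 0 := by
      intro p hp
      rw [map_prod]
      exact Finset.prod_eq_zero (Finset.mem_erase.2 ⟨hp, Finset.mem_univ p⟩) (hw0 p hp)
    refine ⟨s * ∏ p ∈ Finset.univ.erase qi, w p, fun h => ?_,
      ⟨x * ∏ p ∈ Finset.univ.erase qi, w p, ?_⟩⟩
    · rcases Ideal.IsPrime.mem_or_mem qi.1.2 h with h | h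
      · exact s.2 h
      · exact hWq h
    · funext p
      rw [Pi.mul_apply, Pi.algebraMap_apply, Pi.algebraMap_apply]
      by_cases hp : p = qi
      · subst hp
        rw [map_mul, map_mul, ← hxs]
        ring
      · rw [map_mul, map_mul, hW0 p hp]
        ring
  obtain ⟨N, hN⟩ := H4_onedim_pow_le A hdim I hI
  exact ⟨N, fun y hy => hN hy⟩

end Groth.Agent.H4
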