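import Mathlib
import Groth.Prelude.Def_Hensel
import Groth.Prelude.Def_Hens2

/-! A henselization `H` of a pair `(R, J)` satisfies `H = R + JH`; consequences for strict
henselizations when `R` and `H` are local. -/

set_option autoImplicit false
universe u
open Polynomial

namespace Groth.Agent.H4

section

variable {R : Type u} [CommRing R] (J : Ideal R) {H : Type u} [CommRing H] [Algebra R H]

/-- The subring `R + JH` of `H`. -/
def H4_pairSub : Subring H :=
  Subring.comap (Ideal.Quotient.mk (J.map (algebraMap R H)))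
    ((Ideal.Quotient.mk (J.map (algebraMap R H))).comp (algebraMap R H)).range

theorem H4_mem_pairSub {h : H} :
    h ∈ H4_pairSub J (H := H) ↔ ∃ r : R, h - algebraMap R H r ∈ J.map (algebraMap R H) := by
  unfold H4_pairSub
  rw [Subring.mem_comap, RingHom.mem_range]
  constructor
  · rintro ⟨r, hr⟩
    refine ⟨r, ?_⟩
    rw [← Ideal.Quotient.eq]
    exact hr.symm
  · rintro ⟨r, hr⟩
    exact ⟨r, ((Ideal.Quotient.eq).mpr hr).symm⟩

theorem H4_pairSub_henselian (hH : HenselianRing H (J.map (algebraMap R H))) :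
    HenselianRing (H4_pairSub J (H := H))
      (Ideal.comap (H4_pairSub J (H := H)).subtype (J.map (algebraMap R H))) := by
  classical
  set C := H4_pairSub J (H := H) with hC
  set JH := J.map (algebraMap R H) with hJH
  have hJC : ∀ x ∈ JH, x ∈ C := fun x hx =>
    (H4_mem_pairSub J).mpr ⟨0, by simpa using hx⟩
  refine ⟨?_, ?_⟩
  · intro x hx
    rw [Ideal.mem_jacobson_bot]
    intro y
    have hxy : (x : H) * (y : H) ∈ JH := Ideal.mul_mem_right _ _ hx
    have hu := Ideal.mem_jacobson_bot.mp (hH.jac hxy) 1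
    rw [mul_one] at hu
    obtain ⟨u, hu'⟩ := hu.exists_right_inv
    have huC : u ∈ C := by
      refine (H4_mem_pairSub J).mpr ⟨1, ?_⟩
      rw [map_one]
      have h1 : u - 1 = -(((x : H) * (y : H)) * u) := by linear_combination hu'
      rw [h1]
      exact neg_mem (Ideal.mul_mem_right _ _ hxy)
    refine isUnit_iff_exists_inv.mpr ⟨⟨u, huC⟩, ?_⟩
    apply Subtype.ext
    exact hu'
  · intro f hf a₀ h₁ h₂
    let F : H[X] := f.map C.subtype
    have hF : F.Monic := hf.map _
    have hev : ∀ (p : C[X]) (a : C), (p.map C.subtype).eval (a : H) = ((p.eval a : C) : H) :=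
      fun p a => Polynomial.eval_map_apply (f := C.subtype) a
    have h₁' : F.eval (a₀ : H) ∈ JH := by
      rw [hev]; exact h₁
    have h₂' : IsUnit (Ideal.Quotient.mk JH (F.derivative.eval (a₀ : H))) := by
      rw [Polynomial.derivative_map, hev]
      have := h₂.map (Ideal.quotientMap JH C.subtype (le_refl _))
      rwa [Ideal.quotientMap_mk] at this
    obtain ⟨a, ha, haa⟩ := hH.is_henselian F hF a₀ h₁' h₂'
    have haC : a ∈ C := by
      have h1 : a = a₀ + (a - a₀) := by ring
      rw [h1]; exact C.add_mem a₀.2 (hJC _ haa)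
    refine ⟨⟨a, haC⟩, ?_, haa⟩
    show f.eval ⟨a, haC⟩ = 0
    apply Subtype.ext
    rw [← hev]
    exact ha

theorem H4_pairHens_decomp (hH : Hens2.IsPairHenselization R J H) (h : H) :
    ∃ r : R, h - algebraMap R H r ∈ J.map (algebraMap R H) := by
  classical
  set C := H4_pairSub J (H := H) with hC
  have hCh : HenselianRing C (Ideal.comap C.subtype (J.map (algebraMap R H))) :=
    H4_pairSub_henselian J hH.1
  let f : R →+* C := (algebraMap R H).codRestrict C
    (fun r => (H4_mem_pairSub J).mpr ⟨r, by simp⟩)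
  have hf : J.map f ≤ Ideal.comap C.subtype (J.map (algebraMap R H)) := by
    rw [Ideal.map_le_iff_le_comap]
    intro x hx
    show ((f x : C) : H) ∈ J.map (algebraMap R H)
    exact Ideal.mem_map_of_mem _ hx
  obtain ⟨g, hg, -⟩ := hH.2 C _ f hCh hf
  obtain ⟨g₀, -, huniq⟩ := hH.2 H (J.map (algebraMap R H)) (algebraMap R H) hH.1 le_rfl
  have h1 : C.subtype.comp g = g₀ := huniq _ (by
    show (C.subtype.comp g).comp (algebraMap R H) = algebraMap R H
    rw [RingHom.comp_assoc, hg]; rfl)
  have h2 : RingHom.id H = g₀ := huniq _ (by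
    show (RingHom.id H).comp (algebraMap R H) = algebraMap R H
    rw [RingHom.id_comp])
  have h3 : (g h : H) = h := RingHom.congr_fun (h1.trans h2.symm) h
  have h4 := (g h).2
  rw [h3] at h4
  exact (H4_mem_pairSub J).mp h4

end

theorem H4_isUnit_sub_of_mem_maximalIdeal {A : Type*} [CommRing A] [IsLocalRing A] {u m : A}
    (hu : IsUnit u) (hm : m ∈ IsLocalRing.maximalIdeal A) : IsUnit (u - m) := by
  by_contra h
  have h1 : u - m ∈ IsLocalRing.maximalIdeal A := (IsLocalRing.mem_maximalIdeal _).mpr h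
  have h2 := Ideal.add_mem _ h1 hm
  rw [sub_add_cancel] at h2
  exact (IsLocalRing.mem_maximalIdeal _).mp h2 hu

theorem H4_map_mem_maximalIdeal {A B : Type*} [CommRing A] [IsLocalRing A] [CommRing B]
    [IsLocalRing B] (f : A →+* B) [IsLocalHom f] {x : A}
    (hx : x ∈ IsLocalRing.maximalIdeal A) : f x ∈ IsLocalRing.maximalIdeal B := by
  rw [IsLocalRing.mem_maximalIdeal, mem_nonunits_iff] at hx ⊢
  exact fun hu => hx (IsLocalHom.map_nonunit x hu)

theorem H4_strictHens_of_pairHens (R : Type u) [CommRing R] [IsLocalRing R] (J : Ideal R)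
    (hJ : J ≤ IsLocalRing.maximalIdeal R) (H : Type u) [CommRing H] [IsLocalRing H] [Algebra R H]
    [IsLocalHom (algebraMap R H)] (hH : Hens2.IsPairHenselization R J H) (S : Type u)
    [CommRing S] [IsLocalRing S] [Algebra H S] [IsLocalHom (algebraMap H S)]
    [hst : Hensel.IsStrictHenselization H S]
    [Algebra R S] [IsScalarTower R H S] [IsLocalHom (algebraMap R S)] :
    Hensel.IsStrictHenselization R S := by
  classical
  have hdec := H4_pairHens_decomp J hH
  have hJH : J.map (algebraMap R H) ≤ IsLocalRing.maximalIdeal H := by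
    rw [Ideal.map_le_iff_le_comap]
    intro x hx
    exact H4_map_mem_maximalIdeal (algebraMap R H) (hJ hx)
  have hres_surj : Function.Surjective (IsLocalRing.ResidueField.map (algebraMap R H)) := by
    intro y
    obtain ⟨h, rfl⟩ := IsLocalRing.residue_surjective y
    obtain ⟨r, hr⟩ := hdec h
    refine ⟨IsLocalRing.residue R r, ?_⟩
    rw [IsLocalRing.ResidueField.map_residue]
    symm
    rw [← sub_eq_zero, ← map_sub, IsLocalRing.residue_eq_zero_iff]
    exact hJH hr
  haveI hsc := hst.isSepClosure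
  haveI : Algebra.IsSeparable (IsLocalRing.ResidueField R) (IsLocalRing.ResidueField H) := by
    refine ⟨fun x => ?_⟩
    obtain ⟨y, rfl⟩ := hres_surj x
    exact isSeparable_algebraMap y
  haveI : Algebra.IsSeparable (IsLocalRing.ResidueField H) (IsLocalRing.ResidueField S) :=
    hsc.separable
  have hsep : Algebra.IsSeparable (IsLocalRing.ResidueField R) (IsLocalRing.ResidueField S) :=
    Algebra.IsSeparable.trans (IsLocalRing.ResidueField R) (IsLocalRing.ResidueField H)
      (IsLocalRing.ResidueField S)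
  refine ⟨hst.henselian, ⟨hsc.sep_closed, hsep⟩, ?_⟩
  intro T _ _ f _ τ hτ
  have hfJ : ∀ x ∈ J, f x ∈ IsLocalRing.maximalIdeal T := fun x hx =>
    H4_map_mem_maximalIdeal f (hJ hx)
  obtain ⟨fH, hfH, hfH_uniq⟩ := hH.2 T (IsLocalRing.maximalIdeal T) f inferInstance (by
    rw [Ideal.map_le_iff_le_comap]; exact hfJ)
  have hfH' : ∀ r, fH (algebraMap R H r) = f r := fun r => RingHom.congr_fun hfH r
  have hfHJ : (J.map (algebraMap R H)).map fH ≤ IsLocalRing.maximalIdeal T := by
    rw [Ideal.map_map, hfH, Ideal.map_le_iff_le_comap]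
    exact hfJ
  haveI : IsLocalHom fH := by
    constructor
    intro h hu
    obtain ⟨r, hr⟩ := hdec h
    have h1 : fH (h - algebraMap R H r) ∈ IsLocalRing.maximalIdeal T :=
      hfHJ (Ideal.mem_map_of_mem _ hr)
    have h2 : IsUnit (f r) := by
      have h3 : f r = fH h - fH (h - algebraMap R H r) := by
        rw [map_sub, hfH']; ring
      rw [h3]
      exact H4_isUnit_sub_of_mem_maximalIdeal hu h1
    have h3 : IsUnit r := IsLocalHom.map_nonunit r h2
    have h4 : h = algebraMap R H r - (-(h - algebraMap R H r)) := by ring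
    rw [h4]
    exact H4_isUnit_sub_of_mem_maximalIdeal (h3.map _) (neg_mem (hJH hr))
  have hτ' : τ.comp (IsLocalRing.ResidueField.map (algebraMap H S)) =
      IsLocalRing.ResidueField.map fH := by
    refine RingHom.ext fun x => ?_
    obtain ⟨y, rfl⟩ := hres_surj x
    obtain ⟨r, rfl⟩ := IsLocalRing.residue_surjective y
    have h1 := RingHom.congr_fun hτ (IsLocalRing.residue R r)
    simp only [RingHom.comp_apply, IsLocalRing.ResidueField.map_residue] at h1 ⊢
    rw [hfH', ← IsScalarTower.algebraMap_apply]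
    exact h1
  obtain ⟨g, ⟨hg1, hg2⟩, hguniq⟩ := hst.universal T fH τ hτ'
  refine ⟨g, ⟨?_, hg2⟩, ?_⟩
  · rw [IsScalarTower.algebraMap_eq R H S, ← RingHom.comp_assoc, hg1, hfH]
  · rintro g' ⟨hg'1, hg'2⟩
    apply hguniq
    refine ⟨?_, hg'2⟩
    apply hfH_uniq
    show (g'.comp (algebraMap H S)).comp (algebraMap R H) = f
    rw [RingHom.comp_assoc, ← IsScalarTower.algebraMap_eq, hg'1]

end Groth.Agent.H4
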