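import Mathlib

/-! Étale neighbourhoods of a pair `(A, I)` (étale `A`-algebras `A'` with `A/I ≃ A'/IA'`) form a
filtered system. -/

set_option autoImplicit false
universe u
open TensorProduct

namespace Groth.Agent.H4

section

variable {A : Type u} [CommRing A] (I : Ideal A)

/-- `A'` is a neighbourhood of `(A, I)`: there is a retraction to `A/I` and `A' = A + IA'`. -/
theorem H4_nbhd_of_bijective (A' : Type u) [CommRing A'] [Algebra A A']
    (h : Function.Bijective (Ideal.quotientMap (I.map (algebraMap A A')) (algebraMap A A')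
      Ideal.le_comap_map)) :
    (∃ ρ : A' →ₐ[A] A ⧸ I, True) ∧
      ∀ x : A', ∃ a : A, x - algebraMap A A' a ∈ I.map (algebraMap A A') := by
  constructor
  · let q : (A ⧸ I) →ₐ[A] A' ⧸ I.map (algebraMap A A') :=
      Ideal.quotientMapₐ (I.map (algebraMap A A')) (Algebra.ofId A A') Ideal.le_comap_map
    have hq : Function.Bijective q := h
    exact ⟨(AlgEquiv.ofBijective q hq).symm.toAlgHom.comp
      (Ideal.Quotient.mkₐ A (I.map (algebraMap A A'))), trivial⟩
  · intro x
    obtain ⟨y, hy⟩ := h.2 (Ideal.Quotient.mk _ x)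
    obtain ⟨a, rfl⟩ := Ideal.Quotient.mk_surjective y
    refine ⟨a, ?_⟩
    rw [← Ideal.Quotient.eq]
    rw [Ideal.quotientMap_mk] at hy
    exact hy.symm

theorem H4_algHom_kills (A' : Type u) [CommRing A'] [Algebra A A'] (ρ : A' →ₐ[A] A ⧸ I)
    {x : A'} (hx : x ∈ I.map (algebraMap A A')) : ρ x = 0 := by
  have hle : I.map (algebraMap A A') ≤ RingHom.ker (ρ : A' →+* A ⧸ I) := by
    rw [Ideal.map_le_iff_le_comap]
    intro i hi
    show ρ (algebraMap A A' i) = 0
    rw [AlgHom.commutes, Ideal.Quotient.algebraMap_eq, Ideal.Quotient.eq_zero_iff_mem]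
    exact hi
  exact hle hx

theorem H4_bijective_of_nbhd (A' : Type u) [CommRing A'] [Algebra A A'] (ρ : A' →ₐ[A] A ⧸ I)
    (hb : ∀ x : A', ∃ a : A, x - algebraMap A A' a ∈ I.map (algebraMap A A')) :
    Function.Bijective (Ideal.quotientMap (I.map (algebraMap A A')) (algebraMap A A')
      Ideal.le_comap_map) := by
  constructor
  · rw [injective_iff_map_eq_zero]
    intro y hy
    obtain ⟨a, rfl⟩ := Ideal.Quotient.mk_surjective y
    rw [Ideal.quotientMap_mk, Ideal.Quotient.eq_zero_iff_mem] at hy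
    have h1 := H4_algHom_kills I A' ρ hy
    rw [AlgHom.commutes, Ideal.Quotient.algebraMap_eq] at h1
    exact h1
  · intro y
    obtain ⟨x, rfl⟩ := Ideal.Quotient.mk_surjective y
    obtain ⟨a, ha⟩ := hb x
    refine ⟨Ideal.Quotient.mk I a, ?_⟩
    rw [Ideal.quotientMap_mk]
    symm
    rw [Ideal.Quotient.eq]
    exact ha

/-- Two `A`-algebra maps from a neighbourhood to `A/I` agree. -/
theorem H4_algHom_quot_unique (A' : Type u) [CommRing A'] [Algebra A A']
    (hb : ∀ x : A', ∃ a : A, x - algebraMap A A' a ∈ I.map (algebraMap A A'))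
    (φ ψ : A' →ₐ[A] A ⧸ I) : φ = ψ := by
  ext x
  obtain ⟨a, ha⟩ := hb x
  have h1 := H4_algHom_kills I A' φ ha
  have h2 := H4_algHom_kills I A' ψ ha
  rw [map_sub, AlgHom.commutes, sub_eq_zero] at h1 h2
  rw [h1, h2]

theorem H4_nbhd_tensor (A₁ A₂ : Type u) [CommRing A₁] [Algebra A A₁] [CommRing A₂] [Algebra A A₂]
    (hb₁ : ∀ x : A₁, ∃ a : A, x - algebraMap A A₁ a ∈ I.map (algebraMap A A₁))
    (hb₂ : ∀ x : A₂, ∃ a : A, x - algebraMap A A₂ a ∈ I.map (algebraMap A A₂))
    (x : A₁ ⊗[A] A₂) :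
    ∃ a : A, x - algebraMap A (A₁ ⊗[A] A₂) a ∈ I.map (algebraMap A (A₁ ⊗[A] A₂)) := by
  have hL : ∀ y ∈ I.map (algebraMap A A₁), ∀ z : A₂,
      y ⊗ₜ[A] z ∈ I.map (algebraMap A (A₁ ⊗[A] A₂)) := by
    intro y hy z
    have h1 : y ⊗ₜ[A] z = (Algebra.TensorProduct.includeLeft : A₁ →ₐ[A] A₁ ⊗[A] A₂) y *
        ((1 : A₁) ⊗ₜ[A] z) := by
      simp [Algebra.TensorProduct.tmul_mul_tmul]
    rw [h1]
    refine Ideal.mul_mem_right _ _ ?_
    have h2 : Ideal.map ((Algebra.TensorProduct.includeLeft : A₁ →ₐ[A] A₁ ⊗[A] A₂) :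
        A₁ →+* A₁ ⊗[A] A₂) (I.map (algebraMap A A₁)) = I.map (algebraMap A (A₁ ⊗[A] A₂)) := by
      rw [Ideal.map_map, AlgHom.comp_algebraMap]
    rw [← h2]
    exact Ideal.mem_map_of_mem _ hy
  have hR : ∀ (y : A₁), ∀ z ∈ I.map (algebraMap A A₂),
      y ⊗ₜ[A] z ∈ I.map (algebraMap A (A₁ ⊗[A] A₂)) := by
    intro y z hz
    have h1 : y ⊗ₜ[A] z = (Algebra.TensorProduct.includeRight : A₂ →ₐ[A] A₁ ⊗[A] A₂) z *
        (y ⊗ₜ[A] (1 : A₂)) := by
      simp [Algebra.TensorProduct.tmul_mul_tmul]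
    rw [h1]
    refine Ideal.mul_mem_right _ _ ?_
    have h2 : Ideal.map ((Algebra.TensorProduct.includeRight : A₂ →ₐ[A] A₁ ⊗[A] A₂) :
        A₂ →+* A₁ ⊗[A] A₂) (I.map (algebraMap A A₂)) = I.map (algebraMap A (A₁ ⊗[A] A₂)) := by
      rw [Ideal.map_map, AlgHom.comp_algebraMap]
    rw [← h2]
    exact Ideal.mem_map_of_mem _ hz
  induction x using TensorProduct.induction_on with
  | zero => exact ⟨0, by simp⟩
  | add x y hx hy =>
    obtain ⟨a, ha⟩ := hx
    obtain ⟨b, hb⟩ := hy
    refine ⟨a + b, ?_⟩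
    have h1 : x + y - algebraMap A (A₁ ⊗[A] A₂) (a + b) =
        (x - algebraMap A (A₁ ⊗[A] A₂) a) + (y - algebraMap A (A₁ ⊗[A] A₂) b) := by
      rw [map_add]; ring
    rw [h1]
    exact Ideal.add_mem _ ha hb
  | tmul y z =>
    obtain ⟨a, ha⟩ := hb₁ y
    obtain ⟨b, hb⟩ := hb₂ z
    refine ⟨a * b, ?_⟩
    have h1 : y ⊗ₜ[A] z - algebraMap A (A₁ ⊗[A] A₂) (a * b) =
        (y - algebraMap A A₁ a) ⊗ₜ[A] z + (algebraMap A A₁ a) ⊗ₜ[A] (z - algebraMap A A₂ b) := by
      rw [Algebra.TensorProduct.algebraMap_apply, map_mul, TensorProduct.sub_tmul,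
        TensorProduct.tmul_sub]
      have h2 : (algebraMap A A₁ a * algebraMap A A₁ b) ⊗ₜ[A] (1 : A₂) =
          (algebraMap A A₁ a) ⊗ₜ[A] (algebraMap A A₂ b) := by
        rw [Algebra.algebraMap_eq_smul_one b, Algebra.algebraMap_eq_smul_one (A := A₂) b,
          mul_smul_comm, mul_one, TensorProduct.smul_tmul]
      rw [h2]
      abel
    rw [h1]
    exact Ideal.add_mem _ (hL _ ha z) (hR _ _ hb)

theorem H4_nbhd_equalizer (A₁ A₂ : Type u) [CommRing A₁] [Algebra A A₁] [Algebra.Etale A A₁]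
    [CommRing A₂] [Algebra A A₂]
    (hb₁ : ∀ x : A₁, ∃ a : A, x - algebraMap A A₁ a ∈ I.map (algebraMap A A₁))
    (ρ₂ : A₂ →ₐ[A] A ⧸ I)
    (hb₂ : ∀ x : A₂, ∃ a : A, x - algebraMap A A₂ a ∈ I.map (algebraMap A A₂))
    (f g : A₁ →ₐ[A] A₂) :
    ∃ u : A₂, (∃ ρ₃ : Localization.Away u →ₐ[A] A ⧸ I, True) ∧
      (∀ x : Localization.Away u, ∃ a : A,
        x - algebraMap A (Localization.Away u) a ∈
          I.map (algebraMap A (Localization.Away u))) ∧
      (IsScalarTower.toAlgHom A A₂ (Localization.Away u)).comp f =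
        (IsScalarTower.toAlgHom A A₂ (Localization.Away u)).comp g := by
  obtain ⟨t, ht1, ht2⟩ := (Algebra.FormallyUnramified.iff_exists_tensorProduct
    (R := A) (S := A₁)).mp inferInstance
  let P : A₁ ⊗[A] A₁ →ₐ[A] A₂ := Algebra.TensorProduct.productMap f g
  obtain ⟨u, hu⟩ : ∃ u : A₂, u = P t := ⟨_, rfl⟩
  have hfg : ρ₂.comp f = ρ₂.comp g := H4_algHom_quot_unique I A₁ hb₁ _ _
  have hρu : ρ₂ u = 1 := by
    have h1 : ρ₂.comp P = (ρ₂.comp f).comp (Algebra.TensorProduct.lmul' A) := by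
      apply Algebra.TensorProduct.ext'
      intro a b
      have h3 := AlgHom.congr_fun hfg b
      simp only [AlgHom.comp_apply] at h3
      simp only [P, AlgHom.comp_apply, Algebra.TensorProduct.productMap_apply_tmul, map_mul,
        Algebra.TensorProduct.lmul'_apply_tmul, h3]
    have h2 := AlgHom.congr_fun h1 t
    simp only [AlgHom.comp_apply] at h2
    rw [ht2, map_one, map_one, ← hu] at h2
    exact h2
  refine ⟨u, ?_, ?_, ?_⟩
  · refine ⟨IsLocalization.liftAlgHom (M := Submonoid.powers u) (f := ρ₂) ?_, trivial⟩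
    rintro ⟨_, n, rfl⟩
    rw [map_pow, hρu, one_pow]
    exact isUnit_one
  · intro z
    obtain ⟨n, x, hz⟩ := IsLocalization.Away.surj u z
    obtain ⟨a, ha⟩ := hb₂ x
    refine ⟨a, ?_⟩
    have hu1 : u - 1 ∈ I.map (algebraMap A A₂) := by
      obtain ⟨c, hc⟩ := hb₂ u
      have h1 := H4_algHom_kills I A₂ ρ₂ hc
      rw [map_sub, hρu, AlgHom.commutes, Ideal.Quotient.algebraMap_eq, sub_eq_zero] at h1
      have h2 : c - 1 ∈ I := by
        rw [← Ideal.Quotient.eq, ← h1, map_one]
      have h3 : u - 1 = (u - algebraMap A A₂ c) + algebraMap A A₂ (c - 1) := by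
        rw [map_sub, map_one]; ring
      rw [h3]
      exact Ideal.add_mem _ hc (Ideal.mem_map_of_mem _ h2)
    have hmapK : ∀ y ∈ I.map (algebraMap A A₂),
        algebraMap A₂ (Localization.Away u) y ∈ I.map (algebraMap A (Localization.Away u)) := by
      intro y hy
      have h1 : Ideal.map (algebraMap A₂ (Localization.Away u)) (I.map (algebraMap A A₂)) =
          I.map (algebraMap A (Localization.Away u)) := by
        rw [Ideal.map_map, ← IsScalarTower.algebraMap_eq]
      rw [← h1]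
      exact Ideal.mem_map_of_mem _ hy
    have hv : Ideal.Quotient.mk (I.map (algebraMap A (Localization.Away u)))
        (algebraMap A₂ (Localization.Away u) u) = 1 := by
      rw [← map_one (Ideal.Quotient.mk (I.map (algebraMap A (Localization.Away u)))),
        Ideal.Quotient.eq, ← map_one (algebraMap A₂ (Localization.Away u)), ← map_sub]
      exact hmapK _ hu1
    have hx : Ideal.Quotient.mk (I.map (algebraMap A (Localization.Away u)))
        (algebraMap A₂ (Localization.Away u) x) =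
        Ideal.Quotient.mk (I.map (algebraMap A (Localization.Away u)))
          (algebraMap A (Localization.Away u) a) := by
      rw [Ideal.Quotient.eq, IsScalarTower.algebraMap_apply A A₂ (Localization.Away u), ← map_sub]
      exact hmapK _ ha
    rw [← Ideal.Quotient.eq]
    have h4 := congrArg (Ideal.Quotient.mk (I.map (algebraMap A (Localization.Away u)))) hz
    rw [map_mul, map_pow, hv, one_pow, mul_one, hx] at h4
    exact h4
  · ext s
    show algebraMap A₂ (Localization.Away u) (f s) = algebraMap A₂ (Localization.Away u) (g s)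
    have h1 := congrArg P (ht1 s)
    rw [map_mul, map_sub, map_zero, ← hu] at h1
    simp only [P, Algebra.TensorProduct.productMap_apply_tmul, map_one, one_mul, mul_one] at h1
    have hunit : IsUnit (algebraMap A₂ (Localization.Away u) u) :=
      IsLocalization.Away.algebraMap_isUnit u
    have h2 := congrArg (algebraMap A₂ (Localization.Away u)) h1
    rw [map_mul, map_zero, hunit.mul_left_eq_zero, map_sub, sub_eq_zero] at h2
    exact h2.symm

end

end Groth.Agent.H4
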