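import Mathlib

/-! Finite products of local rings and the product of localizations at maximal ideals. -/

set_option autoImplicit false
universe u

namespace Groth.Agent.H4

open MaximalSpectrum

theorem H4_toPiLocalization_pi_surjective {ι : Type u} [Finite ι] (C : ι → Type u)
    [∀ j, CommRing (C j)] [∀ j, IsLocalRing (C j)] :
    Function.Surjective (MaximalSpectrum.toPiLocalization (Π j, C j)) := by
  classical
  intro z
  let n : ι → MaximalSpectrum (Π j, C j) := fun j =>
    ⟨(IsLocalRing.maximalIdeal (C j)).comap (Pi.evalRingHom C j),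
      (IsLocalRing.maximalIdeal.isMaximal (C j)).comap_piEvalRingHom⟩
  have hn : ∀ I : MaximalSpectrum (Π j, C j), ∃ j, I = n j := by
    intro I
    obtain ⟨j, p, hp⟩ := PrimeSpectrum.exists_comap_evalRingHom_eq
      (⟨I.asIdeal, I.isMaximal.isPrime⟩ : PrimeSpectrum (Π j, C j))
    refine ⟨j, ?_⟩
    have h1 : I.asIdeal = p.asIdeal.comap (Pi.evalRingHom C j) :=
      (congrArg PrimeSpectrum.asIdeal hp).symm
    have h2 : I.asIdeal ≤ (n j).asIdeal := by
      rw [h1]
      exact Ideal.comap_mono (IsLocalRing.le_maximalIdeal p.isPrime.ne_top)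
    exact MaximalSpectrum.ext (I.isMaximal.eq_of_le (n j).isMaximal.ne_top h2)
  have hz : ∀ j, ∃ (x : Π j, C j) (s : (n j).asIdeal.primeCompl),
      IsLocalization.mk' (Localization.AtPrime (n j).asIdeal) x s = z (n j) := fun j =>
    IsLocalization.exists_mk'_eq (n j).asIdeal.primeCompl (z (n j))
  choose x s hxs using hz
  have hs : ∀ j, IsUnit ((s j : Π j, C j) j) := by
    intro j
    have h := (s j).2
    exact IsLocalRing.notMem_maximalIdeal.mp h
  let r : Π j, C j := fun j => x j j * ((hs j).unit⁻¹ : (C j)ˣ)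
  refine ⟨r, funext fun I => ?_⟩
  obtain ⟨j, rfl⟩ := hn I
  show algebraMap _ (Localization.AtPrime (n j).asIdeal) r = z (n j)
  rw [← hxs j, IsLocalization.eq_mk'_iff_mul_eq, ← map_mul,
    IsLocalization.eq_iff_exists (n j).asIdeal.primeCompl]
  refine ⟨⟨Pi.single j 1, ?_⟩, ?_⟩
  · show Pi.single j (1 : C j) ∉ (n j).asIdeal
    intro h
    have h' : (Pi.single j (1 : C j) : Π j, C j) j ∈ IsLocalRing.maximalIdeal (C j) := h
    rw [Pi.single_eq_same] at h'
    exact (Ideal.ne_top_iff_one _).mp (IsLocalRing.maximalIdeal.isMaximal _).ne_top h'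
  · funext k
    by_cases hk : k = j
    · subst hk
      simp [r, mul_assoc]
    · simp [Pi.single_eq_of_ne hk]

theorem H4_toPiLocalization_bijective_of_ringEquiv_pi {B : Type u} [CommRing B] {ι : Type u}
    [Finite ι] (C : ι → Type u) [∀ j, CommRing (C j)] [∀ j, IsLocalRing (C j)]
    (σ : B ≃+* (Π j, C j)) : Function.Bijective (MaximalSpectrum.toPiLocalization B) := by
  refine ⟨MaximalSpectrum.toPiLocalization_injective B, ?_⟩
  intro z
  have hnat := MaximalSpectrum.mapPiLocalization_naturality (σ : B →+* (Π j, C j)) σ.bijective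
  have hbij := MaximalSpectrum.mapPiLocalization_bijective (σ : B →+* (Π j, C j)) σ.bijective
  obtain ⟨r', hr'⟩ := H4_toPiLocalization_pi_surjective C
    (MaximalSpectrum.mapPiLocalization (σ : B →+* (Π j, C j)) σ.bijective z)
  refine ⟨σ.symm r', hbij.1 ?_⟩
  have h1 := RingHom.congr_fun hnat (σ.symm r')
  simp only [RingHom.comp_apply] at h1
  rw [← hr']
  have h2 : (σ : B →+* (Π j, C j)) (σ.symm r') = r' := σ.apply_symm_apply r'
  rw [h2] at h1
  exact h1

end Groth.Agent.H4
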