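import Mathlib

set_option autoImplicit false
universe u

open Topology

namespace H4

variable {X : Type u} [TopologicalSpace X]

/-- Every open set is open in the constructible topology (prespectral space). -/
theorem H4_isOpen_constr_of_isOpen [PrespectralSpace X] {U : Set X} (hU : IsOpen U) :
    IsOpen[constructibleTopology X] U := by
  obtain ⟨S, hS, rfl⟩ :=
    (PrespectralSpace.isTopologicalBasis (X := X)).open_eq_sUnion hU
  refine @isOpen_sUnion X (constructibleTopology X) S ?_
  intro s hs
  exact (hS hs).2.isOpen_constructibleTopology_of_isOpen (hS hs).1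

theorem H4_isClosed_constr_of_isClosed [PrespectralSpace X] {Z : Set X} (hZ : IsClosed Z) :
    IsClosed[constructibleTopology X] Z := by
  rw [← @isOpen_compl_iff X Z (constructibleTopology X)]
  exact H4_isOpen_constr_of_isOpen hZ.isOpen_compl

theorem H4_constr_le [PrespectralSpace X] :
    constructibleTopology X ≤ (inferInstance : TopologicalSpace X) :=
  fun _ hU => H4_isOpen_constr_of_isOpen hU

theorem H4_isClosed_constr_of_isCompact_isOpen {U : Set X} (hc : IsCompact U) (ho : IsOpen U) :
    IsClosed[constructibleTopology X] U := by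
  rw [← @isOpen_compl_iff X U (constructibleTopology X)]
  apply IsCompact.isOpen_constructibleTopology_of_isClosed
  · simpa using hc
  · exact ho.isClosed_compl

/-- Compactness of the constructible topology, stated on `X` itself. -/
theorem H4_compactSpace_constr [CompactSpace X] [QuasiSober X] [PrespectralSpace X]
    [QuasiSeparatedSpace X] : @CompactSpace X (constructibleTopology X) :=
  @Function.Surjective.compactSpace (WithConstructibleTopology X) X _ (constructibleTopology X)
    WithTopology.ofTopology (WithTopology.continuous_ofTopology _) inferInstance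
    (WithTopology.ofTopology_surjective _)

/-- Separation of points by compact opens in a T0 prespectral space. -/
theorem H4_exists_compact_open_sep [T0Space X] [PrespectralSpace X] {x y : X} (h : x ≠ y) :
    ∃ U : Set X, IsOpen U ∧ IsCompact U ∧ ((x ∈ U ∧ y ∉ U) ∨ (y ∈ U ∧ x ∉ U)) := by
  obtain ⟨V, hV, hxy⟩ := exists_isOpen_xor_mem h
  rcases hxy with ⟨hx, hy⟩ | ⟨hy, hx⟩
  · obtain ⟨U, ⟨hUo, hUc⟩, hxU, hUV⟩ :=
      (PrespectralSpace.isTopologicalBasis (X := X)).exists_subset_of_mem_open hx hV
    exact ⟨U, hUo, hUc, Or.inl ⟨hxU, fun h => hy (hUV h)⟩⟩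
  · obtain ⟨U, ⟨hUo, hUc⟩, hyU, hUV⟩ :=
      (PrespectralSpace.isTopologicalBasis (X := X)).exists_subset_of_mem_open hy hV
    exact ⟨U, hUo, hUc, Or.inr ⟨hyU, fun h => hx (hUV h)⟩⟩

theorem H4_t2Space_constr [T0Space X] [PrespectralSpace X] :
    @T2Space X (constructibleTopology X) := by
  refine @T2Space.mk X (constructibleTopology X) ?_
  intro x y hxy
  obtain ⟨U, hUo, hUc, h⟩ := H4_exists_compact_open_sep hxy
  have h1 : IsOpen[constructibleTopology X] U := hUc.isOpen_constructibleTopology_of_isOpen hUo
  have h2 : IsOpen[constructibleTopology X] Uᶜ :=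
    (H4_isClosed_constr_of_isCompact_isOpen hUc hUo).isOpen_compl
  rcases h with ⟨hx, hy⟩ | ⟨hy, hx⟩
  · exact ⟨U, Uᶜ, h1, h2, hx, hy, disjoint_compl_right⟩
  · exact ⟨Uᶜ, U, h2, h1, hx, hy, disjoint_compl_left⟩

/-- Sets closed in the constructible topology are compact (in the original topology). -/
theorem H4_isCompact_of_isClosed_constr [SpectralSpace X] {E : Set X}
    (hE : IsClosed[constructibleTopology X] E) : IsCompact E := by
  have h1 : @IsCompact X (constructibleTopology X) E :=
    @IsClosed.isCompact X (constructibleTopology X) E H4_compactSpace_constr hE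
  have hc : @Continuous X X (constructibleTopology X) _ id :=
    continuous_id_of_le H4_constr_le
  have := @IsCompact.image X X (constructibleTopology X) _ E id h1 hc
  simpa using this


theorem H4_continuous_constr_of_isSpectralMap {Y : Type u} [TopologicalSpace Y] {f : X → Y}
    (hf : IsSpectralMap f) :
    @Continuous X Y (constructibleTopology X) (constructibleTopology Y) f := by
  refine continuous_generateFrom_iff.2 ?_
  rintro s (⟨hso, hsc⟩ | ⟨hscl, hsc⟩)
  · exact (hf.isCompact_preimage_of_isOpen hso hsc).isOpen_constructibleTopology_of_isOpen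
      (hso.preimage hf.continuous)
  · refine IsCompact.isOpen_constructibleTopology_of_isClosed ?_ (hscl.preimage hf.continuous)
    rw [← Set.preimage_compl]
    exact hf.isCompact_preimage_of_isOpen hscl.isOpen_compl hsc

theorem H4_isClosed_constr_singleton [T0Space X] [PrespectralSpace X] (x : X) :
    @IsClosed X (constructibleTopology X) {x} :=
  @isClosed_singleton X (constructibleTopology X)
    (@T2Space.t1Space X (constructibleTopology X) H4_t2Space_constr) x

/-- Image of a constructibly closed set under a spectral map of spectral spaces is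
constructibly closed. -/
theorem H4_isClosed_constr_image {Y : Type u} [TopologicalSpace Y] [SpectralSpace X]
    [SpectralSpace Y] {f : X → Y} (hf : IsSpectralMap f) {E : Set X}
    (hE : @IsClosed X (constructibleTopology X) E) :
    @IsClosed Y (constructibleTopology Y) (f '' E) := by
  have h1 : @IsCompact X (constructibleTopology X) E :=
    @IsClosed.isCompact X (constructibleTopology X) E H4_compactSpace_constr hE
  have h2 := @IsCompact.image X Y (constructibleTopology X) (constructibleTopology Y) E f h1
    (H4_continuous_constr_of_isSpectralMap hf)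
  exact @IsCompact.isClosed Y (constructibleTopology Y) H4_t2Space_constr _ h2


/-- A point in the closure of a constructibly closed set is a specialization of a point of it. -/
theorem H4_exists_specializes_of_mem_closure [SpectralSpace X] {E : Set X}
    (hE : @IsClosed X (constructibleTopology X) E) {x : X} (hx : x ∈ closure E) :
    ∃ e ∈ E, e ⤳ x := by
  by_contra hcon
  push Not at hcon
  have h1 : @IsCompact X (constructibleTopology X) E :=
    @IsClosed.isCompact X (constructibleTopology X) E H4_compactSpace_constr hE
  let ι := {U : Set X // IsOpen U ∧ IsCompact U ∧ x ∈ U}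
  have hcov : E ⊆ ⋃ i : ι, (i.1)ᶜ := by
    intro e he
    have := hcon e he
    rw [specializes_iff_forall_open] at this
    push Not at this
    obtain ⟨V, hVo, hxV, heV⟩ := this
    obtain ⟨U, ⟨hUo, hUc⟩, hxU, hUV⟩ :=
      (PrespectralSpace.isTopologicalBasis (X := X)).exists_subset_of_mem_open hxV hVo
    exact Set.mem_iUnion.2 ⟨⟨U, hUo, hUc, hxU⟩, fun h => heV (hUV h)⟩
  obtain ⟨t, ht⟩ := @IsCompact.elim_finite_subcover X (constructibleTopology X) E ι h1
    (fun i => (i.1)ᶜ)
    (fun i => (H4_isClosed_constr_of_isCompact_isOpen i.2.2.1 i.2.1).isOpen_compl) hcov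
  have hV : IsOpen (⋂ i ∈ t, (i : ι).1) := isOpen_biInter_finset fun i _ => i.2.1
  have hxV : x ∈ ⋂ i ∈ t, (i : ι).1 := Set.mem_iInter₂.2 fun i _ => i.2.2.2
  obtain ⟨e, heV, heE⟩ := mem_closure_iff.1 hx _ hV hxV
  obtain ⟨i, hi, hei⟩ := Set.mem_iUnion₂.1 (ht heE)
  exact hei (Set.mem_iInter₂.1 heV i hi)


theorem H4_isClosed_of_isClosed_constr_of_stable [SpectralSpace X] {E : Set X}
    (hE : @IsClosed X (constructibleTopology X) E) (hs : StableUnderSpecialization E) :
    IsClosed E := by
  refine closure_subset_iff_isClosed.1 fun x hx => ?_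
  obtain ⟨e, he, hex⟩ := H4_exists_specializes_of_mem_closure hE hx
  exact hs hex he

theorem H4_isOpen_of_isOpen_constr_of_stable [SpectralSpace X] {E : Set X}
    (hE : @IsOpen X (constructibleTopology X) E) (hs : StableUnderGeneralization E) :
    IsOpen E := by
  rw [← isClosed_compl_iff]
  exact H4_isClosed_of_isClosed_constr_of_stable
    (@IsOpen.isClosed_compl X (constructibleTopology X) E hE) hs.compl


/-- A subset closed in the constructible topology of a spectral space is spectral. -/
theorem H4_spectralSpace_of_isClosed_constr [SpectralSpace X] {E : Set X}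
    (hE : @IsClosed X (constructibleTopology X) E) : SpectralSpace E := by
  let ι := {U : Set X // IsOpen U ∧ IsCompact U}
  let b : ι → Set E := fun U => Subtype.val ⁻¹' U.1
  have hbasis : TopologicalSpace.IsTopologicalBasis (Set.range b) := by
    have := (PrespectralSpace.isTopologicalBasis (X := X)).isInducing
      (Topology.IsInducing.subtypeVal (t := E))
    convert this using 1
    ext s
    constructor
    · rintro ⟨U, rfl⟩
      exact ⟨U.1, U.2, rfl⟩
    · rintro ⟨U, hU, rfl⟩
      exact ⟨⟨U, hU⟩, rfl⟩
  have hcompact : ∀ s : Set X, @IsClosed X (constructibleTopology X) s →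
      IsCompact (Subtype.val ⁻¹' s : Set E) := by
    intro s hs
    rw [Topology.IsEmbedding.subtypeVal.isCompact_iff, Set.image_preimage_eq_inter_range,
      Subtype.range_coe]
    exact H4_isCompact_of_isClosed_constr
      (@IsClosed.inter X s E (constructibleTopology X) hs hE)
  have hcl : ∀ U : ι, @IsClosed X (constructibleTopology X) U.1 :=
    fun U => H4_isClosed_constr_of_isCompact_isOpen U.2.2 U.2.1
  have h1 : CompactSpace E := isCompact_iff_compactSpace.1 (H4_isCompact_of_isClosed_constr hE)
  have h2 : PrespectralSpace E :=
    PrespectralSpace.of_isTopologicalBasis' hbasis fun U => hcompact _ (hcl U)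
  have h3 : QuasiSeparatedSpace E := by
    refine QuasiSeparatedSpace.of_isTopologicalBasis hbasis fun U V => ?_
    have : b U ∩ b V = Subtype.val ⁻¹' (U.1 ∩ V.1) := rfl
    rw [this]
    exact hcompact _ (@IsClosed.inter X _ _ (constructibleTopology X) (hcl U) (hcl V))
  have h4 : QuasiSober E := by
    refine ⟨fun {S} hS hSc => ?_⟩
    have hind : Topology.IsInducing (Subtype.val : E → X) := Topology.IsInducing.subtypeVal
    obtain ⟨C, hC, rfl⟩ := hind.isClosed_iff.1 hSc
    have himg : (Subtype.val '' (Subtype.val ⁻¹' C : Set E)) = C ∩ E := by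
      rw [Set.image_preimage_eq_inter_range, Subtype.range_coe]
    have hirr : IsIrreducible (closure (C ∩ E)) := by
      rw [← himg]
      exact (hS.image _ continuous_subtype_val.continuousOn).closure
    obtain ⟨η, hη⟩ := QuasiSober.sober hirr isClosed_closure
    have hCE : @IsClosed X (constructibleTopology X) (C ∩ E) :=
      @IsClosed.inter X _ _ (constructibleTopology X) (H4_isClosed_constr_of_isClosed hC) hE
    obtain ⟨e, he, heη⟩ := H4_exists_specializes_of_mem_closure hCE hη.mem
    have hηe : η ⤳ e := hη.specializes (subset_closure he)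
    have : e = η := (heη.antisymm hηe).eq
    subst this
    refine ⟨⟨e, he.2⟩, ?_⟩
    rw [isGenericPoint_def, hind.closure_eq_preimage_closure_image, Set.image_singleton]
    change Subtype.val ⁻¹' closure {e} = _
    rw [hη.def]
    ext z
    simp only [Set.mem_preimage]
    constructor
    · intro hz
      have : (z : X) ∈ C := (closure_minimal Set.inter_subset_left hC) hz
      exact this
    · intro hz
      exact subset_closure ⟨hz, z.2⟩
  exact { }


/-- Constructible sets are clopen for the constructible topology (compact space). -/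
theorem H4_isClopen_constr_of_isConstructible [CompactSpace X] {s : Set X}
    (hs : Topology.IsConstructible s) :
    @IsClopen X (constructibleTopology X) s := by
  induction hs using Topology.IsConstructible.empty_union_induction with
  | open_retrocompact U hUo hUr =>
    exact ⟨H4_isClosed_constr_of_isCompact_isOpen hUr.isCompact hUo,
      hUr.isCompact.isOpen_constructibleTopology_of_isOpen hUo⟩
  | union s hs t ht hs' ht' => exact @IsClopen.union X (constructibleTopology X) s t hs' ht'
  | compl s hs hs' => exact @IsClopen.compl X (constructibleTopology X) s hs'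

/-- Every set open in the constructible topology is a union of constructible sets
contained in it. -/
theorem H4_exists_constructible_of_mem_isOpen_constr [CompactSpace X] [QuasiSeparatedSpace X]
    {s : Set X} (hs : @IsOpen X (constructibleTopology X) s) {x : X} (hx : x ∈ s) :
    ∃ t : Set X, Topology.IsConstructible t ∧ x ∈ t ∧ t ⊆ s := by
  induction hs generalizing x with
  | basic u hu =>
    rcases hu with ⟨huo, huc⟩ | ⟨hucl, huc⟩
    · exact ⟨u, huc.isConstructible huo, hx, subset_rfl⟩
    · refine ⟨u, ?_, hx, subset_rfl⟩
      have := (huc.isConstructible hucl.isOpen_compl).compl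
      simpa using this
  | univ => exact ⟨Set.univ, Topology.IsConstructible.univ, trivial, subset_rfl⟩
  | inter u v _ _ ihu ihv =>
    obtain ⟨t1, h1, hx1, hs1⟩ := ihu hx.1
    obtain ⟨t2, h2, hx2, hs2⟩ := ihv hx.2
    exact ⟨t1 ∩ t2, h1.inter h2, ⟨hx1, hx2⟩, Set.inter_subset_inter hs1 hs2⟩
  | sUnion S _ ih =>
    obtain ⟨u, huS, hxu⟩ := hx
    obtain ⟨t, ht, hxt, htu⟩ := ih u huS hxu
    exact ⟨t, ht, hxt, htu.trans (Set.subset_sUnion_of_mem huS)⟩

/-- Clopen sets for the constructible topology of a spectral space are constructible. -/
theorem H4_isConstructible_of_isClopen_constr [SpectralSpace X] {s : Set X}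
    (hs : @IsClopen X (constructibleTopology X) s) : Topology.IsConstructible s := by
  have hc : @IsCompact X (constructibleTopology X) s :=
    @IsClosed.isCompact X (constructibleTopology X) s H4_compactSpace_constr hs.1
  choose! t ht hxt hts using fun x (hx : x ∈ s) =>
    H4_exists_constructible_of_mem_isOpen_constr hs.2 hx
  obtain ⟨F, hF⟩ := @IsCompact.elim_finite_subcover X (constructibleTopology X) s s hc
    (fun x => t x.1) (fun x => (H4_isClopen_constr_of_isConstructible (ht x.1 x.2)).2)
    (fun x hx => Set.mem_iUnion.2 ⟨⟨x, hx⟩, hxt x hx⟩)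
  have : s = ⋃ x ∈ F, t (x : s).1 := by
    apply le_antisymm hF
    intro z hz
    obtain ⟨x, _, hzx⟩ := Set.mem_iUnion₂.1 hz
    exact hts x.1 x.2 hzx
  rw [this]
  exact Topology.IsConstructible.biUnion F.finite_toSet fun x _ => ht x.1 x.2


theorem H4_t2Space_withConstr [T0Space X] [PrespectralSpace X] :
    T2Space (WithConstructibleTopology X) := by
  refine ⟨fun x y hxy => ?_⟩
  have hne : x.ofTopology ≠ y.ofTopology := fun h => hxy (WithTopology.ofTopology_injective _ h)
  obtain ⟨U, V, hU, hV, hx, hy, hd⟩ :=
    (@T2Space.t2 X (constructibleTopology X) H4_t2Space_constr) hne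
  exact ⟨WithTopology.ofTopology ⁻¹' U, WithTopology.ofTopology ⁻¹' V,
    (WithTopology.isOpen_iff _).2 hU, (WithTopology.isOpen_iff _).2 hV, hx, hy,
    hd.preimage _⟩

theorem H4_continuous_ofTopology [PrespectralSpace X] :
    Continuous (WithTopology.ofTopology : WithConstructibleTopology X → X) := by
  refine ⟨fun U hU => ?_⟩
  exact (WithTopology.isOpen_iff _).2 (H4_isOpen_constr_of_isOpen hU)

/-- A spectral map induces a continuous map on constructible topologies
(type synonym version). -/
theorem H4_continuous_withConstr {Y : Type u} [TopologicalSpace Y] {f : X → Y}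
    (hf : IsSpectralMap f) :
    Continuous (fun x : WithConstructibleTopology X =>
      (WithTopology.toTopology (constructibleTopology Y) (f x.ofTopology))) := by
  refine ⟨fun U hU => ?_⟩
  have h1 := @Continuous.isOpen_preimage X Y (constructibleTopology X) (constructibleTopology Y) f
    (H4_continuous_constr_of_isSpectralMap hf) _ ((WithTopology.isOpen_iff _).1 hU)
  exact (WithTopology.isOpen_iff _).2 h1

end H4
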