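import Mathlib
import Groth.Agent.Lib.helper4.Spectral

set_option autoImplicit false
universe u

open Topology

namespace H4

variable {I : Type u}

/-- basic open sets of the Sierpinski power -/
def H4_piB (S : Finset I) : Set (I → Prop) := {p | ∀ i ∈ S, p i}

theorem H4_piB_isOpen (S : Finset I) : IsOpen (H4_piB S) := by
  have : H4_piB S = ⋂ i ∈ S, (fun p : I → Prop => p i) ⁻¹' {True} := by
    ext p; simp [H4_piB]
  rw [this]
  exact isOpen_biInter_finset fun i _ => isOpen_singleton_true.preimage (continuous_apply i)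

theorem H4_isOpen_Prop_of_false {u : Set Prop} (hu : IsOpen u) (h : False ∈ u) : u = Set.univ := by
  have := hu.mem_nhds h
  rw [nhds_false] at this
  exact Filter.mem_top.1 this

theorem H4_piB_basis : TopologicalSpace.IsTopologicalBasis (Set.range (H4_piB (I := I))) := by
  classical
  refine TopologicalSpace.isTopologicalBasis_of_isOpen_of_nhds ?_ ?_
  · rintro _ ⟨S, rfl⟩; exact H4_piB_isOpen S
  · intro p U hp hU
    obtain ⟨F, u, hu, hsub⟩ := isOpen_pi_iff.1 hU p hp
    refine ⟨H4_piB (F.filter fun i => p i), ⟨_, rfl⟩, ?_, ?_⟩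
    · intro i hi; exact (Finset.mem_filter.1 hi).2
    · intro q hq
      apply hsub
      intro i hi
      by_cases hpi : p i
      · have : q i := hq i (Finset.mem_filter.2 ⟨hi, hpi⟩)
        have e : q i = p i := propext ⟨fun _ => hpi, fun _ => this⟩
        rw [e]; exact (hu i hi).2
      · have : p i = False := propext ⟨fun h => hpi h, False.elim⟩
        have h2 := (hu i hi).2
        rw [this] at h2
        rw [H4_isOpen_Prop_of_false (hu i hi).1 h2]
        trivial

theorem H4_piB_isCompact (S : Finset I) : IsCompact (H4_piB S) := by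
  have hc : Continuous (fun (p : I → Prop) (i : I) => p i ∨ i ∈ S) := by
    refine continuous_pi fun i => ?_
    rw [continuous_Prop]
    by_cases hi : i ∈ S
    · convert isOpen_univ using 1
      ext p; simp [hi]
    · have hci : Continuous (fun p : I → Prop => p i) := continuous_apply i
      convert isOpen_singleton_true.preimage hci using 1
      ext p; simp [hi]
  have : H4_piB S = Set.range (fun (p : I → Prop) (i : I) => p i ∨ i ∈ S) := by
    ext q
    constructor
    · intro hq
      refine ⟨q, ?_⟩
      funext i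
      exact propext ⟨fun h => h.elim id (hq i), Or.inl⟩
    · rintro ⟨p, rfl⟩ i hi
      exact Or.inr hi
  rw [this]
  exact isCompact_range hc

theorem H4_piB_inter (S T : Finset I) [DecidableEq I] : H4_piB S ∩ H4_piB T = H4_piB (S ∪ T) := by
  ext p
  simp only [H4_piB, Set.mem_inter_iff, Set.mem_ofPred_eq, Finset.mem_union]
  constructor
  · rintro ⟨h1, h2⟩ i (hi | hi)
    · exact h1 i hi
    · exact h2 i hi
  · intro h
    exact ⟨fun i hi => h i (Or.inl hi), fun i hi => h i (Or.inr hi)⟩

instance H4_spectralSpace_piProp : SpectralSpace (I → Prop) := by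
  classical
  have h2 : PrespectralSpace (I → Prop) :=
    PrespectralSpace.of_isTopologicalBasis' H4_piB_basis H4_piB_isCompact
  have h3 : QuasiSeparatedSpace (I → Prop) := by
    refine QuasiSeparatedSpace.of_isTopologicalBasis H4_piB_basis fun S T => ?_
    rw [H4_piB_inter]
    exact H4_piB_isCompact _
  have h4 : QuasiSober (I → Prop) := by
    refine ⟨fun {Z} hZ hZc => ?_⟩
    let ξ : I → Prop := fun i => ∃ p ∈ Z, p i
    have hξZ : ξ ∈ Z := by
      rw [← hZc.closure_eq, H4_piB_basis.mem_closure_iff]
      rintro _ ⟨S, rfl⟩ hξ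
      have := (isIrreducible_iff_sInter.1 hZ)
        (S.image fun i => (fun p : I → Prop => p i) ⁻¹' {True}) ?_ ?_
      · obtain ⟨p, hpZ, hp⟩ := this
        refine ⟨p, ?_, hpZ⟩
        intro i hi
        have := Set.mem_sInter.1 hp ((fun p : I → Prop => p i) ⁻¹' {True})
          (Finset.mem_coe.2 (Finset.mem_image_of_mem _ hi))
        simpa using this
      · intro u hu
        obtain ⟨i, -, rfl⟩ := Finset.mem_image.1 hu
        exact isOpen_singleton_true.preimage (continuous_apply i)
      · intro u hu
        obtain ⟨i, hi, rfl⟩ := Finset.mem_image.1 hu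
        obtain ⟨p, hpZ, hpi⟩ := hξ i hi
        exact ⟨p, hpZ, by simpa using hpi⟩
    refine ⟨ξ, ?_⟩
    rw [isGenericPoint_def]
    apply le_antisymm
    · exact closure_minimal (Set.singleton_subset_iff.2 hξZ) hZc
    · intro p hp
      rw [H4_piB_basis.mem_closure_iff]
      rintro _ ⟨S, rfl⟩ hpS
      exact ⟨ξ, fun i hi => ⟨p, hp, hpS i hi⟩, rfl⟩
  exact { }

end H4
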