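import Mathlib

set_option autoImplicit false
universe u

namespace Groth.Agent.H4

/-- A finite power of a reflexive module is reflexive. -/
theorem H4_pi_reflexive (R : Type u) [CommRing R] (a : ℕ) (N : Type u) [AddCommGroup N] [Module R N]
    [Module.IsReflexive R N] : Module.IsReflexive R (Fin a → N) := by
  classical
  have hN := Module.bijective_dual_eval R N
  refine ⟨⟨?_, ?_⟩⟩
  · intro x x' hxx'
    funext i
    apply hN.1
    ext φ
    have := LinearMap.congr_fun hxx' (φ.comp (LinearMap.proj i))
    simpa using this
  · intro y
    have hy : ∀ i, ∃ n : N, Module.Dual.eval R N n =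
        y.comp (LinearMap.dualMap (LinearMap.proj i : (Fin a → N) →ₗ[R] N)) := fun i => hN.2 _
    choose n hn using hy
    refine ⟨n, ?_⟩
    ext ψ
    have hψ : ψ = ∑ i, (ψ.comp (LinearMap.single R (fun _ => N) i)).comp (LinearMap.proj i) := by
      apply LinearMap.ext
      intro x
      conv_lhs => rw [← Finset.univ_sum_single x, map_sum]
      simp [LinearMap.sum_apply]
    have h1 : ∀ i, (ψ.comp (LinearMap.single R (fun _ => N) i)) (n i) =
        y ((ψ.comp (LinearMap.single R (fun _ => N) i)).comp (LinearMap.proj i)) := by
      intro i
      have := LinearMap.congr_fun (hn i) (ψ.comp (LinearMap.single R (fun _ => N) i))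
      simp only [Module.Dual.eval_apply, LinearMap.comp_apply] at this
      exact this
    rw [Module.Dual.eval_apply]
    conv_rhs => rw [hψ, map_sum]
    simp only [← h1]
    conv_lhs => rw [hψ]
    simp [LinearMap.sum_apply]

end Groth.Agent.H4
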