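import Mathlib

set_option autoImplicit false

namespace Groth.Agent.H4

open MvPolynomial Algebra

section
variable {A : Type*} [CommRing A] {n : ℕ} (e : Fin n → A)

/-- key: every polynomial is congruent to its value modulo `(X i - C (e i))`. -/
lemma H4_sub_C_aeval_mem (p : MvPolynomial (Fin n) A) :
    p - C (aeval e p) ∈ Ideal.span (Set.range fun i : Fin n => (X i - C (e i) : MvPolynomial (Fin n) A)) := by
  induction p using MvPolynomial.induction_on with
  | C a => simp
  | add p q hp hq =>
    have : p + q - C (aeval e (p + q)) = (p - C (aeval e p)) + (q - C (aeval e q)) := by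
      rw [map_add, C_add]; ring
    rw [this]; exact Ideal.add_mem _ hp hq
  | mul_X p i hp =>
    have : p * X i - C (aeval e (p * X i)) =
        (p - C (aeval e p)) * X i + C (aeval e p) * (X i - C (e i)) := by
      rw [map_mul, aeval_X, C_mul]; ring
    rw [this]
    exact Ideal.add_mem _ (Ideal.mul_mem_right _ _ hp)
      (Ideal.mul_mem_left _ _ (Ideal.subset_span ⟨i, rfl⟩))

/-- generators of `A` over `A` with prescribed values. -/
noncomputable def ptGens : Algebra.Generators A A (Fin n) where
  val := e
  σ' := fun a => C a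
  aeval_val_σ' := fun a => by simp

/-- the presentation `A[y]/(y_i - e_i) = A`. -/
noncomputable def ptPres : Algebra.Presentation A A (Fin n) (Fin n) where
  __ := ptGens e
  relation := fun i => (X i - C (e i) : MvPolynomial (Fin n) A)
  span_range_relation_eq_ker := by
    rw [Generators.ker_eq_ker_aeval_val]
    apply le_antisymm
    · rw [Ideal.span_le]
      rintro _ ⟨i, rfl⟩
      change aeval e (X i - C (e i) : MvPolynomial (Fin n) A) = 0
      simp
    · intro p hp
      have hp' : aeval e p = 0 := hp
      have := H4_sub_C_aeval_mem e p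
      rwa [hp', C_0, sub_zero] at this

/-- as a presubmersive presentation. -/
noncomputable def ptPre : Algebra.PreSubmersivePresentation A A (Fin n) (Fin n) where
  __ := ptPres e
  map := id
  map_inj := Function.injective_id

lemma ptPre_jacobian : (ptPre e).jacobian = 1 := by
  classical
  rw [PreSubmersivePresentation.jacobian_eq_jacobiMatrix_det]
  have : (ptPre e).jacobiMatrix = 1 := by
    apply Matrix.ext
    intro i j
    rw [PreSubmersivePresentation.jacobiMatrix_apply]
    change pderiv i (X j - C (e j) : MvPolynomial (Fin n) A) = _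
    rw [map_sub, pderiv_C, sub_zero, pderiv_X, Matrix.one_apply, Pi.single_apply]
    simp [eq_comm]
  rw [this, Matrix.det_one, map_one]

/-- as a submersive presentation. -/
noncomputable def ptSub : Algebra.SubmersivePresentation A A (Fin n) (Fin n) where
  __ := ptPre e
  jacobian_isUnit := by
    rw [ptPre_jacobian]; exact isUnit_one

lemma ptSub_val (i : Fin n) : (ptSub e).val i = e i := rfl
lemma ptSub_map (i : Fin n) : (ptSub e).map i = i := rfl

end

/-- A standard smooth algebra has a submersive presentation whose differentiated variables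
include a given finite set. -/
theorem H4_exists_submersive_with {R A : Type*} [CommRing R] [CommRing A] [Algebra R A]
    [Algebra.IsStandardSmooth R A] (E : Finset A) :
    ∃ (ι σ : Type) (_ : Finite ι) (_ : Finite σ) (P : Algebra.SubmersivePresentation R A ι σ),
      (↑E : Set A) ⊆ Set.range (P.val ∘ P.map) := by
  classical
  obtain ⟨ι, σ, hσ, hι, ⟨P⟩⟩ := ‹Algebra.IsStandardSmooth R A›.out
  let e : Fin E.card → A := fun i => (E.equivFin.symm i : A)
  refine ⟨Fin E.card ⊕ ι, Fin E.card ⊕ σ, inferInstance, inferInstance, (ptSub e).comp P, ?_⟩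
  intro a ha
  refine ⟨Sum.inl (E.equivFin ⟨a, ha⟩), ?_⟩
  change ((ptSub e).comp P).val (((ptSub e).comp P).map (Sum.inl (E.equivFin ⟨a, ha⟩))) = a
  have h1 : ((ptSub e).comp P).map (Sum.inl (E.equivFin ⟨a, ha⟩)) = Sum.inl (E.equivFin ⟨a, ha⟩) := rfl
  rw [h1]
  have h2 : ((ptSub e).comp P).val (Sum.inl (E.equivFin ⟨a, ha⟩)) = e (E.equivFin ⟨a, ha⟩) := rfl
  rw [h2]
  simp [e]

end Groth.Agent.H4
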