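import Mathlib

/-! Ideals of `A[X]` become principal after inverting nonzero constants (A a domain). -/

set_option autoImplicit false
universe u

open Polynomial

namespace Groth.Agent.H4

attribute [local instance] Polynomial.algebra in
theorem H4_exists_generator_up_to_const (A : Type u) [CommRing A] [IsDomain A] (P : Ideal A[X]) :
    ∃ f0 ∈ P, ∀ f ∈ P, ∃ d : A, d ≠ 0 ∧ ∃ H : A[X], f * C d = f0 * H := by
  classical
  let K := FractionRing A
  have : IsLocalization ((nonZeroDivisors A).map (C : A →+* A[X])) K[X] :=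
    Polynomial.isLocalization (nonZeroDivisors A) K
  have hinj : Function.Injective (algebraMap A[X] K[X]) :=
    Polynomial.map_injective _ (IsFractionRing.injective A K)
  let I : Ideal K[X] := P.map (algebraMap A[X] K[X])
  obtain ⟨g, hg⟩ : ∃ g, I = Ideal.span {g} := ⟨_, (Ideal.span_singleton_generator I).symm⟩
  have hgI : g ∈ I := by rw [hg]; exact Ideal.mem_span_singleton_self g
  obtain ⟨⟨⟨f0, hf0⟩, ⟨m, c0, hc0, rfl⟩⟩, h0⟩ :=
    (IsLocalization.mem_map_algebraMap_iff ((nonZeroDivisors A).map (C : A →+* A[X])) K[X]).1 hgI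
  simp only at h0
  refine ⟨f0, hf0, ?_⟩
  intro f hf
  have hfI : algebraMap A[X] K[X] f ∈ I := Ideal.mem_map_of_mem _ hf
  rw [hg, Ideal.mem_span_singleton] at hfI
  obtain ⟨h, hh⟩ := hfI
  obtain ⟨H, ⟨m', d, hd, rfl⟩, hHd⟩ :=
    IsLocalization.exists_mk'_eq ((nonZeroDivisors A).map (C : A →+* A[X])) h
  have hHd' : h * algebraMap A[X] K[X] (C d) = algebraMap A[X] K[X] H := by
    rw [← hHd]
    exact IsLocalization.mk'_spec _ _ _
  refine ⟨d * c0, mul_ne_zero (nonZeroDivisors.ne_zero hd) (nonZeroDivisors.ne_zero hc0), H, ?_⟩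
  apply hinj
  rw [C_mul, map_mul, map_mul, map_mul, hh, ← h0, ← hHd']
  ring

end Groth.Agent.H4
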