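import Groth.Agent.Lib.helper1.DiffOp2

set_option autoImplicit false
set_option linter.unusedSectionVars false
universe u
open scoped TensorProduct
open Diff16 Groth.Agent.H1

namespace Groth.Agent.H4

section PP
variable (R S : Type u) [CommRing R] [CommRing S] [Algebra R S] (M : Type u)
    [AddCommGroup M] [Module S M] [Module R M] [IsScalarTower R S M] (k : ℕ)

/-- generator of the relations defining the module of principal parts -/
noncomputable def H4_ppGen (b : Fin (k + 1) → S) (t : M) : S ⊗[R] M :=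
  ∑ H : Finset (Fin (k + 1)),
    ((-1 : ℤ) ^ H.card) • ((∏ i ∈ H, b i) ⊗ₜ[R] ((∏ i ∈ Hᶜ, b i) • t))

noncomputable def H4_ppK : Submodule S (S ⊗[R] M) :=
  Submodule.span S {x | ∃ (b : Fin (k + 1) → S) (t : M), x = H4_ppGen R S M k b t}

abbrev H4_PP : Type u := (S ⊗[R] M) ⧸ H4_ppK R S M k

noncomputable def H4_ppD : M →ₗ[R] H4_PP R S M k :=
  ((H4_ppK R S M k).mkQ.restrictScalars R) ∘ₗ (TensorProduct.mk R S M 1)

theorem H4_ppD_apply (m : M) :
    H4_ppD R S M k m = (H4_ppK R S M k).mkQ ((1 : S) ⊗ₜ[R] m) := rfl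

theorem H4_ppD_smul (b : S) (m : M) :
    b • H4_ppD R S M k m = (H4_ppK R S M k).mkQ (b ⊗ₜ[R] m) := by
  rw [H4_ppD_apply, ← map_smul, TensorProduct.smul_tmul', smul_eq_mul, mul_one]

theorem H4_ppD_isDiffOp : IsDiffOpLE R S M (H4_PP R S M k) k (H4_ppD R S M k) := by
  rw [H1_isDiffOpLE_iff_altsum]
  intro b t
  have h1 : ∑ H : Finset (Fin (k + 1)),
      ((-1 : ℤ) ^ H.card) • ((∏ i ∈ H, b i) • H4_ppD R S M k ((∏ i ∈ Hᶜ, b i) • t))
      = (H4_ppK R S M k).mkQ (H4_ppGen R S M k b t) := by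
    unfold H4_ppGen
    rw [map_sum]
    refine Finset.sum_congr rfl fun H _ => ?_
    rw [map_zsmul, H4_ppD_smul]
  rw [h1]
  rw [Submodule.mkQ_apply, Submodule.Quotient.mk_eq_zero]
  exact Submodule.subset_span ⟨b, t, rfl⟩

variable {R S M k}
variable {N : Type u} [AddCommGroup N] [Module S N] [Module R N] [IsScalarTower R S N]

/-- linearization `S ⊗ M → N`, `b ⊗ m ↦ b • D m`, as an `S`-linear map. -/
noncomputable def H4_ppLin (D' : M →ₗ[R] N) : S ⊗[R] M →ₗ[S] N :=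
  TensorProduct.AlgebraTensorModule.lift (LinearMap.toSpanSingleton S (M →ₗ[R] N) D')

theorem H4_ppLin_tmul (D' : M →ₗ[R] N) (b : S) (m : M) :
    H4_ppLin D' (b ⊗ₜ[R] m) = b • D' m := by
  simp [H4_ppLin]

theorem H4_ppLin_gen (D' : M →ₗ[R] N) (b : Fin (k + 1) → S) (t : M) :
    H4_ppLin D' (H4_ppGen R S M k b t) = ∑ H : Finset (Fin (k + 1)),
      ((-1 : ℤ) ^ H.card) • ((∏ i ∈ H, b i) • D' ((∏ i ∈ Hᶜ, b i) • t)) := by
  unfold H4_ppGen
  rw [map_sum]
  refine Finset.sum_congr rfl fun H _ => ?_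
  rw [map_zsmul, H4_ppLin_tmul]

theorem H4_ppK_le_ker (D' : M →ₗ[R] N) (hD' : IsDiffOpLE R S M N k D') :
    H4_ppK R S M k ≤ LinearMap.ker (H4_ppLin D') := by
  unfold H4_ppK
  rw [Submodule.span_le]
  rintro x ⟨b, t, rfl⟩
  rw [SetLike.mem_coe, LinearMap.mem_ker, H4_ppLin_gen]
  exact (H1_isDiffOpLE_iff_altsum k D').1 hD' b t

noncomputable def H4_ppLift (D' : M →ₗ[R] N) (hD' : IsDiffOpLE R S M N k D') :
    H4_PP R S M k →ₗ[S] N :=
  (H4_ppK R S M k).liftQ (H4_ppLin D') (H4_ppK_le_ker D' hD')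

theorem H4_ppLift_comp (D' : M →ₗ[R] N) (hD' : IsDiffOpLE R S M N k D') :
    (H4_ppLift D' hD').restrictScalars R ∘ₗ H4_ppD R S M k = D' := by
  ext m
  simp only [LinearMap.comp_apply, LinearMap.restrictScalars_apply, H4_ppD_apply]
  unfold H4_ppLift
  rw [Submodule.mkQ_apply, Submodule.liftQ_apply, H4_ppLin_tmul, one_smul]

theorem H4_pp_hom_ext (α β : H4_PP R S M k →ₗ[S] N)
    (h : α.restrictScalars R ∘ₗ H4_ppD R S M k = β.restrictScalars R ∘ₗ H4_ppD R S M k) :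
    α = β := by
  apply Submodule.linearMap_qext
  apply TensorProduct.AlgebraTensorModule.ext
  intro b m
  have h1 := LinearMap.congr_fun h m
  simp only [LinearMap.comp_apply, LinearMap.restrictScalars_apply] at h1
  simp only [LinearMap.comp_apply]
  rw [← H4_ppD_smul, map_smul, map_smul, h1]

theorem H4_pp_universal (D' : M →ₗ[R] N) (hD' : IsDiffOpLE R S M N k D') :
    ∃! α : H4_PP R S M k →ₗ[S] N, α.restrictScalars R ∘ₗ H4_ppD R S M k = D' := by
  refine ⟨H4_ppLift D' hD', H4_ppLift_comp D' hD', ?_⟩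
  intro β hβ
  apply H4_pp_hom_ext
  rw [hβ, H4_ppLift_comp]

end PP

end Groth.Agent.H4
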