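import Mathlib
import Groth.Prelude.Def_ProCons
import Groth.Agent.Lib.helper4.Spectral

set_option autoImplicit false
set_option linter.style.haveILetI false
universe u

namespace Groth.Agent.H4

open Topology

variable {X : Type u} [TopologicalSpace X]

/-- `E ∩ W` is closed in the constructible topology of the subspace `W`. -/
def H4_PC (W E : Set X) : Prop :=
  @IsClosed ↥W (constructibleTopology ↥W) (Subtype.val ⁻¹' E)

theorem H4_isLocallyConstructible_compl {s : Set X} (hs : IsLocallyConstructible s) :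
    IsLocallyConstructible sᶜ := by
  intro x
  obtain ⟨U, hxU, hU, hc⟩ := hs x
  refine ⟨U, hxU, hU, ?_⟩
  rw [Set.preimage_compl]
  exact hc.compl

theorem H4_ind_iff_pro_compl (E : Set X) :
    ProCons.IsIndConstructible E ↔ ProCons.IsProConstructible Eᶜ := by
  constructor
  · intro h x
    obtain ⟨U, hU, hxU, S, hS, hE⟩ := h x
    refine ⟨U, hU, hxU, compl '' S, ?_, ?_⟩
    · rintro _ ⟨T, hT, rfl⟩
      exact H4_isLocallyConstructible_compl (hS T hT)
    · rw [Set.preimage_compl, hE, Set.compl_sUnion]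
  · intro h x
    obtain ⟨U, hU, hxU, S, hS, hE⟩ := h x
    refine ⟨U, hU, hxU, compl '' S, ?_, ?_⟩
    · rintro _ ⟨T, hT, rfl⟩
      exact H4_isLocallyConstructible_compl (hS T hT)
    · have : (Subtype.val ⁻¹' E : Set ↥U) = (Subtype.val ⁻¹' Eᶜ)ᶜ := by
        rw [Set.preimage_compl, compl_compl]
      rw [this, hE, Set.compl_sInter]

theorem H4_pro_iff_ind_compl (E : Set X) :
    ProCons.IsProConstructible E ↔ ProCons.IsIndConstructible Eᶜ := by
  rw [H4_ind_iff_pro_compl, compl_compl]

/-- inclusions between spectral open subspaces are spectral maps -/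
theorem H4_isSpectralMap_inclusion {V W : Set X} (hV : IsOpen V) (h : V ⊆ W)
    [CompactSpace ↥V] [QuasiSeparatedSpace ↥W] : IsSpectralMap (Set.inclusion h) := by
  refine ⟨continuous_inclusion h, fun K hKo hKc => ?_⟩
  have hind : IsInducing (Set.inclusion h) := (IsEmbedding.inclusion h).isInducing
  rw [hind.isCompact_iff, Set.image_preimage_eq_inter_range]
  have hRo : IsOpen (Set.range (Set.inclusion h)) := by
    rw [Set.range_inclusion]
    exact hV.preimage continuous_subtype_val
  have hRc : IsCompact (Set.range (Set.inclusion h)) :=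
    isCompact_range (continuous_inclusion h)
  exact QuasiSeparatedSpace.inter_isCompact K _ hKo hKc hRo hRc

/-- Lemma B: local intersection data gives closedness on a spectral open subset. -/
theorem H4_PC_of_local {U W : Set X} (hW : IsOpen W) (hWU : W ⊆ U) [SpectralSpace ↥W]
    {E : Set X} (S : Set (Set ↥U)) (hS : ∀ T ∈ S, IsLocallyConstructible T)
    (hE : (Subtype.val ⁻¹' E : Set ↥U) = ⋂₀ S) : H4_PC W E := by
  have hι : IsOpenEmbedding (Set.inclusion hWU) :=
    IsOpenEmbedding.inclusion hWU (hW.preimage continuous_subtype_val)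
  have hc : ∀ T ∈ S, @IsClopen ↥W (constructibleTopology ↥W) (Set.inclusion hWU ⁻¹' T) :=
    fun T hT => _root_.H4.H4_isClopen_constr_of_isConstructible
      ((hS T hT).preimage_of_isOpenEmbedding hι).isConstructible
  have h2 : (Subtype.val ⁻¹' E : Set ↥W) = ⋂ T ∈ S, Set.inclusion hWU ⁻¹' T := by
    have : (Subtype.val ⁻¹' E : Set ↥W) = Set.inclusion hWU ⁻¹' (Subtype.val ⁻¹' E) := rfl
    rw [this, hE, Set.sInter_eq_biInter, Set.preimage_iInter₂]
  unfold H4_PC
  rw [h2]
  exact @isClosed_biInter ↥W _ (constructibleTopology ↥W) _ _ fun T hT => (hc T hT).1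

/-- Lemma L: local criterion for pro-constructibility. -/
theorem H4_pro_of_PC {E : Set X}
    (h : ∀ x : X, ∃ W : Set X, IsOpen W ∧ x ∈ W ∧ SpectralSpace ↥W ∧ H4_PC W E) :
    ProCons.IsProConstructible E := by
  intro x
  obtain ⟨W, hW, hxW, hsp, hPC⟩ := h x
  haveI := hsp
  refine ⟨W, hW, hxW, {T : Set ↥W | IsConstructible T ∧ (Subtype.val ⁻¹' E : Set ↥W) ⊆ T},
    fun T hT => hT.1.isLocallyConstructible, ?_⟩
  apply Set.Subset.antisymm
  · exact Set.subset_sInter fun T hT => hT.2
  · intro z hz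
    by_contra hzE
    have hopen : @IsOpen ↥W (constructibleTopology ↥W) (Subtype.val ⁻¹' E : Set ↥W)ᶜ :=
      @IsClosed.isOpen_compl ↥W (constructibleTopology ↥W) _ hPC
    obtain ⟨t, ht, hzt, hts⟩ :=
      _root_.H4.H4_exists_constructible_of_mem_isOpen_constr hopen (x := z) hzE
    have hmem : tᶜ ∈ {T : Set ↥W | IsConstructible T ∧ (Subtype.val ⁻¹' E : Set ↥W) ⊆ T} :=
      ⟨ht.compl, fun y hy hyt => hts hyt hy⟩
    exact (Set.mem_sInter.1 hz _ hmem) hzt

/-- Lemma C: restriction to smaller spectral opens. -/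
theorem H4_PC_mono {V W : Set X} (hV : IsOpen V) (h : V ⊆ W) [SpectralSpace ↥V]
    [SpectralSpace ↥W] {E : Set X} (hE : H4_PC W E) : H4_PC V E := by
  have hc := _root_.H4.H4_continuous_constr_of_isSpectralMap (H4_isSpectralMap_inclusion hV h)
  exact @IsClosed.preimage ↥V ↥W (constructibleTopology ↥V) (constructibleTopology ↥W) _ hc _ hE

/-- Lemma D: gluing along a finite cover by spectral opens. -/
theorem H4_PC_of_finite_cover {W : Set X} [SpectralSpace ↥W] {E : Set X} {ι : Type*}
    (s : Finset ι) (V : ι → Set X) (hVo : ∀ i ∈ s, IsOpen (V i)) (hVW : ∀ i ∈ s, V i ⊆ W)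
    (hcov : W ⊆ ⋃ i ∈ s, V i) (hsp : ∀ i ∈ s, SpectralSpace ↥(V i))
    (hPC : ∀ i ∈ s, H4_PC (V i) E) : H4_PC W E := by
  classical
  have key : (Subtype.val ⁻¹' E : Set ↥W) =
      ⋃ i : s, Set.inclusion (hVW i.1 i.2) '' (Subtype.val ⁻¹' E : Set ↥(V i.1)) := by
    ext z
    simp only [Set.mem_preimage, Set.mem_iUnion, Set.mem_image]
    constructor
    · intro hz
      obtain ⟨i, hi, hzi⟩ := Set.mem_iUnion₂.1 (hcov z.2)
      exact ⟨⟨i, hi⟩, ⟨z.1, hzi⟩, hz, rfl⟩
    · rintro ⟨i, y, hy, rfl⟩
      exact hy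
  unfold H4_PC
  rw [key]
  refine @isClosed_iUnion_of_finite ↥W _ (constructibleTopology ↥W) _ _ fun i => ?_
  haveI := hsp i.1 i.2
  exact _root_.H4.H4_isClosed_constr_image
    (H4_isSpectralMap_inclusion (hVo i.1 i.2) (hVW i.1 i.2)) (hPC i.1 i.2)

/-- Main theorem: a pro-constructible set is constructibly closed in every spectral open. -/
theorem H4_PC_of_pro {E : Set X} (hE : ProCons.IsProConstructible E) {W : Set X}
    (hW : IsOpen W) [SpectralSpace ↥W] : H4_PC W E := by
  classical
  have hloc : ∀ w : ↥W, ∃ V : Set X, IsOpen V ∧ V ⊆ W ∧ w.1 ∈ V ∧ SpectralSpace ↥V ∧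
      H4_PC V E := by
    intro w
    obtain ⟨U, hU, hwU, S, hS, hES⟩ := hE w.1
    have hUo : IsOpen (Subtype.val ⁻¹' U : Set ↥W) := hU.preimage continuous_subtype_val
    obtain ⟨K, ⟨hKo, hKc⟩, hwK, hKU⟩ :=
      (PrespectralSpace.isTopologicalBasis (X := ↥W)).exists_subset_of_mem_open
        (show w ∈ (Subtype.val ⁻¹' U : Set ↥W) from hwU) hUo
    have hVo : IsOpen (Subtype.val '' K : Set X) := hW.isOpenMap_subtype_val K hKo
    have hVW : (Subtype.val '' K : Set X) ⊆ W := by
      rintro _ ⟨y, -, rfl⟩; exact y.2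
    have hVU : (Subtype.val '' K : Set X) ⊆ U := by
      rintro _ ⟨y, hy, rfl⟩; exact hKU hy
    haveI : CompactSpace ↥(Subtype.val '' K : Set X) :=
      isCompact_iff_compactSpace.1 (hKc.image continuous_subtype_val)
    haveI : SpectralSpace ↥(Subtype.val '' K : Set X) :=
      (IsOpenEmbedding.inclusion hVW (hVo.preimage continuous_subtype_val)).spectralSpace
    exact ⟨Subtype.val '' K, hVo, hVW, ⟨w, hwK, rfl⟩, inferInstance,
      H4_PC_of_local hVo hVU S hS hES⟩
  choose V hVo hVW hwV hVsp hVPC using hloc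
  have hcompact : IsCompact (Set.univ : Set ↥W) := isCompact_univ
  obtain ⟨t, ht⟩ := hcompact.elim_finite_subcover (fun w : ↥W => (Subtype.val ⁻¹' V w : Set ↥W))
    (fun w => (hVo w).preimage continuous_subtype_val)
    (fun w _ => Set.mem_iUnion.2 ⟨w, hwV w⟩)
  refine H4_PC_of_finite_cover t V (fun i _ => hVo i) (fun i _ => hVW i) ?_ (fun i _ => hVsp i)
    (fun i _ => hVPC i)
  intro x hx
  have := ht (Set.mem_univ (⟨x, hx⟩ : ↥W))
  obtain ⟨i, hi, hxi⟩ := Set.mem_iUnion₂.1 this
  exact Set.mem_iUnion₂.2 ⟨i, hi, hxi⟩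

theorem H4_pro_univ : ProCons.IsProConstructible (Set.univ : Set X) := by
  intro x
  refine ⟨Set.univ, isOpen_univ, trivial, ∅, fun T hT => absurd hT (Set.notMem_empty T), ?_⟩
  simp

/-- compactness: finite subcovers of pro-constructible sets by ind-constructible sets -/
theorem H4_pro_ind_finite_subcover
    (t : Finset (Set X)) (ht : ∀ W ∈ t, IsOpen W ∧ SpectralSpace ↥W)
    (hcov : ∀ x : X, ∃ W ∈ t, x ∈ W)
    (F : Set X) (hF : ProCons.IsProConstructible F) {ι : Type*} (E : ι → Set X)
    (hE : ∀ i, ProCons.IsIndConstructible (E i)) (h : F ⊆ ⋃ i, E i) :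
    ∃ J : Finset ι, F ⊆ ⋃ i ∈ J, E i := by
  classical
  have key : ∀ W ∈ t, ∃ J : Finset ι, F ∩ W ⊆ ⋃ i ∈ J, E i := by
    intro W hW
    obtain ⟨hWo, hWs⟩ := ht W hW
    haveI := hWs
    have hA : @IsClosed ↥W (constructibleTopology ↥W) (Subtype.val ⁻¹' F) :=
      H4_PC_of_pro hF hWo
    have hAc : @IsCompact ↥W (constructibleTopology ↥W) (Subtype.val ⁻¹' F) :=
      @IsClosed.isCompact _ (constructibleTopology ↥W) _ _root_.H4.H4_compactSpace_constr hA
    have hB : ∀ i, @IsOpen ↥W (constructibleTopology ↥W) (Subtype.val ⁻¹' (E i)) := by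
      intro i
      have h1 : H4_PC W (E i)ᶜ := H4_PC_of_pro ((H4_ind_iff_pro_compl _).1 (hE i)) hWo
      have h2 := @IsClosed.isOpen_compl _ (constructibleTopology ↥W) _ h1
      rwa [Set.preimage_compl, compl_compl] at h2
    obtain ⟨J, hJ⟩ := @IsCompact.elim_finite_subcover ↥W (constructibleTopology ↥W) _ ι hAc
      (fun i => Subtype.val ⁻¹' (E i)) hB (by
        intro z hz
        obtain ⟨i, hi⟩ := Set.mem_iUnion.1 (h hz)
        exact Set.mem_iUnion.2 ⟨i, hi⟩)
    refine ⟨J, ?_⟩
    rintro x ⟨hxF, hxW⟩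
    have := hJ (show (⟨x, hxW⟩ : ↥W) ∈ Subtype.val ⁻¹' F from hxF)
    obtain ⟨i, hi, hxi⟩ := Set.mem_iUnion₂.1 this
    exact Set.mem_iUnion₂.2 ⟨i, hi, hxi⟩
  choose! J hJ using key
  refine ⟨t.biUnion J, ?_⟩
  intro x hx
  obtain ⟨W, hW, hxW⟩ := hcov x
  obtain ⟨i, hi, hxi⟩ := Set.mem_iUnion₂.1 (hJ W hW ⟨hx, hxW⟩)
  exact Set.mem_iUnion₂.2 ⟨i, Finset.mem_biUnion.2 ⟨W, hW, hi⟩, hxi⟩

/-- dual form: intersections of pro-constructibles inside an ind-constructible -/
theorem H4_pro_ind_finite_inter
    (t : Finset (Set X)) (ht : ∀ W ∈ t, IsOpen W ∧ SpectralSpace ↥W)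
    (hcov : ∀ x : X, ∃ W ∈ t, x ∈ W)
    (E : Set X) (hE : ProCons.IsIndConstructible E) {ι : Type*} (F : ι → Set X)
    (hF : ∀ i, ProCons.IsProConstructible (F i)) (h : ⋂ i, F i ⊆ E) :
    ∃ J : Finset ι, ⋂ i ∈ J, F i ⊆ E := by
  classical
  let E' : Option ι → Set X := fun o => Option.casesOn o E (fun i => (F i)ᶜ)
  have hE' : ∀ o, ProCons.IsIndConstructible (E' o) := by
    intro o
    cases o with
    | none => exact hE
    | some i =>
      show ProCons.IsIndConstructible (F i)ᶜ
      exact (H4_pro_iff_ind_compl _).1 (hF i)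
  have hcov' : (Set.univ : Set X) ⊆ ⋃ o, E' o := by
    intro x _
    by_cases hx : x ∈ ⋂ i, F i
    · exact Set.mem_iUnion.2 ⟨none, h hx⟩
    · rw [Set.mem_iInter] at hx
      push Not at hx
      obtain ⟨i, hi⟩ := hx
      exact Set.mem_iUnion.2 ⟨some i, hi⟩
  obtain ⟨J', hJ'⟩ := H4_pro_ind_finite_subcover t ht hcov Set.univ H4_pro_univ E' hE' hcov'
  refine ⟨J'.eraseNone, ?_⟩
  intro x hx
  obtain ⟨o, ho, hxo⟩ := Set.mem_iUnion₂.1 (hJ' (Set.mem_univ x))
  cases o with
  | none => exact hxo
  | some i =>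
    exfalso
    have hi : i ∈ J'.eraseNone := Finset.mem_eraseNone.2 ho
    exact hxo (Set.mem_iInter₂.1 hx i hi)

/-- in a spectral space, a point all of whose generizations lie in a constructibly open set is an
interior point of it. -/
theorem H4_mem_interior_of_generizations {W : Type u} [TopologicalSpace W] [SpectralSpace W]
    {O : Set W} (hO : @IsOpen W (constructibleTopology W) O) (x : W)
    (h : ∀ y : W, y ⤳ x → y ∈ O) : x ∈ interior O := by
  have h1 : @IsCompact W (constructibleTopology W) Oᶜ :=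
    @IsClosed.isCompact W (constructibleTopology W) Oᶜ _root_.H4.H4_compactSpace_constr
      (@IsOpen.isClosed_compl W (constructibleTopology W) O hO)
  let ι := {K : Set W // IsOpen K ∧ IsCompact K ∧ x ∈ K}
  have hcov : Oᶜ ⊆ ⋃ i : ι, (i.1)ᶜ := by
    intro y hy
    have hyx : ¬ y ⤳ x := fun hyx => hy (h y hyx)
    rw [specializes_iff_forall_open] at hyx
    push Not at hyx
    obtain ⟨V, hVo, hxV, hyV⟩ := hyx
    obtain ⟨K, ⟨hKo, hKc⟩, hxK, hKV⟩ :=
      (PrespectralSpace.isTopologicalBasis (X := W)).exists_subset_of_mem_open hxV hVo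
    exact Set.mem_iUnion.2 ⟨⟨K, hKo, hKc, hxK⟩, fun hK => hyV (hKV hK)⟩
  obtain ⟨t, ht⟩ := @IsCompact.elim_finite_subcover W (constructibleTopology W) Oᶜ ι h1
    (fun i => (i.1)ᶜ)
    (fun i => (_root_.H4.H4_isClosed_constr_of_isCompact_isOpen i.2.2.1 i.2.1).isOpen_compl) hcov
  have hV : IsOpen (⋂ i ∈ t, (i : ι).1) := isOpen_biInter_finset fun i _ => i.2.1
  have hxV : x ∈ ⋂ i ∈ t, (i : ι).1 := Set.mem_iInter₂.2 fun i _ => i.2.2.2
  refine mem_interior.2 ⟨_, fun y hy => ?_, hV, hxV⟩
  by_contra hyO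
  obtain ⟨i, hi, hyi⟩ := Set.mem_iUnion₂.1 (ht hyO)
  exact hyi (Set.mem_iInter₂.1 hy i hi)

/-- interior points of ind-constructible sets, inside a spectral open -/
theorem H4_ind_mem_interior {E : Set X} (hE : ProCons.IsIndConstructible E) {W : Set X}
    (hW : IsOpen W) [SpectralSpace ↥W] (x : X) (hxW : x ∈ W)
    (h : ∀ x' : X, x' ⤳ x → x' ∈ E) : x ∈ interior E := by
  have h1 : H4_PC W Eᶜ := H4_PC_of_pro ((H4_ind_iff_pro_compl _).1 hE) hW
  have hO : @IsOpen ↥W (constructibleTopology ↥W) (Subtype.val ⁻¹' E) := by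
    have h2 := @IsClosed.isOpen_compl _ (constructibleTopology ↥W) _ h1
    rwa [Set.preimage_compl, compl_compl] at h2
  have h3 : (⟨x, hxW⟩ : ↥W) ∈ interior (Subtype.val ⁻¹' E : Set ↥W) :=
    H4_mem_interior_of_generizations hO ⟨x, hxW⟩ fun y hy =>
      h y.1 ((subtype_specializes_iff y ⟨x, hxW⟩).1 hy)
  refine mem_interior.2 ⟨Subtype.val '' interior (Subtype.val ⁻¹' E : Set ↥W), ?_,
    hW.isOpenMap_subtype_val _ isOpen_interior, ⟨⟨x, hxW⟩, h3, rfl⟩⟩
  rintro _ ⟨y, hy, rfl⟩
  exact (interior_subset hy : y ∈ (Subtype.val ⁻¹' E : Set ↥W))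

/-- a map sending constructible sets to constructible sets is open for the constructible
topologies -/
theorem H4_isOpen_constr_image_of_chevalley {V W : Type u} [TopologicalSpace V]
    [TopologicalSpace W] [SpectralSpace V] [SpectralSpace W] (g : V → W)
    (hg : ∀ C : Set V, IsConstructible C → IsConstructible (g '' C)) {O : Set V}
    (hO : @IsOpen V (constructibleTopology V) O) :
    @IsOpen W (constructibleTopology W) (g '' O) := by
  choose! t ht hzt hts using fun z (hz : z ∈ O) =>
    _root_.H4.H4_exists_constructible_of_mem_isOpen_constr hO hz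
  have key : g '' O = ⋃ z ∈ O, g '' t z := by
    ext w
    simp only [Set.mem_image, Set.mem_iUnion]
    constructor
    · rintro ⟨z, hz, rfl⟩
      exact ⟨z, hz, z, hzt z hz, rfl⟩
    · rintro ⟨z, hz, y, hy, rfl⟩
      exact ⟨y, hts z hz hy, rfl⟩
  rw [key]
  refine @isOpen_biUnion W _ (constructibleTopology W) _ _ fun z hz => ?_
  exact (_root_.H4.H4_isClopen_constr_of_isConstructible (hg _ (ht z hz))).2

theorem H4_PO_of_ind {E : Set X} (hE : ProCons.IsIndConstructible E) {W : Set X}
    (hW : IsOpen W) [SpectralSpace ↥W] :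
    @IsOpen ↥W (constructibleTopology ↥W) (Subtype.val ⁻¹' E) := by
  have h1 : H4_PC W Eᶜ := H4_PC_of_pro ((H4_ind_iff_pro_compl _).1 hE) hW
  have h2 := @IsClosed.isOpen_compl _ (constructibleTopology ↥W) _ h1
  rwa [Set.preimage_compl, compl_compl] at h2

theorem H4_ind_of_PO {E : Set X}
    (h : ∀ x : X, ∃ W : Set X, IsOpen W ∧ x ∈ W ∧ SpectralSpace ↥W ∧
      @IsOpen ↥W (constructibleTopology ↥W) (Subtype.val ⁻¹' E)) :
    ProCons.IsIndConstructible E := by
  rw [H4_ind_iff_pro_compl]
  apply H4_pro_of_PC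
  intro x
  obtain ⟨W, hW, hxW, hsp, hO⟩ := h x
  refine ⟨W, hW, hxW, hsp, ?_⟩
  unfold H4_PC
  rw [Set.preimage_compl]
  exact @IsOpen.isClosed_compl _ (constructibleTopology ↥W) _ hO

/-- points in the closure of a pro-constructible set are specializations of points of the set -/
theorem H4_pro_exists_specializes {E : Set X} (hE : ProCons.IsProConstructible E) {W : Set X}
    (hW : IsOpen W) [SpectralSpace ↥W] {y : X} (hyW : y ∈ W) (hy : y ∈ closure E) :
    ∃ z ∈ E, z ⤳ y := by
  have hPC : H4_PC W E := H4_PC_of_pro hE hW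
  have hy' : (⟨y, hyW⟩ : ↥W) ∈ closure (Subtype.val ⁻¹' E : Set ↥W) := by
    rw [closure_subtype, Subtype.image_preimage_coe]
    rw [mem_closure_iff] at hy ⊢
    intro N hN hyN
    obtain ⟨z, ⟨hzN, hzW⟩, hzE⟩ := hy (N ∩ W) (hN.inter hW) ⟨hyN, hyW⟩
    exact ⟨z, hzN, hzW, hzE⟩
  obtain ⟨e, heE, hey⟩ := _root_.H4.H4_exists_specializes_of_mem_closure hPC hy'
  exact ⟨e.1, heE, (subtype_specializes_iff e ⟨y, hyW⟩).1 hey⟩

/-- every point is a specialization of a point without proper generizations (quasi-sober space) -/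
theorem H4_exists_maximal_generization [QuasiSober X] [T0Space X] (x : X) :
    ∃ ξ : X, ξ ⤳ x ∧ ∀ η : X, η ⤳ ξ → η = ξ := by
  have hirr : IsIrreducible (irreducibleComponent x) := isIrreducible_irreducibleComponent
  have hcl : IsClosed (irreducibleComponent x) := isClosed_irreducibleComponent
  obtain ⟨ξ, hξ⟩ := QuasiSober.sober hirr hcl
  refine ⟨ξ, hξ.specializes mem_irreducibleComponent, fun η hη => ?_⟩
  have h1 : irreducibleComponent x ⊆ closure {η} := by
    rw [← hξ.def]
    exact closure_minimal (Set.singleton_subset_iff.2 (specializes_iff_mem_closure.1 hη))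
      isClosed_closure
  have h2 : closure {η} = irreducibleComponent x :=
    eq_irreducibleComponent isIrreducible_singleton.closure.isPreirreducible h1
  have h3 : IsGenericPoint η (irreducibleComponent x) := h2
  exact h3.eq hξ

/-- singletons are pro-constructible when every point has a spectral open neighbourhood -/
theorem H4_pro_singleton (hX : ∀ x : X, ∃ W : Set X, IsOpen W ∧ x ∈ W ∧ SpectralSpace ↥W)
    (y : X) : ProCons.IsProConstructible ({y} : Set X) := by
  apply H4_pro_of_PC
  intro x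
  obtain ⟨W, hW, hxW, hsp⟩ := hX x
  haveI := hsp
  refine ⟨W, hW, hxW, hsp, ?_⟩
  unfold H4_PC
  by_cases hy : y ∈ W
  · have : (Subtype.val ⁻¹' ({y} : Set X) : Set ↥W) = {⟨y, hy⟩} := by
      ext z
      simp only [Set.mem_preimage, Set.mem_singleton_iff]
      exact ⟨fun h => Subtype.ext h, fun h => congrArg Subtype.val h⟩
    rw [this]
    exact _root_.H4.H4_isClosed_constr_singleton _
  · have : (Subtype.val ⁻¹' ({y} : Set X) : Set ↥W) = ∅ := by
      ext z
      simp only [Set.mem_preimage, Set.mem_singleton_iff, Set.mem_empty_iff_false, iff_false]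
      intro h
      exact hy (h ▸ z.2)
    rw [this]
    exact @isClosed_empty ↥W (constructibleTopology ↥W)

/-- G1: in a quasi-separated space the inclusion of a compact open subspace is spectral -/
theorem H4_isSpectralMap_val [QuasiSeparatedSpace X] {W : Set X} (hWo : IsOpen W)
    (hWc : IsCompact W) : IsSpectralMap (Subtype.val : ↥W → X) := by
  refine ⟨continuous_subtype_val, fun K hKo hKc => ?_⟩
  rw [IsInducing.subtypeVal.isCompact_iff, Subtype.image_preimage_coe]
  exact QuasiSeparatedSpace.inter_isCompact W K hWo hWc hKo hKc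

/-- G2: the inclusion of a compact open subspace is open for the constructible topologies -/
theorem H4_isOpen_constr_image_val [PrespectralSpace X] {W : Set X} (hWo : IsOpen W)
    {O : Set ↥W} (hO : @IsOpen ↥W (constructibleTopology ↥W) O) :
    @IsOpen X (constructibleTopology X) (Subtype.val '' O) := by
  induction hO with
  | basic u hu =>
    rcases hu with ⟨huo, huc⟩ | ⟨hucl, huc⟩
    · exact (huc.image continuous_subtype_val).isOpen_constructibleTopology_of_isOpen
        (hWo.isOpenMap_subtype_val u huo)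
    · have h1 : Subtype.val '' u = W ∩ (Subtype.val '' uᶜ)ᶜ := by
        ext x
        simp only [Set.mem_image, Set.mem_inter_iff, Set.mem_compl_iff, not_exists, not_and]
        constructor
        · rintro ⟨y, hy, rfl⟩
          exact ⟨y.2, fun z hz hzy => hz (Subtype.ext hzy ▸ hy)⟩
        · rintro ⟨hxW, hx⟩
          refine ⟨⟨x, hxW⟩, ?_, rfl⟩
          by_contra hxu
          exact hx ⟨x, hxW⟩ hxu rfl
      rw [h1]
      refine @IsOpen.inter X (constructibleTopology X) _ _
        (_root_.H4.H4_isOpen_constr_of_isOpen hWo) ?_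
      refine IsCompact.isOpen_constructibleTopology_of_isClosed ?_ ?_
      · rw [compl_compl]; exact huc.image continuous_subtype_val
      · exact (hWo.isOpenMap_subtype_val _ hucl.isOpen_compl).isClosed_compl
  | univ =>
    rw [Set.image_univ, Subtype.range_coe]
    exact _root_.H4.H4_isOpen_constr_of_isOpen hWo
  | inter a b _ _ iha ihb =>
    rw [Set.image_inter Subtype.val_injective]
    exact @IsOpen.inter X (constructibleTopology X) _ _ iha ihb
  | sUnion S _ ih =>
    rw [Set.image_sUnion, Set.sUnion_image]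
    exact @isOpen_biUnion X _ (constructibleTopology X) _ _ fun t ht => ih t ht

/-- in a quasi-separated space covered by spectral opens, the open sets of the constructible
topology are the ind-constructible sets -/
theorem H4_isOpen_constr_iff_ind [QuasiSeparatedSpace X] [PrespectralSpace X]
    (hX : ∀ x : X, ∃ W : Set X, IsOpen W ∧ x ∈ W ∧ SpectralSpace ↥W) (E : Set X) :
    @IsOpen X (constructibleTopology X) E ↔ ProCons.IsIndConstructible E := by
  constructor
  · intro hE
    apply H4_ind_of_PO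
    intro x
    obtain ⟨W, hW, hxW, hsp⟩ := hX x
    haveI := hsp
    refine ⟨W, hW, hxW, hsp, ?_⟩
    have hWc : IsCompact W := isCompact_iff_compactSpace.2 inferInstance
    exact @Continuous.isOpen_preimage _ _ (constructibleTopology ↥W) (constructibleTopology X) _
      (_root_.H4.H4_continuous_constr_of_isSpectralMap (H4_isSpectralMap_val hW hWc)) _ hE
  · intro hE
    choose W hW hxW hsp using hX
    have key : E = ⋃ x : X, Subtype.val '' (Subtype.val ⁻¹' E : Set ↥(W x)) := by
      ext y
      simp only [Set.mem_iUnion, Set.mem_image, Set.mem_preimage]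
      constructor
      · intro hy
        exact ⟨y, ⟨y, hxW y⟩, hy, rfl⟩
      · rintro ⟨x, z, hz, rfl⟩
        exact hz
    rw [key]
    refine @isOpen_iUnion X _ (constructibleTopology X) _ fun x => ?_
    haveI := hsp x
    exact H4_isOpen_constr_image_val (hW x) (H4_PO_of_ind hE (hW x))

theorem H4_isClosed_constr_iff_pro [QuasiSeparatedSpace X] [PrespectralSpace X]
    (hX : ∀ x : X, ∃ W : Set X, IsOpen W ∧ x ∈ W ∧ SpectralSpace ↥W) (E : Set X) :
    @IsClosed X (constructibleTopology X) E ↔ ProCons.IsProConstructible E := by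
  rw [H4_pro_iff_ind_compl, ← H4_isOpen_constr_iff_ind hX]
  exact (@isOpen_compl_iff X E (constructibleTopology X)).symm

/-- (b) a spectral open subset is compact for the constructible topology of the ambient space -/
theorem H4_isCompact_constr_of_spectral_open [QuasiSeparatedSpace X] {W : Set X}
    (hW : IsOpen W) [SpectralSpace ↥W] : @IsCompact X (constructibleTopology X) W := by
  have hWc : IsCompact W := isCompact_iff_compactSpace.2 inferInstance
  have h2 : @IsCompact ↥W (constructibleTopology ↥W) Set.univ :=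
    @isCompact_univ ↥W (constructibleTopology ↥W) _root_.H4.H4_compactSpace_constr
  have h3 := @IsCompact.image ↥W X (constructibleTopology ↥W) (constructibleTopology X)
    Set.univ Subtype.val h2
    (_root_.H4.H4_continuous_constr_of_isSpectralMap (H4_isSpectralMap_val hW hWc))
  rwa [Set.image_univ, Subtype.range_coe] at h3

/-- (b') compact opens are compact for the constructible topology -/
theorem H4_isCompact_constr_of_isCompact_isOpen [QuasiSeparatedSpace X]
    (hX : ∀ x : X, ∃ W : Set X, IsOpen W ∧ x ∈ W ∧ SpectralSpace ↥W) {Q : Set X}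
    (hQc : IsCompact Q) (hQo : IsOpen Q) : @IsCompact X (constructibleTopology X) Q := by
  choose W hW hxW hsp using hX
  obtain ⟨t, ht⟩ := hQc.elim_nhds_subcover' (fun x _ => W x)
    (fun x _ => (hW x).mem_nhds (hxW x))
  have h1 : @IsCompact X (constructibleTopology X) (⋃ x ∈ t, W x.1) := by
    refine @Finset.isCompact_biUnion X _ (constructibleTopology X) t _ fun x _ => ?_
    haveI := hsp x.1
    exact H4_isCompact_constr_of_spectral_open (hW x.1)
  exact @IsCompact.of_isClosed_subset X (constructibleTopology X) _ _ h1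
    (_root_.H4.H4_isClosed_constr_of_isCompact_isOpen hQc hQo) ht

/-- sets compact for the constructible topology lie in a compact open set -/
theorem H4_exists_compact_open_superset [PrespectralSpace X]
    (hX : ∀ x : X, ∃ W : Set X, IsOpen W ∧ x ∈ W ∧ SpectralSpace ↥W) {K : Set X}
    (hK : @IsCompact X (constructibleTopology X) K) :
    ∃ Q : Set X, IsCompact Q ∧ IsOpen Q ∧ K ⊆ Q := by
  choose W hW hxW hsp using hX
  obtain ⟨t, ht⟩ := @IsCompact.elim_finite_subcover X (constructibleTopology X) K X hK W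
    (fun x => _root_.H4.H4_isOpen_constr_of_isOpen (hW x))
    (fun x _ => Set.mem_iUnion.2 ⟨x, hxW x⟩)
  refine ⟨⋃ x ∈ t, W x, ?_, isOpen_biUnion fun x _ => hW x, ht⟩
  refine t.isCompact_biUnion fun x _ => ?_
  haveI := hsp x
  exact isCompact_iff_compactSpace.2 inferInstance

theorem H4_weaklyLocallyCompact_constr [QuasiSeparatedSpace X] [PrespectralSpace X]
    (hX : ∀ x : X, ∃ W : Set X, IsOpen W ∧ x ∈ W ∧ SpectralSpace ↥W) :
    @WeaklyLocallyCompactSpace X (constructibleTopology X) := by
  refine @WeaklyLocallyCompactSpace.mk X (constructibleTopology X) fun x => ?_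
  obtain ⟨W, hW, hxW, hsp⟩ := hX x
  haveI := hsp
  exact ⟨W, H4_isCompact_constr_of_spectral_open hW,
    @IsOpen.mem_nhds X (constructibleTopology X) x W (_root_.H4.H4_isOpen_constr_of_isOpen hW) hxW⟩

/-- spectral maps between quasi-separated locally spectral spaces are exactly the maps which are
proper for the constructible topologies -/
theorem H4_isProperMap_constr_iff {Y : Type u} [TopologicalSpace Y]
    [QuasiSeparatedSpace X] [PrespectralSpace X] [T0Space X]
    [QuasiSeparatedSpace Y] [PrespectralSpace Y] [T0Space Y]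
    (hX : ∀ x : X, ∃ W : Set X, IsOpen W ∧ x ∈ W ∧ SpectralSpace ↥W)
    (hY : ∀ y : Y, ∃ W : Set Y, IsOpen W ∧ y ∈ W ∧ SpectralSpace ↥W)
    (f : X → Y) (hf : Continuous f) :
    IsSpectralMap f ↔ @IsProperMap X Y (constructibleTopology X) (constructibleTopology Y) f := by
  have hT2 : @T2Space Y (constructibleTopology Y) := _root_.H4.H4_t2Space_constr
  have hWLC : @WeaklyLocallyCompactSpace Y (constructibleTopology Y) :=
    H4_weaklyLocallyCompact_constr hY
  have hCC : @CompactlyCoherentSpace Y (constructibleTopology Y) :=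
    @CompactlyCoherentSpace.of_weaklyLocallyCompactSpace Y (constructibleTopology Y) hWLC
  rw [@isProperMap_iff_isCompact_preimage X Y (constructibleTopology X) (constructibleTopology Y)
    hT2 hCC f]
  constructor
  · intro hsm
    have hc : @Continuous X Y (constructibleTopology X) (constructibleTopology Y) f :=
      _root_.H4.H4_continuous_constr_of_isSpectralMap hsm
    refine ⟨hc, fun K hK => ?_⟩
    obtain ⟨Q, hQc, hQo, hKQ⟩ := H4_exists_compact_open_superset hY hK
    have h1 : @IsCompact X (constructibleTopology X) (f ⁻¹' Q) :=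
      H4_isCompact_constr_of_isCompact_isOpen hX (hsm.isCompact_preimage_of_isOpen hQo hQc)
        (hQo.preimage hf)
    have h2 : @IsClosed X (constructibleTopology X) (f ⁻¹' K) :=
      @IsClosed.preimage X Y (constructibleTopology X) (constructibleTopology Y) f hc K
        (@IsCompact.isClosed Y (constructibleTopology Y) hT2 K hK)
    exact @IsCompact.of_isClosed_subset X (constructibleTopology X) _ _ h1 h2
      (Set.preimage_mono hKQ)
  · rintro ⟨-, h⟩
    refine ⟨hf, fun Q hQo hQc => ?_⟩
    have h1 : @IsCompact X (constructibleTopology X) (f ⁻¹' Q) :=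
      h (H4_isCompact_constr_of_isCompact_isOpen hY hQc hQo)
    have h2 := @IsCompact.image X X (constructibleTopology X) _ (f ⁻¹' Q) id h1
      (continuous_id_of_le _root_.H4.H4_constr_le)
    simpa using h2

/-- open sets are ind-constructible when every point has a spectral open neighbourhood -/
theorem H4_ind_of_isOpen (hX : ∀ x : X, ∃ W : Set X, IsOpen W ∧ x ∈ W ∧ SpectralSpace ↥W)
    {U : Set X} (hU : IsOpen U) : ProCons.IsIndConstructible U := by
  apply H4_ind_of_PO
  intro x
  obtain ⟨W, hW, hxW, hsp⟩ := hX x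
  haveI := hsp
  exact ⟨W, hW, hxW, hsp,
    _root_.H4.H4_isOpen_constr_of_isOpen (hU.preimage continuous_subtype_val)⟩

end Groth.Agent.H4
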