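import Mathlib
import Groth.Prelude.Def_ProCons
import Groth.Agent.Lib.helper4.ProConsLib

set_option autoImplicit false
set_option linter.style.haveILetI false
universe u

namespace Groth.Agent.H4

open Topology AlgebraicGeometry CategoryTheory

theorem H4_spectral_affineOpen (X : Scheme.{u}) (W : X.Opens) (hW : IsAffineOpen W) :
    SpectralSpace ↥(W : Set X) := by
  haveI : CompactSpace ↥(W : Set X) := isCompact_iff_compactSpace.1 hW.isCompact
  have e : ↥(W : Set X) ≃ₜ PrimeSpectrum Γ(X, W) := Scheme.homeoOfIso hW.isoSpec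
  exact e.isOpenEmbedding.spectralSpace

theorem H4_exists_affine_nhd (X : Scheme.{u}) (U : X.Opens) (x : X) (hx : x ∈ U) :
    ∃ W : X.Opens, IsAffineOpen W ∧ x ∈ W ∧ W ≤ U :=
  TopologicalSpace.Opens.isBasis_iff_nbhd.1 X.isBasis_affineOpens hx

/-- the restriction of a morphism to affine opens, as a map of subtypes -/
def H4_resMap {X Y : Scheme.{u}} (f : X ⟶ Y) (V : X.Opens) (W : Y.Opens) (h : V ≤ f ⁻¹ᵁ W) :
    ↥(V : Set X) → ↥(W : Set Y) := fun x => ⟨f x.1, h x.2⟩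

theorem H4_resMap_eq {X Y : Scheme.{u}} (f : X ⟶ Y) (V : X.Opens) (W : Y.Opens)
    (h : V ≤ f ⁻¹ᵁ W) : H4_resMap f V W h = ⇑(f.resLE W V h) := by
  funext x
  apply Subtype.ext
  have := congrArg (fun g : V.toScheme ⟶ Y => g x) (Scheme.Hom.resLE_comp_ι f h)
  simp only [Scheme.Hom.comp_apply] at this
  exact this.symm

theorem H4_isSpectralMap_resMap {X Y : Scheme.{u}} (f : X ⟶ Y) (V : X.Opens) (W : Y.Opens)
    (hV : IsAffineOpen V) (hW : IsAffineOpen W) (h : V ≤ f ⁻¹ᵁ W) :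
    IsSpectralMap (H4_resMap f V W h) := by
  rw [H4_resMap_eq]
  haveI : IsAffine V.toScheme := hV
  haveI : IsAffine W.toScheme := hW
  haveI : QuasiCompact (f.resLE W V h) := HasAffineProperty.iff_of_isAffine.mpr (by infer_instance)
  exact (f.resLE W V h).isSpectralMap

theorem H4_finite_affine_cover (X : Scheme.{u}) [CompactSpace X] :
    ∃ t : Finset (Set X), (∀ W ∈ t, IsOpen W ∧ SpectralSpace ↥W) ∧ ∀ x : X, ∃ W ∈ t, x ∈ W := by
  classical
  have h : ∀ x : X, ∃ W : X.Opens, IsAffineOpen W ∧ x ∈ W ∧ W ≤ ⊤ :=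
    fun x => H4_exists_affine_nhd X ⊤ x trivial
  choose W hW hxW _ using h
  obtain ⟨s, hs⟩ := isCompact_univ.elim_nhds_subcover (fun x => (W x : Set X))
    (fun x _ => (W x).isOpen.mem_nhds (hxW x))
  refine ⟨s.image (fun x => (W x : Set X)), ?_, ?_⟩
  · intro V hV
    obtain ⟨x, -, rfl⟩ := Finset.mem_image.1 hV
    exact ⟨(W x).isOpen, H4_spectral_affineOpen X (W x) (hW x)⟩
  · intro x
    obtain ⟨y, hy, hxy⟩ := Set.mem_iUnion₂.1 (hs.2 (Set.mem_univ x))
    exact ⟨_, Finset.mem_image.2 ⟨y, hy, rfl⟩, hxy⟩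

end Groth.Agent.H4
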