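import Mathlib
import Groth.Prelude.Def_ProCons
import Groth.Agent.Lib.helper4.ProConsLib
import Groth.Agent.Lib.helper4.ProConsScheme

set_option autoImplicit false
universe u

namespace Groth.Agent.H4

open Topology TopologicalSpace PrimeSpectrum

/-- a subset of a prime spectrum separated from outside points by constructible sets is
the image of the spectrum of a ring (a product of residue fields). -/
theorem H4_exists_ring_range_eq {A : Type u} [CommRing A] (E : Set (PrimeSpectrum A))
    (hE : ∀ P : PrimeSpectrum A, P ∉ E → ∃ C : Set (PrimeSpectrum A),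
      IsConstructible C ∧ E ⊆ C ∧ P ∉ C) :
    ∃ (B : Type u) (_ : CommRing B) (φ : A →+* B), Set.range (PrimeSpectrum.comap φ) = E := by
  classical
  let B := ∀ p : E, p.1.asIdeal.ResidueField
  let φ : A →+* B := Pi.ringHom (fun p => algebraMap A p.1.asIdeal.ResidueField)
  refine ⟨B, inferInstance, φ, ?_⟩
  apply Set.Subset.antisymm
  · rintro _ ⟨q, rfl⟩
    by_contra hP
    obtain ⟨C, hC, hEC, hPC⟩ := hE _ hP
    obtain ⟨S, hS⟩ := exists_constructibleSetData_iff.mpr hC.compl
    have hmem : PrimeSpectrum.comap φ q ∈ S.toSet := by rw [hS]; exact hPC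
    simp only [ConstructibleSetData.toSet, Set.mem_iUnion] at hmem
    obtain ⟨D, hDS, hD⟩ := hmem
    have hDE : ∀ p : E, p.1 ∉ D.toSet := by
      intro p hp
      have : p.1 ∈ S.toSet := by
        simp only [ConstructibleSetData.toSet, Set.mem_iUnion]
        exact ⟨D, hDS, hp⟩
      rw [hS] at this
      exact this (hEC p.2)
    simp only [BasicConstructibleSetData.toSet, Set.mem_diff, mem_zeroLocus,
      Set.singleton_subset_iff, SetLike.mem_coe] at hD hDE
    obtain ⟨hg, hf⟩ := hD
    -- hg : range g ⊆ comap φ q ; hf : f ∉ comap φ q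
    have hgq : ∀ i, φ (D.g i) ∈ q.asIdeal := fun i => hg ⟨i, rfl⟩
    -- the partition-of-unity-like coefficients
    let c : Fin D.n → B := fun i p =>
      if h : ∃ j, algebraMap A p.1.asIdeal.ResidueField (D.g j) ≠ 0 then
        (if i = h.choose then (algebraMap A p.1.asIdeal.ResidueField (D.g i))⁻¹ else 0)
      else 0
    have key : φ D.f = φ D.f * ∑ i, c i * φ (D.g i) := by
      funext p
      have hsumapply : (∑ i, c i * φ (D.g i)) p = ∑ i, c i p * φ (D.g i) p := by
        rw [Finset.sum_apply]; rfl
      show φ D.f p = φ D.f p * (∑ i, c i * φ (D.g i)) p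
      rw [hsumapply]
      by_cases h : ∃ j, algebraMap A p.1.asIdeal.ResidueField (D.g j) ≠ 0
      · have hsum : ∑ i, c i p * φ (D.g i) p = 1 := by
          rw [Finset.sum_eq_single h.choose]
          · simp only [c, dif_pos h, if_true]
            exact inv_mul_cancel₀ h.choose_spec
          · intro b _ hb
            simp only [c, dif_pos h, if_neg hb, zero_mul]
          · intro hn; exact absurd (Finset.mem_univ _) hn
        rw [hsum, mul_one]
      · push Not at h
        have hgp : Set.range D.g ⊆ (p.1.asIdeal : Set A) := by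
          rintro _ ⟨j, rfl⟩
          have := h j
          rwa [Ideal.algebraMap_residueField_eq_zero] at this
        have hfp : D.f ∈ p.1.asIdeal := by
          by_contra hfp
          exact hDE p ⟨hgp, hfp⟩
        have : φ D.f p = 0 := by
          show algebraMap A p.1.asIdeal.ResidueField D.f = 0
          rwa [Ideal.algebraMap_residueField_eq_zero]
        rw [this, zero_mul]
    apply hf
    show φ D.f ∈ q.asIdeal
    rw [key]
    apply Ideal.mul_mem_left
    apply Ideal.sum_mem
    intro i _
    exact Ideal.mul_mem_left _ _ (hgq i)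
  · intro p hp
    let ev : B →+* p.asIdeal.ResidueField := Pi.evalRingHom _ (⟨p, hp⟩ : E)
    refine ⟨PrimeSpectrum.comap ev ⊥, ?_⟩
    ext a
    simp only [PrimeSpectrum.comap_asIdeal, Ideal.mem_comap]
    show ev (φ a) ∈ (⊥ : PrimeSpectrum p.asIdeal.ResidueField).asIdeal ↔ a ∈ p.asIdeal
    have : ev (φ a) = algebraMap A p.asIdeal.ResidueField a := rfl
    rw [this]
    change algebraMap A p.asIdeal.ResidueField a ∈ (⊥ : Ideal _) ↔ _
    rw [Ideal.mem_bot, Ideal.algebraMap_residueField_eq_zero]

end Groth.Agent.H4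

namespace Groth.Agent.H4

open Topology TopologicalSpace PrimeSpectrum CategoryTheory AlgebraicGeometry

/-- the trace of a pro-constructible set on an affine open is the image of an affine scheme -/
theorem H4_exists_affine_range_eq_inter {X : Scheme.{u}} (W : X.Opens) (hW : IsAffineOpen W)
    (E : Set X) (hE : ProCons.IsProConstructible E) :
    ∃ (B : CommRingCat.{u}) (f : Spec B ⟶ X), Set.range f.base = E ∩ (W : Set X) := by
  haveI := H4_spectral_affineOpen X W hW
  have hPC : H4_PC (W : Set X) E := H4_PC_of_pro hE W.isOpen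
  let e : ↥(W : Set X) ≃ₜ PrimeSpectrum Γ(X, W) := Scheme.homeoOfIso hW.isoSpec
  have he : ∀ P', (e.symm P').val = hW.fromSpec.base P' := fun P' => rfl
  let E' : Set (PrimeSpectrum Γ(X, W)) := hW.fromSpec.base ⁻¹' E
  have hE' : ∀ P' : PrimeSpectrum Γ(X, W), P' ∉ E' → ∃ C : Set (PrimeSpectrum Γ(X, W)),
      IsConstructible C ∧ E' ⊆ C ∧ P' ∉ C := by
    intro P' hP'
    have hx : e.symm P' ∈ (Subtype.val ⁻¹' E : Set ↥(W : Set X))ᶜ := by
      intro h
      apply hP'
      show hW.fromSpec.base P' ∈ E
      rw [← he]; exact h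
    have hopen : @IsOpen ↥(W : Set X) (constructibleTopology ↥(W : Set X))
        (Subtype.val ⁻¹' E : Set ↥(W : Set X))ᶜ :=
      @IsClosed.isOpen_compl _ (constructibleTopology ↥(W : Set X)) _ hPC
    obtain ⟨s, hs, hxs, hsub⟩ := _root_.H4.H4_exists_constructible_of_mem_isOpen_constr hopen hx
    refine ⟨e.symm ⁻¹' sᶜ, (hs.compl).preimage_of_isOpenEmbedding e.symm.isOpenEmbedding, ?_, ?_⟩
    · intro Q hQ hQs
      have := hsub hQs
      apply this
      show (e.symm Q).val ∈ E
      rw [he]; exact hQ
    · intro h; exact h hxs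
  obtain ⟨B, _, φ, hφ⟩ := H4_exists_ring_range_eq E' hE'
  refine ⟨CommRingCat.of B, Spec.map (CommRingCat.ofHom φ) ≫ hW.fromSpec, ?_⟩
  have h1 : Set.range (Spec.map (CommRingCat.ofHom φ) ≫ hW.fromSpec).base =
      hW.fromSpec.base '' Set.range (PrimeSpectrum.comap φ) := by
    rw [← Set.range_comp]; rfl
  have h2 : hW.fromSpec.base '' Set.range (PrimeSpectrum.comap φ) = hW.fromSpec.base '' E' :=
    congrArg (fun S => hW.fromSpec.base '' S) hφ
  have h3 : hW.fromSpec.base '' (hW.fromSpec.base ⁻¹' E) = E ∩ (W : Set X) := by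
    rw [Set.image_preimage_eq_inter_range, hW.range_fromSpec]
  exact h1.trans (h2.trans h3)

end Groth.Agent.H4
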