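import Mathlib
set_option autoImplicit false
universe u
open CategoryTheory AlgebraicGeometry

namespace Groth.Agent.H4

/-- Prime avoidance in Spec: finitely many points in an open lie in a basic open inside the open. -/
theorem H4_exists_basicOpen_of_finite {R : Type u} [CommRing R] (V : Set (PrimeSpectrum R))
    (hV : IsOpen V) (F : Set (PrimeSpectrum R)) (hF : F.Finite) (hFV : F ⊆ V) :
    ∃ f : R, (PrimeSpectrum.basicOpen f : Set (PrimeSpectrum R)) ⊆ V ∧
      F ⊆ PrimeSpectrum.basicOpen f := by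
  classical
  obtain ⟨I, hI⟩ := (PrimeSpectrum.isClosed_iff_zeroLocus_ideal _).mp hV.isClosed_compl
  rcases F.eq_empty_or_nonempty with rfl | ⟨x₀, hx₀⟩
  · exact ⟨0, by simp, by simp⟩
  have hnot : ¬ ((I : Set R) ⊆ ⋃ p ∈ (hF.toFinset : Set (PrimeSpectrum R)),
      (p.asIdeal : Set R)) := by
    rw [Ideal.subset_union_prime (f := fun p : PrimeSpectrum R => p.asIdeal) x₀ x₀
      (fun p _ _ _ => p.2)]
    rintro ⟨p, hp, hIp⟩
    have hpV : p ∈ V := hFV (hF.mem_toFinset.mp hp)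
    have : p ∈ Vᶜ := by rw [hI]; exact (PrimeSpectrum.mem_zeroLocus _ _).mpr hIp
    exact this hpV
  obtain ⟨f, hfI, hf⟩ := Set.not_subset.mp hnot
  refine ⟨f, fun p hp => ?_, fun p hp => ?_⟩
  · by_contra hpV
    have : p ∈ PrimeSpectrum.zeroLocus (I : Set R) := by rw [← hI]; exact hpV
    exact hp (this hfI)
  · intro hfp
    apply hf
    simp only [Set.mem_iUnion]
    exact ⟨p, by simpa using hp, hfp⟩

theorem H4_exists_affineOpen_of_finite_of_isImmersion_into_affine
    {X Y : Scheme.{u}} [IsAffine Y] (ι : X ⟶ Y) [IsImmersion ι] (E : Set X) (hE : E.Finite) :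
    ∃ U : X.Opens, IsAffineOpen U ∧ E ⊆ U := by
  have hV : IsOpen (Y.toSpecΓ '' (ι.coborderRange : Set Y)) :=
    Y.toSpecΓ.isOpenEmbedding.isOpenMap _ ι.coborderRange.2
  obtain ⟨f, hfV, hEf⟩ := H4_exists_basicOpen_of_finite _ hV
    ((fun x => Y.toSpecΓ (ι x)) '' E) (hE.image _) (by
      rintro _ ⟨x, hx, rfl⟩
      exact ⟨ι x, subset_coborder ⟨x, rfl⟩, rfl⟩)
  have hD : IsAffineOpen (Y.basicOpen f) := (isAffineOpen_top Y).basicOpen f
  have hDV : (Y.basicOpen f : Set Y) ⊆ coborder (Set.range ι) := by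
    intro y hy
    rw [← Y.toSpecΓ_preimage_basicOpen] at hy
    obtain ⟨y', hy', hyy⟩ := hfV hy
    have := Y.toSpecΓ.isOpenEmbedding.injective hyy
    exact this ▸ hy'
  have hcl : IsClosedImmersion (ι ∣_ Y.basicOpen f) := by
    refine .of_isPreimmersion _ ?_
    have hr : Set.range (ι ∣_ Y.basicOpen f) =
        (Subtype.val ⁻¹' Set.range ι : Set (Y.basicOpen f)) := by
      ext y
      constructor
      · rintro ⟨x, rfl⟩
        exact ⟨x.1, (morphismRestrict_base_coe ι _ x).symm⟩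
      · rintro ⟨x, hx⟩
        refine ⟨⟨x, ?_⟩, Subtype.ext ?_⟩
        · show ι x ∈ Y.basicOpen f
          rw [hx]; exact y.2
        · exact (morphismRestrict_base_coe ι _ _).trans hx
    rw [hr]
    exact (isClosed_preimage_val_coborder (s := Set.range ι)).preimage (continuous_inclusion hDV)
  have h1 : IsAffine (Y.basicOpen f) := hD
  have h2 : IsAffine (ι ⁻¹ᵁ Y.basicOpen f) := isAffine_of_isAffineHom (ι ∣_ Y.basicOpen f)
  refine ⟨ι ⁻¹ᵁ Y.basicOpen f, h2, fun x hx => ?_⟩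
  show ι x ∈ Y.basicOpen f
  rw [← Y.toSpecΓ_preimage_basicOpen]
  exact hEf ⟨x, hx, rfl⟩

end Groth.Agent.H4
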