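import Mathlib
set_option autoImplicit false
universe u
open CategoryTheory AlgebraicGeometry TopologicalSpace

namespace Groth.Agent.H4

theorem H4_finite_setOf_quasiFiniteAt_over_point {X S : Scheme.{u}} (f : X ⟶ S)
    [LocallyOfFiniteType f] [QuasiCompact f] (s : S) :
    {x : ↑X | f.base x = s ∧ f.QuasiFiniteAt x}.Finite := by
  haveI : IsLocallyNoetherian (f.fiber s) := by
    delta Scheme.Hom.fiber; infer_instance
  haveI : IsNoetherian (f.fiber s) := {}
  have hE : {a : f.fiber s | IsOpen ({a} : Set (f.fiber s))}.Finite := by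
    have hc : IsCompact {a : f.fiber s | IsOpen ({a} : Set (f.fiber s))} :=
      NoetherianSpace.isCompact _
    obtain ⟨t, ht⟩ := hc.elim_finite_subcover
      (fun a : {a : f.fiber s // IsOpen ({a} : Set (f.fiber s))} => ({a.1} : Set (f.fiber s)))
      (fun a => a.2) (fun a ha => Set.mem_iUnion.mpr ⟨⟨a, ha⟩, rfl⟩)
    refine (t.finite_toSet.image Subtype.val).subset ?_
    intro a ha
    obtain ⟨b, hb⟩ := Set.mem_iUnion.mp (ht ha)
    obtain ⟨hbt, hab⟩ := Set.mem_iUnion.mp hb
    exact ⟨b, hbt, (Set.mem_singleton_iff.mp hab).symm⟩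
  refine (hE.image (f.fiberι s)).subset ?_
  rintro x ⟨hx1, hx2⟩
  subst hx1
  exact ⟨f.asFiber x, Scheme.Hom.quasiFiniteAt_iff_isOpen_singleton_asFiber.mp hx2,
    f.fiberι_asFiber x⟩

end Groth.Agent.H4
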