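import Mathlib
set_option autoImplicit false
universe u
open CategoryTheory AlgebraicGeometry TopologicalSpace

namespace Groth.Agent.H4

theorem H4_isOpen_singleton_of_isClosed_of_no_generization (F : Scheme.{u})
    [IsLocallyNoetherian F] (a : F) (hcl : IsClosed ({a} : Set F))
    (hgen : ∀ x' : F, x' ⤳ a → x' = a) : IsOpen ({a} : Set F) := by
  obtain ⟨W, hW, haW⟩ : ∃ W : F.Opens, IsAffineOpen W ∧ a ∈ W := by
    obtain ⟨_, ⟨W, hW, rfl⟩, haW, -⟩ :=
      F.isBasis_affineOpens.exists_subset_of_mem_open (Set.mem_univ a) isOpen_univ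
    exact ⟨W, hW, haW⟩
  haveI : IsNoetherianRing Γ(F, W) := IsLocallyNoetherian.component_noetherian ⟨W, hW⟩
  haveI : NoetherianSpace (W : Scheme.{u}) := noetherianSpace_of_isAffineOpen W hW
  obtain ⟨a', ha'⟩ : ∃ a' : (W : Scheme.{u}), W.ι a' = a := by
    have : a ∈ Set.range W.ι := by rw [Scheme.Opens.range_ι]; exact haW
    exact this
  have hinj : Function.Injective W.ι := W.ι.isOpenEmbedding.injective
  let T : Set (W : Scheme.{u}) :=
    ⋃ Z ∈ (irreducibleComponents (W : Scheme.{u}) \ {{a'}}), Z
  have hTcl : IsClosed T :=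
    (NoetherianSpace.finite_irreducibleComponents.subset Set.sdiff_subset).isClosed_biUnion
      (fun Z hZ => isClosed_of_mem_irreducibleComponents Z hZ.1)
  have hclW : IsClosed ({a'} : Set (W : Scheme.{u})) := by
    have := hcl.preimage W.ι.continuous
    convert this using 1
    ext w
    simp only [Set.mem_singleton_iff, Set.mem_preimage]
    constructor
    · rintro rfl; exact ha'
    · intro h; exact hinj (h.trans ha'.symm)
  have haT : a' ∉ T := by
    intro h
    obtain ⟨Z, hZ, haZ⟩ := Set.mem_iUnion₂.mp h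
    have hZirr : IsIrreducible Z := hZ.1.1
    have hZcl : IsClosed Z := isClosed_of_mem_irreducibleComponents Z hZ.1
    have hz : closure {hZirr.genericPoint} = Z := hZirr.closure_genericPoint hZcl
    have hza : hZirr.genericPoint ⤳ a' := by
      rw [specializes_iff_mem_closure, hz]; exact haZ
    have hza' : W.ι hZirr.genericPoint ⤳ a := ha' ▸ hza.map W.ι.continuous
    have hzeq : hZirr.genericPoint = a' := hinj ((hgen _ hza').trans ha'.symm)
    apply hZ.2
    rw [Set.mem_singleton_iff, ← hz, hzeq, hclW.closure_eq]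
  have hTc : Tᶜ = {a'} := by
    ext w
    constructor
    · intro hw
      by_contra hne
      apply hw
      refine Set.mem_iUnion₂.mpr ⟨irreducibleComponent w,
        ⟨irreducibleComponent_mem_irreducibleComponents w, ?_⟩, mem_irreducibleComponent⟩
      intro h
      have hw' : w ∈ irreducibleComponent w := mem_irreducibleComponent
      rw [Set.mem_singleton_iff.mp h] at hw'
      exact hne hw'
    · intro hw
      rw [Set.mem_singleton_iff.mp hw]
      exact haT
  have hopenW : IsOpen ({a'} : Set (W : Scheme.{u})) := hTc ▸ hTcl.isOpen_compl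
  have := W.ι.isOpenEmbedding.isOpenMap _ hopenW
  rwa [Set.image_singleton, ha'] at this

theorem H4_quasiFiniteAt_iff_isClosed_and_no_generization {X S : Scheme.{u}} (f : X ⟶ S)
    [LocallyOfFiniteType f] (x : X) :
    f.QuasiFiniteAt x ↔
      (IsClosed ({f.asFiber x} : Set ↑(f.fiber (f.base x))) ∧
        ∀ x' : ↑(f.fiber (f.base x)), x' ⤳ f.asFiber x → x' = f.asFiber x) := by
  constructor
  · intro h
    have hco := h.isClopen_singleton_asFiber
    refine ⟨hco.1, fun x' hx' => ?_⟩
    exact hx'.mem_open hco.2 rfl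
  · rintro ⟨hcl, hgen⟩
    rw [Scheme.Hom.quasiFiniteAt_iff_isOpen_singleton_asFiber]
    haveI : IsLocallyNoetherian (f.fiber (f.base x)) := by
      delta Scheme.Hom.fiber; infer_instance
    exact H4_isOpen_singleton_of_isClosed_of_no_generization _ _ hcl hgen

end Groth.Agent.H4
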