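import Mathlib

set_option autoImplicit false
universe u
open AlgebraicGeometry CategoryTheory CategoryTheory.Limits Topology TopologicalSpace

namespace Groth.Agent.H4

theorem H4_exists_specializes_affine {X S : Scheme.{u}} (f : X ⟶ S) {V : S.Opens}
    (hV : IsAffineOpen V) {W : X.Opens} (hW : IsAffineOpen W) (e : W ≤ f ⁻¹ᵁ V) (s : S)
    (hsV : s ∈ V) (hs : s ∈ closure (f.base '' (W : Set X))) : ∃ x : X, f.base x ⤳ s := by
  let φ := (f.appLE V W e).hom
  let p := hV.primeIdealOf ⟨s, hsV⟩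
  have hp : hV.fromSpec.base p = s := hV.fromSpec_primeIdealOf ⟨s, hsV⟩
  have hcomm : Spec.map (f.appLE V W e) ≫ hV.fromSpec = hW.fromSpec ≫ f :=
    IsAffineOpen.SpecMap_appLE_fromSpec f hV hW e
  have himg : f.base '' (W : Set X) = hV.fromSpec.base '' (Set.range (PrimeSpectrum.comap φ)) := by
    have h1 : (W : Set X) = Set.range hW.fromSpec.base := hW.range_fromSpec.symm
    rw [h1, ← Set.range_comp]
    have h2 : f.base ∘ hW.fromSpec.base = (hW.fromSpec ≫ f).base := rfl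
    rw [h2, ← hcomm]
    show Set.range (hV.fromSpec.base ∘ (Spec.map (f.appLE V W e)).base) = _
    rw [Set.range_comp]
    rfl
  have hpcl : p ∈ closure (Set.range (PrimeSpectrum.comap φ)) := by
    have hind : IsInducing hV.fromSpec.base := hV.fromSpec.isOpenEmbedding.isInducing
    have hcl := hind.closure_eq_preimage_closure_image (Set.range (PrimeSpectrum.comap φ))
    have hmem : p ∈ hV.fromSpec.base ⁻¹'
        closure (hV.fromSpec.base '' Set.range (PrimeSpectrum.comap φ)) := by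
      show hV.fromSpec.base p ∈
        closure (hV.fromSpec.base '' Set.range (PrimeSpectrum.comap φ))
      rw [hp, ← himg]
      exact hs
    exact (Set.ext_iff.mp hcl p).mpr hmem
  rw [PrimeSpectrum.closure_range_comap, PrimeSpectrum.mem_zeroLocus] at hpcl
  have hle : RingHom.ker φ ≤ p.asIdeal := hpcl
  obtain ⟨q, hq, hqp⟩ := Ideal.exists_minimalPrimes_le hle
  obtain ⟨Q, hQprime, -, hQq⟩ := Ideal.exists_comap_eq_of_mem_minimalPrimes (I := ⊥) φ q
    (by rwa [← RingHom.ker_eq_comap_bot])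
  haveI := hQprime
  haveI : q.IsPrime := hq.1.1
  refine ⟨hW.fromSpec.base ⟨Q, hQprime⟩, ?_⟩
  have h3 : f.base (hW.fromSpec.base ⟨Q, hQprime⟩) = hV.fromSpec.base ⟨q, inferInstance⟩ := by
    have := congrArg (fun m : Spec Γ(X, W) ⟶ S => m.base ⟨Q, hQprime⟩) hcomm
    have h4 : (Spec.map (f.appLE V W e)).base ⟨Q, hQprime⟩ = ⟨q, inferInstance⟩ :=
      PrimeSpectrum.ext hQq
    change hV.fromSpec.base ((Spec.map (f.appLE V W e)).base ⟨Q, hQprime⟩) =
      f.base (hW.fromSpec.base ⟨Q, hQprime⟩) at this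
    rw [← this, h4]
  rw [h3, ← hp]
  have hsp : (⟨q, inferInstance⟩ : PrimeSpectrum Γ(S, V)) ⤳ p :=
    (PrimeSpectrum.le_iff_specializes _ _).mp hqp
  exact hsp.map hV.fromSpec.continuous

theorem H4_exists_specializes_of_mem_closure_range {X S : Scheme.{u}} (f : X ⟶ S)
    [QuasiCompact f] (s : S) (hs : s ∈ closure (Set.range f.base)) : ∃ x : X, f.base x ⤳ s := by
  obtain ⟨V, hV, hsV, -⟩ := exists_isAffineOpen_mem_and_subset (X := S) (x := s) (U := ⊤) trivial
  have hcpt : IsCompact ((f ⁻¹ᵁ V : X.Opens) : Set X) := f.isCompact_preimage hV.isCompact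
  obtain ⟨𝒲, h𝒲fin, h𝒲⟩ := isCompact_and_isOpen_iff_finite_and_eq_biUnion_affineOpens.mp
    ⟨hcpt, (f ⁻¹ᵁ V).2⟩
  have h1 : s ∈ closure (Set.range f.base ∩ V) := by
    rw [mem_closure_iff]
    intro O hO hsO
    obtain ⟨y, hyOV, hy⟩ := mem_closure_iff.mp hs (O ∩ V) (hO.inter V.2) ⟨hsO, hsV⟩
    exact ⟨y, hyOV.1, hy, hyOV.2⟩
  have h2 : Set.range f.base ∩ V = ⋃ W ∈ 𝒲, f.base '' ((W : X.affineOpens).1 : Set X) := by
    ext y; constructor
    · rintro ⟨⟨x, rfl⟩, hxV⟩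
      have hx : x ∈ ((f ⁻¹ᵁ V : X.Opens) : Set X) := hxV
      rw [h𝒲] at hx
      obtain ⟨W, hW𝒲, hxW⟩ := Set.mem_iUnion₂.mp hx
      exact Set.mem_iUnion₂.mpr ⟨W, hW𝒲, x, hxW, rfl⟩
    · intro hy
      obtain ⟨W, hW𝒲, x, hxW, rfl⟩ := Set.mem_iUnion₂.mp hy
      have hx : x ∈ ((f ⁻¹ᵁ V : X.Opens) : Set X) := by
        rw [h𝒲]; exact Set.mem_iUnion₂.mpr ⟨W, hW𝒲, hxW⟩
      exact ⟨⟨x, rfl⟩, hx⟩
  rw [h2, h𝒲fin.closure_biUnion] at h1
  obtain ⟨W, hW𝒲, hsW⟩ := Set.mem_iUnion₂.mp h1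
  have hWle : W.1 ≤ f ⁻¹ᵁ V := by
    intro x hxW
    have : x ∈ ((f ⁻¹ᵁ V : X.Opens) : Set X) := by
      rw [h𝒲]; exact Set.mem_iUnion₂.mpr ⟨W, hW𝒲, hxW⟩
    exact this
  exact H4_exists_specializes_affine f hV W.2 hWle s hsV hsW

end Groth.Agent.H4

namespace Groth.Agent.H4

theorem H4_isDominant_baseChange_of_generalizingMap {X S X' S' : Scheme.{u}} (f : X ⟶ S)
    [QuasiCompact f] [IsDominant f] (g : S' ⟶ S) (g' : X' ⟶ X) (f' : X' ⟶ S')
    (hsq : IsPullback g' f' f g) (hg : GeneralizingMap g.base) : IsDominant f' := by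
  constructor
  intro s'
  have h1 : g.base s' ∈ closure (Set.range f.base) := by
    rw [f.denseRange.closure_range]; trivial
  obtain ⟨x, hx⟩ := H4_exists_specializes_of_mem_closure_range f (g.base s') h1
  obtain ⟨t', ht's', hgt'⟩ := hg hx
  obtain ⟨z, hz1, hz2⟩ := Scheme.Pullback.exists_preimage_pullback (f := f) (g := g) x t' hgt'.symm
  have h2 : f'.base (hsq.isoPullback.inv.base z) = t' := by
    have := congrArg (fun m : pullback f g ⟶ S' => m.base z) hsq.isoPullback_inv_snd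
    rw [← hz2]
    exact this
  have h3 : t' ∈ Set.range f'.base := ⟨_, h2⟩
  exact closure_mono (Set.singleton_subset_iff.mpr h3) (specializes_iff_mem_closure.mp ht's')

end Groth.Agent.H4
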