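import Mathlib
set_option autoImplicit false
universe u
open CategoryTheory AlgebraicGeometry TopologicalSpace

namespace Groth.Agent.H4

theorem H4_qcqs_induction_quasiCompact_opens (X : Scheme.{u}) [CompactSpace X]
    [QuasiSeparatedSpace X] (P : X.Opens → Prop)
    (ha : ∀ U : X.Opens, IsAffineOpen U → P U)
    (hb : ∀ (U : X.Opens) (n : ℕ) (V : Fin n → X.Opens), IsCompact (U : Set X) →
      (∀ i, IsAffineOpen (V i)) → ⨆ i, V i = U → (∀ i j, P (V i ⊓ V j)) → P U)
    (U : X.Opens) (hU : IsCompact (U : Set X)) : P U := by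
  have hb' : ∀ (U : X.Opens) (ι : Type u) [Finite ι] (V : ι → X.Opens), IsCompact (U : Set X) →
      (∀ i, IsAffineOpen (V i)) → ⨆ i, V i = U → (∀ i j, P (V i ⊓ V j)) → P U := by
    intro U ι _ V hU hV hsup hP
    obtain ⟨n, ⟨e⟩⟩ := Finite.exists_equiv_fin ι
    refine hb U n (fun k => V (e.symm k)) hU (fun k => hV _) ?_ (fun k l => hP _ _)
    rw [← hsup]
    exact e.symm.iSup_comp (g := V)
  -- Step 1: compact opens inside an affine open
  have step1 : ∀ V : X.Opens, IsAffineOpen V → ∀ W : X.Opens, W ≤ V →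
      IsCompact (W : Set X) → P W := by
    intro V hV W hWV hW
    have hex : ∀ x : W, ∃ f : Γ(X, V), X.basicOpen f ≤ W ∧ (x : X) ∈ X.basicOpen f :=
      fun x => hV.exists_basicOpen_le x (hWV x.2)
    choose f hfW hxf using hex
    obtain ⟨t, ht⟩ := hW.elim_finite_subcover (fun x : W => (X.basicOpen (f x) : Set X))
      (fun x => (X.basicOpen (f x)).2) (fun x hx => Set.mem_iUnion.mpr ⟨⟨x, hx⟩, hxf ⟨x, hx⟩⟩)
    refine hb' W (↥t) (fun i => X.basicOpen (f i.1)) hW (fun i => hV.basicOpen _) ?_ ?_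
    · refine le_antisymm (iSup_le fun i => hfW _) ?_
      intro x hx
      obtain ⟨y, hy⟩ := Set.mem_iUnion.mp (ht hx)
      obtain ⟨hyt, hxy⟩ := Set.mem_iUnion.mp hy
      exact Opens.mem_iSup.mpr ⟨⟨y, hyt⟩, hxy⟩
    · intro i j
      rw [← Scheme.basicOpen_mul]
      exact ha _ (hV.basicOpen _)
  -- Step 2
  obtain ⟨s, hs, rfl⟩ := isCompact_iff_finite_and_eq_biUnion_affineOpens.mp hU
  haveI : Finite ↥s := hs.to_subtype
  refine hb' _ (↥s) (fun i => (i.1 : X.Opens)) hU (fun i => i.1.2) ?_ ?_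
  · exact (iSup_subtype' (p := fun i => i ∈ s) (f := fun i _ => (i : X.Opens))).symm
  · intro i j
    refine step1 i.1.1 i.1.2 _ inf_le_left ?_
    exact QuasiSeparatedSpace.inter_isCompact _ _ i.1.1.2 i.1.2.isCompact j.1.1.2 j.1.2.isCompact

end Groth.Agent.H4
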