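import Mathlib
import Groth.Prelude.Def_Hensel
import Groth.Agent.Lib.helper4.SHensGenerated

/-!
# Strict henselization of a local ring generated by a strict henselization and a ring
(version with abstract localizations `Rp`, `Sq` of `R`, `S` at `p`, `q`)
-/

namespace Groth.Agent.H4

universe u

open IsLocalRing

section

variable (R S : Type u) [CommRing R] [CommRing S] [Algebra R S]
  (p : Ideal R) [p.IsPrime] (q : Ideal S) [q.IsPrime] [q.LiesOver p]
  (Rp : Type u) [CommRing Rp] [Algebra R Rp] [IsLocalization.AtPrime Rp p] [IsLocalRing Rp]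
  (Sq : Type u) [CommRing Sq] [Algebra S Sq] [IsLocalization.AtPrime Sq q] [IsLocalRing Sq]
  (Rh : Type u) [CommRing Rh] [IsLocalRing Rh] [Algebra Rp Rh]
  [IsLocalHom (algebraMap Rp Rh)]
  [Hensel.IsStrictHenselization Rp Rh]
  (Sh : Type u) [CommRing Sh] [IsLocalRing Sh] [Algebra Sq Sh]
  [IsLocalHom (algebraMap Sq Sh)]
  [Hensel.IsStrictHenselization Sq Sh]
  (T : Type u) [CommRing T] (ιR : Rh →+* T) (ιS : S →+* T) (φ : T →+* Sh)

include p q in
theorem H4_isStrictHenselization_of_generated'
    (hgen : ∀ (C : Type u) [CommRing C] (a b : T →+* C), a.comp ιR = b.comp ιR →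
      a.comp ιS = b.comp ιS → a = b)
    (hR : ιR.comp ((algebraMap Rp Rh).comp
      (algebraMap R Rp)) = ιS.comp (algebraMap R S))
    (hS : φ.comp ιS = (algebraMap Sq Sh).comp
      (algebraMap S Sq))
    (Q : Ideal T) [Q.IsPrime] (hQ : Q = Ideal.comap φ (maximalIdeal Sh))
    (ψ : Localization.AtPrime Q →+* Sh) (hψ : ψ.comp (algebraMap T (Localization.AtPrime Q)) = φ) :
    letI := ψ.toAlgebra
    ∃ _ : IsLocalHom (algebraMap (Localization.AtPrime Q) Sh),
      Hensel.IsStrictHenselization (Localization.AtPrime Q) Sh := by
  letI algDSh : Algebra (Localization.AtPrime Q) Sh := ψ.toAlgebra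
  have hpq : p = q.comap (algebraMap R S) := Ideal.LiesOver.over
  have hmemQ : ∀ t : T, t ∈ Q ↔ ¬ IsUnit (φ t) := by
    intro t
    rw [hQ, Ideal.mem_comap, mem_maximalIdeal, mem_nonunits_iff]
  have hψa : ∀ t : T, ψ (algebraMap T (Localization.AtPrime Q) t) = φ t := fun t =>
    RingHom.congr_fun hψ t
  have hψloc : IsLocalHom ψ := by
    constructor
    intro x hx
    obtain ⟨t, s, rfl⟩ := IsLocalization.exists_mk'_eq Q.primeCompl x
    rw [IsLocalization.AtPrime.isUnit_mk'_iff (Localization.AtPrime Q) Q]
    intro ht
    have h1 : IsUnit (ψ (algebraMap T (Localization.AtPrime Q) t)) := by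
      have h2 : algebraMap T (Localization.AtPrime Q) t =
          IsLocalization.mk' (Localization.AtPrime Q) t s * algebraMap T _ (s : T) := by
        rw [IsLocalization.mk'_spec]
      rw [h2, map_mul]
      refine hx.mul ?_
      exact (IsLocalization.map_units (Localization.AtPrime Q) s).map ψ
    rw [hψa] at h1
    exact (hmemQ t).1 ht h1
  haveI hloc : IsLocalHom (algebraMap (Localization.AtPrime Q) Sh) := hψloc
  refine ⟨hloc, ?_⟩
  set ρ : Rp →+* Sq :=
    IsLocalization.map Sq (algebraMap R S) (M := p.primeCompl) (T := q.primeCompl)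
      (fun x hx => by
        show algebraMap R S x ∉ q
        intro h
        apply hx
        show x ∈ p
        rw [hpq]
        exact h) with hρ
  have hρ_eq : ∀ r : R, ρ (algebraMap R Rp r) = algebraMap S Sq (algebraMap R S r) := fun r =>
    IsLocalization.map_eq _ _
  have hρloc : IsLocalHom ρ := by
    constructor
    intro x hx
    obtain ⟨r, s, rfl⟩ := IsLocalization.exists_mk'_eq p.primeCompl x
    rw [IsLocalization.AtPrime.isUnit_mk'_iff Rp p]
    intro hr
    have h1 : IsUnit (ρ (algebraMap R Rp r)) := by
      have h2 : algebraMap R Rp r = IsLocalization.mk' Rp r s * algebraMap R Rp (s : R) := by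
        rw [IsLocalization.mk'_spec]
      rw [h2, map_mul]
      refine hx.mul ?_
      exact (IsLocalization.map_units Rp s).map ρ
    rw [hρ_eq] at h1
    have h3 := (IsLocalization.AtPrime.isUnit_to_map_iff Sq q _).1 h1
    apply h3
    have : r ∈ q.comap (algebraMap R S) := hpq ▸ hr
    exact this
  have hφR : (φ.comp ιR).comp (algebraMap Rp Rh) =
      (algebraMap Sq Sh).comp ρ := by
    refine IsLocalization.ringHom_ext p.primeCompl ?_
    ext r
    have h1 := RingHom.congr_fun hR r
    have h2 := RingHom.congr_fun hS (algebraMap R S r)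
    simp only [RingHom.coe_comp, Function.comp_apply] at h1 h2 ⊢
    rw [h1, h2, hρ_eq]
  -- the map `α : S_q → D`
  have hunitS : ∀ s : q.primeCompl, IsUnit (((algebraMap T (Localization.AtPrime Q)).comp ιS) s) := by
    intro s
    have h1 : ιS s ∈ Q.primeCompl := by
      show ιS s ∉ Q
      rw [hmemQ]
      push Not
      have h2 := RingHom.congr_fun hS s
      simp only [RingHom.coe_comp, Function.comp_apply] at h2
      rw [h2]
      exact (IsLocalization.map_units Sq s).map _
    exact IsLocalization.map_units (Localization.AtPrime Q) (⟨ιS s, h1⟩ : Q.primeCompl)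
  set α : Sq →+* Localization.AtPrime Q :=
    IsLocalization.lift (M := q.primeCompl) hunitS with hα
  have hα_eq : ∀ s : S, α (algebraMap S Sq s) =
      algebraMap T (Localization.AtPrime Q) (ιS s) := fun s => IsLocalization.lift_eq _ _
  have hψα : ψ.comp α = algebraMap Sq Sh := by
    refine IsLocalization.ringHom_ext q.primeCompl ?_
    ext s
    simp only [RingHom.coe_comp, Function.comp_apply]
    rw [hα_eq, hψa]
    exact RingHom.congr_fun hS s
  have hαloc : IsLocalHom α := by
    constructor
    intro x hx
    have h1 : IsUnit (ψ (α x)) := hx.map ψ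
    have h2 : ψ (α x) = algebraMap Sq Sh x := RingHom.congr_fun hψα x
    rw [h2] at h1
    exact IsLocalHom.map_nonunit (f := algebraMap Sq Sh) _ h1
  letI algSqD : Algebra Sq (Localization.AtPrime Q) := α.toAlgebra
  haveI hαloc' : IsLocalHom (algebraMap Sq (Localization.AtPrime Q)) := hαloc
  haveI htower : IsScalarTower Sq (Localization.AtPrime Q) Sh :=
    IsScalarTower.of_algebraMap_eq fun x => (RingHom.congr_fun hψα x).symm
  have hsepcl : IsSepClosure (ResidueField Sq) (ResidueField Sh) :=
    Hensel.IsStrictHenselization.isSepClosure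
  refine { henselian := Hensel.IsStrictHenselization.henselian (R := Sq)
           isSepClosure := ?_
           universal := ?_ }
  · haveI := hsepcl.separable
    exact ⟨hsepcl.sep_closed, Algebra.isSeparable_tower_top_of_isSeparable
      (F := ResidueField Sq) (L := ResidueField (Localization.AtPrime Q))
      (E := ResidueField Sh)⟩
  intro C _ _ f hf τ hτ
  -- the composite `S_q → C`
  have hfαloc : IsLocalHom (f.comp α) := RingHom.isLocalHom_comp _ _
  have hτ' : τ.comp (ResidueField.map (algebraMap Sq Sh)) =
      ResidueField.map (f.comp α) := by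
    have h1 : ResidueField.map (algebraMap Sq Sh) =
        (ResidueField.map (algebraMap (Localization.AtPrime Q) Sh)).comp (ResidueField.map α) := by
      rw [← ResidueField.map_comp]
      congr 1
      exact hψα.symm
    rw [h1, ← RingHom.comp_assoc, hτ, ← ResidueField.map_comp]
  obtain ⟨g, ⟨hg1, hg2⟩, hguniq⟩ := Hensel.IsStrictHenselization.universal
    (R := Sq) (S := Sh) C (f.comp α) τ hτ'
  have hgS : ∀ s : S, g (φ (ιS s)) = f (algebraMap T (Localization.AtPrime Q) (ιS s)) := by
    intro s
    have h4 := RingHom.congr_fun hS s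
    simp only [RingHom.coe_comp, Function.comp_apply] at h4
    rw [h4, ← hα_eq]
    exact RingHom.congr_fun hg1 _
  have hτres : ∀ d : Localization.AtPrime Q, τ (residue Sh (ψ d)) = residue C (f d) := by
    intro d
    have h1 := RingHom.congr_fun hτ (residue _ d)
    simp only [RingHom.comp_apply, ResidueField.map_residue] at h1
    exact h1
  refine ⟨g, ⟨?_, hg2⟩, ?_⟩
  · show g.comp ψ = f
    refine IsLocalization.ringHom_ext Q.primeCompl ?_
    rw [RingHom.comp_assoc, hψ]
    refine hgen C _ _ ?_ ?_
    · set v : Rh →+* C := (f.comp (algebraMap T (Localization.AtPrime Q))).comp ιR with hv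
      set u : Rh →+* C := (g.comp φ).comp ιR with hu
      have huv : u.comp (algebraMap Rp Rh) =
          v.comp (algebraMap Rp Rh) := by
        refine IsLocalization.ringHom_ext p.primeCompl ?_
        ext r
        have h1 := RingHom.congr_fun hR r
        simp only [RingHom.coe_comp, Function.comp_apply] at h1
        simp only [hu, hv, RingHom.coe_comp, Function.comp_apply]
        rw [h1, hgS]
      haveI hvloc : IsLocalHom (v.comp (algebraMap Rp Rh)) := by
        constructor
        intro x hx
        have h1 : IsUnit (algebraMap T (Localization.AtPrime Q)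
            (ιR (algebraMap Rp Rh x))) := hf.map_nonunit _ hx
        have h2 : IsUnit (φ (ιR (algebraMap Rp Rh x))) := by
          rw [← hψa]; exact h1.map ψ
        have h3 := RingHom.congr_fun hφR x
        simp only [RingHom.coe_comp, Function.comp_apply] at h3
        rw [h3] at h2
        have h4 : IsUnit (ρ x) :=
          IsLocalHom.map_nonunit (f := algebraMap Sq Sh) _ h2
        exact hρloc.map_nonunit _ h4
      haveI hvl : IsLocalHom v := H4_isLocalHom_of_comp
        (H4_strictHenselization_map_maximalIdeal (R := Rp) Rh) v hvloc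
      have hτ0 : (ResidueField.map v).comp
          (ResidueField.map (algebraMap Rp Rh)) =
          ResidueField.map (v.comp (algebraMap Rp Rh)) := by
        rw [← ResidueField.map_comp]
      obtain ⟨w, -, hwuniq⟩ := Hensel.IsStrictHenselization.universal
        (R := Rp) (S := Rh) C
        (v.comp (algebraMap Rp Rh)) (ResidueField.map v) hτ0
      have hu' : u = w := by
        refine hwuniq u ⟨huv, ?_⟩
        intro x
        rw [ResidueField.map_residue]
        simp only [hu, hv, RingHom.coe_comp, Function.comp_apply]
        rw [hg2, ← hψa, hτres]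
      have hv' : v = w := by
        refine hwuniq v ⟨rfl, ?_⟩
        intro x
        rw [ResidueField.map_residue]
      exact hu'.trans hv'.symm
    · ext s
      simp only [RingHom.coe_comp, Function.comp_apply]
      exact hgS s
  · rintro g' ⟨hg'1, hg'2⟩
    refine hguniq g' ⟨?_, hg'2⟩
    rw [← hψα, ← RingHom.comp_assoc]
    congr 1

end

end Groth.Agent.H4
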