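import Mathlib
import Groth.Prelude.Def_Hensel
import Groth.Agent.Lib.helper4.SHensGeneratedGen
import Groth.Agent.Lib.helper4.HensQuasiFinite
import Groth.Agent.Lib.helper4.TensorHenselization
import Groth.Agent.S0539

/-!
# Strict henselization of a finite local algebra
-/

open TensorProduct

namespace Groth.Agent.H4

universe u

open IsLocalRing

/-- Existence of a map from a strict henselization to a strictly henselian local ring. -/
theorem H4_exists_shens_map (A : Type u) [CommRing A] [IsLocalRing A] (S : Type u) [CommRing S]
    [IsLocalRing S] [Algebra A S] [IsLocalHom (algebraMap A S)] [Hensel.IsStrictHenselization A S]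
    (C : Type u) [CommRing C] [HenselianLocalRing C] [IsSepClosed (ResidueField C)]
    (f : A →+* C) [IsLocalHom f] : ∃ σ : S →+* C, σ.comp (algebraMap A S) = f := by
  letI : Algebra (ResidueField A) (ResidueField C) := (ResidueField.map f).toAlgebra
  haveI hsc : IsSepClosure (ResidueField A) (ResidueField S) :=
    Hensel.IsStrictHenselization.isSepClosure
  haveI := hsc.separable
  let τ : ResidueField S →ₐ[ResidueField A] ResidueField C := IsSepClosed.lift
  have hτ : τ.toRingHom.comp (ResidueField.map (algebraMap A S)) = ResidueField.map f := by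
    ext x
    obtain ⟨a, rfl⟩ := residue_surjective x
    exact τ.commutes (residue A a)
  obtain ⟨g, ⟨hg, -⟩, -⟩ := Hensel.IsStrictHenselization.universal (R := A) (S := S) C f
    τ.toRingHom hτ
  exact ⟨g, hg⟩

section

attribute [local instance] Algebra.TensorProduct.rightAlgebra

/-- `B ⊗[A] S` is finite over `S` if `B` is finite over `A`. -/
theorem H4_tensor_finite_right (A B S : Type u) [CommRing A] [CommRing B] [Algebra A B]
    [CommRing S] [Algebra A S] [Module.Finite A B] : Module.Finite S (B ⊗[A] S) := by
  let L : S ⊗[A] B →ₗ[S] B ⊗[A] S :=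
    { toFun := (Algebra.TensorProduct.comm A S B)
      map_add' := map_add _
      map_smul' := by
        intro s x
        rw [RingHom.id_apply, Algebra.smul_def, Algebra.smul_def, map_mul]
        congr 1 }
  refine Module.Finite.of_surjective L ?_
  exact (Algebra.TensorProduct.comm A S B).surjective

end

section main

attribute [local instance] Algebra.TensorProduct.rightAlgebra

set_option maxHeartbeats 800000 in
theorem H4_shens_finite_local (A B S T : Type u) [CommRing A] [IsLocalRing A]
    [CommRing B] [IsLocalRing B] [Algebra A B] [Module.Finite A B]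
    [CommRing S] [IsLocalRing S] [Algebra A S] [IsLocalHom (algebraMap A S)]
    [Hensel.IsStrictHenselization A S]
    [CommRing T] [IsLocalRing T] [Algebra B T] [IsLocalHom (algebraMap B T)]
    [Hensel.IsStrictHenselization B T] :
    ∃ (q : Ideal (B ⊗[A] S)) (_ : q.IsMaximal), Nonempty (Localization.AtPrime q ≃ₐ[B] T) := by
  classical
  -- `A → B` is local
  haveI hAB : IsLocalHom (algebraMap A B) := by
    haveI : Algebra.IsIntegral A B := Algebra.IsIntegral.of_finite _ _
    have h1 : ((maximalIdeal B).comap (algebraMap A B)).IsMaximal :=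
      Ideal.isMaximal_comap_of_isIntegral_of_isMaximal _
    exact ((local_hom_TFAE (algebraMap A B)).out 0 4).mpr (eq_maximalIdeal h1)
  haveI hlies : (maximalIdeal B).LiesOver (maximalIdeal A) := inferInstance
  haveI hTh : HenselianLocalRing T := Hensel.IsStrictHenselization.henselian (R := B)
  haveI hSh : HenselianLocalRing S := Hensel.IsStrictHenselization.henselian (R := A)
  haveI hTsc : IsSepClosed (ResidueField T) :=
    (Hensel.IsStrictHenselization.isSepClosure (R := B) (S := T)).sep_closed
  haveI hSsc : IsSepClosed (ResidueField S) :=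
    (Hensel.IsStrictHenselization.isSepClosure (R := A) (S := S)).sep_closed
  -- the map `σ : S → T`
  set f : A →+* T := (algebraMap B T).comp (algebraMap A B) with hf
  haveI hfloc : IsLocalHom f := RingHom.isLocalHom_comp _ _
  obtain ⟨σ, hσ⟩ := H4_exists_shens_map A S T f
  have hσloc : IsLocalHom σ := H4_isLocalHom_of_comp
    (H4_strictHenselization_map_maximalIdeal (R := A) S) σ (hσ ▸ hfloc)
  -- the map `φ : B ⊗ S → T`
  letI : Algebra A T := f.toAlgebra
  let fB : B →ₐ[A] T := { algebraMap B T with commutes' := fun a => rfl }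
  have hσcomm : ∀ a : A, σ (algebraMap A S a) = f a := fun a => RingHom.congr_fun hσ a
  let σA : S →ₐ[A] T := { σ with commutes' := hσcomm }
  let φ : B ⊗[A] S →ₐ[A] T := Algebra.TensorProduct.productMap fB σA
  have hφ : ∀ b s, φ (b ⊗ₜ[A] s) = algebraMap B T b * σ s := fun b s => by
    simp [φ, fB, σA]
  -- localization instances
  haveI hlocA : IsLocalization.AtPrime A (maximalIdeal A) :=
    IsLocalization.of_le_isUnit (fun x hx => by
      have : x ∉ maximalIdeal A := hx
      rw [mem_maximalIdeal, mem_nonunits_iff] at this
      push Not at this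
      exact this)
  haveI hlocB : IsLocalization.AtPrime B (maximalIdeal B) :=
    IsLocalization.of_le_isUnit (fun x hx => by
      have : x ∉ maximalIdeal B := hx
      rw [mem_maximalIdeal, mem_nonunits_iff] at this
      push Not at this
      exact this)
  set Q : Ideal (B ⊗[A] S) := Ideal.comap φ.toRingHom (maximalIdeal T) with hQ
  haveI hQprime : Q.IsPrime := Ideal.IsPrime.comap _
  have hmemQ : ∀ t : B ⊗[A] S, t ∈ Q ↔ φ t ∈ maximalIdeal T := fun t => Iff.rfl
  have hunit : ∀ y : Q.primeCompl, IsUnit (φ.toRingHom (y : B ⊗[A] S)) := by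
    intro y
    have h1 : (y : B ⊗[A] S) ∉ Q := y.2
    rw [hmemQ, mem_maximalIdeal, mem_nonunits_iff] at h1
    push Not at h1
    exact h1
  set ψ : Localization.AtPrime Q →+* T := IsLocalization.lift (M := Q.primeCompl) hunit with hψ
  have hψa : ψ.comp (algebraMap (B ⊗[A] S) (Localization.AtPrime Q)) = φ.toRingHom :=
    IsLocalization.lift_comp _
  have hgen : ∀ (C : Type u) [CommRing C] (a b : B ⊗[A] S →+* C),
      a.comp (Algebra.TensorProduct.includeRight : S →ₐ[A] B ⊗[A] S).toRingHom =
        b.comp (Algebra.TensorProduct.includeRight : S →ₐ[A] B ⊗[A] S).toRingHom →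
      a.comp (Algebra.TensorProduct.includeLeftRingHom : B →+* B ⊗[A] S) =
        b.comp (Algebra.TensorProduct.includeLeftRingHom : B →+* B ⊗[A] S) → a = b := by
    intro C _ a b h2 h1
    refine RingHom.ext fun t => ?_
    induction t using TensorProduct.induction_on with
    | zero => simp
    | tmul r s =>
      have h3 : r ⊗ₜ[A] s = (Algebra.TensorProduct.includeLeftRingHom : B →+* B ⊗[A] S) r *
          (Algebra.TensorProduct.includeRight : S →ₐ[A] B ⊗[A] S).toRingHom s := by
        simp
      rw [h3, map_mul, map_mul]
      have h4 := RingHom.congr_fun h1 r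
      have h5 := RingHom.congr_fun h2 s
      simp only [RingHom.coe_comp, Function.comp_apply] at h4 h5
      rw [h4, h5]
    | add x y hx hy => rw [map_add, map_add, hx, hy]
  have hR : (Algebra.TensorProduct.includeRight : S →ₐ[A] B ⊗[A] S).toRingHom.comp
      ((algebraMap A S).comp (algebraMap A A)) =
      (Algebra.TensorProduct.includeLeftRingHom : B →+* B ⊗[A] S).comp (algebraMap A B) := by
    ext a
    simp only [RingHom.coe_comp, Function.comp_apply, Algebra.TensorProduct.includeLeftRingHom_apply,
      AlgHom.toRingHom_eq_coe, RingHom.coe_coe, Algebra.TensorProduct.includeRight_apply,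
      Algebra.algebraMap_self, RingHom.id_apply]
    rw [Algebra.algebraMap_eq_smul_one, Algebra.algebraMap_eq_smul_one (A := B),
      TensorProduct.smul_tmul]
  have hS : φ.toRingHom.comp (Algebra.TensorProduct.includeLeftRingHom : B →+* B ⊗[A] S) =
      (algebraMap B T).comp (algebraMap B B) := by
    ext b
    simp only [RingHom.coe_comp, Function.comp_apply, AlgHom.toRingHom_eq_coe, RingHom.coe_coe,
      Algebra.TensorProduct.includeLeftRingHom_apply, Algebra.algebraMap_self, RingHom.id_apply]
    rw [hφ, map_one, mul_one]
  have hmain := H4_isStrictHenselization_of_generated' A B (maximalIdeal A) (maximalIdeal B) A B S T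
    (B ⊗[A] S) (Algebra.TensorProduct.includeRight : S →ₐ[A] B ⊗[A] S).toRingHom
    (Algebra.TensorProduct.includeLeftRingHom : B →+* B ⊗[A] S) φ.toRingHom
    hgen hR hS Q rfl ψ hψa
  letI algDT : Algebra (Localization.AtPrime Q) T := ψ.toAlgebra
  obtain ⟨hloc, hH⟩ := hmain
  -- `Q` lies over `𝔪_S`
  haveI hQlies : Q.LiesOver (maximalIdeal S) := by
    constructor
    ext s
    rw [Ideal.under_def, Ideal.mem_comap, hmemQ]
    have h1 : φ (algebraMap S (B ⊗[A] S) s) = σ s := by
      show φ ((1 : B) ⊗ₜ[A] s) = σ s
      rw [hφ, map_one, one_mul]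
    rw [h1]
    have h2 := ((local_hom_TFAE σ).out 0 4).1 hσloc
    rw [← h2, Ideal.mem_comap]
  haveI hfinT0 : Module.Finite S (B ⊗[A] S) := H4_tensor_finite_right A B S
  haveI hintT0 : Algebra.IsIntegral S (B ⊗[A] S) := Algebra.IsIntegral.of_finite _ _
  have hQmax : Q.IsMaximal := by
    refine Ideal.isMaximal_of_isIntegral_of_isMaximal_comap (R := S) Q ?_
    have : Q.comap (algebraMap S (B ⊗[A] S)) = maximalIdeal S := (hQlies.over).symm
    rw [this]
    exact maximalIdeal.isMaximal S
  haveI hqf : Algebra.QuasiFiniteAt S Q := inferInstance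
  haveI hfinD : Module.Finite S (Localization.AtPrime Q) :=
    H4_finite_localization_of_quasiFiniteAt S (B ⊗[A] S) Q
  haveI hD : HenselianLocalRing (Localization.AtPrime Q) :=
    Groth.Agent.S0505.result S (Localization.AtPrime Q)
  haveI hlocD : IsLocalHom (algebraMap S (Localization.AtPrime Q)) := by
    haveI : Algebra.IsIntegral S (Localization.AtPrime Q) := Algebra.IsIntegral.of_finite _ _
    have h1 : ((maximalIdeal (Localization.AtPrime Q)).comap
        (algebraMap S (Localization.AtPrime Q))).IsMaximal :=
      Ideal.isMaximal_comap_of_isIntegral_of_isMaximal _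
    exact ((local_hom_TFAE (algebraMap S (Localization.AtPrime Q))).out 0 4).mpr
      (eq_maximalIdeal h1)
  haveI hfinres : Module.Finite (ResidueField S) (ResidueField (Localization.AtPrime Q)) :=
    Module.Finite.of_restrictScalars_finite S _ _
  haveI hscD : IsSepClosed (ResidueField (Localization.AtPrime Q)) :=
    Algebra.IsAlgebraic.isSepClosed (F := ResidueField S)
  haveI : IsLocalHom (algebraMap (Localization.AtPrime Q) (Localization.AtPrime Q)) :=
    ⟨fun a h => h⟩
  haveI := H4_isStrictHenselization_self (Localization.AtPrime Q)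
  obtain ⟨e1⟩ := H4_strictHenselization_equiv (R := Localization.AtPrime Q) (Localization.AtPrime Q)
  obtain ⟨e2⟩ := H4_strictHenselization_equiv (R := Localization.AtPrime Q) T
  refine ⟨Q, hQmax, ⟨AlgEquiv.ofRingEquiv (f := (e1.trans e2.symm).toRingEquiv) ?_⟩⟩
  intro b
  have h1 : (e1.trans e2.symm) (algebraMap (Localization.AtPrime Q) (Localization.AtPrime Q)
      (algebraMap B (Localization.AtPrime Q) b)) =
      algebraMap (Localization.AtPrime Q) T (algebraMap B (Localization.AtPrime Q) b) :=
    AlgEquiv.commutes _ _
  have h2 : algebraMap (Localization.AtPrime Q) T (algebraMap B (Localization.AtPrime Q) b) =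
      algebraMap B T b := by
    rw [IsScalarTower.algebraMap_apply B (B ⊗[A] S) (Localization.AtPrime Q)]
    have h3 := RingHom.congr_fun hψa (algebraMap B (B ⊗[A] S) b)
    simp only [RingHom.coe_comp, Function.comp_apply] at h3
    refine h3.trans ?_
    show φ (algebraMap B (B ⊗[A] S) b) = _
    rw [Algebra.TensorProduct.algebraMap_apply, hφ, map_one, mul_one]
    rfl
  exact h1.trans h2

end main

end Groth.Agent.H4
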