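import Mathlib

set_option autoImplicit false
universe u
open AlgebraicGeometry CategoryTheory CategoryTheory.Limits Topology TopologicalSpace

namespace Groth.Agent.H4

theorem H4_section_immersions {X Y : Scheme.{u}} (f : X ⟶ Y) [FormallyUnramified f]
    [LocallyOfFiniteType f] [IsSeparated f] (s : Y ⟶ X) (hs : s ≫ f = 𝟙 Y) :
    IsOpenImmersion s ∧ IsClosedImmersion s := by
  constructor
  · haveI : Mono s := (SplitMono.mk f hs).mono
    haveI : Etale (s ≫ f) := by rw [hs]; infer_instance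
    haveI : Etale s := Etale.of_comp s f
    exact IsOpenImmersion.of_flat_of_mono s
  · haveI : IsClosedImmersion (s ≫ f) := by rw [hs]; infer_instance
    exact IsClosedImmersion.of_comp s f

theorem H4_sections_equiv_components {X Y : Scheme.{u}} (f : X ⟶ Y)
    [FormallyUnramified f] [LocallyOfFiniteType f] [IsSeparated f] [ConnectedSpace Y] :
    ∃ e : {s : Y ⟶ X // s ≫ f = 𝟙 Y} ≃
        {U : X.Opens // (∃ x : X, (U : Set X) = connectedComponent x) ∧ IsIso (U.ι ≫ f)},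
      ∀ s : {s : Y ⟶ X // s ≫ f = 𝟙 Y}, ((e s).1 : Set X) = Set.range s.1 := by
  -- forward map
  have hfwd : ∀ s : {s : Y ⟶ X // s ≫ f = 𝟙 Y},
      ∃ U : X.Opens, (U : Set X) = Set.range s.1 ∧
        (∃ x : X, (U : Set X) = connectedComponent x) ∧ IsIso (U.ι ≫ f) := by
    rintro ⟨s, hs⟩
    obtain ⟨ho, hc⟩ := H4_section_immersions f s hs
    refine ⟨s.opensRange, rfl, ?_, ?_⟩
    · obtain ⟨y⟩ := (inferInstance : Nonempty Y)
      refine ⟨s y, ?_⟩
      have hclopen : IsClopen (Set.range s) :=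
        ⟨s.isClosedEmbedding.isClosed_range, s.isOpenEmbedding.isOpen_range⟩
      have hconn : _root_.IsConnected (Set.range s) := isConnected_range s.continuous
      apply Set.Subset.antisymm
      · exact hconn.isPreconnected.subset_connectedComponent ⟨y, rfl⟩
      · exact hclopen.connectedComponent_subset ⟨y, rfl⟩
    · -- s factors through opensRange via an iso
      have h1 : (s.isoOpensRange.hom ≫ s.opensRange.ι) ≫ f = 𝟙 Y := by
        rw [Scheme.Hom.isoOpensRange_hom_ι, hs]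
      have h2 : s.opensRange.ι ≫ f = s.isoOpensRange.inv := by
        rw [← cancel_epi s.isoOpensRange.hom, ← Category.assoc, h1, Iso.hom_inv_id]
      rw [h2]; infer_instance
  choose Ufun hUrange hUcomp hUiso using hfwd
  -- backward map
  let bwd : {U : X.Opens // (∃ x : X, (U : Set X) = connectedComponent x) ∧ IsIso (U.ι ≫ f)} →
      {s : Y ⟶ X // s ≫ f = 𝟙 Y} := fun U =>
    haveI := U.2.2
    ⟨inv (U.1.ι ≫ f) ≫ U.1.ι, by rw [Category.assoc, IsIso.inv_hom_id]⟩
  have hbwd_range : ∀ U, Set.range (bwd U).1 = (U.1 : Set X) := by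
    intro U
    haveI := U.2.2
    show Set.range (inv (U.1.ι ≫ f) ≫ U.1.ι) = _
    rw [Scheme.Hom.comp_base, TopCat.coe_comp, Set.range_comp,
      Set.range_eq_univ.mpr (inv (U.1.ι ≫ f)).surjective, Set.image_univ]
    exact U.1.range_ι
  refine ⟨⟨fun s => ⟨Ufun s, hUcomp s, hUiso s⟩, bwd, ?_, ?_⟩, fun s => hUrange s⟩
  · -- left inverse
    rintro ⟨s, hs⟩
    apply Subtype.ext
    haveI := hUiso ⟨s, hs⟩
    show inv ((Ufun ⟨s, hs⟩).ι ≫ f) ≫ (Ufun ⟨s, hs⟩).ι = s
    obtain ⟨ho, hc⟩ := H4_section_immersions f s hs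
    have hle : Set.range s ⊆ Set.range (Ufun ⟨s, hs⟩).ι := by
      rw [(Ufun ⟨s, hs⟩).range_ι, hUrange ⟨s, hs⟩]
    have hfac := IsOpenImmersion.lift_fac (Ufun ⟨s, hs⟩).ι s hle
    have h3 : IsOpenImmersion.lift (Ufun ⟨s, hs⟩).ι s hle ≫ ((Ufun ⟨s, hs⟩).ι ≫ f) = 𝟙 Y := by
      rw [← Category.assoc, hfac, hs]
    have h4 : IsOpenImmersion.lift (Ufun ⟨s, hs⟩).ι s hle = inv ((Ufun ⟨s, hs⟩).ι ≫ f) := by
      rw [← cancel_mono ((Ufun ⟨s, hs⟩).ι ≫ f), h3, IsIso.inv_hom_id]
    rw [← h4, hfac]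
  · -- right inverse
    intro U
    apply Subtype.ext
    apply Opens.ext
    show ((Ufun (bwd U) : X.Opens) : Set X) = (U.1 : Set X)
    rw [hUrange (bwd U), hbwd_range U]

end Groth.Agent.H4
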