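import Mathlib

set_option autoImplicit false
universe u

namespace Groth.Agent.H4

open Polynomial

/-- Over an integrally closed domain with separably closed fraction field, a monic irreducible
polynomial with nonzero derivative is linear. -/
theorem H4_natDegree_eq_one_of_irreducible_of_sepClosed {A : Type*} [CommRing A] [IsDomain A]
    [IsIntegrallyClosed A] (K : Type*) [Field K] [Algebra A K] [IsFractionRing A K] [IsSepClosed K]
    (g : A[X]) (hg : g.Monic) (hirr : Irreducible g) (hder : derivative g ≠ 0) :
    g.natDegree = 1 := by
  have hinj : Function.Injective (algebraMap A K) := IsFractionRing.injective A K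
  have hirrK : Irreducible (g.map (algebraMap A K)) :=
    (Polynomial.Monic.irreducible_iff_irreducible_map_fraction_map hg).mp hirr
  have hderK : derivative (g.map (algebraMap A K)) ≠ 0 := by
    rw [Polynomial.derivative_map]
    intro h0
    apply hder
    apply Polynomial.map_injective _ hinj
    rw [h0, Polynomial.map_zero]
  have hsep : (g.map (algebraMap A K)).Separable :=
    (Polynomial.separable_iff_derivative_ne_zero hirrK).mpr hderK
  have hdeg := IsSepClosed.degree_eq_one_of_irreducible K hirrK hsep
  have h1 : (g.map (algebraMap A K)).natDegree = 1 :=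
    Polynomial.natDegree_eq_of_degree_eq_some hdeg
  rw [hg.natDegree_map] at h1
  exact h1

/-- Existence of an irreducible monic divisor retaining a multiplicative-prime-like property. -/
theorem H4_exists_irreducible_monic_dvd {A : Type*} [CommRing A] [IsDomain A]
    (Pr : A[X] → Prop) (h1 : ¬ Pr 1)
    (hmul : ∀ a b : A[X], a.Monic → b.Monic → Pr (a * b) → Pr a ∨ Pr b)
    (P : A[X]) (hP : P.Monic) (hPP : Pr P) :
    ∃ g : A[X], g.Monic ∧ Irreducible g ∧ g ∣ P ∧ Pr g := by
  classical
  have hex : ∃ n : ℕ, ∃ g : A[X], g.Monic ∧ g ∣ P ∧ Pr g ∧ g.natDegree = n :=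
    ⟨P.natDegree, P, hP, dvd_rfl, hPP, rfl⟩
  obtain ⟨g, hgm, hgP, hgPr, hgn⟩ := Nat.find_spec hex
  have hmin : ∀ g' : A[X], g'.Monic → g' ∣ P → Pr g' → g.natDegree ≤ g'.natDegree := by
    intro g' h1' h2' h3'
    rw [hgn]
    exact Nat.find_min' hex ⟨g', h1', h2', h3', rfl⟩
  refine ⟨g, hgm, ?_, hgP, hgPr⟩
  rw [hgm.irreducible_iff_natDegree]
  refine ⟨fun h => h1 (h ▸ hgPr), ?_⟩
  intro a b ha hb hab
  have hdeg : g.natDegree = a.natDegree + b.natDegree := by
    rw [← hab, ha.natDegree_mul hb]
  rw [← hab] at hgPr
  rcases hmul a b ha hb hgPr with h | h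
  · right
    have := hmin a ha (dvd_trans ⟨b, hab.symm⟩ hgP) h
    omega
  · left
    have := hmin b hb (dvd_trans ⟨a, by rw [← hab, mul_comm]⟩ hgP) h
    omega

/-- An integrally closed local domain with separably closed fraction field is henselian. -/
theorem H4_henselian_of_sepClosed_fractionField {A : Type*} [CommRing A] [IsDomain A]
    [IsLocalRing A] [IsIntegrallyClosed A] (K : Type*) [Field K] [Algebra A K] [IsFractionRing A K]
    [IsSepClosed K] : HenselianLocalRing A := by
  classical
  refine { ‹IsLocalRing A› with is_henselian := ?_ }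
  intro f hfm a₀ h₁ h₂
  have hres : ∀ (p : A[X]) (x : A),
      (p.map (IsLocalRing.residue A)).eval (IsLocalRing.residue A x) =
        IsLocalRing.residue A (p.eval x) := by
    intro p x
    rw [Polynomial.eval_map, Polynomial.eval₂_hom]
  obtain ⟨g, hgm, hgirr, ⟨h, hfgh⟩, hg0⟩ := H4_exists_irreducible_monic_dvd
    (fun a : A[X] => a.eval a₀ ∈ IsLocalRing.maximalIdeal A)
    (by
      simp only [Polynomial.eval_one]
      exact fun h => (IsLocalRing.maximalIdeal.isMaximal A).ne_top
        ((Ideal.eq_top_iff_one _).mpr h))
    (by
      intro a b _ _ hab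
      simp only [Polynomial.eval_mul] at hab
      exact (Ideal.IsPrime.mem_or_mem (IsLocalRing.maximalIdeal.isMaximal A).isPrime hab))
    f hfm h₁
  have hgder : (derivative g).eval a₀ ∉ IsLocalRing.maximalIdeal A := by
    intro hmem
    have h3 : (derivative f).eval a₀ ∈ IsLocalRing.maximalIdeal A := by
      rw [hfgh, Polynomial.derivative_mul, Polynomial.eval_add, Polynomial.eval_mul,
        Polynomial.eval_mul]
      exact Ideal.add_mem _ (Ideal.mul_mem_right _ _ hmem) (Ideal.mul_mem_right _ _ hg0)
    exact (IsLocalRing.mem_maximalIdeal _).mp h3 h₂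
  have hgder' : derivative g ≠ 0 := by
    intro h0
    rw [h0, Polynomial.eval_zero] at hgder
    exact hgder (Ideal.zero_mem _)
  have hdeg := H4_natDegree_eq_one_of_irreducible_of_sepClosed K g hgm hgirr hgder'
  have hgX := hgm.eq_X_add_C hdeg
  refine ⟨-(g.coeff 0), ?_, ?_⟩
  · rw [Polynomial.IsRoot, hfgh, Polynomial.eval_mul, hgX]
    simp
  · rw [hgX] at hg0
    simp only [Polynomial.eval_add, Polynomial.eval_X, Polynomial.eval_C] at hg0
    have : -(g.coeff 0) - a₀ = -(a₀ + g.coeff 0) := by ring
    rw [this]
    exact (Ideal.neg_mem_iff _).mpr hg0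

/-- Its residue field is separably closed. -/
theorem H4_sepClosed_residueField_of_sepClosed_fractionField {A : Type*} [CommRing A] [IsDomain A]
    [IsLocalRing A] [IsIntegrallyClosed A] (K : Type*) [Field K] [Algebra A K] [IsFractionRing A K]
    [IsSepClosed K] : IsSepClosed (IsLocalRing.ResidueField A) := by
  classical
  apply IsSepClosed.of_exists_root
  intro p hpm hpirr hpsep
  have hlift : p ∈ Polynomial.lifts (IsLocalRing.residue A) := by
    rw [Polynomial.lifts_iff_coeff_lifts]
    intro n
    exact IsLocalRing.residue_surjective _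
  obtain ⟨P, hP1, hP2, hPm⟩ := Polynomial.lifts_and_natDegree_eq_and_monic hlift hpm
  have hpdeg : 0 < p.natDegree := Irreducible.natDegree_pos hpirr
  have hPirr : Irreducible P := by
    rw [hPm.irreducible_iff_natDegree]
    refine ⟨fun h => by rw [h, Polynomial.natDegree_one] at hP2; omega, ?_⟩
    intro a b ha hb hab
    have h4 : a.map (IsLocalRing.residue A) * b.map (IsLocalRing.residue A) = p := by
      rw [← Polynomial.map_mul, hab, hP1]
    rcases hpirr.isUnit_or_isUnit h4.symm with hu | hu
    · left
      have := Polynomial.natDegree_eq_zero_of_isUnit hu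
      rwa [ha.natDegree_map] at this
    · right
      have := Polynomial.natDegree_eq_zero_of_isUnit hu
      rwa [hb.natDegree_map] at this
  have hPder : derivative P ≠ 0 := by
    intro h0
    have h5 : derivative p = 0 := by
      rw [← hP1, Polynomial.derivative_map, h0, Polynomial.map_zero]
    have h6 : IsCoprime p (derivative p) := hpsep
    rw [h5, isCoprime_zero_right] at h6
    exact hpirr.not_isUnit h6
  have hdeg := H4_natDegree_eq_one_of_irreducible_of_sepClosed K P hPm hPirr hPder
  have hPX := hPm.eq_X_add_C hdeg
  refine ⟨-(IsLocalRing.residue A (P.coeff 0)), ?_⟩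
  rw [← hP1, hPX]
  simp

end Groth.Agent.H4

namespace Groth.Agent.H4

open Polynomial

/-- If moreover the local domain is not a field, its residue field is perfect. -/
theorem H4_perfect_residueField_of_sepClosed_fractionField {A : Type*} [CommRing A] [IsDomain A]
    [IsLocalRing A] [IsIntegrallyClosed A] (K : Type*) [Field K] [Algebra A K] [IsFractionRing A K]
    [IsSepClosed K] (π : A) (hπ : π ∈ IsLocalRing.maximalIdeal A) (hπ0 : π ≠ 0) :
    PerfectField (IsLocalRing.ResidueField A) := by
  classical
  obtain ⟨q, hq⟩ := CharP.exists (IsLocalRing.ResidueField A)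
  rcases CharP.char_is_prime_or_zero (IsLocalRing.ResidueField A) q with hprime | hzero
  · haveI : Fact q.Prime := ⟨hprime⟩
    haveI : PerfectRing (IsLocalRing.ResidueField A) q := by
      apply PerfectRing.ofSurjective
      intro abar
      obtain ⟨a, rfl⟩ := IsLocalRing.residue_surjective abar
      -- G = X^q - π X - a
      let G : A[X] := X ^ q - (C π * X + C a)
      have hq2 : 2 ≤ q := hprime.two_le
      have hdeglt : (C π * X + C a).degree < ((q : ℕ) : WithBot ℕ) := by
        refine lt_of_le_of_lt (Polynomial.degree_add_le _ _) ?_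
        rw [max_lt_iff]
        constructor
        · refine lt_of_le_of_lt (Polynomial.degree_C_mul_X_le π) ?_
          exact_mod_cast (by omega : 1 < q)
        · refine lt_of_le_of_lt Polynomial.degree_C_le ?_
          exact_mod_cast (by omega : 0 < q)
      have hGm : G.Monic := Polynomial.monic_X_pow_sub hdeglt
      have hlow : (C π * X + C a).natDegree ≤ 1 := by
        refine (Polynomial.natDegree_add_le _ _).trans ?_
        rw [max_le_iff]
        refine ⟨?_, by rw [Polynomial.natDegree_C]; omega⟩
        have := Polynomial.natDegree_C_mul_X_pow_le π 1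
        rwa [pow_one] at this
      have hGdeg : G.natDegree = q := by
        show (X ^ q - (C π * X + C a)).natDegree = q
        rw [Polynomial.natDegree_sub_eq_left_of_natDegree_lt, Polynomial.natDegree_X_pow]
        rw [Polynomial.natDegree_X_pow]
        omega
      have hG1 : G ≠ 1 := by
        intro h
        rw [h, Polynomial.natDegree_one] at hGdeg
        omega
      obtain ⟨g, hgm, hgirr, ⟨h, hGgh⟩, hg1⟩ := H4_exists_irreducible_monic_dvd
        (fun a : A[X] => a ≠ 1) (by simp)
        (by
          intro a b _ _ hab
          by_contra hcon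
          push Not at hcon
          exact hab (by rw [hcon.1, hcon.2, mul_one]))
        G hGm hG1
      have hgdegpos : 0 < g.natDegree := by
        rcases Nat.eq_zero_or_pos g.natDegree with h0 | h0
        · exact absurd (hgm.natDegree_eq_zero.mp h0) hg1
        · exact h0
      have hGder : derivative G = C (q : A) * X ^ (q - 1) - C π := by
        show derivative (X ^ q - (C π * X + C a)) = _
        rw [Polynomial.derivative_sub, Polynomial.derivative_X_pow, Polynomial.derivative_add,
          Polynomial.derivative_C_mul, Polynomial.derivative_X, Polynomial.derivative_C]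
        simp
      have hGder0 : derivative G ≠ 0 := by
        intro h0
        have := congrArg (fun p => Polynomial.coeff p 0) h0
        rw [hGder] at this
        simp only [Polynomial.coeff_sub, Polynomial.coeff_C_mul, Polynomial.coeff_X_pow,
          Polynomial.coeff_C_zero, Polynomial.coeff_zero] at this
        rw [if_neg (by omega), mul_zero, zero_sub, neg_eq_zero] at this
        exact hπ0 this
      have hGderdeg : (derivative G).natDegree ≤ q - 1 := by
        rw [hGder]
        refine (Polynomial.natDegree_sub_le _ _).trans ?_
        rw [max_le_iff]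
        exact ⟨Polynomial.natDegree_C_mul_X_pow_le _ _, by rw [Polynomial.natDegree_C]; omega⟩
      have hgder : derivative g ≠ 0 := by
        intro h0
        obtain ⟨k, hk⟩ : ∃ k, g.natDegree = k + 1 := ⟨g.natDegree - 1, by omega⟩
        have h1 : ((k + 1 : ℕ) : A) = 0 := by
          have := congrArg (fun p => Polynomial.coeff p k) h0
          simp only [Polynomial.coeff_derivative, Polynomial.coeff_zero] at this
          rw [← hk, hgm.coeff_natDegree, one_mul] at this
          push_cast
          exact this
        have h2 : ((k + 1 : ℕ) : IsLocalRing.ResidueField A) = 0 := by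
          have := congrArg (IsLocalRing.residue A) h1
          rw [map_natCast, map_zero] at this
          exact this
        have h3 : q ∣ k + 1 := (CharP.cast_eq_zero_iff (IsLocalRing.ResidueField A) q _).mp h2
        have h4 : g ∣ derivative G := by
          rw [hGgh, Polynomial.derivative_mul, h0, zero_mul, zero_add]
          exact dvd_mul_right _ _
        have h5 := Polynomial.natDegree_le_of_dvd h4 hGder0
        have h6 := Nat.le_of_dvd (by omega) h3
        omega
      have hdeg := H4_natDegree_eq_one_of_irreducible_of_sepClosed K g hgm hgirr hgder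
      have hgX := hgm.eq_X_add_C hdeg
      refine ⟨IsLocalRing.residue A (-(g.coeff 0)), ?_⟩
      have hroot : G.eval (-(g.coeff 0)) = 0 := by
        rw [hGgh, Polynomial.eval_mul, hgX]
        simp
      have hroot' : (-(g.coeff 0)) ^ q - (π * (-(g.coeff 0)) + a) = 0 := by
        have : G.eval (-(g.coeff 0)) = (-(g.coeff 0)) ^ q - (π * (-(g.coeff 0)) + a) := by
          show (X ^ q - (C π * X + C a)).eval _ = _
          simp
        rw [← this]; exact hroot
      rw [frobenius_def, ← map_pow]
      have h7 := congrArg (IsLocalRing.residue A) (sub_eq_zero.mp hroot')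
      rw [h7, map_add, map_mul, (IsLocalRing.residue_eq_zero_iff π).mpr hπ, zero_mul, zero_add]
    exact PerfectRing.toPerfectField _ q
  · subst hzero
    haveI : CharZero (IsLocalRing.ResidueField A) := CharP.charP_to_charZero _
    exact PerfectField.ofCharZero

end Groth.Agent.H4
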