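import Mathlib
import Groth.Agent.Lib.helper4.Centralizer
import Groth.Agent.S0189

/-! Separable maximal commutative subalgebras of central division algebras (Jacobson–Noether step). -/

set_option autoImplicit false
set_option linter.style.haveILetI false
universe u v w

namespace Groth.Agent.H4

/-- Abstract Jacobson–Noether step: a central division algebra `C ≠ E` over a field `E` separable over
`F` contains an element `x ∉ E` such that all elements of `E[x]` are separable over `F`. -/
theorem H4_jn_step (F : Type u) [Field F] (E : Type v) [Field E] [Algebra F E]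
    [Algebra.IsSeparable F E]
    (C : Type w) [DivisionRing C] [Algebra E C] [Algebra F C] [IsScalarTower F E C]
    [Algebra.IsCentral E C] [FiniteDimensional E C]
    (hne : (⊥ : Subalgebra E C) ≠ ⊤) :
    ∃ x : C, x ∉ (⊥ : Subalgebra E C) ∧ ∀ y ∈ Algebra.adjoin E {x}, IsSeparable F y := by
  classical
  obtain ⟨x, hx, hsep⟩ :=
    JacobsonNoether.exists_separable_and_not_isCentral' (L := E) (D := C) hne
  refine ⟨x, hx, ?_⟩
  obtain ⟨M, hM⟩ : ∃ M : Subalgebra E C, M = Algebra.adjoin E {x} := ⟨_, rfl⟩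
  rw [← hM]
  have hxM : x ∈ M := hM ▸ Algebra.self_mem_adjoin_singleton E x
  have hcommM : ∀ a ∈ M, ∀ b ∈ M, a * b = b * a := by
    have hs : ∀ a ∈ ({x} : Set C), ∀ b ∈ ({x} : Set C), a * b = b * a := by
      intro a ha b hb
      rw [Set.mem_singleton_iff] at ha hb
      rw [ha, hb]
    have hc : IsMulCommutative (Algebra.adjoin E ({x} : Set C)) :=
      Algebra.isMulCommutative_adjoin E hs
    intro a ha b hb
    rw [hM] at ha hb
    have := hc.is_comm.comm ⟨a, ha⟩ ⟨b, hb⟩
    exact congrArg Subtype.val this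
  letI cr : CommRing ↥M :=
    { (inferInstance : Ring ↥M) with
      mul_comm := fun a b => Subtype.ext (hcommM a a.2 b b.2) }
  haveI : IsDomain ↥M := NoZeroDivisors.to_isDomain _
  letI fM : Field ↥M := fieldOfFiniteDimensional E ↥M
  haveI : IsScalarTower F E ↥M := ⟨fun a b c => Subtype.ext (smul_assoc a b (c : C))⟩
  have hxsep : IsSeparable E (⟨x, hxM⟩ : ↥M) := by
    unfold IsSeparable at hsep ⊢
    rwa [← minpoly.algHom_eq M.val Subtype.val_injective ⟨x, hxM⟩]
  haveI : Algebra.IsSeparable E ↥M := by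
    refine ⟨fun y => ?_⟩
    let S : Subalgebra E C := (separableClosure E ↥M).toSubalgebra.map M.val
    have hxS : x ∈ S := by
      refine ⟨⟨x, hxM⟩, ?_, rfl⟩
      exact mem_separableClosure_iff.2 hxsep
    have hMS : M ≤ S := by
      rw [hM]
      exact Algebra.adjoin_le (Set.singleton_subset_iff.2 hxS)
    obtain ⟨z, hz, hzy⟩ := hMS y.2
    have : z = y := Subtype.ext hzy
    rw [← this]
    exact mem_separableClosure_iff.1 hz
  haveI : Algebra.IsSeparable F ↥M := Algebra.IsSeparable.trans F E ↥M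
  intro y hy
  have h := Algebra.IsSeparable.isSeparable F (⟨y, hy⟩ : ↥M)
  unfold IsSeparable at h ⊢
  have h2 := minpoly.algHom_eq (M.val.restrictScalars F) Subtype.val_injective ⟨y, hy⟩
  rw [← h2] at h
  exact h

/-- Extension step: a commutative separable subalgebra `L` of a central division algebra `D` with
`C(L) ≠ L` is strictly contained in a bigger commutative separable subalgebra. -/
theorem H4_sep_extend (k : Type u) [Field k] (D : Type v) [DivisionRing D] [Algebra k D]
    [Algebra.IsCentral k D] [FiniteDimensional k D] (L : Subalgebra k D)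
    (hcomm : ∀ x ∈ L, ∀ y ∈ L, x * y = y * x) (hsep : ∀ x ∈ L, IsSeparable k x)
    (hne : Subalgebra.centralizer k (L : Set D) ≠ L) :
    ∃ M : Subalgebra k D, L < M ∧ (∀ x ∈ M, ∀ y ∈ M, x * y = y * x) ∧
      ∀ x ∈ M, IsSeparable k x := by
  classical
  letI cr : CommRing ↥L :=
    { (inferInstance : Ring ↥L) with
      mul_comm := fun x y => Subtype.ext (hcomm x x.2 y y.2) }
  haveI : IsDomain ↥L := NoZeroDivisors.to_isDomain _
  letI fL : Field ↥L := fieldOfFiniteDimensional k ↥L
  haveI hsimple : IsSimpleRing ↥L := (isSimpleRing_iff_isField ↥L).2 (Field.toIsField ↥L)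
  obtain ⟨C, hC⟩ : ∃ C : Subalgebra k D, C = Subalgebra.centralizer k (L : Set D) := ⟨_, rfl⟩
  have hdc : Subalgebra.centralizer k (C : Set D) = L := by
    rw [hC]
    exact Groth.Agent.S0189.result k D L
  have hmemC : ∀ c : D, c ∈ C ↔ ∀ l ∈ L, l * c = c * l := by
    intro c
    rw [hC, Subalgebra.mem_centralizer_iff]
    rfl
  have hLC : L ≤ C := fun x hx => (hmemC x).2 fun y hy => hcomm y hy x hx
  haveI : IsDomain ↥C := NoZeroDivisors.to_isDomain _
  letI dC : DivisionRing ↥C := divisionRingOfFiniteDimensional k ↥C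
  letI aLC : Algebra ↥L ↥C :=
    RingHom.toAlgebra' (Subalgebra.inclusion hLC).toRingHom
      (fun l c => Subtype.ext ((hmemC c.1).1 c.2 l.1 l.2))
  have halg : ∀ l : ↥L, ((algebraMap ↥L ↥C l : ↥C) : D) = (l : D) := fun l => rfl
  haveI : IsScalarTower k ↥L ↥C := IsScalarTower.of_algebraMap_eq (fun a => Subtype.ext rfl)
  haveI : FiniteDimensional ↥L ↥C := Module.Finite.of_restrictScalars_finite k ↥L ↥C
  haveI : Algebra.IsSeparable k ↥L := by
    refine ⟨fun l => ?_⟩
    have h := hsep l.1 l.2
    unfold IsSeparable at h ⊢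
    rwa [← minpoly.algHom_eq L.val Subtype.val_injective l]
  haveI : Algebra.IsCentral ↥L ↥C := by
    refine ⟨fun z hz => ?_⟩
    rw [Subalgebra.mem_center_iff] at hz
    have hzL : (z : D) ∈ L := by
      rw [← hdc, Subalgebra.mem_centralizer_iff]
      intro c hc
      have := hz ⟨c, hc⟩
      exact congrArg Subtype.val this
    rw [Algebra.mem_bot]
    exact ⟨⟨z.1, hzL⟩, Subtype.ext rfl⟩
  have hne' : (⊥ : Subalgebra ↥L ↥C) ≠ ⊤ := by
    intro h
    apply hne
    rw [← hC]
    apply le_antisymm _ hLC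
    intro c hc
    have : (⟨c, hc⟩ : ↥C) ∈ (⊥ : Subalgebra ↥L ↥C) := by rw [h]; exact Algebra.mem_top
    rw [Algebra.mem_bot] at this
    obtain ⟨l, hl⟩ := this
    have : (l : D) = c := congrArg Subtype.val hl
    rw [← this]
    exact l.2
  obtain ⟨x, hx, hy⟩ := H4_jn_step k ↥L ↥C hne'
  have hxL : (x : D) ∉ L := by
    intro h
    apply hx
    rw [Algebra.mem_bot]
    exact ⟨⟨x.1, h⟩, Subtype.ext rfl⟩
  refine ⟨Algebra.adjoin k (insert (x : D) (L : Set D)), ?_, ?_, ?_⟩
  · refine lt_of_le_of_ne (fun y hy => Algebra.subset_adjoin (Set.mem_insert_of_mem _ hy)) ?_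
    intro h
    apply hxL
    rw [h]
    exact Algebra.subset_adjoin (Set.mem_insert _ _)
  · have hs : ∀ a ∈ insert (x : D) (L : Set D), ∀ b ∈ insert (x : D) (L : Set D),
        a * b = b * a := by
      intro a ha b hb
      rcases ha with rfl | ha <;> rcases hb with rfl | hb
      · rfl
      · exact ((hmemC x.1).1 x.2 b hb).symm
      · exact (hmemC x.1).1 x.2 a ha
      · exact hcomm a ha b hb
    have hc : IsMulCommutative (Algebra.adjoin k (insert (x : D) (L : Set D))) :=
      Algebra.isMulCommutative_adjoin k hs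
    intro a ha b hb
    have := hc.is_comm.comm ⟨a, ha⟩ ⟨b, hb⟩
    exact congrArg Subtype.val this
  · intro m hm
    let N : Subalgebra k D :=
      ((Algebra.adjoin ↥L ({x} : Set ↥C)).restrictScalars k).map C.val
    have hle : Algebra.adjoin k (insert (x : D) (L : Set D)) ≤ N := by
      apply Algebra.adjoin_le
      intro a ha
      rcases ha with rfl | ha
      · exact ⟨x, Algebra.self_mem_adjoin_singleton ↥L x, rfl⟩
      · exact ⟨algebraMap ↥L ↥C ⟨a, ha⟩,
          (Algebra.adjoin ↥L ({x} : Set ↥C)).algebraMap_mem ⟨a, ha⟩, rfl⟩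
    obtain ⟨n, hn, hnm⟩ := hle hm
    have h := hy n hn
    unfold IsSeparable at h ⊢
    rw [← hnm]
    have h2 := minpoly.algHom_eq C.val Subtype.val_injective n
    change minpoly k (C.val n) = minpoly k n at h2
    have h3 : ((C.val : ↥C →ₐ[k] D) : ↥C →+* D) n = C.val n := rfl
    rw [h3, h2]
    exact h

end Groth.Agent.H4
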