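import Mathlib
import Groth.Prelude.Def_Hensel
import Groth.Agent.Lib.helper4.FiniteHenselian
import Groth.Agent.Lib.helper4.IntegralHenselian
import Groth.Agent.Lib.helper4.HensQuasiFinite
import Groth.Agent.Lib.helper4.TensorHenselization

/-!
# Integral algebras over henselian local rings: localizations at maximal ideals are quotients
-/

set_option autoImplicit false

open TensorProduct IsLocalRing

namespace Groth.Agent.H4

universe u

/-- Two distinct maximal ideals of an integral algebra over a henselian local ring are separated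
by an idempotent. -/
theorem H4_exists_idempotent_of_two_maximal_integral {R : Type u} [CommRing R]
    [HenselianLocalRing R] {E : Type u} [CommRing E] [Algebra R E] [Algebra.IsIntegral R E]
    (M Q : Ideal E) [hM : M.IsMaximal] [hQ : Q.IsMaximal] (hne : M ≠ Q) :
    ∃ e : E, IsIdempotentElem e ∧ e ∈ M ∧ 1 - e ∈ Q := by
  classical
  obtain ⟨x, hx, y, hy, hxy⟩ := Submodule.mem_sup.mp
    ((Ideal.eq_top_iff_one _).mp (Ideal.IsMaximal.coprime_of_ne hM hQ hne))
  let E₀ : Subalgebra R E := Algebra.adjoin R ({x} : Set E)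
  haveI : Module.Finite R E₀ :=
    Algebra.finite_adjoin_of_finite_of_isIntegral (Set.finite_singleton x)
      (fun z _ => Algebra.IsIntegral.isIntegral z)
  haveI : Algebra.IsIntegral E₀ E := Algebra.IsIntegral.tower_top (R := R)
  let M₀ : Ideal E₀ := M.comap (algebraMap E₀ E)
  let Q₀ : Ideal E₀ := Q.comap (algebraMap E₀ E)
  haveI hM₀ : M₀.IsMaximal := Ideal.isMaximal_comap_of_isIntegral_of_isMaximal M
  haveI hQ₀ : Q₀.IsMaximal := Ideal.isMaximal_comap_of_isIntegral_of_isMaximal Q
  have hxE : x ∈ E₀ := Algebra.subset_adjoin (Set.mem_singleton x)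
  have hne₀ : M₀ ≠ Q₀ := by
    intro h
    have h1 : (⟨x, hxE⟩ : E₀) ∈ M₀ := hx
    have h2 : (1 - ⟨x, hxE⟩ : E₀) ∈ Q₀ := by
      show ((1 - ⟨x, hxE⟩ : E₀) : E) ∈ Q
      have : ((1 - ⟨x, hxE⟩ : E₀) : E) = y := by
        have h0 : ((1 - ⟨x, hxE⟩ : E₀) : E) = 1 - x := rfl
        rw [h0, ← hxy, add_sub_cancel_left]
      rw [this]
      exact hy
    rw [h] at h1
    have h3 : (1 : E₀) ∈ Q₀ := by
      have := Q₀.add_mem h1 h2
      simpa using this
    exact hQ₀.ne_top ((Ideal.eq_top_iff_one _).mpr h3)
  obtain ⟨e, he, heM, heQ⟩ := H4_exists_idempotent_of_two_maximal (R := R) Q₀ M₀ hne₀.symm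
  refine ⟨(e : E), ?_, heM, heQ⟩
  have h2 : (e : E) * (e : E) = (e : E) := by
    rw [← Subalgebra.coe_mul, he.eq]
  exact h2

/-- For an integral algebra `E` over a henselian local ring and a maximal ideal `Q` of `E`, the
localization map `E → E_Q` is surjective. -/
theorem H4_localization_surjective_of_integral {R : Type u} [CommRing R]
    [HenselianLocalRing R] {E : Type u} [CommRing E] [Algebra R E] [Algebra.IsIntegral R E]
    (Q : Ideal E) [hQ : Q.IsMaximal] :
    Function.Surjective (algebraMap E (Localization.AtPrime Q)) := by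
  classical
  set L := Localization.AtPrime Q with hL
  set I : Ideal E := RingHom.ker (algebraMap E L) with hI
  have hIQ : ∀ M : Ideal E, M.IsMaximal → I ≤ M → M = Q := by
    intro M hM hIM
    by_contra hne
    haveI := hM
    obtain ⟨e, he, heM, heQ⟩ := H4_exists_idempotent_of_two_maximal_integral (R := R) M Q hne
    have heQ' : e ∉ Q := by
      intro h
      have := Q.add_mem h heQ
      rw [add_sub_cancel] at this
      exact hQ.ne_top ((Ideal.eq_top_iff_one _).mpr this)
    have hu : IsUnit (algebraMap E L e) :=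
      IsLocalization.map_units L (⟨e, heQ'⟩ : Q.primeCompl)
    have h0 : algebraMap E L e * algebraMap E L (1 - e) = 0 := by
      rw [← map_mul, mul_sub, mul_one, he.eq, sub_self, map_zero]
    have h1 : algebraMap E L (1 - e) = 0 := by
      have := hu.mul_left_cancel (h0.trans (mul_zero _).symm)
      exact this
    have h2 : 1 - e ∈ M := hIM h1
    have := M.add_mem heM h2
    rw [add_sub_cancel] at this
    exact hM.ne_top ((Ideal.eq_top_iff_one _).mpr this)
  intro z
  obtain ⟨x, s, rfl⟩ := IsLocalization.exists_mk'_eq Q.primeCompl z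
  have hJ : I ⊔ Ideal.span {(s : E)} = ⊤ := by
    by_contra hne
    obtain ⟨M, hM, hJM⟩ := Ideal.exists_le_maximal _ hne
    have h1 := hIQ M hM (le_trans le_sup_left hJM)
    have h2 : (s : E) ∈ M := hJM (Ideal.mem_sup_right (Ideal.subset_span rfl))
    rw [h1] at h2
    exact s.2 h2
  obtain ⟨i, hi, j, hj, hij⟩ := Submodule.mem_sup.mp ((Ideal.eq_top_iff_one _).mp hJ)
  obtain ⟨t, rfl⟩ := Ideal.mem_span_singleton'.mp hj
  refine ⟨x * t, ?_⟩
  rw [IsLocalization.eq_mk'_iff_mul_eq, ← map_mul]
  have h3 : algebraMap E L (t * s) = 1 := by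
    have h4 : algebraMap E L (i + t * s) = 1 := by rw [hij, map_one]
    rw [map_add] at h4
    have h5 : algebraMap E L i = 0 := hi
    rw [h5, zero_add] at h4
    exact h4
  rw [mul_assoc, map_mul, h3, mul_one]

end Groth.Agent.H4

namespace Groth.Agent.H4

universe u

/-- If the localization of `R^sh ⊗_R S` at the prime induced by `S^sh` is integral over `R^sh`,
then so is `S^sh`. -/
theorem H4_integral_shens_of_integral_localization (R : Type u) [CommRing R] (S : Type u)
    [CommRing S] [Algebra R S] (p : Ideal R) [p.IsPrime] (q : Ideal S)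
    [q.IsPrime] [q.LiesOver p]
    (Rh : Type u) [CommRing Rh] [IsLocalRing Rh] [Algebra (Localization.AtPrime p) Rh]
    [IsLocalHom (algebraMap (Localization.AtPrime p) Rh)]
    [Hensel.IsStrictHenselization (Localization.AtPrime p) Rh] [Algebra R Rh]
    [IsScalarTower R (Localization.AtPrime p) Rh]
    (Sh : Type u) [CommRing Sh] [IsLocalRing Sh] [Algebra (Localization.AtPrime q) Sh]
    [IsLocalHom (algebraMap (Localization.AtPrime q) Sh)]
    [Hensel.IsStrictHenselization (Localization.AtPrime q) Sh] [Algebra S Sh]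
    [IsScalarTower S (Localization.AtPrime q) Sh] [Algebra R Sh] [IsScalarTower R S Sh]
    [Algebra Rh Sh] [IsScalarTower R Rh Sh]
    (Q : Ideal (Rh ⊗[R] S)) [Q.IsPrime]
    (hQ : Q = Ideal.comap (Algebra.TensorProduct.lift (IsScalarTower.toAlgHom R Rh Sh)
      (IsScalarTower.toAlgHom R S Sh) (fun _ _ => Commute.all _ _)) (IsLocalRing.maximalIdeal Sh))
    [hint : Algebra.IsIntegral Rh (Localization.AtPrime Q)] :
    Algebra.IsIntegral Rh Sh := by
  classical
  haveI hRh : HenselianLocalRing Rh :=
    Hensel.IsStrictHenselization.henselian (R := Localization.AtPrime p)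
  haveI hsc : IsSepClosed (IsLocalRing.ResidueField Rh) :=
    (Hensel.IsStrictHenselization.isSepClosure (R := Localization.AtPrime p) (S := Rh)).sep_closed
  have hidem : ∀ e : Localization.AtPrime Q, IsIdempotentElem e → e = 0 ∨ e = 1 := by
    intro e he
    rcases IsLocalRing.isUnit_or_isUnit_one_sub_self e with h | h
    · exact Or.inr (H4_idem_unit_eq_one he h)
    · left
      have := H4_idem_unit_eq_one he.one_sub h
      exact sub_eq_self.1 this
  obtain ⟨hD, hlocD⟩ := H4_integral_henselian Rh (Localization.AtPrime Q) hidem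
  haveI := hD
  haveI := hlocD
  haveI : Algebra.IsAlgebraic (ResidueField Rh) (ResidueField (Localization.AtPrime Q)) := by
    refine ⟨fun x => ?_⟩
    obtain ⟨t, rfl⟩ := residue_surjective x
    refine IsIntegral.isAlgebraic ?_
    exact IsIntegral.map_of_comp_eq (residue Rh) (residue (Localization.AtPrime Q)) rfl
      (Algebra.IsIntegral.isIntegral t)
  haveI hscD : IsSepClosed (IsLocalRing.ResidueField (Localization.AtPrime Q)) :=
    Algebra.IsAlgebraic.isSepClosed (F := IsLocalRing.ResidueField Rh)
  haveI : IsLocalHom (algebraMap (Localization.AtPrime Q) (Localization.AtPrime Q)) :=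
    ⟨fun a h => h⟩
  haveI := H4_isStrictHenselization_self (Localization.AtPrime Q)
  obtain ⟨e, he⟩ := H4_shens_tensor_at_prime R S p q Rh Sh Q hQ (Localization.AtPrime Q)
  refine ⟨fun y => ?_⟩
  obtain ⟨l, rfl⟩ := e.surjective y
  refine IsIntegral.map_of_comp_eq (RingHom.id Rh) (e : Localization.AtPrime Q →+* Sh) ?_
    (Algebra.IsIntegral.isIntegral l)
  ext r
  simp only [RingHom.comp_apply, RingHom.id_apply, RingHom.coe_coe]
  rw [IsScalarTower.algebraMap_apply Rh (Rh ⊗[R] S) (Localization.AtPrime Q)]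
  have h1 := he (algebraMap Rh (Rh ⊗[R] S) r)
  rw [Algebra.algebraMap_self, RingHom.id_apply] at h1
  rw [h1, Algebra.TensorProduct.algebraMap_apply, Algebra.TensorProduct.lift_tmul]
  simp

/-- For `R → S` integral, `S^sh` is integral over `R^sh`. -/
theorem H4_integral_shens_of_integral (R : Type u) [CommRing R] (S : Type u)
    [CommRing S] [Algebra R S] [Algebra.IsIntegral R S] (p : Ideal R) [p.IsPrime] (q : Ideal S)
    [q.IsPrime] [q.LiesOver p]
    (Rh : Type u) [CommRing Rh] [IsLocalRing Rh] [Algebra (Localization.AtPrime p) Rh]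
    [IsLocalHom (algebraMap (Localization.AtPrime p) Rh)]
    [Hensel.IsStrictHenselization (Localization.AtPrime p) Rh] [Algebra R Rh]
    [IsScalarTower R (Localization.AtPrime p) Rh]
    (Sh : Type u) [CommRing Sh] [IsLocalRing Sh] [Algebra (Localization.AtPrime q) Sh]
    [IsLocalHom (algebraMap (Localization.AtPrime q) Sh)]
    [Hensel.IsStrictHenselization (Localization.AtPrime q) Sh] [Algebra S Sh]
    [IsScalarTower S (Localization.AtPrime q) Sh] [Algebra R Sh] [IsScalarTower R S Sh]
    [Algebra Rh Sh] [IsScalarTower R Rh Sh] [IsLocalHom (algebraMap Rh Sh)] :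
    Algebra.IsIntegral Rh Sh := by
  classical
  haveI hRh : HenselianLocalRing Rh :=
    Hensel.IsStrictHenselization.henselian (R := Localization.AtPrime p)
  set φ : Rh ⊗[R] S →ₐ[R] Sh := Algebra.TensorProduct.lift (IsScalarTower.toAlgHom R Rh Sh)
    (IsScalarTower.toAlgHom R S Sh) (fun _ _ => Commute.all _ _) with hφ
  set Q : Ideal (Rh ⊗[R] S) := Ideal.comap φ (IsLocalRing.maximalIdeal Sh) with hQ
  haveI hQp : Q.IsPrime := Ideal.comap_isPrime _ _
  have hQR : Q.comap (algebraMap Rh (Rh ⊗[R] S)) = maximalIdeal Rh := by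
    have h0 : maximalIdeal Rh = (maximalIdeal Sh).comap (algebraMap Rh Sh) :=
      (maximalIdeal Sh).over_def (maximalIdeal Rh)
    ext r
    rw [h0, Ideal.mem_comap, Ideal.mem_comap]
    show φ (algebraMap Rh _ r) ∈ maximalIdeal Sh ↔ _
    have h1 : φ (algebraMap Rh (Rh ⊗[R] S) r) = algebraMap Rh Sh r := by
      rw [Algebra.TensorProduct.algebraMap_apply, hφ, Algebra.TensorProduct.lift_tmul]
      simp
    rw [h1, Ideal.mem_comap]
  haveI hQm : Q.IsMaximal := by
    apply Ideal.isMaximal_of_isIntegral_of_isMaximal_comap (R := Rh)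
    rw [hQR]
    exact maximalIdeal.isMaximal Rh
  have hsurj := H4_localization_surjective_of_integral (R := Rh) Q
  haveI : Algebra.IsIntegral Rh (Localization.AtPrime Q) :=
    Algebra.IsIntegral.of_surjective (IsScalarTower.toAlgHom Rh (Rh ⊗[R] S) (Localization.AtPrime Q))
      hsurj
  exact H4_integral_shens_of_integral_localization R S p q Rh Sh Q rfl

end Groth.Agent.H4
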