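import Mathlib
import Groth.Prelude.Def_Hensel
import Groth.Agent.Lib.helper4.HensQuasiFinite
import Groth.Agent.Lib.helper4.ShIntegral

/-!
# Ind-quasi-finite algebras: the localization of `A^sh ⊗_A B` is integral over `A^sh`
-/

set_option autoImplicit false

open TensorProduct IsLocalRing

namespace Groth.Agent.H4

universe u

set_option maxHeartbeats 800000 in
theorem H4_integral_localization_of_indQuasiFinite (A B : Type u) [CommRing A] [CommRing B]
    [Algebra A B]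
    (Ash : Type u) [CommRing Ash] [HenselianLocalRing Ash] [Algebra A Ash]
    (Bsh : Type u) [CommRing Bsh] [IsLocalRing Bsh] [Algebra B Bsh] [Algebra A Bsh]
    [IsScalarTower A B Bsh] [Algebra Ash Bsh] [IsScalarTower A Ash Bsh]
    [IsLocalHom (algebraMap Ash Bsh)]
    (hB : ∀ s : Finset B, ∃ B₀ : Subalgebra A B, (↑s : Set B) ⊆ ↑B₀ ∧
      Algebra.FiniteType A ↥B₀ ∧ Algebra.QuasiFinite A ↥B₀)
    (Q : Ideal (Ash ⊗[A] B)) [Q.IsPrime]
    (hQ : Q = Ideal.comap (Algebra.TensorProduct.lift (IsScalarTower.toAlgHom A Ash Bsh)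
      (IsScalarTower.toAlgHom A B Bsh) (fun _ _ => Commute.all _ _)) (maximalIdeal Bsh)) :
    Algebra.IsIntegral Ash (Localization.AtPrime Q) := by
  classical
  set φ : Ash ⊗[A] B →ₐ[A] Bsh := Algebra.TensorProduct.lift (IsScalarTower.toAlgHom A Ash Bsh)
      (IsScalarTower.toAlgHom A B Bsh) (fun _ _ => Commute.all _ _) with hφ
  refine ⟨fun z => ?_⟩
  obtain ⟨x, s, rfl⟩ := IsLocalization.exists_mk'_eq Q.primeCompl z
  obtain ⟨Sx, hSx⟩ := TensorProduct.exists_finset x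
  obtain ⟨Ss, hSs⟩ := TensorProduct.exists_finset (s : Ash ⊗[A] B)
  obtain ⟨B₀, hsub, hft, hqf⟩ := hB (Sx.image Prod.snd ∪ Ss.image Prod.snd)
  haveI := hft
  haveI := hqf
  let ι : Ash ⊗[A] B₀ →ₐ[Ash] Ash ⊗[A] B :=
    Algebra.TensorProduct.map (AlgHom.id Ash Ash) B₀.val
  have hιtmul : ∀ (r : Ash) (b : B₀), ι (r ⊗ₜ[A] b) = r ⊗ₜ[A] (b : B) := by
    intro r b
    simp [ι]
  have hmem : ∀ (r : Ash) (b : B), b ∈ B₀ → r ⊗ₜ[A] b ∈ ι.range :=
    fun r b hb => ⟨r ⊗ₜ[A] (⟨b, hb⟩ : B₀), hιtmul r ⟨b, hb⟩⟩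
  have hx : x ∈ ι.range := by
    rw [hSx]
    refine Subalgebra.sum_mem _ (fun i hi => hmem _ _ (hsub ?_))
    simp only [Finset.coe_union, Finset.coe_image, Set.mem_union, Set.mem_image, Finset.mem_coe]
    exact Or.inl ⟨i, hi, rfl⟩
  have hs : (s : Ash ⊗[A] B) ∈ ι.range := by
    rw [hSs]
    refine Subalgebra.sum_mem _ (fun i hi => hmem _ _ (hsub ?_))
    simp only [Finset.coe_union, Finset.coe_image, Set.mem_union, Set.mem_image, Finset.mem_coe]
    exact Or.inr ⟨i, hi, rfl⟩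
  obtain ⟨x₀, hx₀⟩ := hx
  obtain ⟨s₀, hs₀⟩ := hs
  haveI tw : IsScalarTower A B₀ Bsh := IsScalarTower.of_algebraMap_eq (fun a => by
    show algebraMap A Bsh a = algebraMap B Bsh ((algebraMap A B₀ a : B₀) : B)
    rw [IsScalarTower.algebraMap_apply A B Bsh]
    rfl)
  let q₀ : Ideal B₀ := (maximalIdeal Bsh).comap (algebraMap B₀ Bsh)
  haveI : q₀.IsPrime := Ideal.comap_isPrime _ _
  set φ₀ : Ash ⊗[A] B₀ →ₐ[A] Bsh := Algebra.TensorProduct.lift (IsScalarTower.toAlgHom A Ash Bsh)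
      (IsScalarTower.toAlgHom A B₀ Bsh) (fun _ _ => Commute.all _ _) with hφ₀
  let Q₀ : Ideal (Ash ⊗[A] B₀) := Ideal.comap φ₀ (maximalIdeal Bsh)
  haveI : Q₀.IsPrime := Ideal.comap_isPrime _ _
  haveI hfin : Module.Finite Ash (Localization.AtPrime Q₀) :=
    H4_finite_tensor_localization A B₀ q₀ Ash Bsh rfl Q₀ rfl
  have hφι : ∀ t, φ (ι t) = φ₀ t := by
    intro t
    induction t using TensorProduct.induction_on with
    | zero => simp
    | tmul r b =>
      rw [hιtmul, hφ, hφ₀, Algebra.TensorProduct.lift_tmul, Algebra.TensorProduct.lift_tmul]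
      rfl
    | add u v hu hv => rw [map_add, map_add, map_add, hu, hv]
  have hQ₀ : Q₀ = Q.comap (ι : Ash ⊗[A] B₀ →+* Ash ⊗[A] B) := by
    ext t
    rw [Ideal.mem_comap, hQ, Ideal.mem_comap]
    show φ₀ t ∈ maximalIdeal Bsh ↔ φ (ι t) ∈ maximalIdeal Bsh
    rw [hφι]
  let ρ : Localization.AtPrime Q₀ →+* Localization.AtPrime Q :=
    Localization.localRingHom Q₀ Q (ι : Ash ⊗[A] B₀ →+* Ash ⊗[A] B) hQ₀
  have hs₀Q : s₀ ∈ Q₀.primeCompl := by
    intro h'
    have h : s₀ ∈ Q₀ := h'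
    rw [hQ₀, Ideal.mem_comap] at h
    have h2 : (ι : Ash ⊗[A] B₀ →+* Ash ⊗[A] B) s₀ = (s : Ash ⊗[A] B) := hs₀
    rw [h2] at h
    exact s.2 h
  let z₀ : Localization.AtPrime Q₀ := IsLocalization.mk' _ x₀ (⟨s₀, hs₀Q⟩ : Q₀.primeCompl)
  have hz : ρ z₀ = IsLocalization.mk' (Localization.AtPrime Q) x s := by
    rw [IsLocalization.eq_mk'_iff_mul_eq]
    have h1 : algebraMap (Ash ⊗[A] B) (Localization.AtPrime Q) (s : Ash ⊗[A] B) =
        ρ (algebraMap _ (Localization.AtPrime Q₀) s₀) := by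
      rw [Localization.localRingHom_to_map]
      congr 1
      exact hs₀.symm
    have h2 : algebraMap (Ash ⊗[A] B) (Localization.AtPrime Q) x =
        ρ (algebraMap _ (Localization.AtPrime Q₀) x₀) := by
      rw [Localization.localRingHom_to_map]
      congr 1
      exact hx₀.symm
    rw [h1, h2, ← map_mul]
    congr 1
    exact IsLocalization.mk'_spec _ x₀ (⟨s₀, hs₀Q⟩ : Q₀.primeCompl)
  rw [← hz]
  haveI : Algebra.IsIntegral Ash (Localization.AtPrime Q₀) := Algebra.IsIntegral.of_finite _ _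
  refine IsIntegral.map_of_comp_eq (RingHom.id Ash) ρ ?_ (Algebra.IsIntegral.isIntegral z₀)
  ext r
  simp only [RingHom.comp_apply, RingHom.id_apply]
  rw [IsScalarTower.algebraMap_apply Ash (Ash ⊗[A] B₀) (Localization.AtPrime Q₀),
    Localization.localRingHom_to_map,
    IsScalarTower.algebraMap_apply Ash (Ash ⊗[A] B) (Localization.AtPrime Q)]
  congr 1

end Groth.Agent.H4
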