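import Mathlib
import Groth.Prelude.Def_Hensel
import Groth.Agent.Lib.helper4.SHensGeneratedGen
import Groth.Agent.Lib.helper4.HensQuasiFinite
import Groth.Agent.Lib.helper4.TensorHenselization
import Groth.Agent.Lib.helper4.ShIntegral

/-!
# Integrality of `S^sh` over `R^sh`, version for local rings `R → S`
-/

set_option autoImplicit false

open TensorProduct IsLocalRing

namespace Groth.Agent.H4

universe u

set_option maxHeartbeats 800000 in
theorem H4_integral_shens_local (R S : Type u) [CommRing R] [IsLocalRing R] [CommRing S]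
    [IsLocalRing S] [Algebra R S] [IsLocalHom (algebraMap R S)]
    (Rh : Type u) [CommRing Rh] [IsLocalRing Rh] [Algebra R Rh] [IsLocalHom (algebraMap R Rh)]
    [Hensel.IsStrictHenselization R Rh]
    (Sh : Type u) [CommRing Sh] [IsLocalRing Sh] [Algebra S Sh] [IsLocalHom (algebraMap S Sh)]
    [Hensel.IsStrictHenselization S Sh]
    [Algebra R Sh] [IsScalarTower R S Sh] [Algebra Rh Sh] [IsScalarTower R Rh Sh]
    (Q : Ideal (Rh ⊗[R] S)) [Q.IsPrime]
    (hQ : Q = Ideal.comap (Algebra.TensorProduct.lift (IsScalarTower.toAlgHom R Rh Sh)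
      (IsScalarTower.toAlgHom R S Sh) (fun _ _ => Commute.all _ _)) (maximalIdeal Sh))
    [hint : Algebra.IsIntegral Rh (Localization.AtPrime Q)] :
    Algebra.IsIntegral Rh Sh := by
  classical
  haveI hRh : HenselianLocalRing Rh := Hensel.IsStrictHenselization.henselian (R := R)
  haveI hsc : IsSepClosed (ResidueField Rh) :=
    (Hensel.IsStrictHenselization.isSepClosure (R := R) (S := Rh)).sep_closed
  set φ : Rh ⊗[R] S →ₐ[R] Sh := Algebra.TensorProduct.lift (IsScalarTower.toAlgHom R Rh Sh)
    (IsScalarTower.toAlgHom R S Sh) (fun _ _ => Commute.all _ _) with hφ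
  have hφtmul : ∀ r s, φ (r ⊗ₜ[R] s) = algebraMap Rh Sh r * algebraMap S Sh s := by
    intro r s
    rw [hφ, Algebra.TensorProduct.lift_tmul]
    rfl
  have hQ' : Q = Ideal.comap φ.toRingHom (maximalIdeal Sh) := hQ
  have hmemQ : ∀ t : Rh ⊗[R] S, t ∈ Q ↔ φ t ∈ maximalIdeal Sh := by
    intro t
    rw [hQ']
    rfl
  have hunit : ∀ y : Q.primeCompl, IsUnit (φ.toRingHom (y : Rh ⊗[R] S)) := by
    intro y
    have h1 : (y : Rh ⊗[R] S) ∉ Q := y.2
    rw [hmemQ, mem_maximalIdeal, mem_nonunits_iff] at h1
    push Not at h1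
    exact h1
  set ψ : Localization.AtPrime Q →+* Sh := IsLocalization.lift (M := Q.primeCompl) hunit with hψ
  have hψa : ψ.comp (algebraMap (Rh ⊗[R] S) (Localization.AtPrime Q)) = φ.toRingHom :=
    IsLocalization.lift_comp _
  haveI hlocA : IsLocalization.AtPrime R (maximalIdeal R) :=
    IsLocalization.of_le_isUnit (fun x hx => by
      have : x ∉ maximalIdeal R := hx
      rw [mem_maximalIdeal, mem_nonunits_iff] at this
      push Not at this
      exact this)
  haveI hlocB : IsLocalization.AtPrime S (maximalIdeal S) :=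
    IsLocalization.of_le_isUnit (fun x hx => by
      have : x ∉ maximalIdeal S := hx
      rw [mem_maximalIdeal, mem_nonunits_iff] at this
      push Not at this
      exact this)
  have hgen : ∀ (C : Type u) [CommRing C] (a b : Rh ⊗[R] S →+* C),
      a.comp (Algebra.TensorProduct.includeLeftRingHom : Rh →+* Rh ⊗[R] S) =
        b.comp (Algebra.TensorProduct.includeLeftRingHom : Rh →+* Rh ⊗[R] S) →
      a.comp (Algebra.TensorProduct.includeRight : S →ₐ[R] Rh ⊗[R] S).toRingHom =
        b.comp (Algebra.TensorProduct.includeRight : S →ₐ[R] Rh ⊗[R] S).toRingHom → a = b := by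
    intro C _ a b h1 h2
    refine RingHom.ext fun t => ?_
    induction t using TensorProduct.induction_on with
    | zero => simp
    | tmul r s =>
      have h3 : r ⊗ₜ[R] s = (Algebra.TensorProduct.includeLeftRingHom : Rh →+* Rh ⊗[R] S) r *
          (Algebra.TensorProduct.includeRight : S →ₐ[R] Rh ⊗[R] S).toRingHom s := by
        simp
      rw [h3, map_mul, map_mul]
      have h4 := RingHom.congr_fun h1 r
      have h5 := RingHom.congr_fun h2 s
      simp only [RingHom.coe_comp, Function.comp_apply] at h4 h5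
      rw [h4, h5]
    | add x y hx hy => rw [map_add, map_add, hx, hy]
  have hR : (Algebra.TensorProduct.includeLeftRingHom : Rh →+* Rh ⊗[R] S).comp
      ((algebraMap R Rh).comp (algebraMap R R)) =
      (Algebra.TensorProduct.includeRight : S →ₐ[R] Rh ⊗[R] S).toRingHom.comp (algebraMap R S) := by
    ext r
    simp only [RingHom.coe_comp, Function.comp_apply, Algebra.TensorProduct.includeLeftRingHom_apply,
      AlgHom.toRingHom_eq_coe, RingHom.coe_coe, Algebra.TensorProduct.includeRight_apply,
      Algebra.algebraMap_self, RingHom.id_apply]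
    rw [Algebra.algebraMap_eq_smul_one, Algebra.algebraMap_eq_smul_one (A := S),
      TensorProduct.smul_tmul]
  have hS : φ.toRingHom.comp (Algebra.TensorProduct.includeRight : S →ₐ[R] Rh ⊗[R] S).toRingHom =
      (algebraMap S Sh).comp (algebraMap S S) := by
    ext s
    simp only [RingHom.coe_comp, Function.comp_apply, AlgHom.toRingHom_eq_coe, RingHom.coe_coe,
      Algebra.TensorProduct.includeRight_apply, Algebra.algebraMap_self, RingHom.id_apply]
    rw [hφtmul, map_one, one_mul]
  have hmain := H4_isStrictHenselization_of_generated' R S (maximalIdeal R) (maximalIdeal S) R S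
    Rh Sh (Rh ⊗[R] S) (Algebra.TensorProduct.includeLeftRingHom : Rh →+* Rh ⊗[R] S)
    (Algebra.TensorProduct.includeRight : S →ₐ[R] Rh ⊗[R] S).toRingHom φ.toRingHom
    hgen hR hS Q hQ' ψ hψa
  letI algDT : Algebra (Localization.AtPrime Q) Sh := ψ.toAlgebra
  obtain ⟨hloc, hH⟩ := hmain
  have hidem : ∀ e : Localization.AtPrime Q, IsIdempotentElem e → e = 0 ∨ e = 1 := by
    intro e he
    rcases IsLocalRing.isUnit_or_isUnit_one_sub_self e with h | h
    · exact Or.inr (H4_idem_unit_eq_one he h)
    · left
      have := H4_idem_unit_eq_one he.one_sub h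
      exact sub_eq_self.1 this
  obtain ⟨hD, hlocD⟩ := H4_integral_henselian Rh (Localization.AtPrime Q) hidem
  haveI := hD
  haveI := hlocD
  haveI : Algebra.IsAlgebraic (ResidueField Rh) (ResidueField (Localization.AtPrime Q)) := by
    refine ⟨fun x => ?_⟩
    obtain ⟨t, rfl⟩ := residue_surjective x
    refine IsIntegral.isAlgebraic ?_
    exact IsIntegral.map_of_comp_eq (residue Rh) (residue (Localization.AtPrime Q)) rfl
      (Algebra.IsIntegral.isIntegral t)
  haveI hscD : IsSepClosed (ResidueField (Localization.AtPrime Q)) :=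
    Algebra.IsAlgebraic.isSepClosed (F := ResidueField Rh)
  haveI : IsLocalHom (algebraMap (Localization.AtPrime Q) (Localization.AtPrime Q)) :=
    ⟨fun a h => h⟩
  haveI := H4_isStrictHenselization_self (Localization.AtPrime Q)
  obtain ⟨e1⟩ := H4_strictHenselization_equiv (R := Localization.AtPrime Q) (Localization.AtPrime Q)
  obtain ⟨e2⟩ := H4_strictHenselization_equiv (R := Localization.AtPrime Q) Sh
  have he : ∀ l : Localization.AtPrime Q, (e1.trans e2.symm) l = ψ l := by
    intro l
    have h1 : (e1.trans e2.symm) (algebraMap (Localization.AtPrime Q) (Localization.AtPrime Q) l) =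
        algebraMap (Localization.AtPrime Q) Sh l := AlgEquiv.commutes _ _
    rw [Algebra.algebraMap_self, RingHom.id_apply] at h1
    exact h1
  refine ⟨fun y => ?_⟩
  obtain ⟨l, rfl⟩ := (e1.trans e2.symm).surjective y
  rw [he]
  refine IsIntegral.map_of_comp_eq (RingHom.id Rh) ψ ?_ (Algebra.IsIntegral.isIntegral l)
  ext r
  simp only [RingHom.comp_apply, RingHom.id_apply]
  rw [IsScalarTower.algebraMap_apply Rh (Rh ⊗[R] S) (Localization.AtPrime Q)]
  have h1 : ψ (algebraMap (Rh ⊗[R] S) (Localization.AtPrime Q) (algebraMap Rh (Rh ⊗[R] S) r)) =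
      φ (algebraMap Rh (Rh ⊗[R] S) r) := RingHom.congr_fun hψa _
  rw [h1, Algebra.TensorProduct.algebraMap_apply, hφtmul]
  simp

end Groth.Agent.H4
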