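import Mathlib
import Groth.Prelude.Def_Hensel
import Groth.Agent.Lib.helper4.IntegralHenselian
import Groth.Agent.Lib.helper4.TensorHenselization

/-!
# Tensor products of an integral, residually purely inseparable local algebra with a local algebra

Let `R → B` and `R → C` be local homomorphisms of local rings, with `B` integral over `R` and the
residue field extension of `R → B` purely inseparable.  Then `B ⊗[R] C` (if nontrivial) is a local
ring, integral over `C`, with residue field purely inseparable over that of `C`; it is henselian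
if `C` is.
-/

set_option autoImplicit false

open TensorProduct IsLocalRing

namespace Groth.Agent.H4

universe u

section X

variable (R B C : Type u) [CommRing R] [IsLocalRing R] [CommRing B] [IsLocalRing B]
  [CommRing C] [IsLocalRing C] [Algebra R B] [Algebra R C]
  [IsLocalHom (algebraMap R B)] [IsLocalHom (algebraMap R C)]

attribute [local instance] Algebra.TensorProduct.rightAlgebra

/-- The ideal of `B ⊗[R] C` generated by the maximal ideal of `B`. -/
noncomputable def H4_leftIdeal : Ideal (B ⊗[R] C) :=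
  (maximalIdeal B).map (Algebra.TensorProduct.includeLeftRingHom : B →+* B ⊗[R] C)

variable {R B C}

omit [IsLocalRing R] [IsLocalRing C] [IsLocalHom (algebraMap R B)] [IsLocalHom (algebraMap R C)] in
theorem H4_tmul_mem_leftIdeal {b : B} (hb : b ∈ maximalIdeal B) (c : C) :
    b ⊗ₜ[R] c ∈ H4_leftIdeal R B C := by
  have h : b ⊗ₜ[R] c = (Algebra.TensorProduct.includeLeftRingHom : B →+* B ⊗[R] C) b *
      ((1 : B) ⊗ₜ[R] c) := by
    simp
  rw [h]
  exact Ideal.mul_mem_right _ _ (Ideal.mem_map_of_mem _ hb)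

omit [IsLocalRing R] [IsLocalRing B] [IsLocalRing C] [IsLocalHom (algebraMap R B)]
  [IsLocalHom (algebraMap R C)] in
theorem H4_pow_sub_pow_mem {T : Type u} [CommRing T] (I : Ideal T) {u v : T} (h : u - v ∈ I)
    (k : ℕ) : u ^ k - v ^ k ∈ I :=
  Ideal.mem_of_dvd I (sub_dvd_pow_sub_pow u v k) h

variable (R B C)

omit [IsLocalRing C] [IsLocalHom (algebraMap R C)] in
/-- Every element of `B ⊗[R] C` has a `q`-power congruent to an element of `C` modulo
`𝔪_B (B ⊗[R] C)`. -/
theorem H4_tensor_pow_mem (q : ℕ) [hq : ExpChar (ResidueField R) q]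
    [IsPurelyInseparable (ResidueField R) (ResidueField B)] (x : B ⊗[R] C) :
    ∃ (n : ℕ) (c : C), x ^ q ^ n - (1 : B) ⊗ₜ[R] c ∈ H4_leftIdeal R B C := by
  induction x using TensorProduct.induction_on with
  | zero => exact ⟨0, 0, by simp⟩
  | tmul b c =>
    obtain ⟨n, a, ha⟩ := IsPurelyInseparable.pow_mem (ResidueField R) q (residue B b)
    obtain ⟨a', rfl⟩ := residue_surjective a
    have hm : b ^ q ^ n - algebraMap R B a' ∈ maximalIdeal B := by
      rw [← Ideal.Quotient.eq]
      have h1 : residue B (b ^ q ^ n) = residue B (algebraMap R B a') := by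
        rw [map_pow, ← ha, ResidueField.algebraMap_residue]
      exact h1
    refine ⟨n, a' • c ^ q ^ n, ?_⟩
    have h2 : (b ⊗ₜ[R] c) ^ q ^ n - (1 : B) ⊗ₜ[R] (a' • c ^ q ^ n) =
        (b ^ q ^ n - algebraMap R B a') ⊗ₜ[R] (c ^ q ^ n) := by
      rw [Algebra.TensorProduct.tmul_pow, TensorProduct.sub_tmul, Algebra.algebraMap_eq_smul_one,
        TensorProduct.smul_tmul]
    rw [h2]
    exact H4_tmul_mem_leftIdeal hm _
  | add x y hx hy =>
    obtain ⟨n, c₁, h₁⟩ := hx
    obtain ⟨m, c₂, h₂⟩ := hy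
    have hx' : x ^ q ^ (n + m) - (1 : B) ⊗ₜ[R] (c₁ ^ q ^ m) ∈ H4_leftIdeal R B C := by
      have := H4_pow_sub_pow_mem _ h₁ (q ^ m)
      rwa [← pow_mul, ← pow_add, Algebra.TensorProduct.tmul_pow, one_pow] at this
    have hy' : y ^ q ^ (n + m) - (1 : B) ⊗ₜ[R] (c₂ ^ q ^ n) ∈ H4_leftIdeal R B C := by
      have := H4_pow_sub_pow_mem _ h₂ (q ^ n)
      rwa [← pow_mul, ← pow_add, Algebra.TensorProduct.tmul_pow, one_pow, add_comm m n] at this
    have hxy : (x + y) ^ q ^ (n + m) - (x ^ q ^ (n + m) + y ^ q ^ (n + m)) ∈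
        H4_leftIdeal R B C := by
      obtain _ | hprime := hq
      · simp
      · rename_i hchar
        obtain ⟨r, hr⟩ := exists_add_pow_prime_pow_eq hprime x y (n + m)
        rw [hr, add_sub_cancel_left]
        have hqB : (q : B) ∈ maximalIdeal B := by
          rw [← Ideal.Quotient.eq_zero_iff_mem]
          have h3 : residue B (q : B) = algebraMap (ResidueField R) (ResidueField B)
              ((q : ResidueField R)) := by
            rw [map_natCast, map_natCast]
          have h4 : ((q : ResidueField R)) = 0 := CharP.cast_eq_zero _ q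
          rw [h4, map_zero] at h3
          exact h3
        have h5 : ((q : B ⊗[R] C)) = (q : B) ⊗ₜ[R] (1 : C) := by
          rw [← map_natCast (Algebra.TensorProduct.includeLeftRingHom : B →+* B ⊗[R] C)]
          rfl
        rw [h5, mul_assoc, mul_assoc]
        exact Ideal.mul_mem_right _ _ (H4_tmul_mem_leftIdeal hqB _)
    refine ⟨n + m, c₁ ^ q ^ m + c₂ ^ q ^ n, ?_⟩
    have h6 : (x + y) ^ q ^ (n + m) - (1 : B) ⊗ₜ[R] (c₁ ^ q ^ m + c₂ ^ q ^ n) =
        ((x + y) ^ q ^ (n + m) - (x ^ q ^ (n + m) + y ^ q ^ (n + m))) +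
        ((x ^ q ^ (n + m) - (1 : B) ⊗ₜ[R] (c₁ ^ q ^ m)) +
          (y ^ q ^ (n + m) - (1 : B) ⊗ₜ[R] (c₂ ^ q ^ n))) := by
      rw [TensorProduct.tmul_add]
      ring
    rw [h6]
    exact Ideal.add_mem _ hxy (Ideal.add_mem _ hx' hy')

omit [IsLocalRing C] [IsLocalHom (algebraMap R C)] in
/-- A prime ideal of `B ⊗[R] C` whose contraction to `R` is the maximal ideal contains
`𝔪_B (B ⊗[R] C)`. -/
theorem H4_leftIdeal_le_of_comap [Algebra.IsIntegral R B] (M : Ideal (B ⊗[R] C)) [M.IsPrime]
    (hM : M.comap (algebraMap R (B ⊗[R] C)) = maximalIdeal R) :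
    H4_leftIdeal R B C ≤ M ∧
      M.comap (Algebra.TensorProduct.includeLeftRingHom : B →+* B ⊗[R] C) = maximalIdeal B := by
  set P : Ideal B := M.comap (Algebra.TensorProduct.includeLeftRingHom : B →+* B ⊗[R] C) with hP
  haveI : P.IsPrime := Ideal.comap_isPrime _ _
  have h1 : P.comap (algebraMap R B) = maximalIdeal R := by
    rw [← hM, hP, Ideal.comap_comap]
    congr 1
  have h2 : P.IsMaximal := by
    apply Ideal.isMaximal_of_isIntegral_of_isMaximal_comap (R := R)
    rw [h1]
    exact maximalIdeal.isMaximal R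
  have h3 : P = maximalIdeal B := eq_maximalIdeal h2
  refine ⟨?_, h3⟩
  unfold H4_leftIdeal
  rw [Ideal.map_le_iff_le_comap, ← h3]

omit [IsLocalHom (algebraMap R B)] in
/-- The contraction to `C` of a maximal ideal of `B ⊗[R] C` is the maximal ideal. -/
theorem H4_comap_right_of_isMaximal [Algebra.IsIntegral R B] (M : Ideal (B ⊗[R] C))
    [M.IsMaximal] : M.comap (algebraMap C (B ⊗[R] C)) = maximalIdeal C := by
  haveI := H4_tensor_isIntegral_right R B C
  exact eq_maximalIdeal (Ideal.isMaximal_comap_of_isIntegral_of_isMaximal M)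

/-- The contraction to `R` of a maximal ideal of `B ⊗[R] C` is the maximal ideal. -/
theorem H4_comap_base_of_isMaximal [Algebra.IsIntegral R B] (M : Ideal (B ⊗[R] C))
    [M.IsMaximal] : M.comap (algebraMap R (B ⊗[R] C)) = maximalIdeal R := by
  have h1 := H4_comap_right_of_isMaximal R B C M
  have h2 : (algebraMap R (B ⊗[R] C)) = (algebraMap C (B ⊗[R] C)).comp (algebraMap R C) := by
    ext r
    rw [RingHom.comp_apply, Algebra.TensorProduct.algebraMap_apply]
    show _ = (1 : B) ⊗ₜ[R] (algebraMap R C r)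
    rw [Algebra.algebraMap_eq_smul_one, Algebra.algebraMap_eq_smul_one (A := C),
      TensorProduct.smul_tmul]
  rw [h2, ← Ideal.comap_comap, h1]
  exact ((maximalIdeal C).over_def (maximalIdeal R)).symm

/-- `B ⊗[R] C` is a local ring. -/
theorem H4_tensor_isLocalRing [Algebra.IsIntegral R B]
    [IsPurelyInseparable (ResidueField R) (ResidueField B)] [Nontrivial (B ⊗[R] C)] :
    IsLocalRing (B ⊗[R] C) := by
  obtain ⟨M₀, hM₀⟩ := Ideal.exists_maximal (B ⊗[R] C)
  have key : ∀ (M₁ M₂ : Ideal (B ⊗[R] C)), M₁.IsMaximal → M₂.IsMaximal → M₁ ≤ M₂ := by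
    intro M₁ M₂ hM₁ hM₂ x hx
    haveI := hM₁
    haveI := hM₂
    haveI : ExpChar (ResidueField R) (ringExpChar (ResidueField R)) :=
      ringExpChar.expChar _
    obtain ⟨n, c, hc⟩ := H4_tensor_pow_mem R B C (ringExpChar (ResidueField R)) x
    have hb₁ := (H4_leftIdeal_le_of_comap R B C M₁ (H4_comap_base_of_isMaximal R B C M₁)).1
    have hb₂ := (H4_leftIdeal_le_of_comap R B C M₂ (H4_comap_base_of_isMaximal R B C M₂)).1
    have h1 : (1 : B) ⊗ₜ[R] c ∈ M₁ := by
      have := M₁.sub_mem (M₁.pow_mem_of_mem hx (ringExpChar (ResidueField R) ^ n)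
        (pow_pos (expChar_pos (ResidueField R) _) n)) (hb₁ hc)
      simpa using this
    have h2 : c ∈ M₁.comap (algebraMap C (B ⊗[R] C)) := h1
    rw [H4_comap_right_of_isMaximal R B C M₁, ← H4_comap_right_of_isMaximal R B C M₂] at h2
    have h3 : (1 : B) ⊗ₜ[R] c ∈ M₂ := h2
    have h4 : x ^ ringExpChar (ResidueField R) ^ n ∈ M₂ := by
      have := M₂.add_mem (hb₂ hc) h3
      simpa using this
    exact (Ideal.IsMaximal.isPrime hM₂).mem_of_pow_mem _ h4
  exact IsLocalRing.of_unique_max_ideal
    ⟨M₀, hM₀, fun M hM => (hM.eq_of_le hM₀.ne_top (key M M₀ hM hM₀))⟩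

section props

variable [IsLocalRing (B ⊗[R] C)] [Algebra.IsIntegral R B]

omit [IsLocalHom (algebraMap R B)] in
/-- `C → B ⊗[R] C` is a local homomorphism. -/
theorem H4_tensor_isLocalHom_right : IsLocalHom (algebraMap C (B ⊗[R] C)) :=
  ((local_hom_TFAE (algebraMap C (B ⊗[R] C))).out 0 4).mpr
    (H4_comap_right_of_isMaximal R B C (maximalIdeal (B ⊗[R] C)))

/-- `B → B ⊗[R] C` is a local homomorphism. -/
theorem H4_tensor_isLocalHom_left :
    IsLocalHom (Algebra.TensorProduct.includeLeftRingHom : B →+* B ⊗[R] C) :=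
  ((local_hom_TFAE (Algebra.TensorProduct.includeLeftRingHom : B →+* B ⊗[R] C)).out 0 4).mpr
    (H4_leftIdeal_le_of_comap R B C (maximalIdeal (B ⊗[R] C))
      (H4_comap_base_of_isMaximal R B C (maximalIdeal (B ⊗[R] C)))).2

omit [IsLocalHom (algebraMap R B)] in
/-- `B ⊗[R] C` is henselian if `C` is. -/
theorem H4_tensor_henselian [hC : HenselianLocalRing C] : HenselianLocalRing (B ⊗[R] C) := by
  haveI := H4_tensor_isIntegral_right R B C
  have hidem : ∀ e : B ⊗[R] C, IsIdempotentElem e → e = 0 ∨ e = 1 := by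
    intro e he
    rcases IsLocalRing.isUnit_or_isUnit_one_sub_self e with h | h
    · exact Or.inr (H4_idem_unit_eq_one he h)
    · left
      have := H4_idem_unit_eq_one he.one_sub h
      exact sub_eq_self.1 this
  obtain ⟨h, -⟩ := H4_integral_henselian C (B ⊗[R] C) hidem
  exact h

omit [IsLocalHom (algebraMap R B)] in
/-- The residue field of `B ⊗[R] C` is separably closed if that of `C` is. -/
theorem H4_tensor_isSepClosed [IsSepClosed (ResidueField C)] :
    IsSepClosed (ResidueField (B ⊗[R] C)) := by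
  haveI := H4_tensor_isIntegral_right R B C
  haveI := H4_tensor_isLocalHom_right R B C
  haveI : Algebra.IsAlgebraic (ResidueField C) (ResidueField (B ⊗[R] C)) := by
    refine ⟨fun x => ?_⟩
    obtain ⟨t, rfl⟩ := residue_surjective x
    refine IsIntegral.isAlgebraic ?_
    exact IsIntegral.map_of_comp_eq (residue C) (residue (B ⊗[R] C)) rfl
      (Algebra.IsIntegral.isIntegral t)
  exact Algebra.IsAlgebraic.isSepClosed (F := ResidueField C)

end props

end X

end Groth.Agent.H4
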