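import Mathlib
import Groth.Prelude.Def_Hensel

/-!
# A criterion for a map into a strict henselization to be bijective
-/

set_option autoImplicit false

open IsLocalRing

namespace Groth.Agent.H4

universe u

theorem H4_bijective_of_universal {B₀ C₀ D₀ Bs Cs Ds T : Type u}
    [CommRing B₀] [IsLocalRing B₀] [CommRing C₀] [IsLocalRing C₀] [CommRing D₀] [IsLocalRing D₀]
    [CommRing Bs] [IsLocalRing Bs] [Algebra B₀ Bs] [IsLocalHom (algebraMap B₀ Bs)]
    [hBs : Hensel.IsStrictHenselization B₀ Bs]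
    [CommRing Cs] [IsLocalRing Cs] [Algebra C₀ Cs] [IsLocalHom (algebraMap C₀ Cs)]
    [hCs : Hensel.IsStrictHenselization C₀ Cs]
    [CommRing Ds] [IsLocalRing Ds] [Algebra D₀ Ds] [IsLocalHom (algebraMap D₀ Ds)]
    [hDs : Hensel.IsStrictHenselization D₀ Ds]
    [CommRing T] [HenselianLocalRing T]
    (φ : T →+* Ds) [IsLocalHom φ] (hφres : Function.Surjective (ResidueField.map φ))
    (ιB : Bs →+* T) [IsLocalHom ιB] (ιC : Cs →+* T) [IsLocalHom ιC]
    (hgen : ∀ (u v : T →+* T), u.comp ιB = v.comp ιB → u.comp ιC = v.comp ιC → u = v)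
    (f : D₀ →+* T) (hf : φ.comp f = algebraMap D₀ Ds)
    (β : B₀ →+* D₀) (hβ : f.comp β = ιB.comp (algebraMap B₀ Bs))
    (γ : C₀ →+* D₀) (hγ : f.comp γ = ιC.comp (algebraMap C₀ Cs)) :
    Function.Bijective φ := by
  haveI : HenselianLocalRing Ds := hDs.henselian
  haveI hfloc : IsLocalHom f := by
    refine ⟨fun a ha => ?_⟩
    have h1 : IsUnit (φ (f a)) := ha.map φ
    have h2 : φ (f a) = algebraMap D₀ Ds a := RingHom.congr_fun hf a
    rw [h2] at h1
    exact isUnit_of_map_unit (algebraMap D₀ Ds) a h1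
  let e : ResidueField T ≃+* ResidueField Ds :=
    RingEquiv.ofBijective (ResidueField.map φ) ⟨(ResidueField.map φ).injective, hφres⟩
  have he : ∀ x, e x = ResidueField.map φ x := fun x => rfl
  let τ : ResidueField Ds →+* ResidueField T := (e.symm : ResidueField Ds →+* ResidueField T)
  have hτe : ∀ x, τ (ResidueField.map φ x) = x := fun x => e.symm_apply_apply x
  have hτ : τ.comp (ResidueField.map (algebraMap D₀ Ds)) = ResidueField.map f := by
    ext x
    obtain ⟨d, rfl⟩ := residue_surjective x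
    rw [RingHom.comp_apply, ResidueField.map_residue, ResidueField.map_residue]
    have h2 : algebraMap D₀ Ds d = φ (f d) := (RingHom.congr_fun hf d).symm
    rw [h2, ← ResidueField.map_residue φ, hτe]
  obtain ⟨g, ⟨hg1, hg2⟩, -⟩ := hDs.universal T f τ hτ
  -- φ ∘ g = id
  obtain ⟨h, -, hh⟩ := hDs.universal Ds (algebraMap D₀ Ds) (RingHom.id _)
    (by rw [RingHom.id_comp])
  have h1 : φ.comp g = RingHom.id Ds := by
    rw [hh (φ.comp g) ⟨by rw [RingHom.comp_assoc, hg1, hf], fun x => ?_⟩,
      ← hh (RingHom.id Ds) ⟨RingHom.id_comp _, fun x => rfl⟩]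
    rw [RingHom.comp_apply, ← ResidueField.map_residue φ, hg2, RingHom.id_apply]
    show e (e.symm _) = _
    rw [RingEquiv.apply_symm_apply]
  -- g ∘ φ ∘ ιB = ιB
  have hresgφ : ∀ t : T, residue T (g (φ t)) = residue T t := by
    intro t
    rw [hg2, ← ResidueField.map_residue φ, hτe]
  have hDB : (algebraMap D₀ Ds).comp β = (φ.comp ιB).comp (algebraMap B₀ Bs) := by
    rw [← hf, RingHom.comp_assoc, hβ, RingHom.comp_assoc]
  have hDC : (algebraMap D₀ Ds).comp γ = (φ.comp ιC).comp (algebraMap C₀ Cs) := by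
    rw [← hf, RingHom.comp_assoc, hγ, RingHom.comp_assoc]
  obtain ⟨kB, -, hkB⟩ := hBs.universal T (ιB.comp (algebraMap B₀ Bs)) (ResidueField.map ιB)
    (ResidueField.map_comp _ _).symm
  have h2 : (g.comp φ).comp ιB = (RingHom.id T).comp ιB := by
    have ha : (g.comp φ).comp ιB = kB := by
      refine hkB _ ⟨?_, fun x => ?_⟩
      · ext x
        show g (φ (ιB (algebraMap B₀ Bs x))) = ιB (algebraMap B₀ Bs x)
        have h5 : algebraMap D₀ Ds (β x) = φ (ιB (algebraMap B₀ Bs x)) := RingHom.congr_fun hDB x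
        have h6 : g (algebraMap D₀ Ds (β x)) = f (β x) := RingHom.congr_fun hg1 (β x)
        rw [← h5, h6]
        exact RingHom.congr_fun hβ x
      · show residue T (g (φ (ιB x))) = _
        rw [hresgφ, ResidueField.map_residue]
    have hb : (RingHom.id T).comp ιB = kB := by
      refine hkB _ ⟨by rw [RingHom.id_comp], fun x => ?_⟩
      show residue T (ιB x) = _
      rw [ResidueField.map_residue]
    rw [ha, hb]
  obtain ⟨kC, -, hkC⟩ := hCs.universal T (ιC.comp (algebraMap C₀ Cs)) (ResidueField.map ιC)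
    (ResidueField.map_comp _ _).symm
  have h3 : (g.comp φ).comp ιC = (RingHom.id T).comp ιC := by
    have ha : (g.comp φ).comp ιC = kC := by
      refine hkC _ ⟨?_, fun x => ?_⟩
      · ext x
        show g (φ (ιC (algebraMap C₀ Cs x))) = ιC (algebraMap C₀ Cs x)
        have h5 : algebraMap D₀ Ds (γ x) = φ (ιC (algebraMap C₀ Cs x)) := RingHom.congr_fun hDC x
        have h6 : g (algebraMap D₀ Ds (γ x)) = f (γ x) := RingHom.congr_fun hg1 (γ x)
        rw [← h5, h6]
        exact RingHom.congr_fun hγ x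
      · show residue T (g (φ (ιC x))) = _
        rw [hresgφ, ResidueField.map_residue]
    have hb : (RingHom.id T).comp ιC = kC := by
      refine hkC _ ⟨by rw [RingHom.id_comp], fun x => ?_⟩
      show residue T (ιC x) = _
      rw [ResidueField.map_residue]
    rw [ha, hb]
  have h4 : g.comp φ = RingHom.id T := hgen _ _ h2 h3
  constructor
  · intro x y hxy
    have := congrArg g hxy
    have hx := RingHom.congr_fun h4 x
    have hy := RingHom.congr_fun h4 y
    simp only [RingHom.comp_apply, RingHom.id_apply] at hx hy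
    rw [← hx, ← hy, this]
  · intro y
    exact ⟨g y, RingHom.congr_fun h1 y⟩

end Groth.Agent.H4
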