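import Mathlib
import Groth.Prelude.Def_Hensel
import Groth.Agent.Lib.helper4.ShTensorLocal
import Groth.Agent.Lib.helper4.ShTensorUniv
import Groth.Agent.Lib.helper4.HensQuasiFinite

/-!
# Strict henselization of a tensor product, integral case

If `Bsh` is integral over `Ash`, then `Bsh ⊗[Ash] Csh → Dsh` is bijective.
-/

set_option autoImplicit false

open TensorProduct IsLocalRing

namespace Groth.Agent.H4

universe u

attribute [local instance] Algebra.TensorProduct.rightAlgebra

set_option maxHeartbeats 1600000 in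
theorem H4_shens_tensor_bijective (A B C : Type u) [CommRing A] [CommRing B] [CommRing C]
    [Algebra A B] [Algebra A C] (pA : Ideal A) [pA.IsPrime] (pB : Ideal B) [pB.IsPrime]
    [pB.LiesOver pA] (pC : Ideal C) [pC.IsPrime] [pC.LiesOver pA] (pD : Ideal (B ⊗[A] C))
    [pD.IsPrime] [pD.LiesOver pB]
    (hDC : pD.comap (Algebra.TensorProduct.includeRight : C →ₐ[A] B ⊗[A] C).toRingHom = pC)
    (Ash : Type u) [CommRing Ash] [IsLocalRing Ash] [Algebra (Localization.AtPrime pA) Ash]
    [IsLocalHom (algebraMap (Localization.AtPrime pA) Ash)]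
    [Hensel.IsStrictHenselization (Localization.AtPrime pA) Ash] [Algebra A Ash]
    [IsScalarTower A (Localization.AtPrime pA) Ash]
    (Bsh : Type u) [CommRing Bsh] [IsLocalRing Bsh] [Algebra (Localization.AtPrime pB) Bsh]
    [IsLocalHom (algebraMap (Localization.AtPrime pB) Bsh)]
    [Hensel.IsStrictHenselization (Localization.AtPrime pB) Bsh] [Algebra B Bsh]
    [IsScalarTower B (Localization.AtPrime pB) Bsh] [Algebra A Bsh] [IsScalarTower A B Bsh]
    [Algebra Ash Bsh] [IsScalarTower A Ash Bsh] [IsLocalHom (algebraMap Ash Bsh)]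
    (Csh : Type u) [CommRing Csh] [IsLocalRing Csh] [Algebra (Localization.AtPrime pC) Csh]
    [IsLocalHom (algebraMap (Localization.AtPrime pC) Csh)]
    [Hensel.IsStrictHenselization (Localization.AtPrime pC) Csh] [Algebra C Csh]
    [IsScalarTower C (Localization.AtPrime pC) Csh] [Algebra A Csh] [IsScalarTower A C Csh]
    [Algebra Ash Csh] [IsScalarTower A Ash Csh] [IsLocalHom (algebraMap Ash Csh)]
    (Dsh : Type u) [CommRing Dsh] [IsLocalRing Dsh] [Algebra (Localization.AtPrime pD) Dsh]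
    [IsLocalHom (algebraMap (Localization.AtPrime pD) Dsh)]
    [Hensel.IsStrictHenselization (Localization.AtPrime pD) Dsh] [Algebra (B ⊗[A] C) Dsh]
    [IsScalarTower (B ⊗[A] C) (Localization.AtPrime pD) Dsh]
    [Algebra Bsh Dsh] [IsLocalHom (algebraMap Bsh Dsh)] [Algebra B Dsh] [IsScalarTower B Bsh Dsh]
    [IsScalarTower B (B ⊗[A] C) Dsh]
    [Algebra Csh Dsh] [IsLocalHom (algebraMap Csh Dsh)]
    (hC : ∀ c : C, algebraMap Csh Dsh (algebraMap C Csh c) =
      algebraMap (B ⊗[A] C) Dsh (1 ⊗ₜ[A] c))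
    [Algebra Ash Dsh] [IsScalarTower Ash Bsh Dsh] [IsScalarTower Ash Csh Dsh]
    [hint : Algebra.IsIntegral Ash Bsh] :
    Function.Bijective (Algebra.TensorProduct.lift (IsScalarTower.toAlgHom Ash Bsh Dsh)
      (IsScalarTower.toAlgHom Ash Csh Dsh) (fun _ _ => Commute.all _ _)) := by
  classical
  set φₐ : Bsh ⊗[Ash] Csh →ₐ[Ash] Dsh := Algebra.TensorProduct.lift
    (IsScalarTower.toAlgHom Ash Bsh Dsh) (IsScalarTower.toAlgHom Ash Csh Dsh)
    (fun _ _ => Commute.all _ _) with hφₐ
  have hφtmul : ∀ (b : Bsh) (c : Csh), φₐ (b ⊗ₜ[Ash] c) = algebraMap Bsh Dsh b * algebraMap Csh Dsh c := by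
    intro b c
    rw [hφₐ, Algebra.TensorProduct.lift_tmul]
    rfl
  let φ : Bsh ⊗[Ash] Csh →+* Dsh := φₐ.toRingHom
  haveI hnt : Nontrivial (Bsh ⊗[Ash] Csh) := RingHom.domain_nontrivial φ
  haveI hscA : IsSepClosed (ResidueField Ash) :=
    (Hensel.IsStrictHenselization.isSepClosure (R := Localization.AtPrime pA) (S := Ash)).sep_closed
  haveI hscC : IsSepClosed (ResidueField Csh) :=
    (Hensel.IsStrictHenselization.isSepClosure (R := Localization.AtPrime pC) (S := Csh)).sep_closed
  haveI halg : Algebra.IsAlgebraic (ResidueField Ash) (ResidueField Bsh) := by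
    refine ⟨fun x => ?_⟩
    obtain ⟨t, rfl⟩ := residue_surjective x
    refine IsIntegral.isAlgebraic ?_
    exact IsIntegral.map_of_comp_eq (residue Ash) (residue Bsh) rfl
      (Algebra.IsIntegral.isIntegral t)
  haveI hpi : IsPurelyInseparable (ResidueField Ash) (ResidueField Bsh) := inferInstance
  haveI hTloc : IsLocalRing (Bsh ⊗[Ash] Csh) := H4_tensor_isLocalRing Ash Bsh Csh
  haveI hCh : HenselianLocalRing Csh :=
    Hensel.IsStrictHenselization.henselian (R := Localization.AtPrime pC)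
  haveI hTh : HenselianLocalRing (Bsh ⊗[Ash] Csh) := H4_tensor_henselian Ash Bsh Csh
  haveI hTsc : IsSepClosed (ResidueField (Bsh ⊗[Ash] Csh)) := H4_tensor_isSepClosed Ash Bsh Csh
  haveI hιC : IsLocalHom (algebraMap Csh (Bsh ⊗[Ash] Csh)) := H4_tensor_isLocalHom_right Ash Bsh Csh
  haveI hιB : IsLocalHom (Algebra.TensorProduct.includeLeftRingHom : Bsh →+* Bsh ⊗[Ash] Csh) :=
    H4_tensor_isLocalHom_left Ash Bsh Csh
  haveI hTint : Algebra.IsIntegral Csh (Bsh ⊗[Ash] Csh) := H4_tensor_isIntegral_right Ash Bsh Csh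
  -- φ is local
  have hφC : φ.comp (algebraMap Csh (Bsh ⊗[Ash] Csh)) = algebraMap Csh Dsh := by
    ext c
    show φₐ ((1 : Bsh) ⊗ₜ[Ash] c) = _
    rw [hφtmul, map_one, one_mul]
  have hφB : φ.comp (Algebra.TensorProduct.includeLeftRingHom : Bsh →+* Bsh ⊗[Ash] Csh) =
      algebraMap Bsh Dsh := by
    ext b
    show φₐ (b ⊗ₜ[Ash] (1 : Csh)) = _
    rw [hφtmul, map_one, mul_one]
  haveI hφloc : IsLocalHom φ := by
    have h1 : ((maximalIdeal Dsh).comap φ).IsPrime := Ideal.comap_isPrime _ _
    have h2 : ((maximalIdeal Dsh).comap φ).comap (algebraMap Csh (Bsh ⊗[Ash] Csh)) =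
        maximalIdeal Csh := by
      rw [Ideal.comap_comap, hφC]
      exact ((maximalIdeal Dsh).over_def (maximalIdeal Csh)).symm
    have h3 : ((maximalIdeal Dsh).comap φ).IsMaximal := by
      apply Ideal.isMaximal_of_isIntegral_of_isMaximal_comap (R := Csh)
      rw [h2]
      exact maximalIdeal.isMaximal Csh
    exact ((local_hom_TFAE φ).out 0 4).mpr (eq_maximalIdeal h3)
  -- the map from `B ⊗[A] C`
  let fB : B →ₐ[A] Bsh ⊗[Ash] Csh :=
    { toRingHom := (Algebra.TensorProduct.includeLeftRingHom : Bsh →+* Bsh ⊗[Ash] Csh).comp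
        (algebraMap B Bsh)
      commutes' := fun a => by
        show (algebraMap B Bsh (algebraMap A B a)) ⊗ₜ[Ash] (1 : Csh) = algebraMap A _ a
        rw [Algebra.TensorProduct.algebraMap_apply, ← IsScalarTower.algebraMap_apply A B Bsh] }
  let fC : C →ₐ[A] Bsh ⊗[Ash] Csh :=
    { toRingHom := (algebraMap Csh (Bsh ⊗[Ash] Csh)).comp (algebraMap C Csh)
      commutes' := fun a => by
        show (1 : Bsh) ⊗ₜ[Ash] (algebraMap C Csh (algebraMap A C a)) = algebraMap A _ a
        rw [Algebra.TensorProduct.algebraMap_apply, ← IsScalarTower.algebraMap_apply A C Csh,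
          IsScalarTower.algebraMap_apply A Ash Csh, IsScalarTower.algebraMap_apply A Ash Bsh,
          Algebra.algebraMap_eq_smul_one (A := Csh), Algebra.algebraMap_eq_smul_one (A := Bsh),
          TensorProduct.smul_tmul] }
  let f₀ₐ : B ⊗[A] C →ₐ[A] Bsh ⊗[Ash] Csh :=
    Algebra.TensorProduct.lift fB fC (fun _ _ => Commute.all _ _)
  have hf₀tmul : ∀ (b : B) (c : C), f₀ₐ (b ⊗ₜ[A] c) =
      (algebraMap B Bsh b) ⊗ₜ[Ash] (algebraMap C Csh c) := by
    intro b c
    show Algebra.TensorProduct.lift fB fC _ (b ⊗ₜ[A] c) = _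
    rw [Algebra.TensorProduct.lift_tmul]
    show (algebraMap B Bsh b ⊗ₜ[Ash] (1 : Csh)) * ((1 : Bsh) ⊗ₜ[Ash] algebraMap C Csh c) = _
    rw [Algebra.TensorProduct.tmul_mul_tmul, mul_one, one_mul]
  let f₀ : B ⊗[A] C →+* Bsh ⊗[Ash] Csh := f₀ₐ.toRingHom
  have hφf₀ : φ.comp f₀ = algebraMap (B ⊗[A] C) Dsh := by
    refine RingHom.ext fun x => ?_
    induction x using TensorProduct.induction_on with
    | zero => rw [map_zero, map_zero]
    | tmul b c =>
      show φₐ (f₀ₐ (b ⊗ₜ[A] c)) = algebraMap (B ⊗[A] C) Dsh (b ⊗ₜ[A] c)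
      have h3 : b ⊗ₜ[A] c = (algebraMap B (B ⊗[A] C) b) * ((1 : B) ⊗ₜ[A] c) := by
        rw [Algebra.TensorProduct.algebraMap_apply]
        show _ = (b ⊗ₜ[A] (1 : C)) * ((1 : B) ⊗ₜ[A] c)
        rw [Algebra.TensorProduct.tmul_mul_tmul, mul_one, one_mul]
      rw [hf₀tmul, hφtmul, hC, ← IsScalarTower.algebraMap_apply B Bsh Dsh,
        IsScalarTower.algebraMap_apply B (B ⊗[A] C) Dsh, ← map_mul, ← h3]
    | add x y hx hy => rw [map_add, map_add, hx, hy]
  have hpD : pD = (maximalIdeal Dsh).comap (algebraMap (B ⊗[A] C) Dsh) :=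
    H4_comap_maximalIdeal_of_tower pD Dsh
  have hunit : ∀ y : pD.primeCompl, IsUnit (f₀ y) := by
    intro y
    by_contra hy
    have h1 : f₀ y ∈ maximalIdeal (Bsh ⊗[Ash] Csh) := hy
    have h2 : φ (f₀ y) ∈ maximalIdeal Dsh := map_nonunit φ _ h1
    have h3 : φ (f₀ y) = algebraMap (B ⊗[A] C) Dsh y := RingHom.congr_fun hφf₀ y
    rw [h3] at h2
    have h4 : (y : B ⊗[A] C) ∈ (maximalIdeal Dsh).comap (algebraMap (B ⊗[A] C) Dsh) := h2
    rw [← hpD] at h4
    exact y.2 h4
  let f : Localization.AtPrime pD →+* Bsh ⊗[Ash] Csh := IsLocalization.lift hunit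
  have hff₀ : f.comp (algebraMap (B ⊗[A] C) (Localization.AtPrime pD)) = f₀ :=
    IsLocalization.lift_comp hunit
  have hf : φ.comp f = algebraMap (Localization.AtPrime pD) Dsh := by
    apply IsLocalization.ringHom_ext pD.primeCompl
    rw [RingHom.comp_assoc, hff₀, hφf₀]
    exact IsScalarTower.algebraMap_eq _ _ _
  -- the maps from the localizations of `B` and `C`
  have hBD : pB = pD.comap (algebraMap B (B ⊗[A] C)) := Ideal.LiesOver.over
  let β : Localization.AtPrime pB →+* Localization.AtPrime pD :=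
    Localization.localRingHom pB pD (algebraMap B (B ⊗[A] C)) hBD
  let γ : Localization.AtPrime pC →+* Localization.AtPrime pD :=
    Localization.localRingHom pC pD
      (Algebra.TensorProduct.includeRight : C →ₐ[A] B ⊗[A] C).toRingHom hDC.symm
  have hβ : f.comp β = (Algebra.TensorProduct.includeLeftRingHom : Bsh →+* Bsh ⊗[Ash] Csh).comp
      (algebraMap (Localization.AtPrime pB) Bsh) := by
    apply IsLocalization.ringHom_ext pB.primeCompl
    ext b
    show f (β (algebraMap B (Localization.AtPrime pB) b)) =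
      (algebraMap (Localization.AtPrime pB) Bsh (algebraMap B (Localization.AtPrime pB) b))
        ⊗ₜ[Ash] (1 : Csh)
    rw [Localization.localRingHom_to_map, ← IsScalarTower.algebraMap_apply B
      (Localization.AtPrime pB) Bsh]
    have h1 : f (algebraMap (B ⊗[A] C) (Localization.AtPrime pD) (algebraMap B (B ⊗[A] C) b)) =
        f₀ (algebraMap B (B ⊗[A] C) b) := RingHom.congr_fun hff₀ _
    rw [h1, Algebra.TensorProduct.algebraMap_apply]
    show f₀ₐ (b ⊗ₜ[A] (1 : C)) = _
    rw [hf₀tmul, map_one]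
  have hγ : f.comp γ = (algebraMap Csh (Bsh ⊗[Ash] Csh)).comp
      (algebraMap (Localization.AtPrime pC) Csh) := by
    apply IsLocalization.ringHom_ext pC.primeCompl
    ext c
    show f (γ (algebraMap C (Localization.AtPrime pC) c)) =
      (1 : Bsh) ⊗ₜ[Ash] (algebraMap (Localization.AtPrime pC) Csh
        (algebraMap C (Localization.AtPrime pC) c))
    rw [Localization.localRingHom_to_map, ← IsScalarTower.algebraMap_apply C
      (Localization.AtPrime pC) Csh]
    have h1 : f (algebraMap (B ⊗[A] C) (Localization.AtPrime pD)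
        ((Algebra.TensorProduct.includeRight : C →ₐ[A] B ⊗[A] C).toRingHom c)) =
        f₀ ((Algebra.TensorProduct.includeRight : C →ₐ[A] B ⊗[A] C).toRingHom c) :=
      RingHom.congr_fun hff₀ _
    rw [h1]
    show f₀ₐ ((1 : B) ⊗ₜ[A] c) = _
    rw [hf₀tmul, map_one]
  -- surjectivity on residue fields
  have hφres : Function.Surjective (ResidueField.map φ) := by
    haveI hfloc : IsLocalHom f := by
      refine ⟨fun a ha => ?_⟩
      have h1 : IsUnit (φ (f a)) := ha.map φ
      have h2 : φ (f a) = algebraMap (Localization.AtPrime pD) Dsh a := RingHom.congr_fun hf a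
      rw [h2] at h1
      exact isUnit_of_map_unit (algebraMap (Localization.AtPrime pD) Dsh) a h1
    letI a1 : Algebra (ResidueField (Bsh ⊗[Ash] Csh)) (ResidueField Dsh) :=
      (ResidueField.map φ).toAlgebra
    letI a2 : Algebra (ResidueField (Localization.AtPrime pD)) (ResidueField (Bsh ⊗[Ash] Csh)) :=
      (ResidueField.map f).toAlgebra
    haveI tw : IsScalarTower (ResidueField (Localization.AtPrime pD))
        (ResidueField (Bsh ⊗[Ash] Csh)) (ResidueField Dsh) := by
      refine IsScalarTower.of_algebraMap_eq fun x => ?_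
      obtain ⟨d, rfl⟩ := residue_surjective x
      show ResidueField.map (algebraMap (Localization.AtPrime pD) Dsh) (residue _ d) =
        ResidueField.map φ (ResidueField.map f (residue _ d))
      rw [ResidueField.map_residue, ResidueField.map_residue, ResidueField.map_residue]
      congr 1
      exact (RingHom.congr_fun hf d).symm
    haveI hsep : Algebra.IsSeparable (ResidueField (Localization.AtPrime pD)) (ResidueField Dsh) :=
      (Hensel.IsStrictHenselization.isSepClosure (R := Localization.AtPrime pD)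
        (S := Dsh)).separable
    haveI : Algebra.IsSeparable (ResidueField (Bsh ⊗[Ash] Csh)) (ResidueField Dsh) :=
      Algebra.isSeparable_tower_top_of_isSeparable (ResidueField (Localization.AtPrime pD)) _ _
    exact IsSepClosed.algebraMap_surjective (ResidueField (Bsh ⊗[Ash] Csh)) (ResidueField Dsh)
  have hgen : ∀ (u v : Bsh ⊗[Ash] Csh →+* Bsh ⊗[Ash] Csh),
      u.comp (Algebra.TensorProduct.includeLeftRingHom : Bsh →+* Bsh ⊗[Ash] Csh) =
        v.comp Algebra.TensorProduct.includeLeftRingHom →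
      u.comp (algebraMap Csh (Bsh ⊗[Ash] Csh)) = v.comp (algebraMap Csh (Bsh ⊗[Ash] Csh)) →
      u = v := by
    intro u v h1 h2
    refine RingHom.ext fun x => ?_
    induction x using TensorProduct.induction_on with
    | zero => rw [map_zero, map_zero]
    | tmul b c =>
      have h3 : b ⊗ₜ[Ash] c = (Algebra.TensorProduct.includeLeftRingHom b) *
          (algebraMap Csh (Bsh ⊗[Ash] Csh) c) := by
        show _ = (b ⊗ₜ[Ash] (1 : Csh)) * ((1 : Bsh) ⊗ₜ[Ash] c)
        rw [Algebra.TensorProduct.tmul_mul_tmul, mul_one, one_mul]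
      rw [h3, map_mul, map_mul]
      have h4 := RingHom.congr_fun h1 b
      have h5 := RingHom.congr_fun h2 c
      simp only [RingHom.comp_apply] at h4 h5
      rw [h4, h5]
    | add x y hx hy => rw [map_add, map_add, hx, hy]
  exact H4_bijective_of_universal (B₀ := Localization.AtPrime pB) (C₀ := Localization.AtPrime pC)
    (D₀ := Localization.AtPrime pD) φ hφres Algebra.TensorProduct.includeLeftRingHom
    (algebraMap Csh (Bsh ⊗[Ash] Csh)) hgen f hf β hβ γ hγ

end Groth.Agent.H4
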