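import Mathlib
import Groth.Prelude
import Groth.Agent.Lib.helper4.EtaleNormal

set_option autoImplicit false
universe u
open TensorProduct IsLocalRing

namespace Groth.Agent.H4

theorem H4_normal_atPrime_of_isLocalization {T T' : Type u} [CommRing T] [CommRing T']
    [Algebra T T'] [IsDomain T'] [IsIntegrallyClosed T'] (N : Submonoid T) [IsLocalization N T']
    (P : Ideal T) [P.IsPrime] (hN : N ≤ P.primeCompl) :
    IsDomain (Localization.AtPrime P) ∧ IsIntegrallyClosed (Localization.AtPrime P) := by
  let g : T' →+* Localization.AtPrime P :=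
    IsLocalization.lift (M := N) (g := algebraMap T (Localization.AtPrime P))
      (fun y => IsLocalization.map_units _ (⟨y.1, hN y.2⟩ : P.primeCompl))
  letI := g.toAlgebra
  haveI : IsScalarTower T T' (Localization.AtPrime P) := IsScalarTower.of_algebraMap_eq' (by
    rw [RingHom.algebraMap_toAlgebra]; exact (IsLocalization.lift_comp _).symm)
  haveI := IsLocalization.isLocalization_of_submonoid_le T' (Localization.AtPrime P) N
    P.primeCompl hN
  have hle : P.primeCompl.map (algebraMap T T') ≤ nonZeroDivisors T' := by
    rintro _ ⟨t, ht, rfl⟩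
    apply mem_nonZeroDivisors_of_ne_zero
    intro h0
    have hu : IsUnit (algebraMap T (Localization.AtPrime P) t) :=
      IsLocalization.map_units _ (⟨t, ht⟩ : P.primeCompl)
    rw [IsScalarTower.algebraMap_apply T T' (Localization.AtPrime P)] at hu
    have h0' : algebraMap T T' t = 0 := h0
    rw [h0', map_zero] at hu
    exact not_isUnit_zero hu
  exact ⟨IsLocalization.isDomain_of_le_nonZeroDivisors _ hle,
    isIntegrallyClosed_of_isLocalization _ _ hle⟩

theorem H4_mvPolynomial_isIntegrallyClosed (S : Type u) [CommRing S] [IsDomain S]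
    [IsIntegrallyClosed S] : ∀ n : ℕ, IsIntegrallyClosed (MvPolynomial (Fin n) S)
  | 0 => IsIntegrallyClosed.of_equiv (MvPolynomial.isEmptyAlgEquiv S (Fin 0)).symm.toRingEquiv
  | n + 1 => by
    haveI := H4_mvPolynomial_isIntegrallyClosed S n
    exact IsIntegrallyClosed.of_equiv (MvPolynomial.finSuccEquiv S n).symm.toRingEquiv

attribute [local instance] MvPolynomial.algebraMvPolynomial in
theorem H4_isNormalRing_mvPolynomial (A : Type u) [CommRing A] (hA : EGA4.IsNormalRing A) (n : ℕ) :
    EGA4.IsNormalRing (MvPolynomial (Fin n) A) := by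
  intro P _
  set p := P.comap (MvPolynomial.C (σ := Fin n) (R := A)) with hp
  haveI : p.IsPrime := Ideal.comap_isPrime _ _
  obtain ⟨h1, h2⟩ := hA p
  haveI := H4_mvPolynomial_isIntegrallyClosed (Localization.AtPrime p) n
  haveI : IsLocalization (p.primeCompl.map (MvPolynomial.C (σ := Fin n)))
    (MvPolynomial (Fin n) (Localization.AtPrime p)) := MvPolynomial.isLocalization _ _
  refine H4_normal_atPrime_of_isLocalization (T' := MvPolynomial (Fin n) (Localization.AtPrime p))
    (p.primeCompl.map (MvPolynomial.C (σ := Fin n))) P ?_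
  rintro _ ⟨a, ha, rfl⟩
  exact fun h => ha h

theorem H4_isNormalRing_of_etale (T C : Type u) [CommRing T] [CommRing C] [Algebra T C]
    [Algebra.Etale T C] (hT : EGA4.IsNormalRing T) : EGA4.IsNormalRing C := by
  intro Q _
  obtain ⟨h1, h2⟩ := hT (Ideal.comap (algebraMap T C) Q)
  exact H4_normal_localization_of_etale T C Q

theorem H4_normal_atPrime_congr {B : Type u} [CommRing B] (q q' : Ideal B) [q.IsPrime]
    [q'.IsPrime] (h : q = q')
    (hn : IsDomain (Localization.AtPrime q) ∧ IsIntegrallyClosed (Localization.AtPrime q)) :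
    IsDomain (Localization.AtPrime q') ∧ IsIntegrallyClosed (Localization.AtPrime q') := by
  subst h; exact hn

theorem H4_normal_atPrime_of_away (B : Type u) [CommRing B] (f : B) (q : Ideal B) [q.IsPrime]
    (hf : f ∉ q) (hn : EGA4.IsNormalRing (Localization.Away f)) :
    IsDomain (Localization.AtPrime q) ∧ IsIntegrallyClosed (Localization.AtPrime q) := by
  have hdisj : Disjoint (Submonoid.powers f : Set B) (q : Set B) :=
    (Ideal.disjoint_powers_iff_notMem_of_isPrime _).mpr hf
  haveI hQ : (q.map (algebraMap B (Localization.Away f))).IsPrime :=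
    IsLocalization.isPrime_of_isPrime_disjoint (.powers f) _ _ ‹_› hdisj
  have hcomap : (q.map (algebraMap B (Localization.Away f))).comap
      (algebraMap B (Localization.Away f)) = q :=
    IsLocalization.comap_map_of_isPrime_disjoint (.powers f) _ ‹_› hdisj
  obtain ⟨h1, h2⟩ := hn (q.map (algebraMap B (Localization.Away f)))
  let e := IsLocalization.localizationLocalizationAtPrimeIsoLocalization (Submonoid.powers f)
    (q.map (algebraMap B (Localization.Away f)))
  haveI : ((q.map (algebraMap B (Localization.Away f))).comap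
      (algebraMap B (Localization.Away f))).IsPrime := Ideal.comap_isPrime _ _
  refine H4_normal_atPrime_congr _ q hcomap ⟨?_, ?_⟩
  · exact e.toRingEquiv.toMulEquiv.isDomain _
  · exact IsIntegrallyClosed.of_equiv e.symm.toRingEquiv

theorem H4_isNormalRing_of_smooth (A B : Type u) [CommRing A] [CommRing B] [Algebra A B]
    [Algebra.Smooth A B] (hA : EGA4.IsNormalRing A) : EGA4.IsNormalRing B := by
  intro q _
  haveI : Algebra.FinitePresentation A B := Algebra.Smooth.finitePresentation
  haveI : Algebra.IsSmoothAt A q := inferInstance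
  obtain ⟨f, hfq, n, alg, hst, hse⟩ :=
    Algebra.IsSmoothAt.exists_isStandardEtale_mvPolynomial (R := A) (p := q)
  letI := alg
  haveI := hse
  haveI : Algebra.Etale (MvPolynomial (Fin n) A) (Localization.Away f) := inferInstance
  exact H4_normal_atPrime_of_away B f q hfq
    (H4_isNormalRing_of_etale (MvPolynomial (Fin n) A) _ (H4_isNormalRing_mvPolynomial A hA n))

theorem H4_isNormalRing_descent (A B : Type u) [CommRing A] [CommRing B] [Algebra A B]
    [Module.FaithfullyFlat A B] (hB : EGA4.IsNormalRing B) : EGA4.IsNormalRing A := by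
  intro p _
  obtain ⟨⟨q, hq⟩, hqp⟩ := PrimeSpectrum.comap_surjective_of_faithfullyFlat (A := A) (B := B)
    ⟨p, inferInstance⟩
  have hqp' : q.comap (algebraMap A B) = p := congrArg PrimeSpectrum.asIdeal hqp
  haveI := hq
  haveI : q.LiesOver p := ⟨hqp'.symm⟩
  letI := Localization.AtPrime.algebraOfLiesOver p q
  haveI : IsLocalHom (algebraMap (Localization.AtPrime p) (Localization.AtPrime q)) := by
    rw [Localization.AtPrime.IsLiesOverAlgebra.algebraMap_eq (p := p) (P := q)]
    exact Localization.isLocalHom_localRingHom p q (algebraMap A B) Ideal.LiesOver.over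
  haveI : Module.Flat A B := inferInstance
  haveI : Module.Flat (Localization.AtPrime p) (Localization.AtPrime q) := inferInstance
  haveI : Module.FaithfullyFlat (Localization.AtPrime p) (Localization.AtPrime q) :=
    Module.FaithfullyFlat.of_flat_of_isLocalHom
  obtain ⟨h1, h2⟩ := hB q
  exact H4_normal_descent (Localization.AtPrime p) (Localization.AtPrime q)

end Groth.Agent.H4
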