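import Mathlib

set_option autoImplicit false

namespace Groth.Agent.H4

open MvPolynomial Algebra

theorem H4_smooth_of_pderiv (R : Type*) [CommRing R] (g : MvPolynomial (Fin 2) R)
    (h : IsUnit (Ideal.Quotient.mk (Ideal.span ({g} : Set (MvPolynomial (Fin 2) R))) (MvPolynomial.pderiv 0 g))) :
    Algebra.Smooth R (MvPolynomial (Fin 2) R ⧸ Ideal.span ({g} : Set (MvPolynomial (Fin 2) R))) := by
  classical
  have key : ∀ (s : Set (MvPolynomial (Fin 2) R)) (hs : s = Set.range (fun _ : Unit => g)),
      IsUnit (Ideal.Quotient.mk (Ideal.span s) (MvPolynomial.pderiv 0 g)) →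
      Algebra.Smooth R (MvPolynomial (Fin 2) R ⧸ Ideal.span s) := by
    intro s hs hu
    subst hs
    let Q1 : PreSubmersivePresentation R
        (MvPolynomial (Fin 2) R ⧸ Ideal.span (Set.range (fun _ : Unit => g))) (Fin 2) Unit :=
      PreSubmersivePresentation.naive (v := fun _ : Unit => g) (fun _ => (0 : Fin 2))
        (fun _ _ _ => Subsingleton.elim _ _)
    have hjac : Q1.jacobian = Ideal.Quotient.mk _ (MvPolynomial.pderiv 0 g) := by
      rw [PreSubmersivePresentation.jacobian_eq_jacobiMatrix_det, Matrix.det_unique,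
        PreSubmersivePresentation.jacobiMatrix_apply]
      rfl
    let P : SubmersivePresentation R _ (Fin 2) Unit := ⟨Q1, hjac ▸ hu⟩
    have := P.isStandardSmooth
    infer_instance
  exact key _ Set.range_const.symm h


end Groth.Agent.H4
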