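import Mathlib
import Groth.Prelude
import Groth.Agent.Lib.helper4.SmoothNormal

set_option autoImplicit false
universe u
open AlgebraicGeometry CategoryTheory TensorProduct IsLocalRing

namespace Groth.Agent.H4

/-- Ring-level data of the stalk map at a point of the smooth locus. -/
theorem H4_smooth_stalk_data {X Y : Scheme.{u}} (f : X ⟶ Y) [LocallyOfFinitePresentation f]
    (x : X) (hx : x ∈ f.smoothLocus) :
    ∃ (A B : Type u) (_ : CommRing A) (_ : CommRing B) (_ : Algebra A B) (_ : Algebra.Smooth A B)
      (q : Ideal B) (_ : q.IsPrime),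
      Nonempty (X.presheaf.stalk x ≃+* Localization.AtPrime q) ∧
      Nonempty (Y.presheaf.stalk (f.base x) ≃+*
        Localization.AtPrime (q.comap (algebraMap A B))) := by
  obtain ⟨U, hU, V, hV, hVU', hxV, H⟩ := exists_smooth_of_formallySmooth_stalk f x hx
  letI alg : Algebra Γ(Y, U) Γ(X, V) := (f.appLE U V hVU').hom.toAlgebra
  have hsm : Algebra.Smooth Γ(Y, U) Γ(X, V) := by
    rw [← RingHom.smooth_algebraMap]
    exact H
  refine ⟨Γ(Y, U), Γ(X, V), inferInstance, inferInstance, alg, hsm,
    (hV.primeIdealOf ⟨x, hxV⟩).asIdeal, inferInstance, ?_, ?_⟩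
  · letI := X.presheaf.algebra_section_stalk ⟨x, hxV⟩
    haveI := hV.isLocalization_stalk ⟨x, hxV⟩
    exact ⟨(IsLocalization.algEquiv (hV.primeIdealOf ⟨x, hxV⟩).asIdeal.primeCompl
      (X.presheaf.stalk x) (Localization.AtPrime (hV.primeIdealOf ⟨x, hxV⟩).asIdeal)).toRingEquiv⟩
  · letI := Y.presheaf.algebra_section_stalk ⟨f.base x, hVU' hxV⟩
    haveI := hU.isLocalization_stalk ⟨f.base x, hVU' hxV⟩
    have hcomap : (hV.primeIdealOf ⟨x, hxV⟩).asIdeal.comap (algebraMap Γ(Y, U) Γ(X, V)) =
        (hU.primeIdealOf ⟨f.base x, hVU' hxV⟩).asIdeal :=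
      congr($(IsAffineOpen.comap_primeIdealOf_appLE U hU V hV hVU' hxV).1)
    have key : ∀ (P : Ideal Γ(Y, U)) [P.IsPrime],
        P = (hU.primeIdealOf ⟨f.base x, hVU' hxV⟩).asIdeal →
        Nonempty (Y.presheaf.stalk (f.base x) ≃+* Localization.AtPrime P) := by
      intro P _ hP
      subst hP
      exact ⟨(IsLocalization.algEquiv (hU.primeIdealOf ⟨f.base x, hVU' hxV⟩).asIdeal.primeCompl
        (Y.presheaf.stalk (f.base x))
        (Localization.AtPrime (hU.primeIdealOf ⟨f.base x, hVU' hxV⟩).asIdeal)).toRingEquiv⟩
    exact key _ hcomap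

attribute [local instance] MvPolynomial.algebraMvPolynomial in
theorem H4_normal_atPrime_mvPolynomial (A : Type u) [CommRing A] (n : ℕ)
    (P : Ideal (MvPolynomial (Fin n) A)) [P.IsPrime]
    (hA : ∀ [(P.comap (MvPolynomial.C (σ := Fin n) (R := A))).IsPrime],
      IsDomain (Localization.AtPrime (P.comap (MvPolynomial.C (σ := Fin n) (R := A)))) ∧
      IsIntegrallyClosed (Localization.AtPrime (P.comap (MvPolynomial.C (σ := Fin n) (R := A))))) :
    IsDomain (Localization.AtPrime P) ∧ IsIntegrallyClosed (Localization.AtPrime P) := by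
  set p := P.comap (MvPolynomial.C (σ := Fin n) (R := A)) with hp
  haveI : p.IsPrime := Ideal.comap_isPrime _ _
  obtain ⟨h1, h2⟩ := hA
  haveI := H4_mvPolynomial_isIntegrallyClosed (Localization.AtPrime p) n
  haveI : IsLocalization (p.primeCompl.map (MvPolynomial.C (σ := Fin n)))
    (MvPolynomial (Fin n) (Localization.AtPrime p)) := MvPolynomial.isLocalization _ _
  refine H4_normal_atPrime_of_isLocalization (T' := MvPolynomial (Fin n) (Localization.AtPrime p))
    (p.primeCompl.map (MvPolynomial.C (σ := Fin n))) P ?_
  rintro _ ⟨a, ha, rfl⟩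
  exact fun h => ha h

theorem H4_normal_atPrime_of_away' (B : Type u) [CommRing B] (f : B) (q : Ideal B) [q.IsPrime]
    (hf : f ∉ q)
    (hn : ∀ [(q.map (algebraMap B (Localization.Away f))).IsPrime],
      IsDomain (Localization.AtPrime (q.map (algebraMap B (Localization.Away f)))) ∧
      IsIntegrallyClosed (Localization.AtPrime (q.map (algebraMap B (Localization.Away f))))) :
    IsDomain (Localization.AtPrime q) ∧ IsIntegrallyClosed (Localization.AtPrime q) := by
  have hdisj : Disjoint (Submonoid.powers f : Set B) (q : Set B) :=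
    (Ideal.disjoint_powers_iff_notMem_of_isPrime _).mpr hf
  haveI hQ : (q.map (algebraMap B (Localization.Away f))).IsPrime :=
    IsLocalization.isPrime_of_isPrime_disjoint (.powers f) _ _ ‹_› hdisj
  have hcomap : (q.map (algebraMap B (Localization.Away f))).comap
      (algebraMap B (Localization.Away f)) = q :=
    IsLocalization.under_map_of_isPrime_disjoint (.powers f) _ ‹_› hdisj
  obtain ⟨h1, h2⟩ := hn
  let e := IsLocalization.localizationLocalizationAtPrimeIsoLocalization (Submonoid.powers f)
    (q.map (algebraMap B (Localization.Away f)))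
  haveI : ((q.map (algebraMap B (Localization.Away f))).comap
      (algebraMap B (Localization.Away f))).IsPrime := Ideal.comap_isPrime _ _
  refine H4_normal_atPrime_congr _ q hcomap ⟨?_, ?_⟩
  · exact e.toRingEquiv.toMulEquiv.isDomain _
  · exact IsIntegrallyClosed.of_equiv e.symm.toRingEquiv

theorem H4_normal_atPrime_of_smooth (A B : Type u) [CommRing A] [CommRing B] [Algebra A B]
    [Algebra.Smooth A B] (q : Ideal B) [q.IsPrime]
    (hA : IsDomain (Localization.AtPrime (q.comap (algebraMap A B))) ∧
      IsIntegrallyClosed (Localization.AtPrime (q.comap (algebraMap A B)))) :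
    IsDomain (Localization.AtPrime q) ∧ IsIntegrallyClosed (Localization.AtPrime q) := by
  haveI : Algebra.FinitePresentation A B := Algebra.Smooth.finitePresentation
  haveI : Algebra.IsSmoothAt A q := inferInstance
  obtain ⟨f, hfq, n, alg, hst, hse⟩ :=
    Algebra.IsSmoothAt.exists_isStandardEtale_mvPolynomial (R := A) (p := q)
  letI := alg
  haveI := hse
  haveI := hst
  haveI : Algebra.Etale (MvPolynomial (Fin n) A) (Localization.Away f) := inferInstance
  have hdisj : Disjoint (Submonoid.powers f : Set B) (q : Set B) :=
    (Ideal.disjoint_powers_iff_notMem_of_isPrime _).mpr hfq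
  have hcomap : (q.map (algebraMap B (Localization.Away f))).comap
      (algebraMap B (Localization.Away f)) = q :=
    IsLocalization.under_map_of_isPrime_disjoint (.powers f) _ ‹_› hdisj
  apply H4_normal_atPrime_of_away' B f q hfq
  intro hQ
  set Q := q.map (algebraMap B (Localization.Away f)) with hQdef
  -- the prime of the polynomial ring
  have hP : ((Q.comap (algebraMap (MvPolynomial (Fin n) A) (Localization.Away f))).comap
      (MvPolynomial.C (σ := Fin n) (R := A))) = q.comap (algebraMap A B) := by
    ext a
    simp only [Ideal.mem_comap]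
    rw [← MvPolynomial.algebraMap_eq, ← IsScalarTower.algebraMap_apply A (MvPolynomial (Fin n) A)
      (Localization.Away f), IsScalarTower.algebraMap_apply A B (Localization.Away f),
      ← Ideal.mem_comap, hcomap]
  haveI : (Q.comap (algebraMap (MvPolynomial (Fin n) A) (Localization.Away f))).IsPrime :=
    Ideal.comap_isPrime _ _
  have hT := H4_normal_atPrime_mvPolynomial A n
    (Q.comap (algebraMap (MvPolynomial (Fin n) A) (Localization.Away f))) (by
      intro hh
      haveI := hh
      haveI : (q.comap (algebraMap A B)).IsPrime := Ideal.comap_isPrime _ _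
      exact H4_normal_atPrime_congr _ _ hP.symm hA)
  obtain ⟨h1, h2⟩ := hT
  exact H4_normal_localization_of_etale (MvPolynomial (Fin n) A) (Localization.Away f) Q

theorem H4_normal_localization_iff_of_smooth (A B : Type u) [CommRing A] [CommRing B]
    [Algebra A B] [Algebra.Smooth A B] (q : Ideal B) [q.IsPrime] :
    (IsDomain (Localization.AtPrime q) ∧ IsIntegrallyClosed (Localization.AtPrime q)) ↔
    (IsDomain (Localization.AtPrime (Ideal.comap (algebraMap A B) q)) ∧
      IsIntegrallyClosed (Localization.AtPrime (Ideal.comap (algebraMap A B) q))) := by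
  constructor
  · rintro ⟨h1, h2⟩
    set p := Ideal.comap (algebraMap A B) q with hp
    haveI : q.LiesOver p := ⟨rfl⟩
    letI := Localization.AtPrime.algebraOfLiesOver p q
    haveI : IsLocalHom (algebraMap (Localization.AtPrime p) (Localization.AtPrime q)) := by
      rw [Localization.AtPrime.IsLiesOverAlgebra.algebraMap_eq (p := p) (P := q)]
      exact Localization.isLocalHom_localRingHom p q (algebraMap A B) Ideal.LiesOver.over
    haveI : Module.Flat A B := inferInstance
    haveI : Module.Flat (Localization.AtPrime p) (Localization.AtPrime q) := inferInstance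
    haveI : Module.FaithfullyFlat (Localization.AtPrime p) (Localization.AtPrime q) :=
      Module.FaithfullyFlat.of_flat_of_isLocalHom
    exact H4_normal_descent (Localization.AtPrime p) (Localization.AtPrime q)
  · intro h
    exact H4_normal_atPrime_of_smooth A B q h

attribute [local instance] Algebra.TensorProduct.rightAlgebra in
theorem H4_isReduced_localization_iff_of_smooth (A B : Type u) [CommRing A] [CommRing B]
    [Algebra A B] [Algebra.Smooth A B] (q : Ideal B) [q.IsPrime] :
    IsReduced (Localization.AtPrime (Ideal.comap (algebraMap A B) q)) ↔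
      IsReduced (Localization.AtPrime q) := by
  set p := Ideal.comap (algebraMap A B) q with hp
  haveI : q.LiesOver p := ⟨rfl⟩
  letI := Localization.AtPrime.algebraOfLiesOver p q
  haveI : IsLocalHom (algebraMap (Localization.AtPrime p) (Localization.AtPrime q)) := by
    rw [Localization.AtPrime.IsLiesOverAlgebra.algebraMap_eq (p := p) (P := q)]
    exact Localization.isLocalHom_localRingHom p q (algebraMap A B) Ideal.LiesOver.over
  haveI : Module.Flat A B := inferInstance
  haveI : Module.Flat (Localization.AtPrime p) (Localization.AtPrime q) := inferInstance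
  haveI : Module.FaithfullyFlat (Localization.AtPrime p) (Localization.AtPrime q) :=
    Module.FaithfullyFlat.of_flat_of_isLocalHom
  constructor
  · intro hA
    let T := Localization.AtPrime p ⊗[A] B
    haveI : IsReduced T := H4_isReduced_of_smooth (Localization.AtPrime p) T
    haveI hloc : IsLocalization (Algebra.algebraMapSubmonoid B p.primeCompl) T :=
      IsLocalization.tensorRight (Localization.AtPrime p) p.primeCompl
    constructor
    intro z hz
    obtain ⟨b, s, rfl⟩ := IsLocalization.exists_mk'_eq q.primeCompl z
    have hb : IsNilpotent (algebraMap B (Localization.AtPrime q) b) := by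
      have : algebraMap B (Localization.AtPrime q) b =
          IsLocalization.mk' (Localization.AtPrime q) b s * algebraMap B _ (s : B) := by
        rw [IsLocalization.mk'_spec]
      rw [this]
      exact (Commute.all _ _).isNilpotent_mul_right hz
    obtain ⟨n, hn⟩ := hb
    rw [← map_pow, IsLocalization.map_eq_zero_iff q.primeCompl] at hn
    obtain ⟨t, ht⟩ := hn
    have hnil : IsNilpotent ((t : B) * b) := by
      refine ⟨n + 1, ?_⟩
      have : ((t : B) * b) ^ (n + 1) = (t : B) ^ n * b * ((t : B) * b ^ n) := by ring
      rw [this, ht, mul_zero]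
    have hT : algebraMap B T ((t : B) * b) = 0 := (hnil.map (algebraMap B T)).eq_zero
    rw [IsLocalization.map_eq_zero_iff (Algebra.algebraMapSubmonoid B p.primeCompl)] at hT
    obtain ⟨⟨m, a, ha, rfl⟩, hm⟩ := hT
    have hanq : algebraMap A B a ∉ q := fun h => ha h
    have hmem : algebraMap A B a * (t : B) ∈ q.primeCompl := by
      intro h
      rcases Ideal.IsPrime.mem_or_mem inferInstance h with h | h
      · exact hanq h
      · exact t.2 h
    have hzero : algebraMap B (Localization.AtPrime q) b = 0 := by
      rw [IsLocalization.map_eq_zero_iff q.primeCompl]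
      refine ⟨⟨_, hmem⟩, ?_⟩
      simpa [mul_assoc] using hm
    rw [IsLocalization.mk'_eq_zero_iff]
    exact (IsLocalization.map_eq_zero_iff q.primeCompl _ _).mp hzero
  · intro hB
    exact isReduced_of_injective (algebraMap (Localization.AtPrime p) (Localization.AtPrime q))
      (FaithfulSMul.algebraMap_injective _ _)

end Groth.Agent.H4
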