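import Mathlib
import Groth.Agent.Lib.helper4.RegEtale
import Groth.Agent.Lib.helper4.SmoothStalk

set_option autoImplicit false
universe u
open TensorProduct IsLocalRing

namespace Groth.Agent.H4

theorem H4_regular_atPrime_congr {B : Type u} [CommRing B] (q q' : Ideal B) [q.IsPrime]
    [q'.IsPrime] (h : q = q') (hn : IsRegularLocalRing (Localization.AtPrime q)) :
    IsRegularLocalRing (Localization.AtPrime q') := by
  subst h; exact hn

/-- Smooth algebras over a regular ring have regular local rings. -/
theorem H4_isRegularLocalRing_atPrime_of_smooth (A B : Type u) [CommRing A] [CommRing B]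
    [Algebra A B] [IsRegularRing A] [Algebra.Smooth A B] (q : Ideal B) [q.IsPrime] :
    IsRegularLocalRing (Localization.AtPrime q) := by
  haveI : Algebra.FinitePresentation A B := Algebra.Smooth.finitePresentation
  haveI : Algebra.IsSmoothAt A q := inferInstance
  obtain ⟨f, hfq, n, alg, hst, hse⟩ :=
    Algebra.IsSmoothAt.exists_isStandardEtale_mvPolynomial (R := A) (p := q)
  letI := alg
  haveI := hse
  haveI := hst
  haveI : Algebra.Etale (MvPolynomial (Fin n) A) (Localization.Away f) := inferInstance
  have hdisj : Disjoint (Submonoid.powers f : Set B) (q : Set B) :=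
    (Ideal.disjoint_powers_iff_notMem_of_isPrime _).mpr hfq
  haveI hQ : (q.map (algebraMap B (Localization.Away f))).IsPrime :=
    IsLocalization.isPrime_of_isPrime_disjoint (.powers f) _ _ ‹_› hdisj
  have hcomap : (q.map (algebraMap B (Localization.Away f))).comap
      (algebraMap B (Localization.Away f)) = q :=
    IsLocalization.under_map_of_isPrime_disjoint (.powers f) _ ‹_› hdisj
  set Q := q.map (algebraMap B (Localization.Away f)) with hQdef
  haveI : IsRegularRing (MvPolynomial (Fin n) A) := inferInstance
  haveI : IsRegularLocalRing (Localization.AtPrime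
      (Q.comap (algebraMap (MvPolynomial (Fin n) A) (Localization.Away f)))) := inferInstance
  have hreg : IsRegularLocalRing (Localization.AtPrime Q) :=
    (H4_regular_localization_iff_of_etale (MvPolynomial (Fin n) A) (Localization.Away f) Q).mp
      inferInstance
  let e := IsLocalization.localizationLocalizationAtPrimeIsoLocalization (Submonoid.powers f) Q
  haveI : (Q.comap (algebraMap B (Localization.Away f))).IsPrime := Ideal.comap_isPrime _ _
  refine H4_regular_atPrime_congr _ q hcomap ?_
  exact IsRegularLocalRing.of_ringEquiv e.symm.toRingEquiv

end Groth.Agent.H4
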