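import Mathlib
import Groth.Prelude.Def_W4stktopologysheavesDim

set_option autoImplicit false
universe u

open Topology TopologicalSpace

namespace H4

variable {X : Type u} [TopologicalSpace X]

/-- The set of irreducible closed subsets meeting `U`. -/
def H4_sobM (U : Set X) : Set (PtTop.Sob X) :=
  {Z : IrreducibleCloseds X | ((Z : Set X) ∩ U).Nonempty}

theorem H4_mem_sobM {U : Set X} {Z : IrreducibleCloseds X} :
    (Z : PtTop.Sob X) ∈ H4_sobM U ↔ ((Z : Set X) ∩ U).Nonempty := Iff.rfl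

theorem H4_sobM_isOpen {U : Set X} (hU : IsOpen U) : IsOpen (H4_sobM U) :=
  TopologicalSpace.isOpen_generateFrom_of_mem ⟨⟨U, hU⟩, rfl⟩

theorem H4_sobM_mono {U V : Set X} (h : U ⊆ V) : H4_sobM U ⊆ H4_sobM V := by
  rintro Z ⟨x, hxZ, hxU⟩
  exact ⟨x, hxZ, h hxU⟩

theorem H4_sobM_univ : H4_sobM (Set.univ : Set X) = Set.univ := by
  apply Set.ext
  intro (Z : IrreducibleCloseds X)
  refine ⟨fun _ => trivial, fun _ => ?_⟩
  obtain ⟨x, hx⟩ := Z.isIrreducible.nonempty
  exact ⟨x, hx, trivial⟩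

theorem H4_sobM_inter {U V : Set X} (hU : IsOpen U) (hV : IsOpen V) :
    H4_sobM (U ∩ V) = H4_sobM U ∩ H4_sobM V := by
  apply Set.ext
  intro (Z : IrreducibleCloseds X)
  constructor
  · rintro ⟨x, hxZ, hxU, hxV⟩
    exact ⟨⟨x, hxZ, hxU⟩, ⟨x, hxZ, hxV⟩⟩
  · rintro ⟨h1, h2⟩
    exact Z.isIrreducible.isPreirreducible U V hU hV h1 h2

theorem H4_sobM_iUnion {ι : Sort*} (U : ι → Set X) :
    H4_sobM (⋃ i, U i) = ⋃ i, H4_sobM (U i) := by
  ext Z
  simp only [Set.mem_iUnion]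
  constructor
  · rintro ⟨x, hxZ, hxU⟩
    obtain ⟨i, hi⟩ := Set.mem_iUnion.1 hxU
    exact ⟨i, x, hxZ, hi⟩
  · rintro ⟨i, x, hxZ, hxU⟩
    exact ⟨x, hxZ, Set.mem_iUnion.2 ⟨i, hxU⟩⟩

theorem H4_sob_isOpen_iff {S : Set (PtTop.Sob X)} :
    IsOpen S ↔ ∃ U : Set X, IsOpen U ∧ S = H4_sobM U := by
  constructor
  · intro hS
    change TopologicalSpace.GenerateOpen _ S at hS
    induction hS with
    | basic s hs =>
      obtain ⟨U, rfl⟩ := hs
      exact ⟨U, U.2, rfl⟩
    | univ => exact ⟨Set.univ, isOpen_univ, H4_sobM_univ.symm⟩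
    | inter s t _ _ hs ht =>
      obtain ⟨U, hU, rfl⟩ := hs
      obtain ⟨V, hV, rfl⟩ := ht
      exact ⟨U ∩ V, hU.inter hV, (H4_sobM_inter hU hV).symm⟩
    | sUnion S _ ih =>
      choose U hU hSU using ih
      refine ⟨⋃ s : S, U s.1 s.2, isOpen_iUnion (fun s => hU s.1 s.2), ?_⟩
      rw [H4_sobM_iUnion, Set.sUnion_eq_iUnion]
      congr 1
      ext s
      rw [← hSU s.1 s.2]
  · rintro ⟨U, hU, rfl⟩
    exact H4_sobM_isOpen hU

theorem H4_toSob_preimage {U : Set X} (hU : IsOpen U) : PtTop.toSob X ⁻¹' H4_sobM U = U := by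
  ext x
  constructor
  · rintro ⟨y, hy, hyU⟩
    have hy' : y ∈ closure ({x} : Set X) := hy
    obtain ⟨z, hzU, hz⟩ := mem_closure_iff.1 hy' U hU hyU
    rw [Set.mem_singleton_iff.1 hz] at hzU
    exact hzU
  · intro hx
    exact ⟨x, subset_closure (Set.mem_singleton x), hx⟩

theorem H4_toSob_continuous : Continuous (PtTop.toSob X) := by
  rw [continuous_def]
  intro S hS
  obtain ⟨U, hU, rfl⟩ := H4_sob_isOpen_iff.1 hS
  rw [H4_toSob_preimage hU]
  exact hU

theorem H4_sobM_injective {U V : Set X} (hU : IsOpen U) (hV : IsOpen V)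
    (h : H4_sobM U = H4_sobM V) : U = V := by
  rw [← H4_toSob_preimage hU, ← H4_toSob_preimage hV, h]

theorem H4_sobM_subset_iff {U V : Set X} (hU : IsOpen U) (hV : IsOpen V) :
    H4_sobM U ⊆ H4_sobM V ↔ U ⊆ V := by
  constructor
  · intro h
    rw [← H4_toSob_preimage hU, ← H4_toSob_preimage hV]
    exact Set.preimage_mono h
  · exact H4_sobM_mono

instance H4_sob_t0 : T0Space (PtTop.Sob X) := by
  rw [t0Space_iff_inseparable]
  intro Z Z' h
  rw [inseparable_iff_forall_isOpen] at h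
  have key : ∀ A B : IrreducibleCloseds X,
      (∀ S : Set (PtTop.Sob X), IsOpen S → ((A : PtTop.Sob X) ∈ S ↔ (B : PtTop.Sob X) ∈ S)) →
      (A : Set X) ⊆ (B : Set X) := by
    intro A B hAB x hxA
    by_contra hxB
    have h1 : (A : PtTop.Sob X) ∈ H4_sobM ((B : Set X)ᶜ) := ⟨x, hxA, hxB⟩
    have h2 := (hAB _ (H4_sobM_isOpen B.isClosed.isOpen_compl)).1 h1
    obtain ⟨y, hyB, hyB'⟩ := h2
    exact hyB' hyB
  have h1 := key Z Z' h
  have h2 := key Z' Z (fun S hS => (h S hS).symm)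
  exact IrreducibleCloseds.ext (Set.Subset.antisymm h1 h2)

instance H4_sob_quasiSober : QuasiSober (PtTop.Sob X) := by
  constructor
  intro C hCirr hCcl
  obtain ⟨U, hU, hCU⟩ := H4_sob_isOpen_iff.1 hCcl.isOpen_compl
  have hC : ∀ Z : IrreducibleCloseds X, (Z : PtTop.Sob X) ∈ C ↔ (Z : Set X) ⊆ Uᶜ := by
    intro Z
    have : (Z : PtTop.Sob X) ∈ C ↔ (Z : PtTop.Sob X) ∉ H4_sobM U := by
      rw [← hCU]; exact (Set.notMem_compl_iff).symm
    rw [this, H4_mem_sobM, Set.not_nonempty_iff_eq_empty, ← Set.disjoint_iff_inter_eq_empty,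
      Set.subset_compl_iff_disjoint_right]
  -- T = Uᶜ is irreducible
  have hTirr : IsIrreducible (Uᶜ : Set X) := by
    constructor
    · obtain ⟨(Z : IrreducibleCloseds X), hZ⟩ := hCirr.nonempty
      obtain ⟨x, hx⟩ := Z.isIrreducible.nonempty
      exact ⟨x, (hC Z).1 hZ hx⟩
    · intro V V' hV hV' ⟨x, hxT, hxV⟩ ⟨x', hxT', hxV'⟩
      have hcl : ∀ y ∈ (Uᶜ : Set X), closure ({y} : Set X) ⊆ Uᶜ := fun y hy =>
        (hU.isClosed_compl.closure_subset_iff).2 (Set.singleton_subset_iff.2 hy)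
      have h1 : (C ∩ H4_sobM V).Nonempty :=
        ⟨PtTop.toSob X x, (hC (PtTop.toSob X x)).2 (hcl x hxT),
          ⟨x, subset_closure (Set.mem_singleton x), hxV⟩⟩
      have h2 : (C ∩ H4_sobM V').Nonempty :=
        ⟨PtTop.toSob X x', (hC (PtTop.toSob X x')).2 (hcl x' hxT'),
          ⟨x', subset_closure (Set.mem_singleton x'), hxV'⟩⟩
      obtain ⟨Z, hZC, hZV, hZV'⟩ := hCirr.isPreirreducible _ _ (H4_sobM_isOpen hV)
        (H4_sobM_isOpen hV') h1 h2
      have : (Z : PtTop.Sob X) ∈ H4_sobM (V ∩ V') := by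
        rw [H4_sobM_inter hV hV']; exact ⟨hZV, hZV'⟩
      obtain ⟨y, hyZ, hyVV'⟩ := this
      exact ⟨y, (hC Z).1 hZC hyZ, hyVV'⟩
  let T : IrreducibleCloseds X := ⟨Uᶜ, hTirr, hU.isClosed_compl⟩
  refine ⟨(T : PtTop.Sob X), ?_⟩
  rw [isGenericPoint_def]
  apply Set.Subset.antisymm
  · rw [hCcl.closure_subset_iff, Set.singleton_subset_iff]
    exact (hC T).2 subset_rfl
  · intro Z hZ
    rw [mem_closure_iff]
    intro S hS hZS
    obtain ⟨V, hV, rfl⟩ := H4_sob_isOpen_iff.1 hS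
    obtain ⟨y, hyZ, hyV⟩ := hZS
    exact ⟨T, ⟨y, (hC Z).1 hZ hyZ, hyV⟩, Set.mem_singleton _⟩

theorem H4_sob_lift {Y : Type u} [TopologicalSpace Y] [QuasiSober Y] [T0Space Y] (f : X → Y)
    (hf : Continuous f) : ∃ g : PtTop.Sob X → Y, Continuous g ∧ g ∘ PtTop.toSob X = f := by
  have hirr : ∀ Z : IrreducibleCloseds X, IsIrreducible (closure (f '' (Z : Set X))) := fun Z =>
    (Z.isIrreducible.image f hf.continuousOn).closure
  let g : PtTop.Sob X → Y := fun Z => (hirr Z).genericPoint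
  have hg : ∀ Z : IrreducibleCloseds X, IsGenericPoint (g Z) (closure (f '' (Z : Set X))) := by
    intro Z
    have := (hirr Z).isGenericPoint_genericPoint_closure
    rwa [closure_closure] at this
  refine ⟨g, ?_, ?_⟩
  · rw [continuous_def]
    intro V hV
    have : g ⁻¹' V = H4_sobM (f ⁻¹' V) := by
      ext Z
      change g Z ∈ V ↔ _
      rw [(hg Z).mem_open_set_iff hV, closure_inter_open_nonempty_iff hV]
      constructor
      · rintro ⟨_, ⟨x, hxZ, rfl⟩, hxV⟩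
        exact ⟨x, hxZ, hxV⟩
      · rintro ⟨x, hxZ, hxV⟩
        exact ⟨f x, ⟨x, hxZ, rfl⟩, hxV⟩
    rw [this]
    exact H4_sobM_isOpen (hV.preimage hf)
  · funext x
    change g (PtTop.toSob X x) = f x
    have h1 := hg (PtTop.toSob X x)
    have h2 : closure (f '' (closure ({x} : Set X))) = closure ({f x} : Set Y) := by
      apply Set.Subset.antisymm
      · rw [isClosed_closure.closure_subset_iff]
        calc f '' closure {x} ⊆ closure (f '' {x}) := image_closure_subset_closure_image hf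
          _ = closure {f x} := by rw [Set.image_singleton]
      · apply closure_mono
        rw [Set.singleton_subset_iff]
        exact ⟨x, subset_closure (Set.mem_singleton x), rfl⟩
    have h3 : IsGenericPoint (g (PtTop.toSob X x)) (closure ({f x} : Set Y)) := by
      rw [← h2]; exact h1
    exact h3.eq isGenericPoint_closure

theorem H4_sobM_biUnion {ι : Type*} (t : Finset ι) (V : ι → Set X) :
    H4_sobM (⋃ i ∈ t, V i) = ⋃ i ∈ t, H4_sobM (V i) := by
  rw [H4_sobM_iUnion]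
  congr 1
  ext i
  rw [H4_sobM_iUnion]

theorem H4_sobM_isCompact_iff {U : Set X} (hU : IsOpen U) :
    IsCompact (H4_sobM U) ↔ IsCompact U := by
  constructor
  · intro hc
    rw [isCompact_iff_finite_subcover]
    intro ι V hV hcov
    have h1 : H4_sobM U ⊆ ⋃ i, H4_sobM (V i) := by
      rw [← H4_sobM_iUnion]; exact H4_sobM_mono hcov
    obtain ⟨t, ht⟩ := hc.elim_finite_subcover _ (fun i => H4_sobM_isOpen (hV i)) h1
    refine ⟨t, ?_⟩
    rw [← H4_sobM_biUnion] at ht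
    exact (H4_sobM_subset_iff hU (isOpen_biUnion fun i _ => hV i)).1 ht
  · intro hc
    rw [isCompact_iff_finite_subcover]
    intro ι S hS hcov
    choose V hV hSV using fun i => H4_sob_isOpen_iff.1 (hS i)
    have hSV' : S = fun i => H4_sobM (V i) := funext hSV
    subst hSV'
    rw [← H4_sobM_iUnion] at hcov
    have h1 := (H4_sobM_subset_iff hU (isOpen_iUnion hV)).1 hcov
    obtain ⟨t, ht⟩ := hc.elim_finite_subcover V hV h1
    refine ⟨t, ?_⟩
    rw [← H4_sobM_biUnion]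
    exact H4_sobM_mono ht

theorem H4_sob_compactSpace [CompactSpace X] : CompactSpace (PtTop.Sob X) := by
  rw [← isCompact_univ_iff, ← H4_sobM_univ, H4_sobM_isCompact_iff isOpen_univ]
  exact isCompact_univ

theorem H4_sob_prespectral [PrespectralSpace X] : PrespectralSpace (PtTop.Sob X) := by
  constructor
  apply TopologicalSpace.isTopologicalBasis_of_isOpen_of_nhds
  · intro S hS; exact hS.1
  · intro (Z : IrreducibleCloseds X) S hZS hS
    obtain ⟨U, hU, rfl⟩ := H4_sob_isOpen_iff.1 hS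
    obtain ⟨x, hxZ, hxU⟩ := hZS
    obtain ⟨V, ⟨hVo, hVc⟩, hxV, hVU⟩ :=
      (PrespectralSpace.isTopologicalBasis (X := X)).exists_subset_of_mem_open hxU hU
    exact ⟨H4_sobM V, ⟨H4_sobM_isOpen hVo, (H4_sobM_isCompact_iff hVo).2 hVc⟩,
      ⟨x, hxZ, hxV⟩, H4_sobM_mono hVU⟩

theorem H4_sob_quasiSeparated [QuasiSeparatedSpace X] : QuasiSeparatedSpace (PtTop.Sob X) := by
  constructor
  intro S S' hS hSc hS' hSc'
  obtain ⟨U, hU, rfl⟩ := H4_sob_isOpen_iff.1 hS
  obtain ⟨V, hV, rfl⟩ := H4_sob_isOpen_iff.1 hS'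
  rw [← H4_sobM_inter hU hV, H4_sobM_isCompact_iff (hU.inter hV)]
  exact QuasiSeparatedSpace.inter_isCompact U V hU ((H4_sobM_isCompact_iff hU).1 hSc) hV
    ((H4_sobM_isCompact_iff hV).1 hSc')

theorem H4_sob_spectral [CompactSpace X] [PrespectralSpace X] [QuasiSeparatedSpace X] :
    SpectralSpace (PtTop.Sob X) :=
  { H4_sob_t0, H4_sob_compactSpace, H4_sob_quasiSober, H4_sob_quasiSeparated,
    H4_sob_prespectral with }

theorem H4_sob_noetherian [NoetherianSpace X] : NoetherianSpace (PtTop.Sob X) := by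
  rw [noetherianSpace_iff_opens]
  intro s
  obtain ⟨U, hU, hsU⟩ := H4_sob_isOpen_iff.1 s.2
  change IsCompact s.carrier
  rw [hsU, H4_sobM_isCompact_iff hU]
  exact NoetherianSpace.isCompact U

end H4
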