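import Mathlib
import Groth.Agent.Lib.helper4.Spectral

set_option autoImplicit false
universe u

namespace Groth.Agent.H4

open PrimeSpectrum Topology

theorem H4_isSpectralMap_comap {A B : Type*} [CommRing A] [CommRing B] (f : A →+* B) :
    IsSpectralMap (PrimeSpectrum.comap f) := by
  classical
  refine ⟨(PrimeSpectrum.continuous_comap f), ?_⟩
  intro s hso hsc
  obtain ⟨t, rfl⟩ := PrimeSpectrum.isCompact_isOpen_iff.1 ⟨hsc, hso⟩
  have h1 : PrimeSpectrum.comap f ⁻¹' (zeroLocus (t : Set A))ᶜ =
      (zeroLocus ((t.image f : Finset B) : Set B))ᶜ := by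
    rw [Set.preimage_compl, PrimeSpectrum.preimage_comap_zeroLocus, Finset.coe_image]
  rw [h1]
  exact (PrimeSpectrum.isCompact_isOpen_iff.2 ⟨t.image f, rfl⟩).1

/-- The image of `Spec B → Spec A` is an intersection of constructible sets. -/
theorem H4_range_comap_eq_sInter {A B : Type u} [CommRing A] [CommRing B] (f : A →+* B) :
    ∃ S : Set (Set (PrimeSpectrum A)), (∀ s ∈ S, IsConstructible s) ∧
      Set.range (PrimeSpectrum.comap f) = ⋂₀ S := by
  have hcl : @IsClosed _ (constructibleTopology (PrimeSpectrum A))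
      (Set.range (PrimeSpectrum.comap f)) := by
    rw [← Set.image_univ]
    exact _root_.H4.H4_isClosed_constr_image (H4_isSpectralMap_comap f)
      (@isClosed_univ _ (constructibleTopology (PrimeSpectrum B)))
  refine ⟨{s | IsConstructible s ∧ Set.range (PrimeSpectrum.comap f) ⊆ s}, fun s hs => hs.1, ?_⟩
  apply Set.Subset.antisymm
  · intro x hx s hs
    exact hs.2 hx
  · intro P hP
    by_contra hPE
    have hop : @IsOpen _ (constructibleTopology (PrimeSpectrum A))
        (Set.range (PrimeSpectrum.comap f))ᶜ :=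
      (@isOpen_compl_iff _ _ (constructibleTopology (PrimeSpectrum A))).2 hcl
    obtain ⟨t, ht, hPt, hts⟩ := _root_.H4.H4_exists_constructible_of_mem_isOpen_constr hop hPE
    have := hP tᶜ ⟨ht.compl, fun x hx hxt => hts hxt hx⟩
    exact this hPt

end Groth.Agent.H4
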