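import Mathlib
import Groth.Agent.Lib.helper4.Spectral

set_option autoImplicit false
universe u

open CategoryTheory CategoryTheory.Limits

namespace H4

variable {J : Type u} [SmallCategory J] (F : J ⥤ TopCat.{u}) (c : Cone F)

/-- The comparison map from the cone point to the product. -/
def H4_limMap : c.pt → (∀ j, F.obj j) := fun x j => c.π.app j x

theorem H4_limMap_isInducing (hc : IsLimit c) : Topology.IsInducing (H4_limMap F c) := by
  constructor
  rw [TopCat.induced_of_isLimit c hc]
  simp only [Pi.topologicalSpace, induced_iInf, induced_compose]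
  rfl

theorem H4_lim_ext (hc : IsLimit c) (x y : c.pt) (h : ∀ j, c.π.app j x = c.π.app j y) : x = y :=
  Concrete.isLimit_ext F hc x y h

theorem H4_lim_exists (hc : IsLimit c) (u : ∀ j, F.obj j)
    (hu : ∀ {i j : J} (a : i ⟶ j), F.map a (u i) = u j) :
    ∃ x : c.pt, ∀ j, c.π.app j x = u j := by
  have hc' := isLimitOfPreserves (forget TopCat) hc
  let s : (F ⋙ forget TopCat).sections := ⟨u, fun {i j} a => hu a⟩
  refine ⟨(Types.isLimitEquivSections hc').symm s, fun j => ?_⟩
  exact Types.isLimitEquivSections_symm_apply hc' s j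


/-- Compactness of the "limit" of constructibly closed subsets (no compatibility needed). -/
theorem H4_lim_isCompact (hc : IsLimit c)
    (hF : ∀ j, SpectralSpace (F.obj j))
    (hFm : ∀ {i j : J} (a : i ⟶ j), IsSpectralMap (F.map a : F.obj i → F.obj j))
    (Z : ∀ j, Set (F.obj j))
    (hZ : ∀ j, @IsClosed (F.obj j) (constructibleTopology (F.obj j)) (Z j)) :
    IsCompact {x : c.pt | ∀ j, c.π.app j x ∈ Z j} := by
  have : ∀ j, T2Space (WithConstructibleTopology (F.obj j)) := fun j => H4_t2Space_withConstr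
  let P' := ∀ j, WithConstructibleTopology (F.obj j)
  let g : P' → (∀ j, F.obj j) := fun u j => (u j).ofTopology
  have hg : Continuous g :=
    continuous_pi fun j => H4_continuous_ofTopology.comp (continuous_apply j)
  let K' : Set P' := {u | (∀ (i j : J) (a : i ⟶ j),
      WithTopology.toTopology (constructibleTopology (F.obj j)) (F.map a (u i).ofTopology) = u j) ∧
      ∀ j, u j ∈ (WithTopology.ofTopology ⁻¹' Z j : Set (WithConstructibleTopology (F.obj j)))}
  have hK'cl : IsClosed K' := by
    have h1 : ∀ (i j : J) (a : i ⟶ j), IsClosed {u : P' |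
        WithTopology.toTopology (constructibleTopology (F.obj j)) (F.map a (u i).ofTopology)
          = u j} := by
      intro i j a
      exact isClosed_eq ((H4_continuous_withConstr (hFm a)).comp (continuous_apply i))
        (continuous_apply j)
    have h2 : ∀ j, IsClosed {u : P' |
        u j ∈ (WithTopology.ofTopology ⁻¹' Z j : Set (WithConstructibleTopology (F.obj j)))} := by
      intro j
      have hcl : IsClosed
          (WithTopology.ofTopology ⁻¹' Z j : Set (WithConstructibleTopology (F.obj j))) := by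
        rw [WithTopology.isClosed_iff]; exact hZ j
      exact hcl.preimage (continuous_apply j)
    have : K' = (⋂ i, ⋂ j, ⋂ a, {u : P' |
        WithTopology.toTopology (constructibleTopology (F.obj j)) (F.map a (u i).ofTopology)
          = u j}) ∩ ⋂ j, {u : P' |
        u j ∈ (WithTopology.ofTopology ⁻¹' Z j : Set (WithConstructibleTopology (F.obj j)))} := by
      ext u
      simp only [K', Set.mem_inter_iff, Set.mem_iInter, Set.mem_ofPred_eq]
    rw [this]
    exact (isClosed_iInter fun i => isClosed_iInter fun j => isClosed_iInter fun a => h1 i j a).inter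
      (isClosed_iInter h2)
  have hK' : IsCompact K' := hK'cl.isCompact
  have himg : H4_limMap F c '' {x : c.pt | ∀ j, c.π.app j x ∈ Z j} = g '' K' := by
    ext v
    constructor
    · rintro ⟨x, hx, rfl⟩
      refine ⟨fun j => WithTopology.toTopology _ (c.π.app j x), ⟨?_, ?_⟩, rfl⟩
      · intro i j a
        have := c.w a
        have h' : F.map a (c.π.app i x) = c.π.app j x := by
          rw [← this]; rfl
        exact congrArg _ h'
      · intro j; exact hx j
    · rintro ⟨u, ⟨hu1, hu2⟩, rfl⟩
      obtain ⟨x, hx⟩ := H4_lim_exists F c hc (g u) (fun {i j} a => by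
        have := hu1 i j a
        exact congrArg WithTopology.ofTopology this)
      refine ⟨x, fun j => ?_, ?_⟩
      · rw [hx j]; exact hu2 j
      · funext j; exact hx j
  rw [(H4_limMap_isInducing F c hc).isCompact_iff, himg]
  exact hK'.image hg


/-- Nonemptiness of the "limit" of nonempty constructibly closed compatible subsets of a
cofiltered system of spectral spaces. -/
theorem H4_lim_nonempty [IsCofiltered J] (hc : IsLimit c)
    (hF : ∀ j, SpectralSpace (F.obj j))
    (hFm : ∀ {i j : J} (a : i ⟶ j), IsSpectralMap (F.map a : F.obj i → F.obj j))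
    (Z : ∀ j, Set (F.obj j)) (hne : ∀ j, (Z j).Nonempty)
    (hZ : ∀ j, @IsClosed (F.obj j) (constructibleTopology (F.obj j)) (Z j))
    (hmaps : ∀ {i j : J} (a : i ⟶ j), Set.MapsTo (F.map a) (Z i) (Z j)) :
    ∃ x : c.pt, ∀ j, c.π.app j x ∈ Z j := by
  have : ∀ j, T2Space (WithConstructibleTopology (F.obj j)) := fun j => H4_t2Space_withConstr
  let Z' : ∀ j, Set (WithConstructibleTopology (F.obj j)) := fun j => WithTopology.ofTopology ⁻¹' Z j
  have hZ'cl : ∀ j, IsClosed (Z' j) := by
    intro j
    rw [WithTopology.isClosed_iff]; exact hZ j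
  let G : J ⥤ TopCat.{u} :=
    { obj := fun j => TopCat.of (Z' j)
      map := fun {i j} a => TopCat.ofHom
        ⟨fun z => ⟨WithTopology.toTopology _ (F.map a z.1.ofTopology), hmaps a z.2⟩,
          Continuous.subtype_mk ((H4_continuous_withConstr (hFm a)).comp continuous_subtype_val) _⟩
      map_id := by
        intro j
        ext z
        simp
      map_comp := by
        intro i j k a b
        ext z
        simp }
  have : ∀ j, Nonempty (G.obj j) := fun j => by
    obtain ⟨z, hz⟩ := hne j
    exact ⟨⟨WithTopology.toTopology _ z, hz⟩⟩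
  have : ∀ j, CompactSpace (G.obj j) := fun j =>
    isCompact_iff_compactSpace.1 (hZ'cl j).isCompact
  have : ∀ j, T2Space (G.obj j) := fun j => inferInstanceAs (T2Space (Z' j))
  obtain ⟨⟨u, hu⟩⟩ := TopCat.nonempty_limitCone_of_compact_t2_cofiltered_system G
  obtain ⟨x, hx⟩ := H4_lim_exists F c hc (fun j => (u j).1.ofTopology) (fun {i j} a => by
    have := hu a
    exact congrArg (fun z : G.obj j => z.1.ofTopology) this)
  exact ⟨x, fun j => by rw [hx j]; exact (u j).2⟩


theorem H4_cofiltered_finset_eq {C : Type u} [SmallCategory C] [IsCofiltered C] {j i : C}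
    (t : Finset (j ⟶ i)) : ∃ (k : C) (e : k ⟶ j) (g : k ⟶ i), ∀ a ∈ t, e ≫ a = g := by
  classical
  induction t using Finset.induction_on with
  | empty => exact ⟨IsCofiltered.min j i, IsCofiltered.minToLeft j i, IsCofiltered.minToRight j i,
      by simp⟩
  | insert a s _ ih =>
    obtain ⟨k, e, g, h⟩ := ih
    refine ⟨IsCofiltered.eq (e ≫ a) g, IsCofiltered.eqHom (e ≫ a) g ≫ e,
      IsCofiltered.eqHom (e ≫ a) g ≫ g, ?_⟩
    intro b hb
    rcases Finset.mem_insert.1 hb with rfl | hb
    · rw [Category.assoc]; exact IsCofiltered.eq_condition _ _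
    · rw [Category.assoc, h b hb]

/-- If the preimage in the limit of a constructibly closed set is empty, then it is already
empty at some finite stage. -/
theorem H4_lim_preimage_empty [IsCofiltered J] (hc : IsLimit c)
    (hF : ∀ j, SpectralSpace (F.obj j))
    (hFm : ∀ {i j : J} (a : i ⟶ j), IsSpectralMap (F.map a : F.obj i → F.obj j))
    (i : J) (D : Set (F.obj i))
    (hD : @IsClosed (F.obj i) (constructibleTopology (F.obj i)) D)
    (hempty : c.π.app i ⁻¹' D = ∅) :
    ∃ (j : J) (a : j ⟶ i), F.map a ⁻¹' D = ∅ := by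
  classical
  by_contra hcon
  push Not at hcon
  let Z : ∀ j, Set (F.obj j) := fun j => ⋂ a : j ⟶ i, F.map a ⁻¹' D
  have hcl : ∀ (j : J) (a : j ⟶ i),
      @IsClosed (F.obj j) (constructibleTopology (F.obj j)) (F.map a ⁻¹' D) := fun j a =>
    @IsClosed.preimage _ _ (constructibleTopology (F.obj j)) (constructibleTopology (F.obj i)) _
      (H4_continuous_constr_of_isSpectralMap (hFm a)) D hD
  have hZcl : ∀ j, @IsClosed (F.obj j) (constructibleTopology (F.obj j)) (Z j) := fun j =>
    @isClosed_iInter _ _ (constructibleTopology (F.obj j)) _ (hcl j)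
  have hZne : ∀ j, (Z j).Nonempty := by
    intro j
    have hcomp : @IsCompact (F.obj j) (constructibleTopology (F.obj j)) Set.univ :=
      (@isCompact_univ_iff _ (constructibleTopology (F.obj j))).2 H4_compactSpace_constr
    have := @IsCompact.inter_iInter_nonempty (F.obj j) (constructibleTopology (F.obj j))
      Set.univ (j ⟶ i) hcomp (fun a => F.map a ⁻¹' D) (hcl j) (fun t => by
        obtain ⟨k, e, g, h⟩ := H4_cofiltered_finset_eq t
        obtain ⟨z, hz⟩ := hcon k g
        refine ⟨F.map e z, Set.mem_univ _, Set.mem_iInter₂.2 fun a ha => ?_⟩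
        have : F.map a (F.map e z) = F.map g z := by
          rw [← h a ha, F.map_comp]; rfl
        simp only [Set.mem_preimage]
        rw [this]; exact hz)
    obtain ⟨z, _, hz⟩ := this
    exact ⟨z, hz⟩
  have hmaps : ∀ {k j : J} (b : k ⟶ j), Set.MapsTo (F.map b) (Z k) (Z j) := by
    intro k j b z hz
    refine Set.mem_iInter.2 fun a => ?_
    have := Set.mem_iInter.1 hz (b ≫ a)
    simp only [Set.mem_preimage] at this ⊢
    rw [F.map_comp] at this
    exact this
  obtain ⟨x, hx⟩ := H4_lim_nonempty F c hc hF hFm Z hZne hZcl hmaps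
  have h1 := Set.mem_iInter.1 (hx i) (𝟙 i)
  simp only [Set.mem_preimage, F.map_id] at h1
  have : x ∈ c.π.app i ⁻¹' D := h1
  rw [hempty] at this
  exact this


/-- Preimages of constructibly closed sets under the projections of a limit are compact. -/
theorem H4_lim_isCompact_preimage (hc : IsLimit c)
    (hF : ∀ j, SpectralSpace (F.obj j))
    (hFm : ∀ {i j : J} (a : i ⟶ j), IsSpectralMap (F.map a : F.obj i → F.obj j))
    (j : J) (V : Set (F.obj j))
    (hV : @IsClosed (F.obj j) (constructibleTopology (F.obj j)) V) :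
    IsCompact (c.π.app j ⁻¹' V) := by
  have hcl : ∀ (k : J) (a : k ⟶ j),
      @IsClosed (F.obj k) (constructibleTopology (F.obj k)) (F.map a ⁻¹' V) := fun k a =>
    @IsClosed.preimage _ _ (constructibleTopology (F.obj k)) (constructibleTopology (F.obj j)) _
      (H4_continuous_constr_of_isSpectralMap (hFm a)) V hV
  have := H4_lim_isCompact F c hc hF hFm (fun k => ⋂ a : k ⟶ j, F.map a ⁻¹' V)
    (fun k => @isClosed_iInter _ _ (constructibleTopology (F.obj k)) _ (hcl k))
  have heq : (c.π.app j ⁻¹' V : Set c.pt) =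
      {x : c.pt | ∀ k, c.π.app k x ∈ (⋂ a : k ⟶ j, F.map a ⁻¹' V : Set (F.obj k))} := by
    ext x
    simp only [Set.mem_preimage, Set.mem_ofPred_eq, Set.mem_iInter]
    constructor
    · intro hx k a
      have hw : c.π.app j x = F.map a (c.π.app k x) := by
        rw [← c.w a]; rfl
      rw [← hw]; exact hx
    · intro h
      have := h j (𝟙 j)
      simpa using this
  rw [heq]
  exact this

theorem H4_lim_isSpectralMap_π (hc : IsLimit c)
    (hF : ∀ j, SpectralSpace (F.obj j))
    (hFm : ∀ {i j : J} (a : i ⟶ j), IsSpectralMap (F.map a : F.obj i → F.obj j)) (j : J) :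
    IsSpectralMap (c.π.app j : c.pt → F.obj j) :=
  ⟨(c.π.app j).hom.continuous, fun V hVo hVc => H4_lim_isCompact_preimage F c hc hF hFm j V
    (H4_isClosed_constr_of_isCompact_isOpen hVc hVo)⟩


theorem H4_lim_basis [IsCofiltered J] (hc : IsLimit c)
    (hF : ∀ j, SpectralSpace (F.obj j))
    (hFm : ∀ {i j : J} (a : i ⟶ j), IsSpectralMap (F.map a : F.obj i → F.obj j)) :
    TopologicalSpace.IsTopologicalBasis
      {U : Set c.pt | ∃ (j : J) (V : Set (F.obj j)), (IsOpen V ∧ IsCompact V) ∧
        U = c.π.app j ⁻¹' V} := by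
  have := TopCat.isTopologicalBasis_cofiltered_limit.{u, u} F c hc
    (fun j => {V : Set (F.obj j) | IsOpen V ∧ IsCompact V})
    (fun j => PrespectralSpace.isTopologicalBasis)
    (fun j => ⟨isOpen_univ, isCompact_univ⟩)
    (fun j U1 U2 h1 h2 => ⟨h1.1.inter h2.1, h1.2.inter_of_isOpen h2.2 h1.1 h2.1⟩)
    (fun i j f V hV => ⟨hV.1.preimage (hFm f).continuous,
      (hFm f).isCompact_preimage_of_isOpen hV.1 hV.2⟩)
  exact this

theorem H4_lim_spectralSpace [IsCofiltered J] (hc : IsLimit c)
    (hF : ∀ j, SpectralSpace (F.obj j))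
    (hFm : ∀ {i j : J} (a : i ⟶ j), IsSpectralMap (F.map a : F.obj i → F.obj j)) :
    SpectralSpace c.pt := by
  have hbasis := H4_lim_basis F c hc hF hFm
  have hind := H4_limMap_isInducing F c hc
  have hinj : Function.Injective (H4_limMap F c) := fun x y h =>
    H4_lim_ext F c hc x y fun j => congrFun h j
  have h0 : T0Space c.pt := (Topology.IsEmbedding.mk hind hinj).t0Space
  have h1 : CompactSpace c.pt := by
    rw [← isCompact_univ_iff]
    have := H4_lim_isCompact F c hc hF hFm (fun _ => Set.univ)
      (fun j => @isClosed_univ _ (constructibleTopology (F.obj j)))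
    simpa using this
  -- compactness of basic opens and their intersections
  have hcompact : ∀ U ∈ {U : Set c.pt | ∃ (j : J) (V : Set (F.obj j)), (IsOpen V ∧ IsCompact V) ∧
        U = c.π.app j ⁻¹' V}, IsCompact U := by
    rintro U ⟨j, V, ⟨hVo, hVc⟩, rfl⟩
    exact H4_lim_isCompact_preimage F c hc hF hFm j V
      (H4_isClosed_constr_of_isCompact_isOpen hVc hVo)
  have h2 : PrespectralSpace c.pt := PrespectralSpace.of_isTopologicalBasis hbasis hcompact
  have h3 : QuasiSeparatedSpace c.pt := by
    let ι := {U : Set c.pt // ∃ (j : J) (V : Set (F.obj j)), (IsOpen V ∧ IsCompact V) ∧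
        U = c.π.app j ⁻¹' V}
    have hb' : TopologicalSpace.IsTopologicalBasis (Set.range (fun U : ι => U.1)) := by
      convert hbasis using 1
      ext U
      constructor
      · rintro ⟨U, rfl⟩; exact U.2
      · intro hU; exact ⟨⟨U, hU⟩, rfl⟩
    refine QuasiSeparatedSpace.of_isTopologicalBasis hb' ?_
    rintro ⟨U, j, V, ⟨hVo, hVc⟩, rfl⟩ ⟨U', k, V', ⟨hVo', hVc'⟩, rfl⟩
    obtain ⟨l, a, b, -⟩ : ∃ (l : J) (a : l ⟶ j) (b : l ⟶ k), True :=
      ⟨IsCofiltered.min j k, IsCofiltered.minToLeft j k, IsCofiltered.minToRight j k, trivial⟩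
    have heq : (c.π.app j ⁻¹' V ∩ c.π.app k ⁻¹' V' : Set c.pt) =
        c.π.app l ⁻¹' (F.map a ⁻¹' V ∩ F.map b ⁻¹' V') := by
      ext x
      have hwa : c.π.app j x = F.map a (c.π.app l x) := by
        rw [← c.w a]; rfl
      have hwb : c.π.app k x = F.map b (c.π.app l x) := by
        rw [← c.w b]; rfl
      simp only [Set.mem_inter_iff, Set.mem_preimage, hwa, hwb]
    change IsCompact (c.π.app j ⁻¹' V ∩ c.π.app k ⁻¹' V' : Set c.pt)
    rw [heq]
    apply H4_lim_isCompact_preimage F c hc hF hFm l
    refine @IsClosed.inter _ _ _ (constructibleTopology (F.obj l)) ?_ ?_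
    · exact H4_isClosed_constr_of_isCompact_isOpen
        ((hFm a).isCompact_preimage_of_isOpen hVo hVc) (hVo.preimage (hFm a).continuous)
    · exact H4_isClosed_constr_of_isCompact_isOpen
        ((hFm b).isCompact_preimage_of_isOpen hVo' hVc') (hVo'.preimage (hFm b).continuous)
  have h4 : QuasiSober c.pt := by
    refine ⟨fun {S} hS hScl => ?_⟩
    have hirr : ∀ j, IsIrreducible (closure (c.π.app j '' S)) := fun j =>
      (hS.image _ (c.π.app j).hom.continuous.continuousOn).closure
    choose ξ hξ using fun j => QuasiSober.sober (hirr j) isClosed_closure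
    have hcompat : ∀ {i j : J} (a : i ⟶ j), F.map a (ξ i) = ξ j := by
      intro i j a
      have h1 : IsGenericPoint (F.map a (ξ i)) (closure (F.map a '' closure (c.π.app i '' S))) :=
        (hξ i).image (hFm a).continuous
      have h2 : closure (F.map a '' closure (c.π.app i '' S)) = closure (c.π.app j '' S) := by
        apply le_antisymm
        · apply closure_minimal _ isClosed_closure
          have := image_closure_subset_closure_image (s := c.π.app i '' S) (hFm a).continuous
          refine this.trans (closure_mono ?_)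
          rintro _ ⟨_, ⟨x, hx, rfl⟩, rfl⟩
          refine ⟨x, hx, ?_⟩
          rw [← c.w a]; rfl
        · apply closure_mono
          rintro _ ⟨x, hx, rfl⟩
          refine ⟨c.π.app i x, subset_closure ⟨x, hx, rfl⟩, ?_⟩
          rw [← c.w a]; rfl
      rw [h2] at h1
      exact h1.eq (hξ j)
    obtain ⟨x, hx⟩ := H4_lim_exists F c hc ξ hcompat
    refine ⟨x, ?_⟩
    rw [isGenericPoint_def]
    have hxS : x ∈ S := by
      rw [← hScl.closure_eq, hbasis.mem_closure_iff]
      rintro U ⟨j, V, ⟨hVo, hVc⟩, rfl⟩ hxU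
      have hξV : ξ j ∈ V := by rw [← hx j]; exact hxU
      obtain ⟨_, hzV, ⟨z, hzS, rfl⟩⟩ := mem_closure_iff.1 (hξ j).mem V hVo hξV
      exact ⟨z, hzV, hzS⟩
    apply le_antisymm
    · exact closure_minimal (Set.singleton_subset_iff.2 hxS) hScl
    · intro z hz
      rw [hbasis.mem_closure_iff]
      rintro U ⟨j, V, ⟨hVo, hVc⟩, rfl⟩ hzU
      refine ⟨x, ?_, rfl⟩
      have hsp : ξ j ⤳ c.π.app j z := (hξ j).specializes (subset_closure ⟨z, hz, rfl⟩)
      have : ξ j ∈ V := hsp.mem_open hVo hzU
      change c.π.app j x ∈ V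
      rw [hx j]; exact this
  exact { }


/-- If two constructibly clopen sets have the same preimage in the limit, they have the same
preimage at some stage. -/
theorem H4_lim_preimage_eq [IsCofiltered J] (hc : IsLimit c)
    (hF : ∀ j, SpectralSpace (F.obj j))
    (hFm : ∀ {i j : J} (a : i ⟶ j), IsSpectralMap (F.map a : F.obj i → F.obj j))
    (i : J) (A B : Set (F.obj i))
    (hA : @IsClopen (F.obj i) (constructibleTopology (F.obj i)) A)
    (hB : @IsClopen (F.obj i) (constructibleTopology (F.obj i)) B)
    (h : c.π.app i ⁻¹' A = c.π.app i ⁻¹' B) :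
    ∃ (j : J) (a : j ⟶ i), F.map a ⁻¹' A = F.map a ⁻¹' B := by
  have hD : @IsClosed (F.obj i) (constructibleTopology (F.obj i)) ((A ∩ Bᶜ) ∪ (B ∩ Aᶜ)) :=
    @IsClosed.union _ _ _ (constructibleTopology (F.obj i))
      (@IsClosed.inter _ _ _ (constructibleTopology (F.obj i)) hA.1
        (@IsOpen.isClosed_compl _ (constructibleTopology (F.obj i)) _ hB.2))
      (@IsClosed.inter _ _ _ (constructibleTopology (F.obj i)) hB.1
        (@IsOpen.isClosed_compl _ (constructibleTopology (F.obj i)) _ hA.2))
  have hempty : c.π.app i ⁻¹' ((A ∩ Bᶜ) ∪ (B ∩ Aᶜ)) = ∅ := by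
    ext x
    have hx : x ∈ c.π.app i ⁻¹' A ↔ x ∈ c.π.app i ⁻¹' B := by rw [h]
    simp only [Set.mem_preimage] at hx
    simp only [Set.mem_preimage, Set.mem_union, Set.mem_inter_iff, Set.mem_compl_iff,
      Set.mem_empty_iff_false, iff_false]
    tauto
  obtain ⟨j, a, ha⟩ := H4_lim_preimage_empty F c hc hF hFm i _ hD hempty
  refine ⟨j, a, ?_⟩
  ext z
  have hz : z ∉ F.map a ⁻¹' ((A ∩ Bᶜ) ∪ (B ∩ Aᶜ)) := by rw [ha]; exact Set.notMem_empty z
  simp only [Set.mem_preimage, Set.mem_union, Set.mem_inter_iff, Set.mem_compl_iff] at hz ⊢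
  tauto

theorem H4_isClopen_constr_of_isCompact_isOpen {X : Type u} [TopologicalSpace X] {U : Set X}
    (ho : IsOpen U) (hc : IsCompact U) : @IsClopen X (constructibleTopology X) U :=
  ⟨H4_isClosed_constr_of_isCompact_isOpen hc ho, hc.isOpen_constructibleTopology_of_isOpen ho⟩

end H4
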