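import Mathlib
import Groth.Agent.Lib.helper4.Spectral

set_option autoImplicit false
universe u

namespace Groth.Agent.H4

open Set Topology TopologicalSpace

variable {X : Type u} [TopologicalSpace X]

/-- in a prespectral space, a compact set inside an open set is contained in a compact open
inside it. -/
theorem H4_exists_compact_open_between [PrespectralSpace X] {K O : Set X} (hK : IsCompact K)
    (hO : IsOpen O) (hKO : K ⊆ O) :
    ∃ U : Set X, IsCompact U ∧ IsOpen U ∧ K ⊆ U ∧ U ⊆ O := by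
  have h : ∀ x : X, x ∈ K → ∃ U : Set X, (IsOpen U ∧ IsCompact U) ∧ x ∈ U ∧ U ⊆ O := fun x hx =>
    PrespectralSpace.isTopologicalBasis.exists_subset_of_mem_open (hKO hx) hO
  choose! U hU using h
  obtain ⟨t, hcov⟩ := hK.elim_nhds_subcover' (fun x _ => U x)
    (fun x hx => (hU x hx).1.1.mem_nhds (hU x hx).2.1)
  refine ⟨⋃ x ∈ t, U x, t.isCompact_biUnion (fun x _ => (hU x x.2).1.2),
    isOpen_biUnion (fun x _ => (hU x x.2).1.1), hcov, iUnion₂_subset fun x _ => (hU x x.2).2.2⟩

/-- In a compact quasi-separated prespectral space, the connected component of a point is the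
intersection of its clopen neighbourhoods. -/
theorem H4_connectedComponent_eq_iInter_isClopen [CompactSpace X] [PrespectralSpace X]
    [QuasiSeparatedSpace X] (x : X) :
    connectedComponent x = ⋂ s : { s : Set X // IsClopen s ∧ x ∈ s }, (s : Set X) := by
  apply Subset.antisymm connectedComponent_subset_iInter_isClopen
  refine IsPreconnected.subset_connectedComponent ?_ (mem_iInter.2 fun s => s.2.2)
  have hs : IsClosed (⋂ s : { s : Set X // IsClopen s ∧ x ∈ s }, (s : Set X)) :=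
    isClosed_iInter fun s => s.2.1.1
  rw [isPreconnected_iff_subset_of_fully_disjoint_closed hs]
  intro a b ha hb hab ab_disj
  set S : Set X := ⋂ s : { s : Set X // IsClopen s ∧ x ∈ s }, (s : Set X) with hS
  have hxS : x ∈ S := mem_iInter.2 fun s => s.2.2
  obtain ⟨U, hUc, hUo, haU, hUb⟩ := H4_exists_compact_open_between ha.isCompact hb.isOpen_compl
    (fun y hy hyb => (Set.disjoint_left.1 ab_disj) hy hyb)
  obtain ⟨V, hVc, hVo, hbV, hVa⟩ := H4_exists_compact_open_between hb.isCompact ha.isOpen_compl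
    (fun y hy hya => (Set.disjoint_left.1 ab_disj) hya hy)
  have hUV : IsCompact (U ∩ V) := QuasiSeparatedSpace.inter_isCompact U V hUo hUc hVo hVc
  -- first clopen: disjoint from U ∩ V
  have h1 : (U ∩ V) ∩ ⋂ s : { s : Set X // IsClopen s ∧ x ∈ s }, (s : Set X) = ∅ := by
    rw [Set.eq_empty_iff_forall_notMem]
    rintro y ⟨⟨hyU, hyV⟩, hyS⟩
    rcases hab hyS with hya | hyb
    · exact hVa hyV hya
    · exact hUb hyU hyb
  obtain ⟨t1, ht1⟩ := hUV.elim_finite_subfamily_closed _
    (fun s : { s : Set X // IsClopen s ∧ x ∈ s } => s.2.1.1) h1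
  -- second clopen: inside U ∪ V
  have h2 : (U ∪ V)ᶜ ∩ ⋂ s : { s : Set X // IsClopen s ∧ x ∈ s }, (s : Set X) = ∅ := by
    rw [Set.eq_empty_iff_forall_notMem]
    rintro y ⟨hyUV, hyS⟩
    apply hyUV
    rcases hab hyS with hya | hyb
    · exact Or.inl (haU hya)
    · exact Or.inr (hbV hyb)
  obtain ⟨t2, ht2⟩ := (hUo.union hVo).isClosed_compl.isCompact.elim_finite_subfamily_closed _
    (fun s : { s : Set X // IsClopen s ∧ x ∈ s } => s.2.1.1) h2
  classical
  set Z : Set X := ⋂ i ∈ t1 ∪ t2, (i : Set X) with hZ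
  have hZclopen : IsClopen Z := isClopen_biInter_finset fun i _ => i.2.1
  have hxZ : x ∈ Z := mem_iInter₂.2 fun i _ => i.2.2
  have hZ1 : Z ⊆ ⋂ i ∈ t1, (i : Set X) := fun y hy =>
    mem_iInter₂.2 fun i hi => (mem_iInter₂.1 hy) i (Finset.mem_union_left _ hi)
  have hZ2 : Z ⊆ ⋂ i ∈ t2, (i : Set X) := fun y hy =>
    mem_iInter₂.2 fun i hi => (mem_iInter₂.1 hy) i (Finset.mem_union_right _ hi)
  have hZUV : ∀ y ∈ Z, ¬ (y ∈ U ∧ y ∈ V) := fun y hy h => by
    have : y ∈ (U ∩ V) ∩ ⋂ i ∈ t1, (i : Set X) := ⟨h, hZ1 hy⟩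
    rw [ht1] at this; exact this
  have hZsub : ∀ y ∈ Z, y ∈ U ∨ y ∈ V := fun y hy => by
    by_contra h
    have : y ∈ (U ∪ V)ᶜ ∩ ⋂ i ∈ t2, (i : Set X) := ⟨h, hZ2 hy⟩
    rw [ht2] at this; exact this
  have hZU : IsClopen (Z ∩ U) := by
    refine ⟨?_, hZclopen.2.inter hUo⟩
    have : Z ∩ U = Z ∩ Vᶜ := by
      ext y; constructor
      · rintro ⟨hyZ, hyU⟩; exact ⟨hyZ, fun hyV => hZUV y hyZ ⟨hyU, hyV⟩⟩
      · rintro ⟨hyZ, hyV⟩; exact ⟨hyZ, (hZsub y hyZ).resolve_right hyV⟩
    rw [this]; exact hZclopen.1.inter hVo.isClosed_compl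
  have hZV : IsClopen (Z ∩ V) := by
    refine ⟨?_, hZclopen.2.inter hVo⟩
    have : Z ∩ V = Z ∩ Uᶜ := by
      ext y; constructor
      · rintro ⟨hyZ, hyV⟩; exact ⟨hyZ, fun hyU => hZUV y hyZ ⟨hyU, hyV⟩⟩
      · rintro ⟨hyZ, hyU⟩; exact ⟨hyZ, (hZsub y hyZ).resolve_left hyU⟩
    rw [this]; exact hZclopen.1.inter hUo.isClosed_compl
  rcases hab hxS with hxa | hxb
  · left
    have hSU : S ⊆ Z ∩ U := iInter_subset (fun s : { s : Set X // IsClopen s ∧ x ∈ s } => s.1)
      ⟨Z ∩ U, hZU, hxZ, haU hxa⟩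
    intro y hy
    rcases hab hy with h | h
    · exact h
    · exact absurd h (hUb (hSU hy).2)
  · right
    have hSV : S ⊆ Z ∩ V := iInter_subset (fun s : { s : Set X // IsClopen s ∧ x ∈ s } => s.1)
      ⟨Z ∩ V, hZV, hxZ, hbV hxb⟩
    intro y hy
    rcases hab hy with h | h
    · exact absurd h (hVa (hSV hy).2)
    · exact h

/-- the space of connected components of a spectral space is Hausdorff -/
theorem H4_t2Space_connectedComponents [CompactSpace X] [PrespectralSpace X]
    [QuasiSeparatedSpace X] : T2Space (ConnectedComponents X) := by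
  refine ⟨ConnectedComponents.surjective_coe.forall₂.2 fun a b ne => ?_⟩
  rw [ConnectedComponents.coe_ne_coe] at ne
  have h := connectedComponent_disjoint ne
  rw [H4_connectedComponent_eq_iInter_isClopen b, disjoint_iff_inter_eq_empty] at h
  obtain ⟨U, V, hU, ha, hb, rfl⟩ : ∃ (U : Set X) (V : Set (ConnectedComponents X)),
      IsClopen U ∧ connectedComponent a ∩ U = ∅ ∧ connectedComponent b ⊆ U ∧ (↑) ⁻¹' V = U := by
    have h :=
      (isClosed_connectedComponent (α := X)).isCompact.elim_finite_subfamily_closed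
        _ (fun s : { s : Set X // IsClopen s ∧ b ∈ s } => s.2.1.1) h
    obtain ⟨fin_a, ha⟩ := h
    set U : Set X := ⋂ (i : { s // IsClopen s ∧ b ∈ s }) (_ : i ∈ fin_a), i
    have hU : IsClopen U := isClopen_biInter_finset fun i _ => i.2.1
    exact ⟨U, (↑) '' U, hU, ha, subset_iInter₂ fun s _ => s.2.1.connectedComponent_subset s.2.2,
      (connectedComponents_preimage_image U).symm ▸ hU.biUnion_connectedComponent_eq⟩
  rw [ConnectedComponents.isQuotientMap_coe.isClopen_preimage] at hU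
  refine ⟨Vᶜ, V, hU.compl.isOpen, hU.isOpen, ?_, hb mem_connectedComponent, disjoint_compl_left⟩
  exact fun h => flip Set.Nonempty.ne_empty ha ⟨a, mem_connectedComponent, h⟩

section Prod

variable {Y : Type u} [TopologicalSpace Y]

theorem H4_quasiSober_prod [QuasiSober X] [QuasiSober Y] : QuasiSober (X × Y) := by
  constructor
  intro Z hZirr hZcl
  have h1 : IsIrreducible (closure (Prod.fst '' Z)) :=
    (hZirr.image Prod.fst continuous_fst.continuousOn).closure
  have h2 : IsIrreducible (closure (Prod.snd '' Z)) :=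
    (hZirr.image Prod.snd continuous_snd.continuousOn).closure
  obtain ⟨x, hx⟩ := QuasiSober.sober h1 isClosed_closure
  obtain ⟨y, hy⟩ := QuasiSober.sober h2 isClosed_closure
  refine ⟨(x, y), ?_⟩
  have hcl : closure ({(x, y)} : Set (X × Y)) = closure {x} ×ˢ closure {y} := by
    rw [← closure_prod_eq, Set.singleton_prod_singleton]
  have hxy : (x, y) ∈ Z := by
    rw [← hZcl.closure_eq, mem_closure_iff_nhds]
    intro N hN
    obtain ⟨U, V, hU, hV, hxU, hyV, hUV⟩ := isOpen_prod_iff.1 isOpen_interior x y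
      (mem_interior_iff_mem_nhds.2 hN)
    have hxc : x ∈ closure (Prod.fst '' Z) := by rw [← hx.def]; exact subset_closure rfl
    have hyc : y ∈ closure (Prod.snd '' Z) := by rw [← hy.def]; exact subset_closure rfl
    obtain ⟨_, hpU, ⟨p, hpZ, rfl⟩⟩ := mem_closure_iff.1 hxc U hU hxU
    obtain ⟨_, hqV, ⟨q, hqZ, rfl⟩⟩ := mem_closure_iff.1 hyc V hV hyV
    have hne := hZirr.2 (U ×ˢ univ) (univ ×ˢ V) (hU.prod isOpen_univ) (isOpen_univ.prod hV)
      ⟨p, hpZ, hpU, trivial⟩ ⟨q, hqZ, trivial, hqV⟩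
    obtain ⟨r, hrZ, ⟨hr1, _⟩, ⟨_, hr2⟩⟩ := hne
    exact ⟨r, interior_subset (hUV ⟨hr1, hr2⟩), hrZ⟩
  show closure {(x, y)} = Z
  apply Subset.antisymm
  · exact hZcl.closure_subset_iff.2 (singleton_subset_iff.2 hxy)
  · rw [hcl]
    rintro ⟨a, b⟩ hab
    refine ⟨?_, ?_⟩
    · rw [hx.def]; exact subset_closure ⟨(a, b), hab, rfl⟩
    · rw [hy.def]; exact subset_closure ⟨(a, b), hab, rfl⟩

theorem H4_spectralSpace_prod [SpectralSpace X] [SpectralSpace Y] : SpectralSpace (X × Y) := by
  have hbasis := (PrespectralSpace.isTopologicalBasis (X := X)).prod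
    (PrespectralSpace.isTopologicalBasis (X := Y))
  haveI : QuasiSober (X × Y) := H4_quasiSober_prod
  haveI : PrespectralSpace (X × Y) := by
    refine PrespectralSpace.of_isTopologicalBasis hbasis ?_
    rintro _ ⟨U, hU, V, hV, rfl⟩
    exact hU.2.prod hV.2
  haveI : QuasiSeparatedSpace (X × Y) := by
    let b : {U : Set X // IsOpen U ∧ IsCompact U} × {V : Set Y // IsOpen V ∧ IsCompact V} →
      Set (X × Y) := fun p => p.1.1 ×ˢ p.2.1
    have hb : Set.range b = Set.image2 (· ×ˢ ·) { U : Set X | IsOpen U ∧ IsCompact U }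
        { V : Set Y | IsOpen V ∧ IsCompact V } := by
      ext W; constructor
      · rintro ⟨⟨U, V⟩, rfl⟩; exact ⟨U.1, U.2, V.1, V.2, rfl⟩
      · rintro ⟨U, hU, V, hV, rfl⟩; exact ⟨(⟨U, hU⟩, ⟨V, hV⟩), rfl⟩
    refine QuasiSeparatedSpace.of_isTopologicalBasis (b := b) (hb ▸ hbasis) ?_
    rintro ⟨U, V⟩ ⟨U', V'⟩
    show IsCompact ((U.1 ×ˢ V.1) ∩ (U'.1 ×ˢ V'.1))
    rw [Set.prod_inter_prod]
    exact (QuasiSeparatedSpace.inter_isCompact _ _ U.2.1 U.2.2 U'.2.1 U'.2.2).prod
      (QuasiSeparatedSpace.inter_isCompact _ _ V.2.1 V.2.2 V'.2.1 V'.2.2)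
  exact { }

theorem H4_spectralSpace_of_profinite {T : Type u} [TopologicalSpace T] [CompactSpace T]
    [T2Space T] [TotallyDisconnectedSpace T] : SpectralSpace T := by
  haveI : PrespectralSpace T :=
    PrespectralSpace.of_isTopologicalBasis isTopologicalBasis_isClopen
      (fun U hU => hU.1.isCompact)
  exact { }


end Prod

/-- the set of generizations of a closed subset of a spectral space is pro-constructible -/
theorem H4_isClosed_constr_generizations [SpectralSpace X] {W : Set X} (hW : IsClosed W) :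
    @IsClosed X (constructibleTopology X) {x | (W ∩ closure {x}).Nonempty} := by
  have key : {x | (W ∩ closure {x}).Nonempty} =
      ⋂ U ∈ {U : Set X | IsOpen U ∧ IsCompact U ∧ W ⊆ U}, U := by
    ext x
    simp only [mem_ofPred_eq, mem_iInter]
    constructor
    · rintro ⟨w, hwW, hwx⟩ U ⟨hUo, _, hWU⟩
      exact (specializes_iff_mem_closure.2 hwx).mem_open hUo (hWU hwW)
    · intro h
      by_contra hne
      rw [Set.not_nonempty_iff_eq_empty] at hne
      have hsub : W ⊆ (closure ({x} : Set X))ᶜ := fun w hw hwx => by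
        have : w ∈ W ∩ closure {x} := ⟨hw, hwx⟩
        rw [hne] at this; exact this
      obtain ⟨U, hUc, hUo, hWU, hUx⟩ :=
        H4_exists_compact_open_between hW.isCompact isClosed_closure.isOpen_compl hsub
      exact hUx (h U ⟨hUo, hUc, hWU⟩) (subset_closure rfl)
  rw [key]
  refine @isClosed_biInter X _ (constructibleTopology X) _ _ ?_
  rintro U ⟨hUo, hUc, _⟩
  exact _root_.H4.H4_isClosed_constr_of_isCompact_isOpen hUc hUo


end Groth.Agent.H4
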