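import Mathlib

set_option autoImplicit false
universe u

open Topology

namespace H4

variable {X : Type u} [TopologicalSpace X]

/-- The stratum of a finite family of sets cut out by the membership pattern `A`. -/
def H4_stratum {ι : Type} (O : ι → Set X) (A : Finset ι) : Set X := {x | ∀ l, x ∈ O l ↔ l ∈ A}

theorem H4_stratum_eq {ι : Type} [Fintype ι] [DecidableEq ι] (O : ι → Set X) (A : Finset ι) :
    H4_stratum O A = (⋂ l ∈ A, O l) ∩ (⋂ l ∈ Aᶜ, (O l)ᶜ) := by
  ext x
  simp only [H4_stratum, Set.mem_ofPred_eq, Set.mem_inter_iff, Set.mem_iInter, Finset.mem_compl,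
    Set.mem_compl_iff]
  constructor
  · intro h
    exact ⟨fun l hl => (h l).2 hl, fun l hl hx => hl ((h l).1 hx)⟩
  · rintro ⟨h1, h2⟩ l
    exact ⟨fun hx => by_contra fun hl => h2 l hl hx, h1 l⟩

theorem H4_strat {ι : Type} [Fintype ι] [DecidableEq ι] (O : ι → Set X) (hO : ∀ l, IsOpen (O l)) :
    (∀ A, IsLocallyClosed (H4_stratum O A)) ∧ (⋃ A, H4_stratum O A = Set.univ) ∧
    (∀ A B, A ≠ B → Disjoint (H4_stratum O A) (H4_stratum O B)) ∧
    (∀ B, closure (H4_stratum O B) ⊆ ⋃ A ∈ Set.Iic B, H4_stratum O A) ∧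
    (∀ T : Set X, (∀ x y, (∀ l, x ∈ O l ↔ y ∈ O l) → x ∈ T → y ∈ T) →
      ∀ A, (H4_stratum O A ∩ T).Nonempty → H4_stratum O A ⊆ T) ∧
    ((∀ l, IsRetrocompact (O l)) → ∀ A, IsConstructible (H4_stratum O A)) := by
  classical
  refine ⟨?_, ?_, ?_, ?_, ?_, ?_⟩
  · intro A
    rw [H4_stratum_eq]
    refine IsLocallyClosed.inter (IsOpen.isLocallyClosed ?_) (IsClosed.isLocallyClosed ?_)
    · exact isOpen_biInter_finset (fun l _ => hO l)
    · exact isClosed_biInter (fun l _ => (hO l).isClosed_compl)
  · rw [Set.eq_univ_iff_forall]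
    intro x
    rw [Set.mem_iUnion]
    refine ⟨Finset.univ.filter (fun l => x ∈ O l), ?_⟩
    intro l
    simp
  · intro A B hAB
    rw [Set.disjoint_left]
    intro x hxA hxB
    apply hAB
    ext l
    rw [← hxA l, ← hxB l]
  · intro B
    have hcl : IsClosed (⋂ l ∈ Bᶜ, (O l)ᶜ) := isClosed_biInter (fun l _ => (hO l).isClosed_compl)
    have hsub : H4_stratum O B ⊆ ⋂ l ∈ Bᶜ, (O l)ᶜ := by
      rw [H4_stratum_eq]; exact Set.inter_subset_right
    intro x hx
    have hx' := (hcl.closure_subset_iff.2 hsub) hx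
    simp only [Set.mem_iInter, Finset.mem_compl, Set.mem_compl_iff] at hx'
    simp only [Set.mem_iUnion, Set.mem_Iic]
    refine ⟨Finset.univ.filter (fun l => x ∈ O l), ?_, ?_⟩
    · intro l hl
      simp only [Finset.mem_filter, Finset.mem_univ, true_and] at hl
      by_contra hlB
      exact hx' l hlB hl
    · intro l
      simp
  · intro T hT A ⟨x, hxA, hxT⟩ y hyA
    refine hT x y (fun l => ?_) hxT
    rw [hxA l, hyA l]
  · intro hr A
    rw [H4_stratum_eq]
    refine IsConstructible.inter ?_ ?_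
    · exact IsConstructible.biInter A.finite_toSet
        (fun l _ => (hr l).isConstructible (hO l))
    · exact IsConstructible.biInter (Aᶜ : Finset ι).finite_toSet
        (fun l _ => ((hr l).isConstructible (hO l)).compl)

/-- A constructible set is determined by membership in finitely many retrocompact opens. -/
theorem H4_constr_determined {T : Set X} (hT : IsConstructible T) :
    ∃ F : Finset (Set X), (∀ O ∈ F, IsOpen O ∧ IsRetrocompact O) ∧
      ∀ x y, (∀ O ∈ F, x ∈ O ↔ y ∈ O) → (x ∈ T ↔ y ∈ T) := by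
  classical
  induction hT using IsConstructible.empty_union_induction with
  | open_retrocompact U hUo hUr =>
    refine ⟨{U}, ?_, ?_⟩
    · intro O hO
      rw [Finset.mem_singleton] at hO
      subst hO
      exact ⟨hUo, hUr⟩
    · intro x y h
      exact h U (Finset.mem_singleton_self U)
  | union s hs t ht hs' ht' =>
    obtain ⟨F₁, h1, h1'⟩ := hs'
    obtain ⟨F₂, h2, h2'⟩ := ht'
    refine ⟨F₁ ∪ F₂, ?_, ?_⟩
    · intro O hO
      rcases Finset.mem_union.1 hO with h | h
      · exact h1 O h
      · exact h2 O h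
    · intro x y h
      have e1 := h1' x y (fun O hO => h O (Finset.mem_union_left _ hO))
      have e2 := h2' x y (fun O hO => h O (Finset.mem_union_right _ hO))
      simp only [Set.mem_union, e1, e2]
  | compl s hs hs' =>
    obtain ⟨F₁, h1, h1'⟩ := hs'
    refine ⟨F₁, h1, ?_⟩
    intro x y h
    simp only [Set.mem_compl_iff, h1' x y h]

/-- Shrinking lemma: a nonempty set has a nonempty relatively open subset which is contained in or
disjoint from each member of a finite family of locally closed sets. -/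
theorem H4_exists_open_shrink (Z : Set X) (F : Finset (Set X)) (hF : ∀ P ∈ F, IsLocallyClosed P)
    (hZ : Z.Nonempty) :
    ∃ W, IsOpen W ∧ (Z ∩ W).Nonempty ∧ ∀ P ∈ F, (Z ∩ W ⊆ P ∨ Disjoint (Z ∩ W) P) := by
  classical
  induction F using Finset.induction_on with
  | empty => exact ⟨Set.univ, isOpen_univ, by simpa using hZ, by simp⟩
  | insert P F hPF ih =>
    obtain ⟨W, hW, hne, hWF⟩ := ih (fun P' hP' => hF P' (Finset.mem_insert_of_mem hP'))
    obtain ⟨O, C, hO, hC, rfl⟩ := hF P (Finset.mem_insert_self _ _)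
    have inherit : ∀ W' : Set X, W' ⊆ W → ∀ P' ∈ F, (Z ∩ W' ⊆ P' ∨ Disjoint (Z ∩ W') P') := by
      intro W' hW' P' hP'
      rcases hWF P' hP' with h | h
      · exact Or.inl (fun x hx => h (show x ∈ Z ∩ W from ⟨hx.1, hW' hx.2⟩))
      · exact Or.inr (h.mono_left (fun x hx => (show x ∈ Z ∩ W from ⟨hx.1, hW' hx.2⟩)))
    by_cases hA : (Z ∩ (W ∩ O ∩ Cᶜ)).Nonempty
    · refine ⟨W ∩ O ∩ Cᶜ, (hW.inter hO).inter hC.isOpen_compl, hA, ?_⟩
      intro P' hP'
      rcases Finset.mem_insert.1 hP' with rfl | hP'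
      · right
        rw [Set.disjoint_left]
        rintro x ⟨_, _, hxC⟩ ⟨_, hxC'⟩
        exact hxC hxC'
      · exact inherit _ (fun x hx => hx.1.1) P' hP'
    · by_cases hB : (Z ∩ (W ∩ O)).Nonempty
      · refine ⟨W ∩ O, hW.inter hO, hB, ?_⟩
        intro P' hP'
        rcases Finset.mem_insert.1 hP' with rfl | hP'
        · left
          rintro x ⟨hxZ, hxW, hxO⟩
          refine ⟨hxO, ?_⟩
          by_contra hxC
          exact hA ⟨x, hxZ, ⟨hxW, hxO⟩, hxC⟩
        · exact inherit _ (fun x hx => hx.1) P' hP'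
      · refine ⟨W, hW, hne, ?_⟩
        intro P' hP'
        rcases Finset.mem_insert.1 hP' with rfl | hP'
        · right
          rw [Set.disjoint_left]
          rintro x ⟨hxZ, hxW⟩ ⟨hxO, _⟩
          exact hB ⟨x, hxZ, hxW, hxO⟩
        · exact inherit _ subset_rfl P' hP'

/-- Good stratifications of closed subsets of a Noetherian space, adapted to a finite family of
locally closed subsets. -/
theorem H4_good_strat [TopologicalSpace.NoetherianSpace X] (Z : TopologicalSpace.Closeds X) :
    ∀ F : Finset (Set X), (∀ P ∈ F, IsLocallyClosed P) →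
    ∃ (m : ℕ) (S : Fin m → Set X), (∀ i, IsLocallyClosed (S i)) ∧ (⋃ i, S i = (Z : Set X)) ∧
      (∀ i j, i ≠ j → Disjoint (S i) (S j)) ∧
      (∀ i j, (S i ∩ closure (S j)).Nonempty → S i ⊆ closure (S j)) ∧
      (∀ i, ∀ P ∈ F, (S i ∩ P).Nonempty → S i ⊆ P) := by
  classical
  induction Z using WellFoundedLT.induction with
  | ind Z ih =>
  intro F hF
  by_cases hZ : (Z : Set X) = ∅
  · refine ⟨0, Fin.elim0, fun i => i.elim0, ?_, fun i => i.elim0, fun i => i.elim0,
      fun i => i.elim0⟩
    rw [hZ]; simp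
  · obtain ⟨W, hW, hne, hWF⟩ :=
      H4_exists_open_shrink (Z : Set X) F hF (Set.nonempty_iff_ne_empty.2 hZ)
    set U : Set X := (Z : Set X) ∩ W with hU
    let Z' : TopologicalSpace.Closeds X :=
      ⟨(Z : Set X) ∩ Wᶜ, Z.isClosed.inter hW.isClosed_compl⟩
    have hlt : Z' < Z := by
      refine lt_of_le_of_ne ?_ ?_
      · intro x hx; exact hx.1
      · intro h
        obtain ⟨x, hxZ, hxW⟩ := hne
        have : x ∈ (Z' : Set X) := by rw [h]; exact hxZ
        exact this.2 hxW
    obtain ⟨m, T, hT1, hT2, hT3, hT4, hT5⟩ := ih Z' hlt (insert (closure U) F) (by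
      intro P hP
      rcases Finset.mem_insert.1 hP with rfl | hP
      · exact isClosed_closure.isLocallyClosed
      · exact hF P hP)
    have hT2' : (⋃ i, T i) = (Z : Set X) ∩ Wᶜ := hT2
    have hTsub : ∀ a, T a ⊆ (Z : Set X) ∩ Wᶜ := by
      intro a; rw [← hT2']; exact Set.subset_iUnion T a
    have hclT : ∀ a, closure (T a) ⊆ (Z : Set X) ∩ Wᶜ :=
      fun a => (Z'.isClosed.closure_subset_iff).2 (hTsub a)
    refine ⟨m + 1, Fin.cons U T, ?_, ?_, ?_, ?_, ?_⟩
    · intro i
      refine Fin.cases ?_ (fun a => ?_) i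
      · simp only [Fin.cons_zero]; exact Z.isClosed.isLocallyClosed.inter hW.isLocallyClosed
      · simp only [Fin.cons_succ]; exact hT1 a
    · ext x
      simp only [Set.mem_iUnion, Fin.exists_fin_succ, Fin.cons_zero, Fin.cons_succ]
      constructor
      · rintro (hx | ⟨a, hx⟩)
        · exact hx.1
        · exact (hTsub a hx).1
      · intro hx
        by_cases hxW : x ∈ W
        · exact Or.inl ⟨hx, hxW⟩
        · right
          have : x ∈ ⋃ i, T i := by rw [hT2']; exact ⟨hx, hxW⟩
          exact Set.mem_iUnion.1 this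
    · intro i j
      refine Fin.cases ?_ (fun a => ?_) i <;> refine Fin.cases ?_ (fun b => ?_) j
      · intro h; exact absurd rfl h
      · intro _; simp only [Fin.cons_zero, Fin.cons_succ]
        rw [Set.disjoint_left]; intro x hx hx'; exact (hTsub b hx').2 hx.2
      · intro _; simp only [Fin.cons_zero, Fin.cons_succ]
        rw [Set.disjoint_left]; intro x hx hx'; exact (hTsub a hx).2 hx'.2
      · intro h; simp only [Fin.cons_succ]
        exact hT3 a b (fun hab => h (by rw [hab]))
    · intro i j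
      refine Fin.cases ?_ (fun a => ?_) i <;> refine Fin.cases ?_ (fun b => ?_) j
      · intro _; simp only [Fin.cons_zero]; exact subset_closure
      · simp only [Fin.cons_zero, Fin.cons_succ]
        rintro ⟨x, hx, hx'⟩
        exact absurd hx.2 (hclT b hx').2
      · simp only [Fin.cons_zero, Fin.cons_succ]
        intro h
        exact hT5 a (closure U) (Finset.mem_insert_self _ _) h
      · simp only [Fin.cons_succ]
        exact hT4 a b
    · intro i P hP
      refine Fin.cases ?_ (fun a => ?_) i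
      · simp only [Fin.cons_zero]
        intro hne'
        rcases hWF P hP with h | h
        · exact h
        · exact absurd hne' (by rw [Set.not_nonempty_iff_eq_empty]; exact h.inter_eq)
      · simp only [Fin.cons_succ]
        exact hT5 a P (Finset.mem_insert_of_mem hP)

end H4
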