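import Mathlib

/-! Two-sided ideals of `A ⊗ K` for a central skew field `K` are generated by their
intersection with `A ⊗ 1`. -/

set_option autoImplicit false
set_option linter.style.haveILetI false
universe u v w

open scoped TensorProduct

namespace Groth.Agent.H4

section

variable (k : Type u) [Field k] (A : Type v) [Ring A] [Algebra k A]
  (K : Type w) [DivisionRing K] [Algebra k K]
  (I : TwoSidedIdeal (A ⊗[k] K))

/-- The `k`-subspace of those `a` with `a ⊗ 1 ∈ I`. -/
def H4J : Submodule k A where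
  carrier := {a | a ⊗ₜ[k] (1 : K) ∈ I}
  add_mem' := fun {a b} ha hb => by
    change (a + b) ⊗ₜ[k] (1 : K) ∈ I
    rw [TensorProduct.add_tmul]; exact I.add_mem ha hb
  zero_mem' := by
    change (0 : A) ⊗ₜ[k] (1 : K) ∈ I
    rw [TensorProduct.zero_tmul]; exact I.zero_mem
  smul_mem' := fun c a ha => by
    change (c • a) ⊗ₜ[k] (1 : K) ∈ I
    have : (c • a) ⊗ₜ[k] (1 : K) = (algebraMap k A c ⊗ₜ[k] (1 : K)) * (a ⊗ₜ[k] (1 : K)) := by
      rw [Algebra.TensorProduct.tmul_mul_tmul, one_mul, Algebra.smul_def]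
    rw [this]; exact I.mul_mem_left _ _ ha

theorem H4J_mem (a : A) : a ∈ H4J k A K I ↔ a ⊗ₜ[k] (1 : K) ∈ I := Iff.rfl

/-- `π ⊗ id : A ⊗ K → (A/J) ⊗ K`. -/
noncomputable def H4P : A ⊗[k] K →ₗ[k] (A ⧸ H4J k A K I) ⊗[k] K :=
  LinearMap.rTensor K (H4J k A K I).mkQ

theorem H4P_tmul (a : A) (c : K) :
    H4P k A K I (a ⊗ₜ[k] c) = (H4J k A K I).mkQ a ⊗ₜ[k] c := rfl

/-- Elements in the kernel of `π ⊗ id` lie in the span. -/
theorem H4_ker_le_span (x : A ⊗[k] K) (hx : H4P k A K I x = 0) :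
    x ∈ TwoSidedIdeal.span ((fun a : A => a ⊗ₜ[k] (1 : K)) '' {a : A | a ⊗ₜ[k] (1 : K) ∈ I}) := by
  have hker : x ∈ LinearMap.ker (LinearMap.rTensor K (H4J k A K I).mkQ) := hx
  rw [rTensor_mkQ] at hker
  obtain ⟨y, rfl⟩ := hker
  clear hx
  induction y using TensorProduct.induction_on with
  | zero => rw [map_zero]; exact TwoSidedIdeal.zero_mem _
  | tmul j c =>
    rw [LinearMap.rTensor_tmul, Submodule.subtype_apply]
    have : (j : A) ⊗ₜ[k] c = ((j : A) ⊗ₜ[k] (1 : K)) * ((1 : A) ⊗ₜ[k] c) := by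
      rw [Algebra.TensorProduct.tmul_mul_tmul, mul_one, one_mul]
    rw [this]
    apply TwoSidedIdeal.mul_mem_right
    apply TwoSidedIdeal.subset_span
    exact ⟨j, j.2, rfl⟩
  | add y z hy hz => rw [map_add]; exact TwoSidedIdeal.add_mem _ hy hz

theorem H4_ker_le (x : A ⊗[k] K) (hx : H4P k A K I x = 0) : x ∈ I := by
  have h := H4_ker_le_span k A K I x hx
  have hle : TwoSidedIdeal.span ((fun a : A => a ⊗ₜ[k] (1 : K)) '' {a : A | a ⊗ₜ[k] (1 : K) ∈ I})
      ≤ I := by
    rw [TwoSidedIdeal.span_le]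
    rintro _ ⟨a, ha, rfl⟩
    exact ha
  exact hle h

open Classical in
/-- Coefficients (in `K`) of the image in `(A/J) ⊗ K` along a basis of `A/J`. -/
noncomputable def H4γ (x : A ⊗[k] K) :
    Module.Basis.ofVectorSpaceIndex k (A ⧸ H4J k A K I) →₀ K :=
  TensorProduct.equivFinsuppOfBasisLeft (Module.Basis.ofVectorSpace k (A ⧸ H4J k A K I))
    (H4P k A K I x)

theorem H4γ_eq_zero_iff (x : A ⊗[k] K) : H4γ k A K I x = 0 ↔ H4P k A K I x = 0 := by
  unfold H4γ
  rw [LinearEquiv.map_eq_zero_iff]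

theorem H4γ_add (x y : A ⊗[k] K) : H4γ k A K I (x + y) = H4γ k A K I x + H4γ k A K I y := by
  unfold H4γ
  rw [map_add, map_add]

theorem H4γ_sub (x y : A ⊗[k] K) : H4γ k A K I (x - y) = H4γ k A K I x - H4γ k A K I y := by
  unfold H4γ
  rw [map_sub, map_sub]

open Classical in
theorem H4γ_tmul (a : A) (c : K) (i) :
    H4γ k A K I (a ⊗ₜ[k] c) i =
      (Module.Basis.ofVectorSpace k (A ⧸ H4J k A K I)).repr ((H4J k A K I).mkQ a) i • c := by
  unfold H4γ
  rw [H4P_tmul, TensorProduct.equivFinsuppOfBasisLeft_apply_tmul_apply]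

theorem H4γ_mul_left (d : K) (x : A ⊗[k] K) (i) :
    H4γ k A K I (((1 : A) ⊗ₜ[k] d) * x) i = d * H4γ k A K I x i := by
  induction x using TensorProduct.induction_on with
  | zero => simp [H4γ]
  | tmul a c =>
    rw [Algebra.TensorProduct.tmul_mul_tmul, one_mul, H4γ_tmul, H4γ_tmul, mul_smul_comm]
  | add x y hx hy =>
    rw [mul_add, H4γ_add, H4γ_add, Finsupp.add_apply, Finsupp.add_apply, hx, hy, mul_add]

theorem H4γ_mul_right (d : K) (x : A ⊗[k] K) (i) :
    H4γ k A K I (x * ((1 : A) ⊗ₜ[k] d)) i = H4γ k A K I x i * d := by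
  induction x using TensorProduct.induction_on with
  | zero => simp [H4γ]
  | tmul a c =>
    rw [Algebra.TensorProduct.tmul_mul_tmul, mul_one, H4γ_tmul, H4γ_tmul, smul_mul_assoc]
  | add x y hx hy =>
    rw [add_mul, H4γ_add, H4γ_add, Finsupp.add_apply, Finsupp.add_apply, hx, hy, add_mul]

theorem H4_P_eq_zero [Algebra.IsCentral k K] :
    ∀ (n : ℕ) (x : A ⊗[k] K), x ∈ I → (H4γ k A K I x).support.card = n → H4P k A K I x = 0 := by
  classical
  intro n
  induction n using Nat.strong_induction_on with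
  | _ n ih =>
  intro x hxI hcard
  by_contra hne
  have hγne : H4γ k A K I x ≠ 0 := fun h => hne ((H4γ_eq_zero_iff k A K I x).1 h)
  obtain ⟨i0, hi0⟩ := Finsupp.support_nonempty_iff.2 hγne
  have hu : H4γ k A K I x i0 ≠ 0 := Finsupp.mem_support_iff.1 hi0
  set u := H4γ k A K I x i0 with hudef
  obtain ⟨x', hx'def⟩ : ∃ x', x' = x * ((1 : A) ⊗ₜ[k] u⁻¹) := ⟨_, rfl⟩
  have hx'I : x' ∈ I := by rw [hx'def]; exact I.mul_mem_right _ _ hxI
  have hγx' : ∀ i, H4γ k A K I x' i = H4γ k A K I x i * u⁻¹ := fun i => by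
    rw [hx'def]; exact H4γ_mul_right k A K I u⁻¹ x i
  have hsupp : (H4γ k A K I x').support = (H4γ k A K I x).support := by
    ext i
    rw [Finsupp.mem_support_iff, Finsupp.mem_support_iff, hγx']
    constructor
    · intro h h0
      exact h (by rw [h0, zero_mul])
    · intro h h0
      rcases mul_eq_zero.1 h0 with h1 | h1
      · exact h h1
      · exact inv_ne_zero hu h1
  have hone : H4γ k A K I x' i0 = 1 := by
    rw [hγx', ← hudef, mul_inv_cancel₀ hu]
  -- all coefficients of x' are central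
  have hcentral : ∀ (d : K) i, d * H4γ k A K I x' i = H4γ k A K I x' i * d := by
    intro d i
    obtain ⟨z, hz⟩ : ∃ z, z = ((1 : A) ⊗ₜ[k] d) * x' - x' * ((1 : A) ⊗ₜ[k] d) := ⟨_, rfl⟩
    have hzI : z ∈ I := by
      rw [hz]; exact I.sub_mem (I.mul_mem_left _ _ hx'I) (I.mul_mem_right _ _ hx'I)
    have hγz : ∀ j, H4γ k A K I z j = d * H4γ k A K I x' j - H4γ k A K I x' j * d := by
      intro j
      rw [hz, H4γ_sub, Finsupp.sub_apply, H4γ_mul_left, H4γ_mul_right]
    have hzsupp : (H4γ k A K I z).support ⊆ (H4γ k A K I x).support.erase i0 := by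
      intro j hj
      rw [Finsupp.mem_support_iff, hγz] at hj
      rw [Finset.mem_erase]
      constructor
      · rintro rfl
        apply hj
        rw [hone, mul_one, one_mul, sub_self]
      · rw [← hsupp, Finsupp.mem_support_iff]
        intro h0
        apply hj
        rw [h0, mul_zero, zero_mul, sub_self]
    have hlt : (H4γ k A K I z).support.card < n := by
      calc (H4γ k A K I z).support.card ≤ ((H4γ k A K I x).support.erase i0).card :=
            Finset.card_le_card hzsupp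
        _ < (H4γ k A K I x).support.card := Finset.card_erase_lt_of_mem hi0
        _ = n := hcard
    have hPz := ih _ hlt z hzI rfl
    have hγz0 : H4γ k A K I z = 0 := (H4γ_eq_zero_iff k A K I z).2 hPz
    have := hγz i
    rw [hγz0, Finsupp.zero_apply] at this
    exact sub_eq_zero.1 this.symm
  -- so they come from `k`
  have hscalar : ∀ i, ∃ r : k, algebraMap k K r = H4γ k A K I x' i := by
    intro i
    have hmem : H4γ k A K I x' i ∈ Subalgebra.center k K := by
      rw [Subalgebra.mem_center_iff]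
      intro d
      exact hcentral d i
    have := Algebra.IsCentral.out (K := k) hmem
    rw [Algebra.mem_bot] at this
    exact this
  choose r hr using hscalar
  have hr0 : ∀ i, i ∉ (H4γ k A K I x').support → r i = 0 := by
    intro i hi
    rw [Finsupp.notMem_support_iff] at hi
    have := hr i
    rw [hi] at this
    exact (map_eq_zero_iff _ (FaithfulSMul.algebraMap_injective k K)).1 this
  let l : Module.Basis.ofVectorSpaceIndex k (A ⧸ H4J k A K I) →₀ k :=
    Finsupp.onFinset (H4γ k A K I x').support r (fun i hi => by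
      by_contra h
      exact hi (hr0 i h))
  let q : A ⧸ H4J k A K I := (Module.Basis.ofVectorSpace k (A ⧸ H4J k A K I)).repr.symm l
  obtain ⟨a, ha⟩ := (H4J k A K I).mkQ_surjective q
  have hγa : H4γ k A K I (a ⊗ₜ[k] (1 : K)) = H4γ k A K I x' := by
    ext i
    rw [H4γ_tmul, ha]
    simp only [q, LinearEquiv.apply_symm_apply, l, Finsupp.onFinset_apply]
    rw [← hr i, Algebra.algebraMap_eq_smul_one]
  have hdiff : H4P k A K I (x' - a ⊗ₜ[k] (1 : K)) = 0 := by
    rw [← H4γ_eq_zero_iff, H4γ_sub, hγa, sub_self]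
  have haI : a ⊗ₜ[k] (1 : K) ∈ I := by
    have h1 := H4_ker_le k A K I _ hdiff
    have := I.sub_mem hx'I h1
    rwa [sub_sub_cancel] at this
  have haJ : (H4J k A K I).mkQ a = 0 := by
    rw [Submodule.mkQ_apply, Submodule.Quotient.mk_eq_zero]
    exact haI
  have hzero : H4γ k A K I x' i0 = 0 := by
    rw [← hγa, H4γ_tmul, haJ, map_zero, Finsupp.zero_apply, zero_smul]
  rw [hone] at hzero
  exact one_ne_zero hzero

theorem H4_tensor_ideal_le_span [Algebra.IsCentral k K] (x : A ⊗[k] K) (hx : x ∈ I) :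
    x ∈ TwoSidedIdeal.span ((fun a : A => a ⊗ₜ[k] (1 : K)) '' {a : A | a ⊗ₜ[k] (1 : K) ∈ I}) :=
  H4_ker_le_span k A K I x (H4_P_eq_zero k A K I _ x hx rfl)

end

end Groth.Agent.H4
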