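import Mathlib
import Groth.Agent.Lib.helper4.CatScheme

set_option autoImplicit false
set_option linter.style.haveILetI false
universe u v

namespace Groth.Agent.H4

/-- an algebra essentially of finite type over a universally catenary ring is catenary -/
theorem H4_isCatenary_of_essFiniteType (R : Type u) [CommRing R]
    (hR : CAlg.IsUniversallyCatenary R) (B : Type u) [CommRing B] [Algebra R B]
    [Algebra.EssFiniteType R B] : CAlg.IsCatenary B :=
  H4_isCatenary_localization (Algebra.EssFiniteType.subalgebra R B)
    (Algebra.EssFiniteType.submonoid R B) B (hR.2 _ inferInstance)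

theorem H4_isNoetherianRing_of_essFiniteType (R : Type u) [CommRing R] [IsNoetherianRing R]
    (B : Type v) [CommRing B] [Algebra R B] [Algebra.EssFiniteType R B] : IsNoetherianRing B := by
  haveI : IsNoetherianRing (Algebra.EssFiniteType.subalgebra R B) :=
    Algebra.FiniteType.isNoetherianRing R _
  exact IsLocalization.isNoetherianRing (Algebra.EssFiniteType.submonoid R B) B inferInstance

/-- universally catenary passes to algebras essentially of finite type -/
theorem H4_univCat_of_essFiniteType (R : Type u) [CommRing R]
    (hR : CAlg.IsUniversallyCatenary R) (R' : Type u) [CommRing R'] [Algebra R R']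
    [Algebra.EssFiniteType R R'] : CAlg.IsUniversallyCatenary R' := by
  haveI := hR.1
  refine ⟨H4_isNoetherianRing_of_essFiniteType R R', ?_⟩
  intro B _ _ hB
  letI : Algebra R B := ((algebraMap R' B).comp (algebraMap R R')).toAlgebra
  haveI : IsScalarTower R R' B := IsScalarTower.of_algebraMap_eq' rfl
  haveI : Algebra.EssFiniteType R' B := inferInstance
  haveI : Algebra.EssFiniteType R B := Algebra.EssFiniteType.comp R R' B
  exact H4_isCatenary_of_essFiniteType R hR B

theorem H4_univCat_localization (R : Type u) [CommRing R] (M : Submonoid R) (R' : Type u)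
    [CommRing R'] [Algebra R R'] [IsLocalization M R'] (hR : CAlg.IsUniversallyCatenary R) :
    CAlg.IsUniversallyCatenary R' := by
  haveI : Algebra.EssFiniteType R R' := Algebra.EssFiniteType.of_isLocalization R' M
  exact H4_univCat_of_essFiniteType R hR R'

theorem H4_univCat_of_ringEquiv {R R' : Type u} [CommRing R] [CommRing R'] (e : R ≃+* R')
    (hR : CAlg.IsUniversallyCatenary R) : CAlg.IsUniversallyCatenary R' := by
  letI : Algebra R R' := e.toRingHom.toAlgebra
  haveI : Algebra.FiniteType R R' :=
    Algebra.FiniteType.of_surjective (Algebra.ofId R R') e.surjective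
  exact H4_univCat_of_essFiniteType R hR R'

/-- local-to-global for universally catenary -/
theorem H4_univCat_of_local (R : Type u) [CommRing R] [IsNoetherianRing R]
    (h : ∀ p : PrimeSpectrum R, ∃ q : PrimeSpectrum R, p ≤ q ∧
      CAlg.IsUniversallyCatenary (Localization.AtPrime q.asIdeal)) :
    CAlg.IsUniversallyCatenary R := by
  refine ⟨inferInstance, ?_⟩
  intro B _ _ hB
  apply H4_isCatenary_of_localization_atPrime
  intro P
  obtain ⟨q, hpq, hq⟩ := h (PrimeSpectrum.comap (algebraMap R B) P)
  have hle : q.asIdeal.primeCompl ≤ P.asIdeal.primeCompl.comap (algebraMap R B) := by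
    intro x hx hxP
    exact hx (hpq hxP)
  let φ : Localization.AtPrime q.asIdeal →+* Localization.AtPrime P.asIdeal :=
    IsLocalization.map (Localization.AtPrime P.asIdeal) (algebraMap R B) hle
  letI : Algebra (Localization.AtPrime q.asIdeal) (Localization.AtPrime P.asIdeal) := φ.toAlgebra
  haveI : IsScalarTower R (Localization.AtPrime q.asIdeal) (Localization.AtPrime P.asIdeal) := by
    apply IsScalarTower.of_algebraMap_eq'
    rw [IsScalarTower.algebraMap_eq R B (Localization.AtPrime P.asIdeal)]
    exact (IsLocalization.map_comp hle).symm
  haveI : Algebra.EssFiniteType B (Localization.AtPrime P.asIdeal) :=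
    Algebra.EssFiniteType.of_isLocalization _ P.asIdeal.primeCompl
  haveI : Algebra.EssFiniteType R (Localization.AtPrime P.asIdeal) :=
    Algebra.EssFiniteType.comp R B _
  haveI : Algebra.EssFiniteType (Localization.AtPrime q.asIdeal)
      (Localization.AtPrime P.asIdeal) := Algebra.EssFiniteType.of_comp R _ _
  exact H4_isCatenary_of_essFiniteType _ hq _

end Groth.Agent.H4
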