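import Mathlib
import Groth.Prelude.Def_EGA43

set_option autoImplicit false
universe u

namespace Groth.Agent.H4

open CategoryTheory CategoryTheory.Limits AlgebraicGeometry

theorem H4_isOpenAt_comp {α β γ : Type*} [TopologicalSpace α] [TopologicalSpace β]
    [TopologicalSpace γ] (f : α → β) (g : β → γ) (x : α) (hf : EGA43.IsOpenAt f x)
    (hg : EGA43.IsOpenAt g (f x)) : EGA43.IsOpenAt (g ∘ f) x := by
  intro U hU
  have := hg _ (hf U hU)
  rwa [← Set.image_comp] at this

theorem H4_isOpenAt_of_comp {α β γ : Type*} [TopologicalSpace α] [TopologicalSpace β]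
    [TopologicalSpace γ] (f : α → β) (hf : Continuous f) (g : β → γ) (x : α)
    (h : EGA43.IsOpenAt (g ∘ f) x) : EGA43.IsOpenAt g (f x) := by
  intro U hU
  have h1 : f ⁻¹' U ∈ nhds x := hf.continuousAt hU
  refine Filter.mem_of_superset (h _ h1) ?_
  rintro _ ⟨z, hz, rfl⟩
  exact ⟨f z, hz, rfl⟩

/-- flexible form of universal openness at a point: any pullback square may be used. -/
theorem H4_univOpenAt_isPullback {X Y : Scheme.{u}} {f : X ⟶ Y} {x : X}
    (h : EGA43.IsUnivOpenAt f x) {P Y' : Scheme.{u}} (p1 : P ⟶ X) (p2 : P ⟶ Y') (g : Y' ⟶ Y)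
    (hP : IsPullback p1 p2 f g) (z : P) (hz : p1.base z = x) : EGA43.IsOpenAt p2.base z := by
  let e : P ≅ pullback f g := hP.isoPullback
  have he1 : e.hom ≫ pullback.fst f g = p1 := hP.isoPullback_hom_fst
  have he2 : e.hom ≫ pullback.snd f g = p2 := hP.isoPullback_hom_snd
  have hfst : (pullback.fst f g).base (e.hom.base z) = x := by
    rw [← hz, ← he1]; rfl
  have h1 := h Y' g (e.hom.base z) hfst
  have hcomp : p2.base = (pullback.snd f g).base ∘ e.hom.base := by
    rw [← he2]; rfl
  rw [hcomp]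
  refine H4_isOpenAt_comp _ _ z ?_ h1
  intro U hU
  exact (Scheme.homeoOfIso e).isOpenMap.image_mem_nhds hU

end Groth.Agent.H4
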