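import Mathlib
import Groth.Prelude.Def_EGA43
import Groth.Agent.Lib.helper4.UnivOpen

set_option autoImplicit false
universe u

namespace Groth.Agent.H4

open CategoryTheory CategoryTheory.Limits AlgebraicGeometry

/-- openness at a point of a restriction, detected on a commutative square whose right
vertical map is an embedding onto the subset. -/
theorem H4_isOpenAt_restrictPreimage_of_square {A B A' B' : Type*} [TopologicalSpace A]
    [TopologicalSpace B] [TopologicalSpace A'] [TopologicalSpace B']
    (ψ : A → B) (Y : Set B) (j : A' → A) (j' : B' → B) (s : A' → B')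
    (hj : Continuous j) (hj' : Topology.IsEmbedding j') (hrange : Set.range j' = Y)
    (hsq : ∀ p, j' (s p) = ψ (j p)) (w : A') (hs : EGA43.IsOpenAt s w)
    (hi : ψ (j w) ∈ Y) : EGA43.IsOpenAt (Y.restrictPreimage ψ) ⟨j w, hi⟩ := by
  subst hrange
  intro U hU
  -- corestriction of j
  let jt : A' → ↥(ψ ⁻¹' Set.range j') := fun p => ⟨j p, ⟨s p, hsq p⟩⟩
  have hjt : Continuous jt := hj.subtype_mk _
  have h1 : jt ⁻¹' U ∈ nhds w := hjt.continuousAt hU
  have h2 := hs _ h1
  let e : B' ≃ₜ ↥(Set.range j') := hj'.toHomeomorph
  have h3 : e '' (s '' (jt ⁻¹' U)) ∈ nhds (e (s w)) := e.isOpenMap.image_mem_nhds h2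
  have h4 : e (s w) = (Set.range j').restrictPreimage ψ ⟨j w, hi⟩ := by
    apply Subtype.ext
    exact hsq w
  rw [h4] at h3
  refine Filter.mem_of_superset h3 ?_
  rintro _ ⟨_, ⟨p, hp, rfl⟩, rfl⟩
  refine ⟨jt p, hp, ?_⟩
  apply Subtype.ext
  exact (hsq p).symm

/-- the cube lemma: if the base change of `f` along `v` is universally open at all points above
`x`, then for any `k` the base change of `snd f k` along `snd v k` is open at points above `x`. -/
theorem H4_univOpenAt_cube {X Y Y₁ Z' : Scheme.{u}} (f : X ⟶ Y) (v : Y₁ ⟶ Y) (k : Z' ⟶ Y) (x : X)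
    (h : ∀ x₁ : ↥(pullback f v), (pullback.fst f v).base x₁ = x →
      EGA43.IsUnivOpenAt (pullback.snd f v) x₁)
    (w : ↥(pullback (pullback.snd f k) (pullback.snd v k)))
    (hw : (pullback.fst f k).base
      ((pullback.fst (pullback.snd f k) (pullback.snd v k)).base w) = x) :
    EGA43.IsOpenAt (pullback.snd (pullback.snd f k) (pullback.snd v k)).base w := by
  have hcond : (pullback.fst (pullback.snd f k) (pullback.snd v k) ≫
      pullback.fst f k) ≫ f =
      (pullback.snd (pullback.snd f k) (pullback.snd v k) ≫
      pullback.fst v k) ≫ v := by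
    rw [Category.assoc, Category.assoc, pullback.condition, pullback.condition,
      ← Category.assoc, ← Category.assoc, pullback.condition]
  let m : pullback (pullback.snd f k) (pullback.snd v k) ⟶ pullback f v :=
    pullback.lift _ _ hcond
  have hm1 : m ≫ pullback.fst f v =
      pullback.fst (pullback.snd f k) (pullback.snd v k) ≫
      pullback.fst f k := pullback.lift_fst _ _ _
  have hm2 : m ≫ pullback.snd f v =
      pullback.snd (pullback.snd f k) (pullback.snd v k) ≫
      pullback.fst v k := pullback.lift_snd _ _ _
  have s1 := (IsPullback.of_hasPullback (pullback.snd f k)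
    (pullback.snd v k)).paste_vert (IsPullback.of_hasPullback v k).flip
  rw [← pullback.condition (f := f) (g := k), ← hm2] at s1
  have s2 := IsPullback.of_bot s1 hm1.symm (IsPullback.of_hasPullback f v)
  have s3 := s2.paste_horiz (IsPullback.of_hasPullback f k).flip
  rw [pullback.condition (f := pullback.snd f k) (g := pullback.snd v k),
    pullback.condition (f := f) (g := v)] at s3
  have s4 := IsPullback.of_right s3 hm2.symm (IsPullback.of_hasPullback v k).flip
  have hx₁ : (pullback.fst f v).base (m.base w) = x := by
    have h5 : (m ≫ pullback.fst f v).base w =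
        (pullback.fst (pullback.snd f k) (pullback.snd v k) ≫
        pullback.fst f k).base w := by rw [hm1]
    have h6 : (pullback.fst (pullback.snd f k) (pullback.snd v k) ≫
        pullback.fst f k).base w = x := by
      rw [← hw]; rfl
    rw [← h6, ← h5]; rfl
  exact H4_univOpenAt_isPullback (h _ hx₁) _ _ _ s4.flip w rfl

end Groth.Agent.H4
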