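import Mathlib

set_option autoImplicit false
universe u
open AlgebraicGeometry CategoryTheory CategoryTheory.Limits Topology TopologicalSpace

namespace Groth.Agent.H4

/-- two maps to an unramified scheme agree iff the "pair" map lands in the diagonal -/
theorem H4_eq_of_range_pair_subset_diagonal {S X Y : Scheme.{u}} (q : Y ⟶ S) [FormallyUnramified q]
    [LocallyOfFiniteType q] (u v : X ⟶ Y) (huv : u ≫ q = v ≫ q)
    (hrange : Set.range (pullback.lift u v huv).base ⊆ Set.range (pullback.diagonal q).base) :
    u = v := by
  have hw := IsOpenImmersion.lift_fac (pullback.diagonal q) (pullback.lift u v huv) hrange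
  have h1 : u = IsOpenImmersion.lift (pullback.diagonal q) (pullback.lift u v huv) hrange := by
    calc u = pullback.lift u v huv ≫ pullback.fst q q := (pullback.lift_fst _ _ _).symm
      _ = (IsOpenImmersion.lift (pullback.diagonal q) (pullback.lift u v huv) hrange ≫
            pullback.diagonal q) ≫ pullback.fst q q := by rw [hw]
      _ = _ := by rw [Category.assoc, pullback.diagonal_fst, Category.comp_id]
  have h2 : v = IsOpenImmersion.lift (pullback.diagonal q) (pullback.lift u v huv) hrange := by
    calc v = pullback.lift u v huv ≫ pullback.snd q q := (pullback.lift_snd _ _ _).symm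
      _ = (IsOpenImmersion.lift (pullback.diagonal q) (pullback.lift u v huv) hrange ≫
            pullback.diagonal q) ≫ pullback.snd q q := by rw [hw]
      _ = _ := by rw [Category.assoc, pullback.diagonal_snd, Category.comp_id]
  rw [h1, ← h2]

theorem H4_hom_ext_of_surjective_baseChange_unramified {S S' X Y : Scheme.{u}} (g : S' ⟶ S)
    [Surjective g] (p : X ⟶ S) (q : Y ⟶ S) [FormallyUnramified q] [LocallyOfFiniteType q]
    (u v : X ⟶ Y) (hu : p ≫ 𝟙 S = u ≫ q) (hv : p ≫ 𝟙 S = v ≫ q)
    (h : pullback.map p g q g u (𝟙 S') (𝟙 S) hu
        ((Category.comp_id _).trans (Category.id_comp _).symm) =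
      pullback.map p g q g v (𝟙 S') (𝟙 S) hv
        ((Category.comp_id _).trans (Category.id_comp _).symm)) : u = v := by
  have huv : u ≫ q = v ≫ q := hu.symm.trans hv
  have key : pullback.fst p g ≫ u = pullback.fst p g ≫ v := by
    have := congrArg (· ≫ pullback.fst q g) h
    simp only [pullback.map] at this
    rw [pullback.lift_fst, pullback.lift_fst] at this
    exact this
  apply H4_eq_of_range_pair_subset_diagonal q u v huv
  rintro _ ⟨x, rfl⟩
  obtain ⟨s', hs'⟩ := g.surjective (p.base x)
  obtain ⟨x', hx', -⟩ := Scheme.Pullback.exists_preimage_pullback (f := p) (g := g) x s' hs'.symm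
  refine ⟨(pullback.fst p g ≫ u).base x', ?_⟩
  have hcomp : pullback.fst p g ≫ pullback.lift u v huv =
      (pullback.fst p g ≫ u) ≫ pullback.diagonal q := by
    apply pullback.hom_ext
    · rw [Category.assoc, pullback.lift_fst, Category.assoc, pullback.diagonal_fst, Category.comp_id]
    · rw [Category.assoc, pullback.lift_snd, Category.assoc, pullback.diagonal_snd, Category.comp_id,
        key]
  have := congrArg (fun m : pullback p g ⟶ pullback q q => m.base x') hcomp
  simp only [Scheme.Hom.comp_base, TopCat.comp_app] at this
  rw [← hx']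
  simpa using this.symm

end Groth.Agent.H4
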