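import Mathlib
import Groth.Agent.Lib.helper4.UnramExt

set_option autoImplicit false
universe u
open AlgebraicGeometry CategoryTheory CategoryTheory.Limits Topology TopologicalSpace

namespace Groth.Agent.H4

theorem H4_agree_locus_open_and_contains_fibre {X Y S : Scheme.{u}} (h : Y ⟶ S)
    [FormallyUnramified h] [LocallyOfFiniteType h] (f g : X ⟶ Y) (hfg : f ≫ h = g ≫ h) :
    IsOpen ((pullback.lift f g hfg).base ⁻¹' (Set.range (pullback.diagonal h).base)) ∧
    ∀ s : S, (f ≫ h).fiberι s ≫ f = (f ≫ h).fiberι s ≫ g →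
      (f ≫ h).base ⁻¹' {s} ⊆
        (pullback.lift f g hfg).base ⁻¹' (Set.range (pullback.diagonal h).base) := by
  refine ⟨(pullback.diagonal h).isOpenEmbedding.isOpen_range.preimage
    (pullback.lift f g hfg).continuous, ?_⟩
  intro s hs x hx
  rw [← Scheme.Hom.range_fiberι] at hx
  obtain ⟨x', rfl⟩ := hx
  have hcomp : (f ≫ h).fiberι s ≫ pullback.lift f g hfg =
      ((f ≫ h).fiberι s ≫ f) ≫ pullback.diagonal h := by
    apply pullback.hom_ext
    · rw [Category.assoc, pullback.lift_fst, Category.assoc, pullback.diagonal_fst,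
        Category.comp_id]
    · rw [Category.assoc, pullback.lift_snd, Category.assoc, pullback.diagonal_snd,
        Category.comp_id, hs]
  have := congrArg (fun m : (f ≫ h).fiber s ⟶ pullback h h => m.base x') hcomp
  simp only [Scheme.Hom.comp_base, TopCat.comp_app] at this
  exact ⟨_, this.symm⟩

theorem H4_eq_on_open_of_subset_agree_locus {X Y S : Scheme.{u}} (h : Y ⟶ S)
    [FormallyUnramified h] [LocallyOfFiniteType h] (f g : X ⟶ Y) (hfg : f ≫ h = g ≫ h)
    (W : X.Opens)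
    (hW : (W : Set X) ⊆
      (pullback.lift f g hfg).base ⁻¹' (Set.range (pullback.diagonal h).base)) :
    W.ι ≫ f = W.ι ≫ g := by
  have hfg' : (W.ι ≫ f) ≫ h = (W.ι ≫ g) ≫ h := by rw [Category.assoc, Category.assoc, hfg]
  apply H4_eq_of_range_pair_subset_diagonal h _ _ hfg'
  rintro _ ⟨x, rfl⟩
  have hcomp : pullback.lift (W.ι ≫ f) (W.ι ≫ g) hfg' = W.ι ≫ pullback.lift f g hfg := by
    apply pullback.hom_ext
    · rw [pullback.lift_fst, Category.assoc, pullback.lift_fst]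
    · rw [pullback.lift_snd, Category.assoc, pullback.lift_snd]
  rw [hcomp]
  exact hW x.2

theorem H4_eq_on_preimage_nhd_of_eq_on_fiber {X Y S : Scheme.{u}} (h : Y ⟶ S)
    [FormallyUnramified h] [LocallyOfFiniteType h] (f g : X ⟶ Y) (w : g ≫ h = f ≫ h)
    (hc : IsClosedMap (f ≫ h).base) (s : S)
    (hs : (f ≫ h).fiberι s ≫ f = (f ≫ h).fiberι s ≫ g) :
    ∃ V : S.Opens, s ∈ V ∧ ((f ≫ h) ⁻¹ᵁ V).ι ≫ f = ((f ≫ h) ⁻¹ᵁ V).ι ≫ g := by
  have hfg : f ≫ h = g ≫ h := w.symm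
  obtain ⟨hE, hfib⟩ := H4_agree_locus_open_and_contains_fibre h f g hfg
  set E : Set X := (pullback.lift f g hfg).base ⁻¹' (Set.range (pullback.diagonal h).base)
  let V : S.Opens := ⟨((f ≫ h).base '' Eᶜ)ᶜ, (hc _ hE.isClosed_compl).isOpen_compl⟩
  refine ⟨V, ?_, ?_⟩
  · rintro ⟨x, hxE, hx⟩
    exact hxE (hfib s hs hx)
  · apply H4_eq_on_open_of_subset_agree_locus h f g hfg
    intro x hx
    by_contra hne
    exact hx ⟨x, hne, rfl⟩

end Groth.Agent.H4

namespace Groth.Agent.H4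

theorem H4_eq_on_preimage_clopen_of_eq_on_fiber {X Y S : Scheme.{u}} (h : Y ⟶ S)
    [FormallyUnramified h] [LocallyOfFiniteType h] [IsSeparated h] (f g : X ⟶ Y)
    (w : g ≫ h = f ≫ h) (ho : IsOpenMap (f ≫ h).base) (hc : IsClosedMap (f ≫ h).base) (s : S)
    (hs : (f ≫ h).fiberι s ≫ f = (f ≫ h).fiberι s ≫ g) :
    ∃ V : S.Opens, IsClosed (V : Set S) ∧ s ∈ V ∧
      ((f ≫ h) ⁻¹ᵁ V).ι ≫ f = ((f ≫ h) ⁻¹ᵁ V).ι ≫ g := by
  have hfg : f ≫ h = g ≫ h := w.symm
  obtain ⟨hE, hfib⟩ := H4_agree_locus_open_and_contains_fibre h f g hfg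
  have hEc : IsClosed ((pullback.lift f g hfg).base ⁻¹' (Set.range (pullback.diagonal h).base)) :=
    (pullback.diagonal h).isClosedEmbedding.isClosed_range.preimage
      (pullback.lift f g hfg).continuous
  set E : Set X := (pullback.lift f g hfg).base ⁻¹' (Set.range (pullback.diagonal h).base)
  let V : S.Opens := ⟨((f ≫ h).base '' Eᶜ)ᶜ, (hc _ hE.isClosed_compl).isOpen_compl⟩
  refine ⟨V, ?_, ?_, ?_⟩
  · show IsClosed (((f ≫ h).base '' Eᶜ)ᶜ)
    exact (ho _ hEc.isOpen_compl).isClosed_compl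
  · rintro ⟨x, hxE, hx⟩
    exact hxE (hfib s hs hx)
  · apply H4_eq_on_open_of_subset_agree_locus h f g hfg
    intro x hx
    by_contra hne
    exact hx ⟨x, hne, rfl⟩

end Groth.Agent.H4
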