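import Mathlib

set_option autoImplicit false
universe u

namespace Groth.Agent.H4

/-- A finite, formally unramified, local algebra over a local ring with separably closed residue
field is a quotient of the base. -/
theorem H4_surjective_of_finite_unramified_local (R : Type u) [CommRing R] [IsLocalRing R]
    [IsSepClosed (IsLocalRing.ResidueField R)] (A : Type u) [CommRing A] [IsLocalRing A]
    [Algebra R A] [Module.Finite R A] [Algebra.FormallyUnramified R A] :
    Function.Surjective (algebraMap R A) := by
  haveI : Algebra.IsIntegral R A := Algebra.IsIntegral.of_finite R A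
  haveI hlh : IsLocalHom (algebraMap R A) := by
    have h1 : ((IsLocalRing.maximalIdeal A).comap (algebraMap R A)).IsMaximal :=
      Ideal.isMaximal_comap_of_isIntegral_of_isMaximal _
    exact ((IsLocalRing.local_hom_TFAE (algebraMap R A)).out 0 4).mpr
      (IsLocalRing.eq_maximalIdeal h1)
  have hmax : (IsLocalRing.maximalIdeal R).map (algebraMap R A) = IsLocalRing.maximalIdeal A :=
    Algebra.FormallyUnramified.map_maximalIdeal
  have hres : Function.Surjective
      (algebraMap (IsLocalRing.ResidueField R) (IsLocalRing.ResidueField A)) :=
    IsSepClosed.algebraMap_surjective _ _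
  -- Nakayama
  have hle : (⊤ : Submodule R A) ≤ LinearMap.range (Algebra.linearMap R A) := by
    apply Submodule.le_of_le_smul_of_le_jacobson_bot (I := IsLocalRing.maximalIdeal R)
      (Module.Finite.fg_top)
      (IsLocalRing.maximalIdeal_le_jacobson _)
    intro a _
    obtain ⟨c, hc⟩ := hres (IsLocalRing.residue A a)
    obtain ⟨r, rfl⟩ := IsLocalRing.residue_surjective c
    have h1 : a - algebraMap R A r ∈ IsLocalRing.maximalIdeal A := by
      rw [← IsLocalRing.residue_eq_zero_iff, map_sub, sub_eq_zero, ← hc]
      rfl
    rw [← hmax] at h1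
    have h2 : a - algebraMap R A r ∈ (IsLocalRing.maximalIdeal R) • (⊤ : Submodule R A) := by
      rw [Ideal.smul_top_eq_map]
      exact h1
    have : a = algebraMap R A r + (a - algebraMap R A r) := by ring
    rw [this]
    exact Submodule.add_mem_sup ⟨r, rfl⟩ h2
  intro a
  obtain ⟨r, hr⟩ := hle (Submodule.mem_top (x := a))
  exact ⟨r, hr⟩

end Groth.Agent.H4
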