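import Mathlib

/-! Cancellation for weakly étale algebras. -/

set_option autoImplicit false
universe u
open TensorProduct

namespace Groth.Agent.H4

theorem H4_flat_of_surjective_tower {R₁ R₂ M : Type*} [CommRing R₁] [CommRing R₂] [Algebra R₁ R₂]
    [AddCommGroup M] [Module R₁ M] [Module R₂ M] [IsScalarTower R₁ R₂ M]
    (hs : Function.Surjective (algebraMap R₁ R₂)) [Module.Flat R₁ M] : Module.Flat R₂ M := by
  let φ : R₂ ⊗[R₁] M →ₗ[R₂] M := LinearMap.liftBaseChange R₂ (LinearMap.id : M →ₗ[R₁] M)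
  have hφ : ∀ (r : R₂) (m : M), φ (r ⊗ₜ m) = r • m := fun r m => by simp [φ]
  have h1 : ∀ t : R₂ ⊗[R₁] M, ∃ m : M, t = (1 : R₂) ⊗ₜ[R₁] m := by
    intro t
    induction t using TensorProduct.induction_on with
    | zero => exact ⟨0, by simp⟩
    | tmul r m =>
      obtain ⟨r₁, rfl⟩ := hs r
      refine ⟨r₁ • m, ?_⟩
      rw [TensorProduct.tmul_smul, TensorProduct.smul_tmul', Algebra.smul_def, mul_one]
    | add x y hx hy =>
      obtain ⟨a, rfl⟩ := hx
      obtain ⟨b, rfl⟩ := hy
      exact ⟨a + b, by rw [TensorProduct.tmul_add]⟩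
  have hbij : Function.Bijective φ := by
    constructor
    · rw [injective_iff_map_eq_zero]
      intro t ht
      obtain ⟨m, rfl⟩ := h1 t
      rw [hφ, one_smul] at ht
      rw [ht, TensorProduct.tmul_zero]
    · intro m
      exact ⟨(1 : R₂) ⊗ₜ[R₁] m, by rw [hφ, one_smul]⟩
  exact Module.Flat.of_linearEquiv (LinearEquiv.ofBijective φ hbij).symm

theorem H4_ringHom_flat_of_comp_surjective {R₁ R₂ R₃ : Type*} [CommRing R₁] [CommRing R₂]
    [CommRing R₃] (f : R₁ →+* R₂) (g : R₂ →+* R₃) (hf : Function.Surjective f)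
    (h : (g.comp f).Flat) : g.Flat := by
  algebraize [f, g, g.comp f]
  exact H4_flat_of_surjective_tower (R₁ := R₁) (R₂ := R₂) (M := R₃) hf

theorem H4_weaklyEtale_cancel (A B C : Type u) [CommRing A] [CommRing B] [CommRing C]
    [Algebra A B] [Algebra A C] [Algebra B C] [IsScalarTower A B C]
    [Algebra.WeaklyEtale A B] [Algebra.WeaklyEtale A C] : Algebra.WeaklyEtale B C := by
  have hB := Algebra.WeaklyEtale.flat_lmul' A B
  have hC := Algebra.WeaklyEtale.flat_lmul' A C
  have h1 : (Algebra.TensorProduct.mapOfCompatibleSMul B A B B C).Flat :=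
    RingHom.Flat.mapOfCompatibleSMul B C hB
  have h2 : (Algebra.TensorProduct.mapOfCompatibleSMul B A C C C).Flat :=
    RingHom.Flat.mapOfCompatibleSMul C C hB
  have hflatBC : Module.Flat B C := by
    rw [← RingHom.flat_algebraMap_iff]
    have e : algebraMap B C = ((Algebra.TensorProduct.lid B C : B ⊗[B] C ≃ₐ[B] C) :
        B ⊗[B] C →+* C).comp
        (((Algebra.TensorProduct.mapOfCompatibleSMul B A B B C : B ⊗[A] C →ₐ[B] B ⊗[B] C) :
          B ⊗[A] C →+* B ⊗[B] C).comp (algebraMap B (B ⊗[A] C))) := by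
      ext b
      simp [Algebra.TensorProduct.algebraMap_apply, Algebra.smul_def]
    rw [e]
    refine RingHom.Flat.comp (RingHom.Flat.comp ?_ h1) (RingHom.Flat.of_bijective ?_)
    · rw [RingHom.flat_algebraMap_iff]
      infer_instance
    · exact (Algebra.TensorProduct.lid B C).bijective
  refine ⟨hflatBC, ?_⟩
  -- diagonal
  let μ : C ⊗[A] C →ₐ[C] C ⊗[B] C := Algebra.TensorProduct.mapOfCompatibleSMul B A C C C
  have hμ : Function.Surjective μ := Algebra.TensorProduct.mapOfCompatibleSMul_surjective B A C C C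
  have hcomp : (Algebra.TensorProduct.lmul' A (S := C) : C ⊗[A] C →+* C) =
      (Algebra.TensorProduct.lmul' B (S := C) : C ⊗[B] C →+* C).comp (μ : C ⊗[A] C →+* C ⊗[B] C) := by
    apply RingHom.ext
    intro x
    induction x using TensorProduct.induction_on with
    | zero => simp
    | tmul a b => simp [μ]
    | add x y hx hy => simp only [map_add, hx, hy]
  have hC' : ((Algebra.TensorProduct.lmul' B (S := C) : C ⊗[B] C →+* C).comp
      (μ : C ⊗[A] C →+* C ⊗[B] C)).Flat := by
    rw [← hcomp]; exact hC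
  exact H4_ringHom_flat_of_comp_surjective _ _ hμ hC'

end Groth.Agent.H4
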